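import Mathlib
import Groth.Agent.H47.PSStruct
import Groth.Agent.H61.PSDim
import Groth.Agent.H61.PSComplete
import Groth.Agent.H54.Dim
import Groth.Agent.H44.AdicLemmas

/-!
# Noether normalisation for complete local rings containing a field (helper library for S2460)
-/

set_option autoImplicit false
set_option linter.style.haveILetI false
universe u

namespace Groth.Agent.H96.CohenFinite

open IsLocalRing

/-- existence of a system of parameters. -/
theorem exists_sop (A : Type u) [CommRing A] [IsLocalRing A] [IsNoetherianRing A] :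
    ∃ (n : ℕ) (b : Fin n → A), ringKrullDim A = n ∧ (∀ i, b i ∈ maximalIdeal A) ∧
      ∃ N : ℕ, maximalIdeal A ^ N ≤ Ideal.span (Set.range b) := by
  classical
  obtain ⟨s, hs, hcard⟩ := Ideal.exists_finset_card_eq_height_of_isNoetherianRing (maximalIdeal A)
  have hle : Ideal.span (s : Set A) ≤ maximalIdeal A := hs.1.2
  have hrad : (Ideal.span (s : Set A)).radical = maximalIdeal A := by
    rw [Ideal.radical_eq_sInf]
    apply le_antisymm
    · exact sInf_le ⟨hle, inferInstance⟩
    · refine le_sInf ?_
      rintro q ⟨hq1, hq2⟩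
      have hqm : q ≤ maximalIdeal A := le_maximalIdeal hq2.ne_top
      exact hs.2 ⟨hq2, hq1⟩ hqm
  obtain ⟨N, hN⟩ := Ideal.exists_radical_pow_le_of_fg (Ideal.span (s : Set A))
    (IsNoetherian.noetherian _)
  rw [hrad] at hN
  refine ⟨s.card, fun i => (s.equivFin.symm i : A), ?_, fun i => ?_, N, ?_⟩
  · rw [← maximalIdeal_height_eq_ringKrullDim, ← hcard]
    rfl
  · exact hle (Ideal.subset_span (s.equivFin.symm i).2)
  · have : Set.range (fun i => (s.equivFin.symm i : A)) = (s : Set A) := by
      ext x
      constructor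
      · rintro ⟨i, rfl⟩
        exact (s.equivFin.symm i).2
      · intro hx
        exact ⟨s.equivFin ⟨x, hx⟩, by simp⟩
    rw [this]
    exact hN

section Finite

variable {k₀ A : Type u} [Field k₀] [CommRing A] [IsLocalRing A] [IsNoetherianRing A]
  [Algebra k₀ A]

instance isLocalHom_field : IsLocalHom (algebraMap k₀ A) :=
  ⟨fun x hx => by
    have : x ≠ 0 := by
      rintro rfl
      rw [map_zero] at hx
      exact not_isUnit_zero hx
    exact IsUnit.mk0 x this⟩

/-- A quotient of `A` by an `𝔪`-primary ideal is an Artinian ring. -/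
theorem isArtinianRing_quotient (J : Ideal A) {N : ℕ} (hN : maximalIdeal A ^ N ≤ J) :
    IsArtinianRing (A ⧸ J) := by
  rw [isArtinianRing_iff_krullDimLE_zero, Ring.krullDimLE_zero_iff]
  intro q hq
  have h1 : J ≤ q.comap (Ideal.Quotient.mk J) := by
    intro x hx
    rw [Ideal.mem_comap, Ideal.Quotient.eq_zero_iff_mem.2 hx]
    exact zero_mem _
  have h2 : maximalIdeal A ≤ q.comap (Ideal.Quotient.mk J) :=
    (Ideal.IsPrime.pow_le_iff (by
      rintro rfl
      rw [pow_zero, Ideal.one_eq_top] at hN
      have : (1 : A) ∈ q.comap (Ideal.Quotient.mk J) := h1 (hN Submodule.mem_top)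
      exact (inferInstance : (q.comap (Ideal.Quotient.mk J)).IsPrime).ne_top
        ((Ideal.eq_top_iff_one _).2 this))).1 (hN.trans h1)
  have h3 : q.comap (Ideal.Quotient.mk J) = maximalIdeal A :=
    ((maximalIdeal.isMaximal A).eq_of_le (Ideal.IsPrime.ne_top inferInstance) h2).symm
  have : q = (maximalIdeal A).map (Ideal.Quotient.mk J) := by
    rw [← h3, Ideal.map_comap_of_surjective _ Ideal.Quotient.mk_surjective]
  rcases Ideal.map_eq_top_or_isMaximal_of_surjective (Ideal.Quotient.mk J)
    Ideal.Quotient.mk_surjective (maximalIdeal.isMaximal A) with h | h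
  · exact absurd (this.trans h) hq.ne_top
  · rwa [this]

/-- A quotient of `A` by an `𝔪`-primary ideal is finite over `k₀` when the residue field is. -/
theorem finite_quotient [Module.Finite k₀ (ResidueField A)] (J : Ideal A) {N : ℕ}
    (hN : maximalIdeal A ^ N ≤ J) : Module.Finite k₀ (A ⧸ J) := by
  haveI := isArtinianRing_quotient J hN
  have h1 : Module.length A (A ⧸ J) ≠ ⊤ := by
    rw [Module.length_eq_of_surjective (S := A) (R := A ⧸ J) (M := A ⧸ J)
      Ideal.Quotient.mk_surjective]
    exact Module.length_ne_top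
  have h2 : Module.length (ResidueField k₀) (ResidueField A) ≠ ⊤ := by
    haveI : Module.Finite (ResidueField k₀) (ResidueField A) :=
      Module.Finite.of_restrictScalars_finite k₀ _ _
    exact Module.length_ne_top
  have h3 := IsLocalRing.length_restrictScalars (A := k₀) (B := A) (M := A ⧸ J)
  have h4 : Module.length k₀ (A ⧸ J) ≠ ⊤ := by
    rw [h3]
    exact WithTop.mul_ne_top h1 h2
  rw [Module.length_ne_top_iff, isFiniteLength_iff_isNoetherian_isArtinian] at h4
  haveI := h4.1
  infer_instance

end Finite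

section Main

open MvPowerSeries

variable {k₀ A : Type u} [Field k₀] [CommRing A] [IsLocalRing A] [IsNoetherianRing A]
  [IsAdicComplete (maximalIdeal A) A] [Algebra k₀ A] [Module.Finite k₀ (ResidueField A)]

theorem main : ∃ (n : ℕ) (w : MvPowerSeries (Fin n) k₀ →ₐ[k₀] A),
    Function.Injective w ∧ IsLocalHom w.toRingHom ∧ w.toRingHom.Finite := by
  classical
  obtain ⟨n, b, hdim, hbm, N, hN⟩ := exists_sop A
  obtain ⟨ψ, hψ⟩ := Groth.Agent.H47.exists_evalHom_complete (k := k₀) (maximalIdeal A) n b hbm
  let P := MvPowerSeries (Fin n) k₀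
  let J : Ideal A := Ideal.span (Set.range b)
  have hmP : maximalIdeal P = Ideal.span (Set.range (X : Fin n → P)) :=
    Groth.Agent.H61.maximalIdeal_ps_eq_span_X k₀ n
  have hmap : (maximalIdeal P).map ψ.toRingHom = J := by
    rw [hmP, Ideal.map_span, ← Set.range_comp]
    congr 2
    funext i
    exact hψ i
  have hJm : J ≤ maximalIdeal A := Ideal.span_le.2 (by rintro _ ⟨i, rfl⟩; exact hbm i)
  -- local homomorphism
  have hloc : IsLocalHom ψ.toRingHom := by
    refine ⟨fun f hf => ?_⟩
    by_contra hnu
    have h1 : f ∈ maximalIdeal P := (mem_maximalIdeal f).2 hnu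
    have h2 : ψ.toRingHom f ∈ J := hmap ▸ Ideal.mem_map_of_mem _ h1
    exact (mem_maximalIdeal _).1 (hJm h2) hf
  letI : Algebra P A := ψ.toRingHom.toAlgebra
  have halg : ∀ f : P, algebraMap P A f = ψ f := fun f => rfl
  haveI : IsScalarTower k₀ P A := IsScalarTower.of_algebraMap_eq (fun c => by
    rw [halg]; exact (ψ.commutes c).symm)
  -- `𝔪_P • ⊤ = J`
  have hsmul : ∀ j : ℕ, ((maximalIdeal P) ^ j • ⊤ : Submodule P A) =
      (J ^ j).restrictScalars P := fun j => by
    rw [Ideal.smul_top_eq_map, Ideal.map_pow]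
    congr 2
  -- Hausdorff
  haveI : IsHausdorff (maximalIdeal P) A := by
    refine ⟨fun x hx => ?_⟩
    apply IsHausdorff.haus (I := maximalIdeal A) inferInstance
    intro j
    have := hx j
    rw [SModEq.zero, hsmul j] at this
    rw [SModEq.zero, smul_eq_mul, Ideal.mul_top]
    exact Ideal.pow_right_mono hJm j this
  -- completeness of `P`
  haveI : IsAdicComplete (maximalIdeal k₀) k₀ := by
    rw [IsLocalRing.maximalIdeal_eq_bot]
    infer_instance
  haveI : IsAdicComplete (maximalIdeal P) P := Groth.Agent.H61.ps_isAdicComplete n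
  -- the quotient is finite
  have hfinJ : Module.Finite k₀ (A ⧸ J) := finite_quotient J hN
  have hfinq : Module.Finite P (A ⧸ (maximalIdeal P • ⊤ : Submodule P A)) := by
    have h1 : (maximalIdeal P • ⊤ : Submodule P A) = J.restrictScalars P := by
      have := hsmul 1
      rwa [pow_one, pow_one] at this
    haveI : Module.Finite P (A ⧸ J) := Module.Finite.of_restrictScalars_finite k₀ P (A ⧸ J)
    haveI : Module.Finite P (A ⧸ J.restrictScalars P) :=
      Module.Finite.equiv (Submodule.Quotient.restrictScalarsEquiv P J).symm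
    exact Module.Finite.equiv (Submodule.quotEquivOfEq _ _ h1.symm)
  have hfin : Module.Finite P A :=
    Groth.Agent.H44.finite_of_finite_quotient (maximalIdeal P) A hfinq
  -- injectivity
  have hinj : Function.Injective ψ := by
    rw [injective_iff_map_eq_zero]
    intro x hx
    by_contra hx0
    have hxnzd : x ∈ nonZeroDivisors P := mem_nonZeroDivisors_of_ne_zero hx0
    have h1 : ringKrullDim (P ⧸ Ideal.span {x}) + 1 ≤ ringKrullDim P :=
      ringKrullDim_quotient_succ_le_of_nonZeroDivisor hxnzd
    rw [Groth.Agent.H61.ringKrullDim_ps] at h1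
    let ψ' : P ⧸ Ideal.span {x} →+* A := Ideal.Quotient.lift _ ψ.toRingHom (by
      intro a ha
      obtain ⟨c, rfl⟩ := Ideal.mem_span_singleton'.1 ha
      show ψ (c * x) = 0
      rw [map_mul, hx, mul_zero])
    letI : Algebra (P ⧸ Ideal.span {x}) A := ψ'.toAlgebra
    haveI : IsScalarTower P (P ⧸ Ideal.span {x}) A := ⟨fun a b c => by
      obtain ⟨b, rfl⟩ := Ideal.Quotient.mk_surjective b
      show ψ' (Ideal.Quotient.mk _ (a * b)) * c = ψ a * (ψ' (Ideal.Quotient.mk _ b) * c)
      rw [Ideal.Quotient.lift_mk, Ideal.Quotient.lift_mk]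
      show ψ (a * b) * c = ψ a * (ψ b * c)
      rw [map_mul, mul_assoc]⟩
    haveI : Module.Finite (P ⧸ Ideal.span {x}) A :=
      Module.Finite.of_restrictScalars_finite P _ _
    have h2 : ringKrullDim A ≤ ringKrullDim (P ⧸ Ideal.span {x}) :=
      Groth.Agent.H54.ringKrullDim_le_of_isIntegral
    rw [hdim] at h2
    have h3 : (n : WithBot ℕ∞) + 1 ≤ n := (add_le_add_left h2 1).trans h1
    have h4 : ((n + 1 : ℕ) : WithBot ℕ∞) ≤ ((n : ℕ) : WithBot ℕ∞) := by
      push_cast
      exact h3
    have h5 : n + 1 ≤ n := by exact_mod_cast h4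
    omega
  exact ⟨n, ψ, hinj, hloc, hfin⟩

end Main

end Groth.Agent.H96.CohenFinite
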