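import Mathlib
import Groth.Agent.H20.CoeffField
import Groth.Agent.H47.CoeffFieldP
import Groth.Agent.H47.PSStruct
import Groth.Agent.H61.CompleteLocalK

/-!
# Cohen structure theorem in equal characteristic: complete Noetherian local rings containing a
field are quotients of power series rings
-/

set_option autoImplicit false
set_option linter.style.haveILetI false
set_option linter.unusedSectionVars false
universe u

namespace Groth.Agent.H96.CohenEqChar

open IsLocalRing

variable (A : Type u) [CommRing A] [IsLocalRing A] [IsNoetherianRing A]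
    [IsAdicComplete (maximalIdeal A) A]

/-- a coefficient field exists as soon as the residue characteristic vanishes in `A`. -/
theorem exists_coeffField (p : ℕ) [CharP (ResidueField A) p] (hp : (p : A) = 0) :
    ∃ s : ResidueField A →+* A, (residue A).comp s = RingHom.id _ := by
  rcases Nat.eq_zero_or_pos p with h0 | hpos
  · subst h0
    haveI : CharZero (ResidueField A) := CharP.charP_to_charZero _
    exact Groth.Agent.H20.coeffField A
  · have hprime : p.Prime := by
      rcases CharP.char_is_prime_or_zero (ResidueField A) p with h | h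
      · exact h
      · omega
    haveI : Fact p.Prime := ⟨hprime⟩
    haveI : CharP A p := (CharP.charP_iff_prime_eq_zero (R := A) hprime).2 hp
    exact Groth.Agent.H47.exists_coeffField_charP p A

/-- with a coefficient field, `A` is a quotient of a power series ring with kernel in `𝔪²`. -/
theorem exists_ps_surjective (s : ResidueField A →+* A)
    (hs : (residue A).comp s = RingHom.id _) :
    ∃ (n : ℕ) (f : MvPowerSeries (Fin n) (ResidueField A) →+* A),
      Function.Surjective f ∧
        RingHom.ker f ≤ maximalIdeal (MvPowerSeries (Fin n) (ResidueField A)) ^ 2 := by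
  classical
  let κ := ResidueField A
  letI : Algebra κ A := s.toAlgebra
  have halg : ∀ x : κ, algebraMap κ A x = s x := fun x => rfl
  let d := Module.finrank κ (CotangentSpace A)
  let v : Module.Basis (Fin d) κ (CotangentSpace A) := Module.finBasis κ _
  have hsurjc := Ideal.toCotangent_surjective (maximalIdeal A)
  choose c hc using fun i => hsurjc (v i)
  obtain ⟨ψ, hψX⟩ := Groth.Agent.H47.exists_evalHom_complete (k := κ) (maximalIdeal A) d
    (fun i => (c i : A)) (fun i => (c i).2)
  have hψ : ∀ i : Fin d, ψ (MvPowerSeries.X i) ∈ maximalIdeal A := by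
    intro i
    rw [hψX]
    exact (c i).2
  have hfun : (fun i : Fin d => (maximalIdeal A).toCotangent
      ⟨ψ (MvPowerSeries.X i), hψ i⟩) = fun i => v i := by
    funext i
    rw [← hc i]
    congr 1
    exact Subtype.ext (hψX i)
  have hres : Function.Surjective ((residue A).comp (algebraMap κ A)) := by
    intro x
    exact ⟨x, by rw [RingHom.comp_apply, halg]; exact congrArg (fun h => h x) hs⟩
  have hsurj : Function.Surjective ψ :=
    Groth.Agent.H61.CLK.ps_surjective ψ hψ hres (by rw [hfun]; exact v.span_eq)
  have hker : RingHom.ker ψ ≤ maximalIdeal (MvPowerSeries (Fin d) κ) ^ 2 :=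
    Groth.Agent.H61.CLK.ps_ker_le_sq ψ hψ hres (by rw [hfun]; exact v.linearIndependent)
  exact ⟨d, (ψ : MvPowerSeries (Fin d) κ →+* A), hsurj, hker⟩

theorem main (p : ℕ) [CharP (ResidueField A) p] :
    [∃ (K : Type u) (_ : Field K), Nonempty (K →+* A),
     (p : A) = 0,
     ∃ (K : Type u) (_ : Field K) (n : ℕ) (f : MvPowerSeries (Fin n) K →+* A),
      Function.Surjective f].TFAE ∧
    ((p : A) = 0 → ∃ (K : Type u) (_ : Field K) (n : ℕ) (f : MvPowerSeries (Fin n) K →+* A),
      Function.Surjective f ∧ RingHom.ker f ≤ maximalIdeal (MvPowerSeries (Fin n) K) ^ 2) := by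
  have hstrong : (p : A) = 0 → ∃ (K : Type u) (_ : Field K) (n : ℕ)
      (f : MvPowerSeries (Fin n) K →+* A),
      Function.Surjective f ∧ RingHom.ker f ≤ maximalIdeal (MvPowerSeries (Fin n) K) ^ 2 := by
    intro hp
    obtain ⟨s, hs⟩ := exists_coeffField A p hp
    obtain ⟨n, f, hf, hk⟩ := exists_ps_surjective A s hs
    exact ⟨ResidueField A, inferInstance, n, f, hf, hk⟩
  refine ⟨?_, hstrong⟩
  tfae_have 1 → 2 := by
    rintro ⟨K, _, ⟨φ⟩⟩
    let θ : K →+* ResidueField A := (residue A).comp φ
    haveI : CharP K p := (RingHom.charP_iff θ θ.injective p).2 inferInstance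
    have : ((p : ℕ) : K) = 0 := CharP.cast_eq_zero K p
    have h2 := congrArg φ this
    rwa [map_natCast, map_zero] at h2
  tfae_have 2 → 3 := by
    intro hp
    obtain ⟨K, hK, n, f, hf, -⟩ := hstrong hp
    exact ⟨K, hK, n, f, hf⟩
  tfae_have 3 → 1 := by
    rintro ⟨K, hK, n, f, -⟩
    exact ⟨K, hK, ⟨f.comp (MvPowerSeries.C (σ := Fin n) (R := K))⟩⟩
  tfae_finish

end Groth.Agent.H96.CohenEqChar
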