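import Mathlib
import Groth.Prelude.Def_EGA41
import Groth.Agent.H47.AdicLift
import Groth.Agent.H47.CohenLift
import Groth.Agent.H47.PSStruct
import Groth.Agent.H61.PSComplete

/-!
# Cohen structure theorem: a complete local ring with finitely generated maximal ideal is a
quotient of a power series ring over a field or a Cohen ring
-/

set_option autoImplicit false
set_option linter.style.haveILetI false
set_option linter.unusedSectionVars false
set_option linter.unusedVariables false
universe u

namespace Groth.Agent.H96.CohenStruct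

open IsLocalRing Groth.Agent.H47.AdicLift

section Lift

variable {A B C : Type u} [CommRing A] {𝔞 : Ideal A} [CommRing B] [Algebra A B] {𝔟 : Ideal B}
  [CommRing C] [IsLocalRing C] [Algebra A C]

local notation "m" => maximalIdeal C

/-- lifting a continuous map to the residue field through a complete local ring
(no Noetherian hypothesis). -/
theorem exists_lift_residue (hB : EGA41.IsFormallySmoothAdic A 𝔞 B 𝔟)
    [IsAdicComplete (maximalIdeal C) C] (u : B →ₐ[A] C ⧸ maximalIdeal C)
    (hA : 𝔞.map (algebraMap A C) ≤ maximalIdeal C)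
    (hu : 𝔟.map u.toRingHom ≤ (maximalIdeal C).map (Ideal.Quotient.mk (maximalIdeal C))) :
    ∃ v : B →ₐ[A] C, (Ideal.Quotient.mkₐ A (maximalIdeal C)).comp v = u := by
  have hJ : m ≤ m := le_rfl
  have hJ1 : m ≤ m ^ (0 + 1) := by simp
  let S : ℕ → Type u := fun k => {v : B →ₐ[A] C ⧸ m ^ (k + 1) // Compat m u (k + 1) v}
  have base : S 0 := ⟨(Ideal.Quotient.factorₐ A hJ1).comp u, by
    intro b
    obtain ⟨c, hc⟩ := Ideal.Quotient.mk_surjective (u b)
    refine ⟨c, ?_, hc⟩
    rw [AlgHom.comp_apply, ← hc, Ideal.Quotient.factorₐ_apply_mk]⟩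
  let next : ∀ k, S k → S (k + 1) := fun k vk =>
    ⟨(exists_step hB hA hJ hu k vk.1 vk.2).choose,
      (exists_step hB hA hJ hu k vk.1 vk.2).choose_spec.1⟩
  have hnext : ∀ k (vk : S k), (Ideal.Quotient.factorₐ A
      (Ideal.pow_le_pow_right (Nat.le_succ (k + 1)))).comp (next k vk).1 = vk.1 := fun k vk =>
    (exists_step hB hA hJ hu k vk.1 vk.2).choose_spec.2
  let seq : ∀ k, S k := fun k => Nat.rec base next k
  have hseq : ∀ k, (Ideal.Quotient.factorₐ A
      (Ideal.pow_le_pow_right (Nat.le_succ (k + 1)))).comp (seq (k + 1)).1 = (seq k).1 :=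
    fun k => hnext k (seq k)
  have hcompat : ∀ k n, k ≤ n → ∀ (b : B) (c : C),
      Ideal.Quotient.mk (m ^ (n + 1)) c = (seq n).1 b →
      Ideal.Quotient.mk (m ^ (k + 1)) c = (seq k).1 b := by
    intro k n hkn
    induction n, hkn using Nat.le_induction with
    | base => intro b c h; exact h
    | succ n hkn ih =>
      intro b c h
      apply ih b c
      have := congrArg (fun φ => φ b) (hseq n)
      simp only [AlgHom.comp_apply] at this
      rw [← this, ← h, Ideal.Quotient.factorₐ_apply_mk]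
  let f : ∀ n, B →ₐ[A] C ⧸ m ^ n := fun n =>
    (Ideal.Quotient.factorₐ A (Ideal.pow_le_pow_right (Nat.le_succ n))).comp (seq n).1
  have hfc : ∀ n (b : B) (c : C), Ideal.Quotient.mk (m ^ (n + 1)) c = (seq n).1 b →
      f n b = Ideal.Quotient.mk (m ^ n) c := by
    intro n b c h
    show (Ideal.Quotient.factorₐ A (Ideal.pow_le_pow_right (Nat.le_succ n))) ((seq n).1 b) = _
    rw [← h, Ideal.Quotient.factorₐ_apply_mk]
  have hf : ∀ {k n : ℕ} (hle : k ≤ n),
      (Ideal.Quotient.factorₐ A (Ideal.pow_le_pow_right hle)).comp (f n) = f k := by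
    intro k n hle
    ext b
    obtain ⟨c, hc⟩ := Ideal.Quotient.mk_surjective ((seq n).1 b)
    rw [AlgHom.comp_apply, hfc n b c hc, Ideal.Quotient.factorₐ_apply_mk,
      hfc k b c (hcompat k n hle b c hc)]
  let v : B →ₐ[A] C := IsAdicComplete.liftAlgHom (m) f hf
  have hv1 : ∀ n b, Ideal.Quotient.mk (m ^ n) (v b) = f n b := fun n b =>
    IsAdicComplete.mk_liftAlgHom (m) f hf n b
  have hv2 : ∀ n b, ∃ c, Ideal.Quotient.mk (m ^ n) c = f n b ∧ Ideal.Quotient.mk m c = u b := by
    intro n b
    obtain ⟨c, hc1, hc2⟩ := (seq n).2 b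
    exact ⟨c, (hfc n b c hc1).symm, hc2⟩
  refine ⟨v, ?_⟩
  ext b
  obtain ⟨c, hc1, hc2⟩ := hv2 1 b
  show Ideal.Quotient.mk m (v b) = u b
  rw [← hc2]
  have h1 : Ideal.Quotient.mk (m ^ 1) (v b) = Ideal.Quotient.mk (m ^ 1) c := (hv1 1 b).trans hc1.symm
  rw [Ideal.Quotient.eq] at h1 ⊢
  rwa [pow_one] at h1

end Lift

section Cohen

open Groth.Agent.H47.CohenLift

/-- a map from a Cohen ring to the residue field of a complete local ring lifts. -/
theorem exists_lift_cohen_residue {W C : Type u} [CommRing W] [IsLocalRing W]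
    (hW : CAlg.IsCohenRing W) [CommRing C] [IsLocalRing C] [IsAdicComplete (maximalIdeal C) C]
    (u : W →+* C ⧸ maximalIdeal C) (hu0 : ∀ x ∈ maximalIdeal W, u x = 0) :
    ∃ v : W →+* C, (Ideal.Quotient.mk (maximalIdeal C)).comp v = u := by
  obtain ⟨hdom, hdvr, hcomp, p, hp, hm⟩ := hW
  letI : Algebra (ULift.{u} ℤ) W := ULift.algebra' ℤ W
  letI : Algebra (ULift.{u} ℤ) C := ULift.algebra' ℤ C
  let u₀ : W →ₐ[ULift.{u} ℤ] C ⧸ maximalIdeal C := intAlgHom u
  have hu : (maximalIdeal W).map u₀.toRingHom ≤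
      (maximalIdeal C).map (Ideal.Quotient.mk (maximalIdeal C)) := by
    rw [Ideal.map_le_iff_le_comap]
    intro x hx
    show u x ∈ (maximalIdeal C).map (Ideal.Quotient.mk (maximalIdeal C))
    rw [hu0 x hx]
    exact Ideal.zero_mem _
  have hB := isFormallySmoothAdic_of_dvr W p hp hm
  have hpW : (p : W) ∈ maximalIdeal W := by
    rw [hm]
    exact Ideal.mem_span_singleton_self _
  have hA : (Ideal.span {(p : ULift.{u} ℤ)}).map (algebraMap (ULift.{u} ℤ) C) ≤
      maximalIdeal C := by
    rw [Ideal.map_span, Set.image_singleton, Ideal.span_singleton_le_iff_mem, map_natCast]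
    have h1 := hu0 _ hpW
    rw [map_natCast, ← map_natCast (Ideal.Quotient.mk (maximalIdeal C)),
      Ideal.Quotient.eq_zero_iff_mem] at h1
    exact h1
  obtain ⟨v, hv⟩ := exists_lift_residue hB u₀ hA hu
  refine ⟨v.toRingHom, ?_⟩
  ext x
  exact congrArg (fun φ => φ x) hv

end Cohen

section PS

open MvPowerSeries

/-- a complete local ring with finitely generated maximal ideal receiving a map from a complete
Noetherian local ring which is surjective on residue fields is a quotient of a power series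
ring. -/
theorem exists_surjective_ps (R : Type u) [CommRing R] [IsLocalRing R]
    [IsAdicComplete (maximalIdeal R) R] (hfg : (maximalIdeal R).FG)
    (Λ : Type u) [CommRing Λ] [IsLocalRing Λ] [IsNoetherianRing Λ]
    [IsAdicComplete (maximalIdeal Λ) Λ] (v : Λ →+* R)
    (hv : Function.Surjective ((residue R).comp v)) :
    ∃ (n : ℕ) (f : MvPowerSeries (Fin n) Λ →+* R), Function.Surjective f := by
  classical
  obtain ⟨s, hs⟩ := hfg
  let n := s.card
  let e : Fin n ≃ s := s.equivFin.symm
  let b : Fin n → R := fun i => (e i : R)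
  have hb : ∀ i, b i ∈ maximalIdeal R := by
    intro i
    rw [← hs]
    exact Ideal.subset_span (e i).2
  have hspan : maximalIdeal R = Ideal.span (Set.range b) := by
    rw [← hs]
    congr 1
    ext x
    constructor
    · intro hx
      exact ⟨e.symm ⟨x, hx⟩, by simp [b]⟩
    · rintro ⟨i, rfl⟩
      exact (e i).2
  letI : Algebra Λ R := v.toAlgebra
  obtain ⟨ψ, hψ⟩ := Groth.Agent.H47.exists_evalHom_complete (k := Λ) (maximalIdeal R) n b hb
  refine ⟨n, ψ.toRingHom, ?_⟩
  set P := MvPowerSeries (Fin n) Λ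
  let I : Ideal P := maximalIdeal P
  let ρ : P →+* ResidueField R := (residue R).comp ψ.toRingHom
  have hρ : Function.Surjective ρ := by
    intro y
    obtain ⟨a, ha⟩ := hv y
    refine ⟨algebraMap Λ P a, ?_⟩
    show residue R (ψ (algebraMap Λ P a)) = y
    rw [AlgHom.commutes]
    exact ha
  have hker : RingHom.ker ρ = I := by
    haveI := RingHom.ker_isMaximal_of_surjective ρ hρ
    exact IsLocalRing.eq_maximalIdeal inferInstance
  have hle : I.map ψ.toRingHom ≤ maximalIdeal R := by
    rw [Ideal.map_le_iff_le_comap]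
    intro f hf
    rw [← hker] at hf
    have h1 : residue R (ψ f) = 0 := hf
    exact (residue_eq_zero_iff _).1 h1
  have hge : maximalIdeal R ≤ I.map ψ.toRingHom := by
    rw [hspan, Ideal.span_le]
    rintro _ ⟨i, rfl⟩
    rw [← hψ i]
    apply Ideal.mem_map_of_mem
    rw [← hker]
    show residue R (ψ (X i)) = 0
    rw [hψ i]
    exact (residue_eq_zero_iff _).2 (hb i)
  have heq : I.map ψ.toRingHom = maximalIdeal R := le_antisymm hle hge
  haveI : IsAdicComplete I P := Groth.Agent.H61.ps_isAdicComplete n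
  haveI : IsHausdorff (I.map ψ.toRingHom) R := by rw [heq]; infer_instance
  apply surjective_of_mk_map_comp_surjective (I := I) ψ.toRingHom
  intro y
  obtain ⟨r, rfl⟩ := Ideal.Quotient.mk_surjective y
  obtain ⟨a, ha⟩ := hv (residue R r)
  refine ⟨algebraMap Λ P a, ?_⟩
  show Ideal.Quotient.mk _ (ψ (algebraMap Λ P a)) = Ideal.Quotient.mk _ r
  rw [AlgHom.commutes, Ideal.Quotient.eq, heq, ← residue_eq_zero_iff, map_sub, sub_eq_zero]
  exact ha

end PS

end Groth.Agent.H96.CohenStruct
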