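import Mathlib
import Groth.Agent.H96.CohenFinite
import Groth.Agent.H96.CohenStruct

/-!
# Finiteness over power series rings with coefficients in a complete local ring
(helper library for S0581)
-/

set_option autoImplicit false
set_option linter.style.haveILetI false
set_option linter.unusedSectionVars false
set_option linter.unusedVariables false
universe u

namespace Groth.Agent.H96.CohenFinite2

open IsLocalRing MvPowerSeries

section FinitePS

variable {Λ A : Type u} [CommRing Λ] [IsLocalRing Λ] [IsNoetherianRing Λ]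
  [IsAdicComplete (maximalIdeal Λ) Λ]
  [CommRing A] [IsLocalRing A] [IsNoetherianRing A] [IsAdicComplete (maximalIdeal A) A]
  [Algebra Λ A]

theorem finite_ps (hres : Function.Surjective ((residue A).comp (algebraMap Λ A)))
    (n : ℕ) (b : Fin n → A) (hb : ∀ i, b i ∈ maximalIdeal A) (N : ℕ)
    (hN : maximalIdeal A ^ N ≤
      (maximalIdeal Λ).map (algebraMap Λ A) ⊔ Ideal.span (Set.range b))
    (ψ : MvPowerSeries (Fin n) Λ →ₐ[Λ] A) (hψ : ∀ i, ψ (X i) = b i) :
    ψ.toRingHom.Finite ∧
      (maximalIdeal (MvPowerSeries (Fin n) Λ)).map ψ.toRingHom ≤ maximalIdeal A := by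
  classical
  set P := MvPowerSeries (Fin n) Λ
  let I : Ideal P := maximalIdeal P
  let ρ : P →+* ResidueField A := (residue A).comp ψ.toRingHom
  have hρ : Function.Surjective ρ := by
    intro y
    obtain ⟨a, ha⟩ := hres y
    refine ⟨algebraMap Λ P a, ?_⟩
    show residue A (ψ (algebraMap Λ P a)) = y
    rw [AlgHom.commutes]
    exact ha
  have hker : RingHom.ker ρ = I := by
    haveI := RingHom.ker_isMaximal_of_surjective ρ hρ
    exact IsLocalRing.eq_maximalIdeal inferInstance
  have hkerΛ : RingHom.ker ((residue A).comp (algebraMap Λ A)) = maximalIdeal Λ := by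
    haveI := RingHom.ker_isMaximal_of_surjective _ hres
    exact IsLocalRing.eq_maximalIdeal inferInstance
  set J : Ideal A := I.map ψ.toRingHom with hJdef
  have hle : J ≤ maximalIdeal A := by
    rw [Ideal.map_le_iff_le_comap]
    intro f hf
    rw [← hker] at hf
    have h1 : residue A (ψ f) = 0 := hf
    exact (residue_eq_zero_iff _).1 h1
  have hNJ : maximalIdeal A ^ N ≤ J := by
    refine hN.trans (sup_le ?_ ?_)
    · rw [Ideal.map_le_iff_le_comap]
      intro a ha
      show algebraMap Λ A a ∈ J
      rw [← ψ.commutes a]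
      apply Ideal.mem_map_of_mem
      rw [← hker]
      show residue A (ψ (algebraMap Λ P a)) = 0
      rw [AlgHom.commutes]
      rw [← hkerΛ] at ha
      exact ha
    · rw [Ideal.span_le]
      rintro _ ⟨i, rfl⟩
      rw [← hψ i]
      apply Ideal.mem_map_of_mem
      rw [← hker]
      show residue A (ψ (X i)) = 0
      rw [hψ i]
      exact (residue_eq_zero_iff _).2 (hb i)
  refine ⟨?_, hle⟩
  letI : Algebra P A := ψ.toRingHom.toAlgebra
  have halg : ∀ f : P, algebraMap P A f = ψ f := fun f => rfl
  haveI : IsScalarTower Λ P A := IsScalarTower.of_algebraMap_eq (fun c => by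
    rw [halg]; exact (ψ.commutes c).symm)
  haveI hloc : IsLocalHom (algebraMap P A) := by
    refine ⟨fun f hf => ?_⟩
    by_contra hnu
    have h1 : f ∈ maximalIdeal P := (mem_maximalIdeal f).2 hnu
    have h2 : ψ.toRingHom f ∈ J := Ideal.mem_map_of_mem _ h1
    exact (mem_maximalIdeal _).1 (hle h2) hf
  have hsmul : ∀ j : ℕ, ((maximalIdeal P) ^ j • ⊤ : Submodule P A) =
      (J ^ j).restrictScalars P := fun j => by
    rw [Ideal.smul_top_eq_map, Ideal.map_pow]
    congr 2
  haveI : IsHausdorff (maximalIdeal P) A := by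
    refine ⟨fun x hx => ?_⟩
    apply IsHausdorff.haus (I := maximalIdeal A) inferInstance
    intro j
    have := hx j
    rw [SModEq.zero, hsmul j] at this
    rw [SModEq.zero, smul_eq_mul, Ideal.mul_top]
    exact Ideal.pow_right_mono hle j this
  haveI : IsAdicComplete (maximalIdeal P) P := Groth.Agent.H61.ps_isAdicComplete n
  -- the quotient is finite
  have hfinJ : Module.Finite P (A ⧸ J) := by
    haveI := Groth.Agent.H96.CohenFinite.isArtinianRing_quotient J hNJ
    have h1 : Module.length A (A ⧸ J) ≠ ⊤ := by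
      rw [Module.length_eq_of_surjective (S := A) (R := A ⧸ J) (M := A ⧸ J)
        Ideal.Quotient.mk_surjective]
      exact Module.length_ne_top
    have h2 : Module.length (ResidueField P) (ResidueField A) ≠ ⊤ := by
      haveI : Module.Finite (ResidueField P) (ResidueField A) := by
        apply Module.Finite.of_surjective (Algebra.linearMap (ResidueField P) (ResidueField A))
        intro y
        obtain ⟨f, hf⟩ := hρ y
        exact ⟨residue P f, hf⟩
      exact Module.length_ne_top
    have h3 := IsLocalRing.length_restrictScalars (A := P) (B := A) (M := A ⧸ J)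
    have h4 : Module.length P (A ⧸ J) ≠ ⊤ := by
      rw [h3]
      exact WithTop.mul_ne_top h1 h2
    rw [Module.length_ne_top_iff, isFiniteLength_iff_isNoetherian_isArtinian] at h4
    haveI := h4.1
    infer_instance
  have hfinq : Module.Finite P (A ⧸ (maximalIdeal P • ⊤ : Submodule P A)) := by
    have h1 : (maximalIdeal P • ⊤ : Submodule P A) = J.restrictScalars P := by
      have := hsmul 1
      rwa [pow_one, pow_one] at this
    haveI : Module.Finite P (A ⧸ J.restrictScalars P) :=
      Module.Finite.equiv (Submodule.Quotient.restrictScalarsEquiv P J).symm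
    exact Module.Finite.equiv (Submodule.quotEquivOfEq _ _ h1.symm)
  have hfin : Module.Finite P A :=
    Groth.Agent.H44.finite_of_finite_quotient (maximalIdeal P) A hfinq
  exact hfin

end FinitePS

section Injective

variable {P A : Type u} [CommRing P] [IsDomain P] [CommRing A]

theorem injective_of_dim (ψ : P →+* A) (hfin : ψ.Finite) (d : ℕ) (hP : ringKrullDim P ≤ d)
    (hA : (d : WithBot ℕ∞) ≤ ringKrullDim A) : Function.Injective ψ := by
  rw [injective_iff_map_eq_zero]
  intro x hx
  by_contra hx0
  have hxnzd : x ∈ nonZeroDivisors P := mem_nonZeroDivisors_of_ne_zero hx0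
  have h1 : ringKrullDim (P ⧸ Ideal.span {x}) + 1 ≤ ringKrullDim P :=
    ringKrullDim_quotient_succ_le_of_nonZeroDivisor hxnzd
  let ψ' : P ⧸ Ideal.span {x} →+* A := Ideal.Quotient.lift _ ψ (by
    intro a ha
    obtain ⟨c, rfl⟩ := Ideal.mem_span_singleton'.1 ha
    rw [map_mul, hx, mul_zero])
  letI : Algebra P A := ψ.toAlgebra
  letI : Algebra (P ⧸ Ideal.span {x}) A := ψ'.toAlgebra
  haveI : IsScalarTower P (P ⧸ Ideal.span {x}) A := ⟨fun a b c => by
    obtain ⟨b, rfl⟩ := Ideal.Quotient.mk_surjective b
    show ψ' (Ideal.Quotient.mk _ (a * b)) * c = ψ a * (ψ' (Ideal.Quotient.mk _ b) * c)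
    rw [Ideal.Quotient.lift_mk, Ideal.Quotient.lift_mk, map_mul, mul_assoc]⟩
  haveI : Module.Finite P A := hfin
  haveI : Module.Finite (P ⧸ Ideal.span {x}) A :=
    Module.Finite.of_restrictScalars_finite P _ _
  have h2 : ringKrullDim A ≤ ringKrullDim (P ⧸ Ideal.span {x}) :=
    Groth.Agent.H54.ringKrullDim_le_of_isIntegral
  have h3 : (d : WithBot ℕ∞) + 1 ≤ d :=
    (add_le_add_left (hA.trans h2) 1).trans (h1.trans hP)
  have h4 : ((d + 1 : ℕ) : WithBot ℕ∞) ≤ ((d : ℕ) : WithBot ℕ∞) := by
    push_cast
    exact h3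
  have h5 : d + 1 ≤ d := by exact_mod_cast h4
  omega

end Injective

section DimPS

variable {Λ : Type u} [CommRing Λ] [IsLocalRing Λ] [IsNoetherianRing Λ]

theorem maximalIdeal_ps_le (n : ℕ) (π : Λ) (hπ : maximalIdeal Λ = Ideal.span {π}) :
    maximalIdeal (MvPowerSeries (Fin n) Λ) ≤
      Ideal.span (insert (C π) (Set.range (X : Fin n → MvPowerSeries (Fin n) Λ))) := by
  intro f hf
  have h0 : MvPowerSeries.constantCoeff f ∈ maximalIdeal Λ := by
    rw [IsLocalRing.mem_maximalIdeal, mem_nonunits_iff,
      MvPowerSeries.isUnit_iff_constantCoeff] at hf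
    exact hf
  rw [hπ, Ideal.mem_span_singleton'] at h0
  obtain ⟨c, hc⟩ := h0
  have h1 : f - C (MvPowerSeries.constantCoeff f) ∈
      Ideal.span (Set.range (X : Fin n → MvPowerSeries (Fin n) Λ)) := by
    have := Groth.Agent.H61.mem_span_X_pow_of_coeff_eq_zero (σ := Fin n) (R := Λ) 1
      (f - C (MvPowerSeries.constantCoeff f)) (by
        intro α hα
        have : α.degree = 0 := by omega
        rw [Finsupp.degree_eq_zero_iff] at this
        subst this
        rw [map_sub, MvPowerSeries.coeff_zero_eq_constantCoeff_apply,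
          MvPowerSeries.coeff_zero_eq_constantCoeff_apply,
          MvPowerSeries.constantCoeff_C, sub_self])
    rwa [pow_one] at this
  have h2 : f = C (MvPowerSeries.constantCoeff f) + (f - C (MvPowerSeries.constantCoeff f)) := by
    ring
  rw [h2]
  refine Ideal.add_mem _ ?_ (Ideal.span_mono (Set.subset_insert _ _) h1)
  rw [← hc, map_mul]
  exact Ideal.mul_mem_left _ _ (Ideal.subset_span (Set.mem_insert _ _))

theorem ringKrullDim_ps_le (n : ℕ) (π : Λ) (hπ : maximalIdeal Λ = Ideal.span {π}) :
    ringKrullDim (MvPowerSeries (Fin n) Λ) ≤ (n + 1 : ℕ) := by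
  classical
  set P := MvPowerSeries (Fin n) Λ
  have h1 : maximalIdeal P = Ideal.span (insert (C π) (Set.range (X : Fin n → P))) := by
    apply le_antisymm (maximalIdeal_ps_le n π hπ)
    rw [Ideal.span_le]
    intro g hg
    rcases hg with rfl | ⟨i, rfl⟩
    · show C π ∈ maximalIdeal P
      rw [IsLocalRing.mem_maximalIdeal, mem_nonunits_iff, MvPowerSeries.isUnit_iff_constantCoeff,
        MvPowerSeries.constantCoeff_C]
      have : π ∈ maximalIdeal Λ := by rw [hπ]; exact Ideal.mem_span_singleton_self _
      exact this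
    · show X i ∈ maximalIdeal P
      rw [IsLocalRing.mem_maximalIdeal, mem_nonunits_iff, MvPowerSeries.isUnit_iff_constantCoeff,
        MvPowerSeries.constantCoeff_X]
      exact not_isUnit_zero
  have h2 : (maximalIdeal P).spanFinrank ≤ n + 1 := by
    rw [h1]
    have hfin : (insert (C π) (Set.range (X : Fin n → P))).Finite :=
      (Set.finite_range _).insert _
    refine (Submodule.spanFinrank_span_le_ncard_of_finite hfin).trans ?_
    refine (Set.ncard_insert_le _ _).trans ?_
    have h3 : (Set.range (X : Fin n → P)).ncard ≤ n := by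
      have : Set.range (X : Fin n → P) = (X : Fin n → P) '' Set.univ := Set.image_univ.symm
      rw [this]
      refine (Set.ncard_image_le Set.finite_univ).trans ?_
      rw [Set.ncard_univ, Nat.card_eq_fintype_card, Fintype.card_fin]
    omega
  refine (ringKrullDim_le_spanFinrank_maximalIdeal _).trans ?_
  exact_mod_cast h2

end DimPS

section Main

variable (R : Type u) [CommRing R] [IsDomain R] [IsLocalRing R] [IsNoetherianRing R]
  [IsAdicComplete (maximalIdeal R) R]

/-- equal characteristic: with a coefficient field. -/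
theorem main_of_coeffField (K : Type u) [Field K] (s : K →+* R)
    (hs : Function.Surjective ((residue R).comp s)) :
    ∃ (n : ℕ) (f : MvPowerSeries (Fin n) K →+* R),
      Function.Injective f ∧ f.Finite ∧ Function.Surjective ((residue R).comp f) := by
  letI : Algebra K R := s.toAlgebra
  haveI : Module.Finite K (ResidueField R) := by
    apply Module.Finite.of_surjective (Algebra.linearMap K (ResidueField R))
    intro y
    obtain ⟨a, ha⟩ := hs y
    exact ⟨a, ha⟩
  obtain ⟨n, w, hinj, hloc, hfinw⟩ :=
    Groth.Agent.H96.CohenFinite.main (k₀ := K) (A := R)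
  refine ⟨n, w.toRingHom, hinj, hfinw, ?_⟩
  intro y
  obtain ⟨a, ha⟩ := hs y
  refine ⟨algebraMap K _ a, ?_⟩
  show residue R (w (algebraMap K _ a)) = y
  rw [w.commutes]
  exact ha

/-- mixed characteristic: with a Cohen ring of coefficients. -/
theorem main_mixed (p : ℕ) [Fact p.Prime] [CharP (ResidueField R) p] (hp : (p : R) ≠ 0)
    (Λ : Type u) [CommRing Λ] [IsLocalRing Λ] (hW : CAlg.IsCohenRing Λ)
    (e : ResidueField Λ ≃+* ResidueField R) :
    ∃ (n : ℕ) (f : MvPowerSeries (Fin n) Λ →+* R),
      Function.Injective f ∧ f.Finite ∧ Function.Surjective ((residue R).comp f) := by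
  classical
  obtain ⟨hdom, hdvr, hcomp, p', hp', hm⟩ := id hW
  let u : Λ →+* R ⧸ maximalIdeal R :=
    (e.toRingHom : ResidueField Λ →+* ResidueField R).comp (residue Λ)
  have hu0 : ∀ x ∈ maximalIdeal Λ, u x = 0 := by
    intro x hx
    show e (residue Λ x) = 0
    rw [(residue_eq_zero_iff x).2 hx, map_zero]
  obtain ⟨v, hv⟩ := Groth.Agent.H96.CohenStruct.exists_lift_cohen_residue hW u hu0
  have hv' : (residue R).comp v = u := hv
  have hsurj : Function.Surjective ((residue R).comp v) := by
    rw [hv']
    exact e.surjective.comp residue_surjective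
  -- `p' = p`
  have hpp : p' = p := by
    have hp'm : (p' : Λ) ∈ maximalIdeal Λ := by
      rw [hm]; exact Ideal.mem_span_singleton_self _
    have h1 : ((p' : ℕ) : ResidueField R) = 0 := by
      have h2 := hu0 _ hp'm
      have h3 : residue R (v (p' : Λ)) = 0 := (RingHom.congr_fun hv (p' : Λ)).trans h2
      rw [map_natCast, map_natCast] at h3
      exact h3
    have h3 : p ∣ p' := (CharP.cast_eq_zero_iff (ResidueField R) p p').1 h1
    exact ((Nat.prime_dvd_prime_iff_eq (Fact.out : p.Prime) hp').1 h3).symm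
  subst hpp
  letI : Algebra Λ R := v.toAlgebra
  have halg : ∀ a : Λ, algebraMap Λ R a = v a := fun a => rfl
  set x : R := (p' : R) with hx
  have hxm : x ∈ maximalIdeal R := by
    rw [← residue_eq_zero_iff, hx, map_natCast]
    exact CharP.cast_eq_zero _ _
  have hmap : (maximalIdeal Λ).map (algebraMap Λ R) = Ideal.span {x} := by
    rw [hm, Ideal.map_span, Set.image_singleton, map_natCast]
  -- the quotient by `p`
  let R' := R ⧸ Ideal.span {x}
  have hxtop : Ideal.span {x} ≠ ⊤ := by
    intro h
    have h1 : Ideal.span {x} ≤ maximalIdeal R := (Ideal.span_singleton_le_iff_mem _).2 hxm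
    rw [h] at h1
    exact (maximalIdeal.isMaximal R).ne_top (top_le_iff.1 h1)
  haveI : Nontrivial R' := Ideal.Quotient.nontrivial_iff.2 hxtop
  haveI : IsLocalRing R' :=
    IsLocalRing.of_surjective' (Ideal.Quotient.mk (Ideal.span {x})) Ideal.Quotient.mk_surjective
  obtain ⟨r, b', hdim, hb'm, N, hN⟩ := Groth.Agent.H96.CohenFinite.exists_sop R'
  have hlift : ∀ i, ∃ c : R, Ideal.Quotient.mk (Ideal.span {x}) c = b' i := fun i =>
    Ideal.Quotient.mk_surjective (b' i)
  choose b hb using hlift
  have hmk : ∀ z ∈ maximalIdeal R, Ideal.Quotient.mk (Ideal.span {x}) z ∈ maximalIdeal R' := by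
    intro z hz
    rw [mem_maximalIdeal, mem_nonunits_iff]
    intro hu
    obtain ⟨w', hw'⟩ := hu.exists_right_inv
    obtain ⟨w, rfl⟩ := Ideal.Quotient.mk_surjective w'
    rw [← map_mul, ← map_one (Ideal.Quotient.mk (Ideal.span {x})), Ideal.Quotient.eq] at hw'
    have h1 : z * w - 1 ∈ maximalIdeal R :=
      (Ideal.span_singleton_le_iff_mem _).2 hxm hw'
    have h2 : (1 : R) ∈ maximalIdeal R := by
      have : (1 : R) = z * w - (z * w - 1) := by ring
      rw [this]
      exact Ideal.sub_mem _ (Ideal.mul_mem_right _ _ hz) h1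
    exact (Ideal.ne_top_iff_one _).1 (maximalIdeal.isMaximal R).ne_top h2
  have hbm : ∀ i, b i ∈ maximalIdeal R := by
    intro i
    by_contra hni
    have hunit : IsUnit (b i) := by
      by_contra h
      exact hni ((mem_maximalIdeal _).2 h)
    have h1 : IsUnit (b' i) := by
      rw [← hb i]
      exact hunit.map _
    exact (mem_maximalIdeal _).1 (hb'm i) h1
  have hN' : maximalIdeal R ^ N ≤
      (maximalIdeal Λ).map (algebraMap Λ R) ⊔ Ideal.span (Set.range b) := by
    intro y hy
    have h1 : Ideal.Quotient.mk (Ideal.span {x}) y ∈ maximalIdeal R' ^ N := by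
      have h2 : (maximalIdeal R).map (Ideal.Quotient.mk (Ideal.span {x})) ≤ maximalIdeal R' := by
        rw [Ideal.map_le_iff_le_comap]
        intro z hz
        exact hmk z hz
      have h3 := Ideal.mem_map_of_mem (Ideal.Quotient.mk (Ideal.span {x})) hy
      rw [Ideal.map_pow] at h3
      exact Ideal.pow_right_mono h2 N h3
    have h4 := hN h1
    have h5 : Ideal.span (Set.range b') =
        (Ideal.span (Set.range b)).map (Ideal.Quotient.mk (Ideal.span {x})) := by
      rw [Ideal.map_span, ← Set.range_comp]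
      congr 2
      funext i
      exact (hb i).symm
    rw [h5] at h4
    obtain ⟨y', hy', hyy'⟩ :=
      (Ideal.mem_map_iff_of_surjective _ Ideal.Quotient.mk_surjective).1 h4
    have h6 : y' - y ∈ Ideal.span {x} := Ideal.Quotient.eq.1 hyy'
    have h7 : y = y' - (y' - y) := by ring
    rw [h7, hmap]
    exact Ideal.sub_mem _ (Ideal.mem_sup_right hy') (Ideal.mem_sup_left h6)
  haveI : IsNoetherianRing Λ := inferInstance
  haveI : IsAdicComplete (maximalIdeal Λ) Λ := hcomp
  obtain ⟨ψ, hψ⟩ := Groth.Agent.H47.exists_evalHom_complete (k := Λ) (maximalIdeal R) r b hbm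
  have hres : Function.Surjective ((residue R).comp (algebraMap Λ R)) := hsurj
  obtain ⟨hfin, -⟩ := finite_ps hres r b hbm N hN' ψ hψ
  have hx0 : x ≠ 0 := hp
  have hdimR : ((r + 1 : ℕ) : WithBot ℕ∞) ≤ ringKrullDim R := by
    have h1 : ringKrullDim R' + 1 ≤ ringKrullDim R :=
      ringKrullDim_quotient_succ_le_of_nonZeroDivisor (mem_nonZeroDivisors_of_ne_zero hx0)
    rw [hdim] at h1
    push_cast
    exact h1
  haveI : IsDomain (MvPowerSeries (Fin r) Λ) := NoZeroDivisors.to_isDomain _
  have hinj : Function.Injective ψ.toRingHom :=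
    injective_of_dim ψ.toRingHom hfin (r + 1) (ringKrullDim_ps_le r (p' : Λ) hm) hdimR
  refine ⟨r, ψ.toRingHom, hinj, hfin, ?_⟩
  intro y
  obtain ⟨a, ha⟩ := hsurj y
  refine ⟨algebraMap Λ _ a, ?_⟩
  show residue R (ψ (algebraMap Λ _ a)) = y
  rw [ψ.commutes]
  exact ha

end Main

end Groth.Agent.H96.CohenFinite2
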