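import Mathlib

/-!
# Idempotents of adic completions, and locally-domain connected Noetherian rings

* `AdicIdem.idem_eq_zero` : an idempotent of the `J`-adic completion which dies in `A ⧸ J` is zero.
* `AdicIdem.exists_idem_lift` : idempotents of `A ⧸ J` lift to the `J`-adic completion.
* `isDomain_of_locally_domain` : a Noetherian ring with connected spectrum all of whose local
  rings are domains is a domain.
* `lift_injective` : for Noetherian `A`, the canonical map `(1+J)⁻¹A → Â` is injective.
-/

set_option autoImplicit false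
set_option linter.style.haveILetI false
set_option linter.unusedSectionVars false
set_option linter.unusedVariables false
universe u

namespace Groth.Agent.H96.NormalConn

open AdicCompletion

section AdicIdem

variable {A : Type u} [CommRing A] (J : Ideal A)

lemma evalOne_mk (f : AdicCauchySequence J A) :
    evalOneₐ J (AdicCompletion.mk J A f) = Ideal.Quotient.mk J (f 1) := by
  rw [← factorₐ_evalₐ_one, evalₐ_mk]
  rfl

/-- An idempotent of the completion dying in `A ⧸ J` is zero. -/
theorem idem_eq_zero (x : AdicCompletion J A) (hx : IsIdempotentElem x)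
    (h0 : evalOneₐ J x = 0) : x = 0 := by
  obtain ⟨f, rfl⟩ := AdicCompletion.mk_surjective J A x
  have h1 : f 1 ∈ J := by
    rw [evalOne_mk] at h0
    exact Ideal.Quotient.eq_zero_iff_mem.mp h0
  apply ext_evalₐ
  intro n
  rw [_root_.map_zero, evalₐ_mk]
  rcases Nat.eq_zero_or_pos n with rfl | hn
  · rw [Ideal.Quotient.eq_zero_iff_mem, pow_zero, Ideal.one_eq_top]
    trivial
  · have hfn : f n ∈ J := by
      have h2 : f 1 - f n ∈ (J ^ 1 • ⊤ : Submodule A A) := SModEq.sub_mem.mp (f.property hn)
      have h3 : f 1 - f n ∈ J := by simpa using h2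
      have : f n = f 1 - (f 1 - f n) := by ring
      rw [this]
      exact J.sub_mem h1 h3
    have hid : IsIdempotentElem (Ideal.Quotient.mk (J ^ n) (f n)) := by
      have := congrArg (evalₐ J n) hx.eq
      rwa [map_mul, evalₐ_mk] at this
    obtain ⟨k, rfl⟩ : ∃ k, n = k + 1 := ⟨n - 1, by omega⟩
    rw [← hid.pow_succ_eq k, ← map_pow, Ideal.Quotient.eq_zero_iff_mem]
    exact Ideal.pow_mem_pow hfn _

/-- Newton iteration `x ↦ 3x² - 2x³` for idempotents. -/
def newt (a : A) : ℕ → A
  | 0 => a
  | k + 1 => 3 * (newt a k) ^ 2 - 2 * (newt a k) ^ 3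

lemma newt_sq_sub (a : A) (h : a ^ 2 - a ∈ J) (k : ℕ) :
    (newt a k) ^ 2 - newt a k ∈ J ^ (k + 1) := by
  induction k with
  | zero => simpa [newt] using h
  | succ k ih =>
    have e : (newt a (k + 1)) ^ 2 - newt a (k + 1) =
        ((newt a k) ^ 2 - newt a k) * (((newt a k) ^ 2 - newt a k) *
          (4 * (newt a k) ^ 2 - 4 * newt a k - 3)) := by
      simp only [newt]; ring
    rw [e, pow_succ (n := k + 1)]
    exact Ideal.mul_mem_mul ih
      (Ideal.mul_mem_right _ _ (Ideal.pow_le_self (by omega) ih))

lemma newt_succ_sub (a : A) (k : ℕ) :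
    newt a (k + 1) - newt a k = ((newt a k) ^ 2 - newt a k) * (1 - 2 * newt a k) := by
  simp only [newt]; ring

/-- Idempotents lift from `A ⧸ J` to the `J`-adic completion. -/
theorem exists_idem_lift (e : A ⧸ J) (he : IsIdempotentElem e) :
    ∃ x : AdicCompletion J A, IsIdempotentElem x ∧ evalOneₐ J x = e := by
  obtain ⟨a, rfl⟩ := Ideal.Quotient.mk_surjective e
  have ha : a ^ 2 - a ∈ J := by
    rw [← Ideal.Quotient.eq_zero_iff_mem, map_sub, map_pow, pow_two, he.eq, sub_self]
  have hstep : ∀ n, newt a (n + 1) - newt a n ∈ J ^ (n + 1) := by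
    intro n
    rw [newt_succ_sub]
    exact Ideal.mul_mem_right _ _ (newt_sq_sub J a ha n)
  let f : AdicCauchySequence J A := AdicCauchySequence.mk J A (newt a) (by
    intro n
    rw [SModEq.sub_mem]
    have h1 : newt a (n + 1) - newt a n ∈ J ^ n := Ideal.pow_le_pow_right (Nat.le_succ n) (hstep n)
    have h2 : newt a n - newt a (n + 1) ∈ J ^ n := by
      have : newt a n - newt a (n + 1) = -(newt a (n + 1) - newt a n) := by ring
      rw [this]; exact (J ^ n).neg_mem h1
    simpa using h2)
  refine ⟨AdicCompletion.mk J A f, ?_, ?_⟩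
  · apply ext_evalₐ
    intro n
    rw [map_mul, evalₐ_mk, ← map_mul, Ideal.Quotient.eq]
    have h1 : newt a n ^ 2 - newt a n ∈ J ^ n :=
      Ideal.pow_le_pow_right (Nat.le_succ n) (newt_sq_sub J a ha n)
    have : f n * f n - f n = newt a n ^ 2 - newt a n := by
      show newt a n * newt a n - newt a n = _
      ring
    rw [this]; exact h1
  · rw [evalOne_mk, Ideal.Quotient.eq]
    have h0 := hstep 0
    have : f 1 - a = newt a (0 + 1) - newt a 0 := rfl
    rw [this]
    simpa using h0

/-- If the completion has only trivial idempotents, so has `A ⧸ J`. -/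
theorem idem_trivial_quot
    (h : ∀ x : AdicCompletion J A, IsIdempotentElem x → x = 0 ∨ x = 1)
    (e : A ⧸ J) (he : IsIdempotentElem e) : e = 0 ∨ e = 1 := by
  obtain ⟨x, hx, rfl⟩ := exists_idem_lift J e he
  rcases h x hx with rfl | rfl
  · left; exact _root_.map_zero _
  · right; exact _root_.map_one _

/-- If `A ⧸ J` has only trivial idempotents, so has the completion. -/
theorem idem_trivial_compl
    (h : ∀ e : A ⧸ J, IsIdempotentElem e → e = 0 ∨ e = 1)
    (x : AdicCompletion J A) (hx : IsIdempotentElem x) : x = 0 ∨ x = 1 := by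
  have he : IsIdempotentElem (evalOneₐ J x) := by
    have := congrArg (evalOneₐ J) hx.eq
    rwa [map_mul] at this
  rcases h _ he with h0 | h1
  · left; exact idem_eq_zero J x hx h0
  · right
    have : (1 - x) = 0 := by
      apply idem_eq_zero J _ hx.one_sub
      rw [map_sub, map_one, h1, sub_self]
    exact (sub_eq_zero.mp this).symm

end AdicIdem

section LocallyDomain

variable (R : Type u) [CommRing R]

/-- A minimal prime below `P` is the kernel of the localization map at `P`, if the local ring at
`P` is a domain. -/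
lemma minimal_eq_ker {P : Ideal R} [P.IsPrime] [IsDomain (Localization.AtPrime P)]
    {q : Ideal R} (hq : q ∈ minimalPrimes R) (hqP : q ≤ P) :
    q = RingHom.ker (algebraMap R (Localization.AtPrime P)) := by
  have hprime : (RingHom.ker (algebraMap R (Localization.AtPrime P))).IsPrime :=
    RingHom.ker_isPrime _
  have hqprime : q.IsPrime := hq.1.1
  have hle : RingHom.ker (algebraMap R (Localization.AtPrime P)) ≤ q := by
    intro x hx
    rw [RingHom.mem_ker, IsLocalization.map_eq_zero_iff P.primeCompl] at hx
    obtain ⟨s, hs⟩ := hx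
    have hmem : (s : R) * x ∈ q := by rw [hs]; exact q.zero_mem
    rcases hqprime.mem_or_mem hmem with h | h
    · exact absurd (hqP h) s.2
    · exact h
  exact le_antisymm (hq.2 ⟨hprime, bot_le⟩ hle) hle

/-- A Noetherian ring with connected spectrum whose local rings are all domains is a domain. -/
theorem isDomain_of_locally_domain [IsNoetherianRing R] [ConnectedSpace (PrimeSpectrum R)]
    (h : ∀ (p : Ideal R) [p.IsPrime], IsDomain (Localization.AtPrime p)) : IsDomain R := by
  obtain ⟨P0⟩ := (inferInstance : Nonempty (PrimeSpectrum R))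
  haveI := P0.isPrime
  obtain ⟨p, hpmin, hpP0⟩ := Ideal.exists_minimalPrimes_le (bot_le : (⊥ : Ideal R) ≤ P0.asIdeal)
  have hpprime : p.IsPrime := hpmin.1.1
  -- the complement of V(p) is a finite union of closed sets
  have hcompl : (PrimeSpectrum.zeroLocus (p : Set R))ᶜ =
      ⋃ q ∈ {q | q ∈ minimalPrimes R ∧ q ≠ p}, PrimeSpectrum.zeroLocus (q : Set R) := by
    ext P
    haveI := P.isPrime
    haveI := h P.asIdeal
    simp only [Set.mem_compl_iff, PrimeSpectrum.mem_zeroLocus, SetLike.coe_subset_coe,
      Set.mem_iUnion, Set.mem_ofPred_eq, exists_prop]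
    constructor
    · intro hP
      obtain ⟨q, hqmin, hqP⟩ := Ideal.exists_minimalPrimes_le (bot_le : (⊥ : Ideal R) ≤ P.asIdeal)
      refine ⟨q, ⟨hqmin, ?_⟩, hqP⟩
      rintro rfl
      exact hP hqP
    · rintro ⟨q, ⟨hqmin, hne⟩, hqP⟩ hpP
      exact hne ((minimal_eq_ker R hqmin hqP).trans (minimal_eq_ker R hpmin hpP).symm)
  have hfin : {q | q ∈ minimalPrimes R ∧ q ≠ p}.Finite :=
    (minimalPrimes.finite_of_isNoetherianRing R).subset (fun q hq => hq.1)
  have hopen : IsOpen (PrimeSpectrum.zeroLocus (p : Set R)) := by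
    rw [← isClosed_compl_iff, hcompl]
    exact hfin.isClosed_biUnion (fun q _ => PrimeSpectrum.isClosed_zeroLocus _)
  have hclopen : IsClopen (PrimeSpectrum.zeroLocus (p : Set R)) :=
    ⟨PrimeSpectrum.isClosed_zeroLocus _, hopen⟩
  have huniv : PrimeSpectrum.zeroLocus (p : Set R) = Set.univ :=
    hclopen.eq_univ ⟨P0, hpP0⟩
  have hall : ∀ (P : Ideal R) [P.IsPrime], p ≤ P := by
    intro P hP
    have : (⟨P, hP⟩ : PrimeSpectrum R) ∈ PrimeSpectrum.zeroLocus (p : Set R) := by
      rw [huniv]; trivial
    exact this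
  have hbot : p = ⊥ := by
    rw [eq_bot_iff]
    intro x hx
    rw [Ideal.mem_bot]
    apply eq_zero_of_localization
    intro M hM
    haveI := hM.isPrime
    haveI := h M
    have := minimal_eq_ker R hpmin (hall M)
    rw [this] at hx
    exact hx
  haveI : (⊥ : Ideal R).IsPrime := hbot ▸ hpprime
  exact IsDomain.of_bot_isPrime R

end LocallyDomain

section Zariski

variable {A : Type u} [CommRing A] [IsNoetherianRing A] (J : Ideal A)

/-- For Noetherian `A`, two elements with the same image in the `J`-adic completion agree after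
multiplication by an element of `1 + J`. -/
theorem exists_mul_eq_of_algebraMap_eq (x y : A)
    (h : algebraMap A (AdicCompletion J A) x = algebraMap A (AdicCompletion J A) y) :
    ∃ t : A, Ideal.Quotient.mk J t = 1 ∧ t * x = t * y := by
  have hmem : x - y ∈ (⨅ i : ℕ, J ^ i • ⊤ : Submodule A A) := by
    rw [Submodule.mem_iInf]
    intro n
    have h1 : evalₐ J n (algebraMap A (AdicCompletion J A) x) =
        evalₐ J n (algebraMap A (AdicCompletion J A) y) := by rw [h]
    rw [AdicCompletion.algebraMap_apply, AdicCompletion.algebraMap_apply, Algebra.algebraMap_self,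
      RingHom.id_apply, RingHom.id_apply, evalₐ_of, evalₐ_of, Ideal.Quotient.eq] at h1
    simpa using h1
  obtain ⟨r, hr⟩ := (Ideal.mem_iInf_smul_pow_eq_bot_iff J (x - y)).mp hmem
  refine ⟨1 - r, ?_, ?_⟩
  · rw [map_sub, map_one, Ideal.Quotient.eq_zero_iff_mem.mpr r.2, sub_zero]
  · have h2 : (r : A) * (x - y) = x - y := hr
    have : (1 - (r : A)) * (x - y) = 0 := by rw [sub_mul, one_mul, h2, sub_self]
    rw [← sub_eq_zero, ← mul_sub]
    exact this

end Zariski

end Groth.Agent.H96.NormalConn
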