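import Mathlib
import Groth.Agent.S9318
import Groth.Agent.S12136
import Groth.Agent.S0548
import Groth.Agent.H46.PowerSeriesSmooth
import Groth.Agent.H47.FSField
import Groth.Agent.H47.PSStruct
import Groth.Agent.H61.CompleteLocalK
import Groth.Agent.H61.PSDim
import Groth.Agent.H63.ComplNoeth

/-!
# Regular ⇔ formally smooth for the adic topology, for Noetherian local algebras over a field with
separable residue field (EGA 0_IV 19.6.4)
-/

set_option autoImplicit false
set_option linter.style.haveILetI false
set_option linter.unusedSectionVars false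
set_option linter.overlappingInstances false
universe u

namespace Groth.Agent.H96.RegAdicSmooth

open IsLocalRing TensorProduct KaehlerDifferential

section Surj

variable (B : Type u) [CommRing B] [IsLocalRing B] [IsNoetherianRing B]
    [IsAdicComplete (maximalIdeal B) B] (K : Type u) [Field K] [Algebra K B]

/-- a complete Noetherian local ring with coefficient field `K` is a quotient of a power series
ring over `K` by an ideal inside the square of the maximal ideal. -/
theorem exists_ps_algHom (hres : Function.Surjective ((residue B).comp (algebraMap K B))) :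
    ∃ (n : ℕ) (ψ : MvPowerSeries (Fin n) K →ₐ[K] B),
      Function.Surjective ψ ∧
        RingHom.ker ψ ≤ maximalIdeal (MvPowerSeries (Fin n) K) ^ 2 := by
  classical
  let κ := ResidueField B
  let d := Module.finrank κ (CotangentSpace B)
  let v : Module.Basis (Fin d) κ (CotangentSpace B) := Module.finBasis κ _
  have hsurjc := Ideal.toCotangent_surjective (maximalIdeal B)
  choose c hc using fun i => hsurjc (v i)
  obtain ⟨ψ, hψX⟩ := Groth.Agent.H47.exists_evalHom_complete (k := K) (maximalIdeal B) d
    (fun i => (c i : B)) (fun i => (c i).2)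
  have hψ : ∀ i : Fin d, ψ (MvPowerSeries.X i) ∈ maximalIdeal B := by
    intro i
    rw [hψX]
    exact (c i).2
  have hfun : (fun i : Fin d => (maximalIdeal B).toCotangent
      ⟨ψ (MvPowerSeries.X i), hψ i⟩) = fun i => v i := by
    funext i
    rw [← hc i]
    congr 1
    exact Subtype.ext (hψX i)
  have hsurj : Function.Surjective ψ :=
    Groth.Agent.H61.CLK.ps_surjective ψ hψ hres (by rw [hfun]; exact v.span_eq)
  have hker : RingHom.ker ψ ≤ maximalIdeal (MvPowerSeries (Fin d) K) ^ 2 :=
    Groth.Agent.H61.CLK.ps_ker_le_sq ψ hψ hres (by rw [hfun]; exact v.linearIndependent)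
  exact ⟨d, ψ, hsurj, hker⟩

end Surj

section Zero

variable {k P : Type u} [CommRing k] [CommRing P] [Algebra k P]

theorem D_mem_smul_top (I : Ideal P) (x : P) (hx : x ∈ I ^ 2) :
    D k P x ∈ (I • ⊤ : Submodule P (Ω[P⁄k])) := by
  rw [pow_two] at hx
  refine Submodule.mul_induction_on hx ?_ ?_
  · intro a ha b hb
    rw [Derivation.leibniz]
    exact Submodule.add_mem _ (Submodule.smul_mem_smul ha trivial)
      (Submodule.smul_mem_smul hb trivial)
  · intro a b ha hb
    rw [map_add]
    exact Submodule.add_mem _ ha hb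

theorem baseChange_kerCotangentToTensor_eq_zero (I J : Ideal P) (hJ : J ≤ I ^ 2) :
    LinearMap.baseChange ((P ⧸ J) ⧸ I.map (Ideal.Quotient.mk J))
      (kerCotangentToTensor k P (P ⧸ J)) = 0 := by
  let C := P ⧸ J
  let Q := I.map (Ideal.Quotient.mk J)
  let F := C ⧸ Q
  -- the submodule of forms killed after base change
  let N : Submodule P (Ω[P⁄k]) :=
    { carrier := {ω | ∀ c : F, c ⊗ₜ[P] ((1 : C) ⊗ₜ[P] ω) = 0}
      add_mem' := by
        intro a b ha hb c
        rw [TensorProduct.tmul_add, TensorProduct.tmul_add, ha c, hb c, add_zero]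
      zero_mem' := by
        intro c
        rw [TensorProduct.tmul_zero, TensorProduct.tmul_zero]
      smul_mem' := by
        intro a ω hω c
        rw [TensorProduct.tmul_smul, TensorProduct.tmul_smul, hω c, smul_zero] }
  have hN : (I • ⊤ : Submodule P (Ω[P⁄k])) ≤ N := by
    rw [Submodule.smul_le]
    intro a ha ω _ c
    show c ⊗ₜ[P] ((1 : C) ⊗ₜ[P] (a • ω)) = 0
    rw [TensorProduct.tmul_smul, TensorProduct.tmul_smul, TensorProduct.smul_tmul']
    have h0 : a • c = 0 := by
      rw [Algebra.smul_def]
      have : algebraMap P F a = 0 := by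
        show Ideal.Quotient.mk Q (Ideal.Quotient.mk J a) = 0
        rw [Ideal.Quotient.eq_zero_iff_mem]
        exact Ideal.mem_map_of_mem _ ha
      rw [this, zero_mul]
    rw [h0, TensorProduct.zero_tmul]
  apply LinearMap.ext
  intro t
  rw [LinearMap.zero_apply]
  induction t using TensorProduct.induction_on with
  | zero => rw [map_zero]
  | add a b ha hb => rw [map_add, ha, hb, add_zero]
  | tmul c y =>
    obtain ⟨x, rfl⟩ := Ideal.toCotangent_surjective _ y
    rw [LinearMap.baseChange_tmul, kerCotangentToTensor_toCotangent]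
    have hxJ : (x : P) ∈ J := by
      have h1 : Ideal.Quotient.mk J (x : P) = 0 := RingHom.mem_ker.1 x.2
      exact Ideal.Quotient.eq_zero_iff_mem.1 h1
    exact hN (D_mem_smul_top I x (hJ hxJ)) c

end Zero

section Nak

theorem eq_bot_of_subsingleton (P : Type u) [CommRing P] [IsLocalRing P] [IsNoetherianRing P]
    (J : Ideal P) (hJ : J ≤ maximalIdeal P)
    (h : Subsingleton (((P ⧸ J) ⧸ (maximalIdeal P).map (Ideal.Quotient.mk J)) ⊗[P]
      (RingHom.ker (algebraMap P (P ⧸ J))).Cotangent)) : J = ⊥ := by
  let m := maximalIdeal P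
  let F := (P ⧸ J) ⧸ m.map (Ideal.Quotient.mk J)
  let J' := RingHom.ker (algebraMap P (P ⧸ J))
  have hJ' : J' = J := by
    show RingHom.ker (Ideal.Quotient.mk J) = J
    exact Ideal.mk_ker
  let M := J'.Cotangent
  -- a surjection `F → P/m`
  let f₁ : (P ⧸ J) →ₐ[P] P ⧸ m := Ideal.Quotient.liftₐ J (Ideal.Quotient.mkₐ P m) (by
    intro a ha
    exact Ideal.Quotient.eq_zero_iff_mem.2 (hJ ha))
  let f : F →ₐ[P] P ⧸ m := Ideal.Quotient.liftₐ _ f₁ (by
    intro a ha
    have : m.map (Ideal.Quotient.mk J) ≤ RingHom.ker (f₁ : (P ⧸ J) →+* P ⧸ m) := by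
      rw [Ideal.map_le_iff_le_comap]
      intro x hx
      show f₁ (Ideal.Quotient.mk J x) = 0
      show Ideal.Quotient.mk m x = 0
      exact Ideal.Quotient.eq_zero_iff_mem.2 hx
    exact this ha)
  have hf : Function.Surjective f := by
    intro y
    obtain ⟨x, rfl⟩ := Ideal.Quotient.mk_surjective y
    exact ⟨algebraMap P F x, by rw [AlgHom.commutes]; rfl⟩
  have hsurj : Function.Surjective (f.toLinearMap.rTensor M) :=
    LinearMap.rTensor_surjective M hf
  haveI : Subsingleton ((P ⧸ m) ⊗[P] M) := hsurj.subsingleton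
  haveI : Subsingleton (M ⧸ (m • ⊤ : Submodule P M)) :=
    (TensorProduct.quotTensorEquivQuotSMul M m).symm.injective.subsingleton
  have htop : (m • ⊤ : Submodule P M) = ⊤ := Submodule.Quotient.subsingleton_iff.1 inferInstance
  haveI : Module.Finite P M := Module.Finite.of_surjective J'.toCotangent (Ideal.toCotangent_surjective _)
  have hbot : (⊤ : Submodule P M) = ⊥ :=
    Submodule.eq_bot_of_le_smul_of_le_jacobson_bot m ⊤ Module.Finite.fg_top (by rw [htop])
      (IsLocalRing.maximalIdeal_le_jacobson ⊥)
  haveI : Subsingleton M := Submodule.subsingleton_iff P |>.1 (subsingleton_of_bot_eq_top hbot.symm)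
  have hidem : IsIdempotentElem J' := (Ideal.cotangent_subsingleton_iff J').1 inferInstance
  rw [← hJ']
  have h2 : J' ≤ m • J' := by
    have : J' * J' = J' := hidem
    calc J' = J' * J' := this.symm
      _ ≤ m * J' := Ideal.mul_mono_left (hJ' ▸ hJ)
      _ = m • J' := rfl
  exact Submodule.eq_bot_of_le_smul_of_le_jacobson_bot m J' (IsNoetherian.noetherian J') h2
    (IsLocalRing.maximalIdeal_le_jacobson ⊥)

end Nak

section Main

variable (k A : Type u) [Field k] [CommRing A] [IsLocalRing A] [IsNoetherianRing A] [Algebra k A]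
    [Algebra.IsGeometricallyReduced k (ResidueField A)]

local notation "Â" => AdicCompletion (maximalIdeal A) A

/-- a coefficient field of the completion containing `k`. -/
theorem exists_coeff :
    ∃ g : ResidueField A →ₐ[k] Â, ∀ x : ResidueField A,
      residue Â (g x) = ResidueField.map (algebraMap A Â) x := by
  haveI : Algebra.FormallySmooth k (ResidueField A) :=
    Groth.Agent.H47.formallySmooth_of_isGeometricallyReduced_field
  let ι : ResidueField A →+* ResidueField Â := ResidueField.map (algebraMap A Â)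
  let f : ResidueField A →ₐ[k] Â ⧸ maximalIdeal Â :=
    { toRingHom := ι
      commutes' := fun r => by
        show ι (residue A (algebraMap k A r)) = residue Â (algebraMap k Â r)
        rw [IsScalarTower.algebraMap_apply k A Â]
        exact ResidueField.map_residue _ _ }
  obtain ⟨g, hg⟩ := Algebra.FormallySmooth.exists_mkₐ_comp_eq_of_isAdicComplete f
  exact ⟨g, fun x => congrArg (fun h => h x) hg⟩

theorem residue_comp_surjective (g : ResidueField A →ₐ[k] Â)
    (hg : ∀ x : ResidueField A, residue Â (g x) = ResidueField.map (algebraMap A Â) x) :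
    Function.Bijective ((residue Â).comp (g : ResidueField A →+* Â)) := by
  have hι : Function.Bijective (ResidueField.map (algebraMap A Â)) :=
    AdicCompletion.residueField_map_bijective A
  have : ⇑((residue Â).comp (g : ResidueField A →+* Â)) =
      ⇑(ResidueField.map (algebraMap A Â)) := by
    funext x
    exact hg x
  rw [this]
  exact hι

/-- regular ⟹ the completion is a power series ring over the residue field, `k`-linearly. -/
theorem exists_algEquiv_of_regular [IsRegularLocalRing A] :
    ∃ (n : ℕ), Nonempty (Â ≃ₐ[k] MvPowerSeries (Fin n) (ResidueField A)) := by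
  obtain ⟨g, hg⟩ := exists_coeff k A
  haveI : IsNoetherianRing Â := Groth.Agent.H63.isNoetherianRing_adicCompletion (maximalIdeal A)
  haveI : IsRegularLocalRing Â := (Groth.Agent.S0548.result A).1 inferInstance
  letI : Algebra (ResidueField A) Â := g.toRingHom.toAlgebra
  haveI : IsScalarTower k (ResidueField A) Â := IsScalarTower.of_algebraMap_eq (fun c => by
    show algebraMap k Â c = g (algebraMap k (ResidueField A) c)
    exact (g.commutes c).symm)
  obtain ⟨d, ⟨e⟩⟩ := Groth.Agent.H47.exists_algEquiv_mvPowerSeries Â (ResidueField A)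
    (residue_comp_surjective k A g hg)
  exact ⟨d, ⟨e.restrictScalars k⟩⟩

theorem regular_of_ringEquiv (n : ℕ) (e : Â ≃+* MvPowerSeries (Fin n) (ResidueField A)) :
    IsRegularLocalRing A := by
  haveI : IsRegularLocalRing Â := IsRegularLocalRing.of_ringEquiv e.symm
  exact (Groth.Agent.S0548.result A).2 inferInstance

theorem adic_of_regular [IsRegularLocalRing A] :
    CAlgX.IsAdicFormallySmooth k A (maximalIdeal A) := by
  obtain ⟨n, ⟨e⟩⟩ := exists_algEquiv_of_regular k A
  haveI : Algebra.FormallySmooth k (ResidueField A) :=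
    Groth.Agent.H47.formallySmooth_of_isGeometricallyReduced_field
  rw [Groth.Agent.S9318.result (R := k) (maximalIdeal A) (maximalIdeal A).fg_of_isNoetherianRing,
    ← AdicCompletion.maximalIdeal_eq_map]
  have hP := Groth.Agent.H46.isAdicFormallySmooth_mvPowerSeries k (ResidueField A) n
  rw [← Groth.Agent.H61.maximalIdeal_ps_eq_span_X] at hP
  refine Groth.Agent.H46.isAdicFormallySmooth_of_algEquiv e ?_ hP
  rw [Ideal.map_le_iff_le_comap]
  intro x hx
  rw [Ideal.mem_comap, mem_maximalIdeal, mem_nonunits_iff]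
  intro hu
  rw [mem_maximalIdeal, mem_nonunits_iff] at hx
  apply hx
  have := hu.map (e : Â →+* MvPowerSeries (Fin n) (ResidueField A))
  simpa using this

theorem regular_of_adic (h : CAlgX.IsAdicFormallySmooth k A (maximalIdeal A)) :
    IsRegularLocalRing A := by
  classical
  obtain ⟨g, hg⟩ := exists_coeff k A
  haveI : IsNoetherianRing Â := Groth.Agent.H63.isNoetherianRing_adicCompletion (maximalIdeal A)
  haveI : Algebra.FormallySmooth k (ResidueField A) :=
    Groth.Agent.H47.formallySmooth_of_isGeometricallyReduced_field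
  rw [Groth.Agent.S9318.result (R := k) (maximalIdeal A) (maximalIdeal A).fg_of_isNoetherianRing,
    ← AdicCompletion.maximalIdeal_eq_map] at h
  letI : Algebra (ResidueField A) Â := g.toRingHom.toAlgebra
  haveI : IsScalarTower k (ResidueField A) Â := IsScalarTower.of_algebraMap_eq (fun c => by
    show algebraMap k Â c = g (algebraMap k (ResidueField A) c)
    exact (g.commutes c).symm)
  have hres : Function.Surjective ((residue Â).comp (algebraMap (ResidueField A) Â)) :=
    (residue_comp_surjective k A g hg).2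
  obtain ⟨n, ψ, hψs, hψk⟩ := exists_ps_algHom Â (ResidueField A) hres
  let P := MvPowerSeries (Fin n) (ResidueField A)
  let J : Ideal P := RingHom.ker (ψ : P →+* Â)
  have hJ2 : J ≤ maximalIdeal P ^ 2 := hψk
  have hJm : J ≤ maximalIdeal P := hJ2.trans (Ideal.pow_le_self two_ne_zero)
  let e₀ : (P ⧸ J) ≃ₐ[ResidueField A] Â := Ideal.quotientKerAlgEquivOfSurjective hψs
  let e : (P ⧸ J) ≃ₐ[k] Â := e₀.restrictScalars k
  have he : ∀ f : P, e (Ideal.Quotient.mk J f) = ψ f := fun f => rfl
  -- `P/J` is adically formally smooth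
  have hC : CAlgX.IsAdicFormallySmooth k (P ⧸ J) ((maximalIdeal P).map (Ideal.Quotient.mk J)) := by
    refine Groth.Agent.H46.isAdicFormallySmooth_of_algEquiv e ?_ h
    rw [Ideal.map_le_iff_le_comap]
    intro y hy
    rw [Ideal.mem_comap]
    obtain ⟨f, rfl⟩ := hψs y
    have h1 : (e.symm : Â →+* P ⧸ J) (ψ f) = Ideal.Quotient.mk J f := by
      show e.symm (ψ f) = _
      rw [← he f, AlgEquiv.symm_apply_apply]
    rw [h1]
    apply Ideal.mem_map_of_mem
    rw [mem_maximalIdeal, mem_nonunits_iff]
    intro hu
    rw [mem_maximalIdeal, mem_nonunits_iff] at hy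
    exact hy (hu.map ψ)
  have hP := Groth.Agent.H46.isAdicFormallySmooth_mvPowerSeries k (ResidueField A) n
  rw [← Groth.Agent.H61.maximalIdeal_ps_eq_span_X] at hP
  obtain ⟨g', hg'⟩ := (Groth.Agent.S12136.result (A := k) (B := P) (maximalIdeal P) J hP
    ((maximalIdeal P).map (Ideal.Quotient.mk J)) ⟨1, le_of_eq (Submodule.pow_one _)⟩ ⟨1, le_of_eq (Submodule.pow_one _)⟩).1 hC
  rw [baseChange_kerCotangentToTensor_eq_zero (maximalIdeal P) J hJ2, LinearMap.comp_zero] at hg'
  have hsub : Subsingleton (((P ⧸ J) ⧸ (maximalIdeal P).map (Ideal.Quotient.mk J)) ⊗[P]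
      (RingHom.ker (algebraMap P (P ⧸ J))).Cotangent) := by
    refine ⟨fun a b => ?_⟩
    have ha : a = (LinearMap.id : _ →ₗ[(P ⧸ J) ⧸ (maximalIdeal P).map (Ideal.Quotient.mk J)] _) a :=
      rfl
    have hb : b = (LinearMap.id : _ →ₗ[(P ⧸ J) ⧸ (maximalIdeal P).map (Ideal.Quotient.mk J)] _) b :=
      rfl
    rw [ha, hb, ← hg', LinearMap.zero_apply, LinearMap.zero_apply]
  have hJ0 : J = ⊥ := eq_bot_of_subsingleton P J hJm hsub
  have hinj : Function.Injective ψ := by
    rw [injective_iff_map_eq_zero]
    intro x hx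
    have : x ∈ J := RingHom.mem_ker.2 hx
    rw [hJ0] at this
    exact this
  exact regular_of_ringEquiv A n (RingEquiv.ofBijective ψ ⟨hinj, hψs⟩).symm

theorem main :
    [CAlgX.IsAdicFormallySmooth k A (maximalIdeal A),
     ∃ (n : ℕ) (e : AdicCompletion (maximalIdeal A) A ≃+* MvPowerSeries (Fin n) (ResidueField A)),
       ∀ x : k, e (algebraMap A (AdicCompletion (maximalIdeal A) A) (algebraMap k A x)) =
         algebraMap (ResidueField A) (MvPowerSeries (Fin n) (ResidueField A))
          (algebraMap k (ResidueField A) x),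
     ∃ n : ℕ, Nonempty (AdicCompletion (maximalIdeal A) A ≃+*
        MvPowerSeries (Fin n) (ResidueField A)),
     IsRegularLocalRing A].TFAE := by
  tfae_have 1 → 4 := regular_of_adic k A
  tfae_have 4 → 1 := fun h => by
    haveI := h
    exact adic_of_regular k A
  tfae_have 4 → 2 := fun h => by
    haveI := h
    obtain ⟨n, ⟨e⟩⟩ := exists_algEquiv_of_regular k A
    refine ⟨n, e.toRingEquiv, fun x => ?_⟩
    show e (algebraMap A Â (algebraMap k A x)) = _
    rw [← IsScalarTower.algebraMap_apply k A Â, e.commutes,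
      IsScalarTower.algebraMap_apply k (ResidueField A) (MvPowerSeries (Fin n) (ResidueField A))]
  tfae_have 2 → 3 := fun ⟨n, e, _⟩ => ⟨n, ⟨e⟩⟩
  tfae_have 3 → 4 := fun ⟨n, ⟨e⟩⟩ => regular_of_ringEquiv A n e
  tfae_finish

end Main

end Groth.Agent.H96.RegAdicSmooth
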