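import Mathlib

/-!
# Fredholm linear maps between vector spaces: composition and base change of the index
(complements to `LinearMap.index`)
-/

set_option autoImplicit false
set_option linter.style.haveILetI false
set_option linter.unusedSectionVars false

namespace Groth.Agent.H96.Fred

open TensorProduct Module

section Basic

variable {k : Type*} [Field k] {M N P : Type*} [AddCommGroup M] [Module k M]
  [AddCommGroup N] [Module k N] [AddCommGroup P] [Module k P]

/-- a linear map with finite-dimensional kernel and cokernel. -/
structure IsFred (f : M →ₗ[k] N) : Prop where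
  ker : FiniteDimensional k (LinearMap.ker f)
  coker : FiniteDimensional k (N ⧸ LinearMap.range f)

theorem IsFred.comp {f : M →ₗ[k] N} {g : N →ₗ[k] P} (hf : IsFred f) (hg : IsFred g) :
    IsFred (g ∘ₗ f) ∧ (g ∘ₗ f).index = g.index + f.index := by
  haveI := hf.ker
  haveI := hf.coker
  haveI := hg.ker
  haveI := hg.coker
  refine ⟨⟨?_, ?_⟩, LinearMap.index_comp g⟩
  · rw [LinearMap.ker_comp]; infer_instance
  · rw [LinearMap.range_comp]; infer_instance

theorem isFred_equiv (e : M ≃ₗ[k] N) : IsFred e.toLinearMap := by
  refine ⟨?_, ?_⟩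
  · rw [LinearEquiv.ker]; infer_instance
  · rw [LinearEquiv.range]; infer_instance

/-- Fredholm maps and their index can be read off any four-term exact sequence. -/
theorem isFred_of_exact {K C : Type*} [AddCommGroup K] [Module k K] [AddCommGroup C] [Module k C]
    [FiniteDimensional k K] [FiniteDimensional k C]
    (ι : K →ₗ[k] M) (f : M →ₗ[k] N) (π : N →ₗ[k] C) (hι : Function.Injective ι)
    (h1 : Function.Exact ι f) (h2 : Function.Exact f π) (hπ : Function.Surjective π) :
    IsFred f ∧ f.index = (finrank k K : ℤ) - finrank k C := by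
  have e1 : K ≃ₗ[k] LinearMap.ker f :=
    (LinearEquiv.ofInjective ι hι).trans (LinearEquiv.ofEq _ _ (LinearMap.exact_iff.1 h1).symm)
  have e2 : (N ⧸ LinearMap.range f) ≃ₗ[k] C :=
    (Submodule.quotEquivOfEq _ _ (LinearMap.exact_iff.1 h2).symm).trans
      (π.quotKerEquivOfSurjective hπ)
  refine ⟨⟨Module.Finite.equiv e1, Module.Finite.equiv e2.symm⟩, ?_⟩
  rw [LinearMap.index_eq_finrank_sub, ← e1.finrank_eq, e2.finrank_eq]

end Basic

section BaseChange

variable {k : Type*} [Field k] (k' : Type*) [Field k'] [Algebra k k']
  {M N : Type*} [AddCommGroup M] [Module k M] [AddCommGroup N] [Module k N]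

theorem IsFred.baseChange {f : M →ₗ[k] N} (hf : IsFred f) :
    IsFred (f.baseChange k') ∧ (f.baseChange k').index = f.index := by
  haveI := hf.ker
  haveI := hf.coker
  let ι : (k' ⊗[k] LinearMap.ker f) →ₗ[k'] k' ⊗[k] M := (LinearMap.ker f).subtype.baseChange k'
  let π : (k' ⊗[k] N) →ₗ[k'] k' ⊗[k] (N ⧸ LinearMap.range f) :=
    (LinearMap.range f).mkQ.baseChange k'
  have hι : Function.Injective ι := by
    have := Module.Flat.lTensor_preserves_injective_linearMap (M := k') (LinearMap.ker f).subtype
      (LinearMap.ker f).injective_subtype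
    exact this
  have h1 : Function.Exact ι (f.baseChange k') := by
    have := Module.Flat.lTensor_exact k' (LinearMap.exact_subtype_ker_map f)
    exact this
  have h2 : Function.Exact (f.baseChange k') π := by
    have := lTensor_exact k' (LinearMap.exact_map_mkQ_range f) (Submodule.mkQ_surjective _)
    exact this
  have hπ : Function.Surjective π := by
    have := LinearMap.lTensor_surjective k' (Submodule.mkQ_surjective (LinearMap.range f))
    exact this
  obtain ⟨h3, h4⟩ := isFred_of_exact ι (f.baseChange k') π hι h1 h2 hπ
  refine ⟨h3, ?_⟩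
  rw [h4, Module.finrank_baseChange, Module.finrank_baseChange, LinearMap.index_eq_finrank_sub]

end BaseChange

end Groth.Agent.H96.Fred
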