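import Mathlib
import Groth.Prelude.Def_EGA41
import Groth.Agent.H96.FredIndex

/-!
# The map `L ⊗_K Ω_K → Ω_L` of absolute differentials for a field extension: index and towers
-/

set_option autoImplicit false
set_option linter.style.haveILetI false
set_option linter.unusedSectionVars false
universe u

namespace Groth.Agent.H96.Cartier

open KaehlerDifferential TensorProduct Module Groth.Agent.H96.Fred

section MapMap

variable (K L M : Type u) [CommRing K] [CommRing L] [CommRing M] [Algebra K L] [Algebra L M]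
  [Algebra K M] [IsScalarTower K L M]

theorem map_map (ω : Ω[K⁄ℤ]) :
    KaehlerDifferential.map ℤ ℤ L M (KaehlerDifferential.map ℤ ℤ K L ω) =
      KaehlerDifferential.map ℤ ℤ K M ω := by
  have hω : ω ∈ Submodule.span K (Set.range (D ℤ K)) := by
    rw [span_range_derivation]; trivial
  induction hω using Submodule.span_induction with
  | mem x hx =>
    obtain ⟨a, rfl⟩ := hx
    rw [map_D, map_D, map_D, ← IsScalarTower.algebraMap_apply]
  | zero => rw [map_zero, map_zero, map_zero]
  | add a b _ _ ha hb => rw [map_add, map_add, map_add, ha, hb]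
  | smul c a _ ha =>
    have h1 : KaehlerDifferential.map ℤ ℤ K L (c • a) =
        algebraMap K L c • KaehlerDifferential.map ℤ ℤ K L a := by
      rw [LinearMap.map_smul, algebraMap_smul]
    have h2 : KaehlerDifferential.map ℤ ℤ K M (c • a) =
        algebraMap K L c • KaehlerDifferential.map ℤ ℤ K M a := by
      rw [LinearMap.map_smul, algebraMap_smul]
    rw [h1, h2, LinearMap.map_smul, ha]

end MapMap

section Tower

variable (K L M : Type u) [Field K] [Field L] [Field M] [Algebra K L] [Algebra L M]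
  [Algebra K M] [IsScalarTower K L M]

/-- the fundamental map `L ⊗_K Ω_K → Ω_L`. -/
noncomputable abbrev u : L ⊗[K] Ω[K⁄ℤ] →ₗ[L] Ω[L⁄ℤ] := mapBaseChange ℤ K L

theorem u_tower :
    u K M = (u L M) ∘ₗ ((u K L).baseChange M) ∘ₗ
      (AlgebraTensorModule.cancelBaseChange K L M M Ω[K⁄ℤ]).symm.toLinearMap := by
  apply LinearMap.ext
  intro t
  induction t using TensorProduct.induction_on with
  | zero => rw [map_zero, map_zero]
  | add a b ha hb => rw [map_add, map_add, ha, hb]
  | tmul m ω =>
    rw [LinearMap.comp_apply, LinearMap.comp_apply, LinearEquiv.coe_coe,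
      AlgebraTensorModule.cancelBaseChange_symm_tmul, LinearMap.baseChange_tmul,
      mapBaseChange_tmul, mapBaseChange_tmul, mapBaseChange_tmul, one_smul, map_map]

variable {K L M}

theorem isFred_u_tower (h1 : IsFred (u K L)) (h2 : IsFred (u L M)) :
    IsFred (u K M) ∧ (u K M).index = (u L M).index + (u K L).index := by
  obtain ⟨h3, h4⟩ := h1.baseChange M
  have h5 := isFred_equiv (AlgebraTensorModule.cancelBaseChange K L M M Ω[K⁄ℤ]).symm
  obtain ⟨h6, h7⟩ := h5.comp h3
  obtain ⟨h8, h9⟩ := h6.comp h2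
  rw [u_tower K L M]
  refine ⟨h8, ?_⟩
  rw [h9, h7, h4, LinearEquiv.index_eq_zero, add_zero]

end Tower

section Ends

variable (K L : Type u) [Field K] [Field L] [Algebra K L]

/-- kernel and cokernel of `u` are the imperfection module and `Ω_{L/K}`. -/
theorem isFred_u_iff :
    IsFred (u K L) ↔ Module.Finite L (EGA41.imperfection ℤ K L) ∧ Module.Finite L (Ω[L⁄K]) := by
  have e2 : (Ω[L⁄ℤ] ⧸ LinearMap.range (u K L)) ≃ₗ[L] Ω[L⁄K] :=
    (Submodule.quotEquivOfEq _ _
      (LinearMap.exact_iff.1 (exact_mapBaseChange_map ℤ K L)).symm).trans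
      ((KaehlerDifferential.map ℤ K L L).quotKerEquivOfSurjective (map_surjective ℤ K L))
  constructor
  · intro h
    exact ⟨h.ker, haveI := h.coker; Module.Finite.equiv e2⟩
  · rintro ⟨h1, h2⟩
    exact ⟨h1, Module.Finite.equiv e2.symm⟩

theorem index_u :
    (u K L).index = (finrank L (EGA41.imperfection ℤ K L) : ℤ) - finrank L (Ω[L⁄K]) := by
  have e2 : (Ω[L⁄ℤ] ⧸ LinearMap.range (u K L)) ≃ₗ[L] Ω[L⁄K] :=
    (Submodule.quotEquivOfEq _ _
      (LinearMap.exact_iff.1 (exact_mapBaseChange_map ℤ K L)).symm).trans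
      ((KaehlerDifferential.map ℤ K L L).quotKerEquivOfSurjective (map_surjective ℤ K L))
  rw [LinearMap.index_eq_finrank_sub, e2.finrank_eq]
  rfl

end Ends

end Groth.Agent.H96.Cartier
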