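import Mathlib
import Groth.Agent.H47.FSField
import Groth.Agent.H47.FSSep

/-!
# Separability and injectivity of `K ⊗ Ω_{k/ℤ} → Ω_{K/ℤ}` (helper library for S2117, S4523)
-/

set_option autoImplicit false
set_option linter.style.haveILetI false
universe u

namespace Groth.Agent.H96.SepKaehler

open Algebra KaehlerDifferential

section Functoriality

variable (R : Type*) (S₁ : Type*) (S₂ : Type*) (S₃ : Type*) [CommRing R] [CommRing S₁]
  [CommRing S₂] [CommRing S₃] [Algebra R S₁] [Algebra R S₂] [Algebra R S₃] [Algebra S₁ S₂]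
  [Algebra S₂ S₃] [Algebra S₁ S₃] [IsScalarTower R S₁ S₂] [IsScalarTower R S₂ S₃]
  [IsScalarTower R S₁ S₃] [IsScalarTower S₁ S₂ S₃]

/-- functoriality of the first cotangent homology in the algebra. -/
theorem h1_map_map (x : H1Cotangent R S₁) :
    H1Cotangent.map R R S₂ S₃ (H1Cotangent.map R R S₁ S₂ x) = H1Cotangent.map R R S₁ S₃ x := by
  change ((H1Cotangent.map R R S₂ S₃).restrictScalars S₁ ∘ₗ H1Cotangent.map R R S₁ S₂) x = _
  rw [H1Cotangent.map, H1Cotangent.map, ← Extension.H1Cotangent.map_comp, H1Cotangent.map,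
    Extension.H1Cotangent.map_eq]

end Functoriality

section Fields

open TensorProduct

variable {k K : Type u} [Field k] [Field K] [Algebra k K]

/-- If `K` is formally smooth over a subring `F` of `k` (e.g. the prime field), the map
`H¹(L_{K/ℤ}) → H¹(L_{K/k})` vanishes. -/
theorem h1_map_eq_zero_of_formallySmooth (F : Type*) [Field F] [Algebra F k] [Algebra F K]
    [IsScalarTower F k K] [Algebra.FormallySmooth F K] (y : H1Cotangent ℤ K) :
    H1Cotangent.map ℤ k K K y = 0 := by
  have e1 := H1Cotangent.exact_liftBaseChange_map_of_flat ℤ F K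
  have e2 := H1Cotangent.exact_liftBaseChange_map_of_flat ℤ k K
  obtain ⟨z, rfl⟩ := (e1 y).1 (Subsingleton.elim _ _)
  refine (e2 _).2 ?_
  induction z using TensorProduct.induction_on with
  | zero => exact ⟨0, by rw [map_zero, map_zero]⟩
  | tmul c h =>
    refine ⟨c ⊗ₜ[k] H1Cotangent.map ℤ ℤ F k h, ?_⟩
    rw [LinearMap.liftBaseChange_tmul, LinearMap.liftBaseChange_tmul, h1_map_map ℤ F k K h]
  | add a b ha hb =>
    obtain ⟨a', ha'⟩ := ha
    obtain ⟨b', hb'⟩ := hb
    exact ⟨a' + b', by rw [map_add, map_add, ha', hb']⟩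

/-- Key equivalence: `K ⊗ Ω_{k/ℤ} → Ω_{K/ℤ}` is injective iff `H¹(L_{K/k}) = 0`, as soon as the
map `H¹(L_{K/ℤ}) → H¹(L_{K/k})` vanishes. -/
theorem injective_mapBaseChange_iff
    (h0 : ∀ y : H1Cotangent ℤ K, H1Cotangent.map ℤ k K K y = 0) :
    Function.Injective (KaehlerDifferential.mapBaseChange ℤ k K) ↔
      Subsingleton (H1Cotangent k K) := by
  have e1 := H1Cotangent.exact_map_δ ℤ k K
  have e2 := H1Cotangent.exact_δ_mapBaseChange ℤ k K
  have hδinj : Function.Injective (H1Cotangent.δ ℤ k K) := by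
    rw [injective_iff_map_eq_zero]
    intro x hx
    obtain ⟨y, rfl⟩ := (e1 x).1 hx
    exact h0 y
  constructor
  · intro hinj
    refine ⟨fun a b => hδinj ?_⟩
    have ha : H1Cotangent.δ ℤ k K a = 0 := hinj (by rw [(e2 _).2 ⟨a, rfl⟩, map_zero])
    have hb : H1Cotangent.δ ℤ k K b = 0 := hinj (by rw [(e2 _).2 ⟨b, rfl⟩, map_zero])
    rw [ha, hb]
  · intro hsub
    rw [injective_iff_map_eq_zero]
    intro x hx
    obtain ⟨y, rfl⟩ := (e2 x).1 hx
    rw [Subsingleton.elim y 0, map_zero]

/-- formal smoothness of a field extension in terms of `H¹`. -/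
theorem formallySmooth_iff_subsingleton_h1 :
    Algebra.FormallySmooth k K ↔ Subsingleton (H1Cotangent k K) :=
  ⟨fun h => h.subsingleton_h1Cotangent, fun h => ⟨inferInstance, h⟩⟩

/-- S2117 in any positive characteristic. -/
theorem isGeometricallyReduced_iff_injective (p : ℕ) [Fact p.Prime] [CharP k p] :
    Algebra.IsGeometricallyReduced k K ↔
      Function.Injective (KaehlerDifferential.mapBaseChange ℤ k K) := by
  haveI : CharP K p := charP_of_injective_algebraMap (algebraMap k K).injective p
  letI := ZMod.algebra k p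
  letI := ZMod.algebra K p
  haveI : IsScalarTower (ZMod p) k K := IsScalarTower.of_algebraMap_eq (fun x =>
    RingHom.congr_fun (Subsingleton.elim (algebraMap (ZMod p) K)
      ((algebraMap k K).comp (algebraMap (ZMod p) k))) x)
  haveI : Algebra.FormallySmooth (ZMod p) K := Groth.Agent.H47.formallySmooth_of_perfectField_field
  rw [injective_mapBaseChange_iff (h1_map_eq_zero_of_formallySmooth (ZMod p)),
    ← formallySmooth_iff_subsingleton_h1,
    Groth.Agent.H47.formallySmooth_field_iff_isGeometricallyReduced]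

end Fields

end Groth.Agent.H96.SepKaehler
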