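import Mathlib
import Groth.Agent.H96.SepKaehler

/-!
# Separability, imperfection module, and extension of derivations (helper library for S4523)
-/

set_option autoImplicit false
set_option linter.style.haveILetI false
universe u

namespace Groth.Agent.H96.SepKaehler

open Algebra KaehlerDifferential TensorProduct

variable {k K : Type u} [Field k] [Field K] [Algebra k K]

/-- separable iff `K ⊗ Ω_{k/ℤ} → Ω_{K/ℤ}` injective, in any characteristic. -/
theorem isGeometricallyReduced_iff_injective' :
    Algebra.IsGeometricallyReduced k K ↔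
      Function.Injective (KaehlerDifferential.mapBaseChange ℤ k K) := by
  obtain h0 | ⟨p, hp, hpk⟩ := CharP.exists' k
  · haveI : CharZero K := charZero_of_injective_algebraMap (algebraMap k K).injective
    haveI : IsScalarTower ℚ k K := IsScalarTower.of_algebraMap_eq (fun x =>
      RingHom.congr_fun (RingHom.ext_rat (algebraMap ℚ K)
        ((algebraMap k K).comp (algebraMap ℚ k))) x)
    haveI : Algebra.FormallySmooth ℚ K := Groth.Agent.H47.formallySmooth_of_perfectField_field
    rw [injective_mapBaseChange_iff (h1_map_eq_zero_of_formallySmooth ℚ),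
      ← formallySmooth_iff_subsingleton_h1,
      Groth.Agent.H47.formallySmooth_field_iff_isGeometricallyReduced]
  · haveI := hp
    exact isGeometricallyReduced_iff_injective p

/-- injectivity of `K ⊗ Ω_{k/ℤ} → Ω_{K/ℤ}` iff every derivation `k → K` extends to `K`. -/
theorem injective_iff_derivation_extends :
    Function.Injective (KaehlerDifferential.mapBaseChange ℤ k K) ↔
      ∀ D : Derivation ℤ k K, ∃ D' : Derivation ℤ K K, ∀ a : k, D' (algebraMap k K a) = D a := by
  constructor
  · intro hinj D
    -- the `K`-linear functional on `K ⊗ Ω_k` attached to `D`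
    let φ : K ⊗[k] Ω[k⁄ℤ] →ₗ[K] K := LinearMap.liftBaseChange K D.liftKaehlerDifferential
    obtain ⟨g, hg⟩ := LinearMap.exists_leftInverse_of_injective
      (KaehlerDifferential.mapBaseChange ℤ k K) (LinearMap.ker_eq_bot.2 hinj)
    let L : Ω[K⁄ℤ] →ₗ[K] K := φ ∘ₗ g
    refine ⟨L.compDer (KaehlerDifferential.D ℤ K), fun a => ?_⟩
    show φ (g (KaehlerDifferential.D ℤ K (algebraMap k K a))) = D a
    have h1 : KaehlerDifferential.D ℤ K (algebraMap k K a) =
        KaehlerDifferential.mapBaseChange ℤ k K ((1 : K) ⊗ₜ[k] KaehlerDifferential.D ℤ k a) := by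
      rw [KaehlerDifferential.mapBaseChange_tmul, one_smul, KaehlerDifferential.map_D]
    rw [h1]
    have h2 : g (KaehlerDifferential.mapBaseChange ℤ k K
        ((1 : K) ⊗ₜ[k] KaehlerDifferential.D ℤ k a)) = (1 : K) ⊗ₜ[k] KaehlerDifferential.D ℤ k a :=
      LinearMap.congr_fun hg _
    rw [h2]
    show LinearMap.liftBaseChange K D.liftKaehlerDifferential
      ((1 : K) ⊗ₜ[k] KaehlerDifferential.D ℤ k a) = D a
    rw [LinearMap.liftBaseChange_tmul, one_smul, Derivation.liftKaehlerDifferential_comp_D]
  · intro hext
    rw [injective_iff_map_eq_zero]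
    intro x hx
    by_contra hx0
    obtain ⟨φ, hφ⟩ : ∃ φ : Module.Dual K (K ⊗[k] Ω[k⁄ℤ]), φ x ≠ 0 := by
      by_contra hcon
      push Not at hcon
      exact hx0 ((Module.forall_dual_apply_eq_zero_iff K x).1 hcon)
    -- derivation attached to `φ`
    let l : Ω[k⁄ℤ] →ₗ[k] K := (φ.restrictScalars k) ∘ₗ (TensorProduct.mk k K (Ω[k⁄ℤ]) 1)
    obtain ⟨D', hD'⟩ := hext (l.compDer (KaehlerDifferential.D ℤ k))
    have key1 : ∀ ω : Ω[k⁄ℤ], D'.liftKaehlerDifferential (KaehlerDifferential.map ℤ ℤ k K ω) =
        φ ((1 : K) ⊗ₜ[k] ω) := by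
      have : (D'.liftKaehlerDifferential.restrictScalars k) ∘ₗ
          (KaehlerDifferential.map ℤ ℤ k K) = l := by
        apply Derivation.liftKaehlerDifferential_unique
        ext a
        show D'.liftKaehlerDifferential (KaehlerDifferential.map ℤ ℤ k K
          (KaehlerDifferential.D ℤ k a)) = l (KaehlerDifferential.D ℤ k a)
        rw [KaehlerDifferential.map_D, Derivation.liftKaehlerDifferential_comp_D, hD']
        rfl
      intro ω
      exact LinearMap.congr_fun this ω
    have key : ∀ y, D'.liftKaehlerDifferential (KaehlerDifferential.mapBaseChange ℤ k K y) =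
        φ y := by
      intro y
      induction y using TensorProduct.induction_on with
      | zero => rw [map_zero, map_zero, map_zero]
      | tmul c ω =>
        rw [KaehlerDifferential.mapBaseChange_tmul, map_smul, key1,
          ← map_smul, TensorProduct.smul_tmul', smul_eq_mul, mul_one]
      | add a b ha hb => rw [map_add, map_add, map_add, ha, hb]
    apply hφ
    rw [← key, hx, map_zero]

end Groth.Agent.H96.SepKaehler
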