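import Mathlib
import Groth.Agent.H96.CartierTower
import Groth.Agent.H96.SepKaehler2

/-!
# Simple extensions: the index of `M ⊗_L Ω_L → Ω_M` is `0` (algebraic) or `-1` (transcendental)
-/

set_option autoImplicit false
set_option linter.style.haveILetI false
set_option linter.unusedSectionVars false
universe u

namespace Groth.Agent.H96.Cartier

open KaehlerDifferential TensorProduct Module Algebra Groth.Agent.H96.Fred

section Span

variable (K L : Type u) [Field K] [Field L] [Algebra K L]

/-- elements whose differential lies in the span of the differentials of `s`. -/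
noncomputable def goodField (s : Set L) : IntermediateField K L where
  carrier := {y | D K L y ∈ Submodule.span L (D K L '' s)}
  mul_mem' := by
    intro a b ha hb
    show D K L (a * b) ∈ Submodule.span L (D K L '' s)
    rw [Derivation.leibniz]
    exact Submodule.add_mem _ (Submodule.smul_mem _ _ hb) (Submodule.smul_mem _ _ ha)
  add_mem' := by
    intro a b ha hb
    show D K L (a + b) ∈ Submodule.span L (D K L '' s)
    rw [map_add]
    exact Submodule.add_mem _ ha hb
  algebraMap_mem' := by
    intro c
    show D K L (algebraMap K L c) ∈ Submodule.span L (D K L '' s)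
    rw [Derivation.map_algebraMap]
    exact Submodule.zero_mem _
  inv_mem' := by
    intro a ha
    show D K L a⁻¹ ∈ Submodule.span L (D K L '' s)
    rw [Derivation.leibniz_inv]
    exact Submodule.smul_mem _ _ ha

theorem span_D_eq_top (s : Set L) (hs : IntermediateField.adjoin K s = ⊤) :
    Submodule.span L (D K L '' s) = ⊤ := by
  have h1 : IntermediateField.adjoin K s ≤ goodField K L s := by
    rw [IntermediateField.adjoin_le_iff]
    intro y hy
    exact Submodule.subset_span ⟨y, hy, rfl⟩
  rw [hs] at h1
  rw [_root_.eq_top_iff, ← span_range_derivation, Submodule.span_le]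
  rintro _ ⟨y, rfl⟩
  exact h1 (show y ∈ (⊤ : IntermediateField K L) from trivial)

theorem finite_kaehler (s : Finset L) (hs : IntermediateField.adjoin K (s : Set L) = ⊤) :
    Module.Finite L (Ω[L⁄K]) ∧ finrank L (Ω[L⁄K]) ≤ s.card := by
  classical
  have h1 := span_D_eq_top K L (s : Set L) hs
  have hfin : ((D K L) '' (s : Set L)).Finite := s.finite_toSet.image _
  refine ⟨⟨?_⟩, ?_⟩
  · rw [← h1]
    exact Submodule.fg_span hfin
  · have h2 : (s.image (D K L) : Set (Ω[L⁄K])) = D K L '' (s : Set L) := Finset.coe_image
    rw [← h2] at h1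
    calc finrank L (Ω[L⁄K]) = finrank L (⊤ : Submodule L (Ω[L⁄K])) := (finrank_top L (Ω[L⁄K])).symm
      _ = finrank L (Submodule.span L (s.image (D K L) : Set (Ω[L⁄K]))) := by rw [h1]
      _ ≤ (s.image (D K L)).card := finrank_span_finset_le_card _
      _ ≤ s.card := Finset.card_image_le

end Span

section Delta

variable (K L : Type u) [Field K] [Field L] [Algebra K L]

theorem h1_map_eq_zero (y : H1Cotangent ℤ L) : H1Cotangent.map ℤ K L L y = 0 := by
  obtain h0 | ⟨p, hp, hpk⟩ := CharP.exists' K
  · haveI : CharZero L := charZero_of_injective_algebraMap (algebraMap K L).injective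
    haveI : IsScalarTower ℚ K L := IsScalarTower.of_algebraMap_eq (fun x =>
      RingHom.congr_fun (RingHom.ext_rat (algebraMap ℚ L)
        ((algebraMap K L).comp (algebraMap ℚ K))) x)
    haveI : Algebra.FormallySmooth ℚ L := Groth.Agent.H47.formallySmooth_of_perfectField_field
    exact Groth.Agent.H96.SepKaehler.h1_map_eq_zero_of_formallySmooth ℚ y
  · haveI := hp
    haveI : CharP L p := charP_of_injective_algebraMap (algebraMap K L).injective p
    letI := ZMod.algebra K p
    letI := ZMod.algebra L p
    haveI : IsScalarTower (ZMod p) K L := IsScalarTower.of_algebraMap_eq (fun x =>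
      RingHom.congr_fun (Subsingleton.elim (algebraMap (ZMod p) L)
        ((algebraMap K L).comp (algebraMap (ZMod p) K))) x)
    haveI : Algebra.FormallySmooth (ZMod p) L :=
      Groth.Agent.H47.formallySmooth_of_perfectField_field
    exact Groth.Agent.H96.SepKaehler.h1_map_eq_zero_of_formallySmooth (ZMod p) y

theorem δ_injective : Function.Injective (H1Cotangent.δ ℤ K L) := by
  rw [injective_iff_map_eq_zero]
  intro x hx
  obtain ⟨y, rfl⟩ := (H1Cotangent.exact_map_δ ℤ K L x).1 hx
  exact h1_map_eq_zero K L y

/-- the first cotangent homology of a field extension is the imperfection module. -/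
noncomputable def h1EquivKer : H1Cotangent K L ≃ₗ[L] LinearMap.ker (u K L) :=
  (LinearEquiv.ofInjective (H1Cotangent.δ ℤ K L) (δ_injective K L)).trans
    (LinearEquiv.ofEq _ _ (LinearMap.exact_iff.1 (H1Cotangent.exact_δ_mapBaseChange ℤ K L)).symm)

end Delta

section AlgSimple

variable (L M : Type u) [Field L] [Field M] [Algebra L M] (x : M)

theorem aeval_surjective (hx : IsAlgebraic L x) (htop : IntermediateField.adjoin L {x} = ⊤) :
    Function.Surjective (MvPolynomial.aeval (R := L) (fun _ : Unit => x)) := by
  have h1 : (IntermediateField.adjoin L {x}).toSubalgebra = Algebra.adjoin L {x} :=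
    IntermediateField.adjoin_simple_toSubalgebra_of_isAlgebraic hx
  have h2 : Algebra.adjoin L {x} = ⊤ := by
    rw [← h1, htop]
    rfl
  have h3 : Algebra.adjoin L (Set.range (fun _ : Unit => x)) =
      (MvPolynomial.aeval (R := L) (fun _ : Unit => x)).range :=
    Algebra.adjoin_range_eq_range_aeval L _
  rw [Set.range_const, h2] at h3
  intro y
  have : y ∈ (MvPolynomial.aeval (R := L) (fun _ : Unit => x)).range := by
    rw [← h3]; trivial
  exact this

/-- the one-variable presentation of a simple algebraic extension. -/
noncomputable def gens (hx : IsAlgebraic L x) (htop : IntermediateField.adjoin L {x} = ⊤) :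
    Generators L M Unit :=
  Generators.ofSurjective (fun _ : Unit => x) (aeval_surjective L M x hx htop)

instance : IsPrincipalIdealRing (MvPolynomial Unit L) :=
  IsPrincipalIdealRing.of_surjective
    ((MvPolynomial.uniqueAlgEquiv L Unit).symm : Polynomial L →+* MvPolynomial Unit L)
    (MvPolynomial.uniqueAlgEquiv L Unit).symm.surjective

theorem ker_ne_bot (hx : IsAlgebraic L x) (htop : IntermediateField.adjoin L {x} = ⊤) :
    (gens L M x hx htop).ker ≠ ⊥ := by
  obtain ⟨p, hp0, hp⟩ := id hx
  intro hbot
  let q : MvPolynomial Unit L := (MvPolynomial.uniqueAlgEquiv L Unit).symm p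
  have hq : q ∈ (gens L M x hx htop).ker := by
    show MvPolynomial.aeval (fun _ : Unit => x) q = 0
    have h1 : (MvPolynomial.aeval (R := L) (fun _ : Unit => x)).comp
        ((MvPolynomial.uniqueAlgEquiv L Unit).symm : Polynomial L →ₐ[L] MvPolynomial Unit L) =
        Polynomial.aeval x := by
      apply Polynomial.algHom_ext
      simp
    have h2 := AlgHom.congr_fun h1 p
    rw [AlgHom.comp_apply] at h2
    exact h2.trans hp
  rw [hbot] at hq
  have : q = 0 := hq
  exact hp0 ((MvPolynomial.uniqueAlgEquiv L Unit).symm.injective (this.trans (map_zero _).symm))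

theorem finrank_cotangent (hx : IsAlgebraic L x) (htop : IntermediateField.adjoin L {x} = ⊤) :
    finrank M (gens L M x hx htop).toExtension.Cotangent = 1 := by
  classical
  set P := gens L M x hx htop with hP
  let I : Ideal (MvPolynomial Unit L) := P.ker
  have hI : I.IsPrincipal := IsPrincipalIdealRing.principal I
  let f := Submodule.IsPrincipal.generator I
  have hf : Ideal.span {f} = I := Ideal.span_singleton_generator I
  have hfI : f ∈ I := Submodule.IsPrincipal.generator_mem I
  have hf0 : f ≠ 0 := by
    intro h0
    apply ker_ne_bot L M x hx htop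
    show I = ⊥
    rw [← hf, h0]
    exact Ideal.span_singleton_eq_bot.2 rfl
  have hItop : I ≠ ⊤ := by
    intro h
    have h1 : (1 : MvPolynomial Unit L) ∈ I := by rw [h]; trivial
    have h2 : MvPolynomial.aeval (R := L) (fun _ : Unit => x) (1 : MvPolynomial Unit L) = 0 := h1
    rw [map_one] at h2
    exact one_ne_zero h2
  have hr : (Set.range fun _ : Unit => f) = {f} := Set.range_const
  have hspan := Extension.Cotangent.span_eq_top_of_span_eq_ker (P := P.toExtension)
    (fun _ : Unit => f) (by
      show Ideal.span (Set.range fun _ : Unit => f) = I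
      rw [hr]; exact hf)
  set v : P.toExtension.Cotangent := Extension.Cotangent.mk ⟨f, hf.le (Ideal.subset_span rfl)⟩
    with hv
  have hspan' : Submodule.span M ({v} : Set P.toExtension.Cotangent) = ⊤ := by
    have hrv : (Set.range fun _ : Unit => v) = {v} := Set.range_const
    rw [← hrv]
    exact hspan
  have hv0 : v ≠ 0 := by
    intro h0
    rw [hv, Extension.Cotangent.mk_eq_zero_iff] at h0
    have h1 : f ∈ I ^ 2 := h0
    rw [← hf, Ideal.span_singleton_pow, Ideal.mem_span_singleton] at h1
    obtain ⟨g, hg⟩ := h1
    have h2 : f * (1 - f * g) = 0 := by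
      rw [mul_sub, mul_one, ← mul_assoc, ← pow_two, ← hg, sub_self]
    have h3 : 1 - f * g = 0 := (mul_eq_zero.1 h2).resolve_left hf0
    apply hItop
    rw [Ideal.eq_top_iff_one]
    have : (1 : MvPolynomial Unit L) = f * g := sub_eq_zero.1 h3
    rw [this]
    exact Ideal.mul_mem_right _ _ hfI
  rw [finrank_eq_one_iff']
  refine ⟨v, hv0, fun w => ?_⟩
  have hw : w ∈ Submodule.span M {v} := by rw [hspan']; trivial
  obtain ⟨c, hc⟩ := Submodule.mem_span_singleton.1 hw
  exact ⟨c, hc⟩

theorem finrank_h1_eq (hx : IsAlgebraic L x) (htop : IntermediateField.adjoin L {x} = ⊤) :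
    finrank M (H1Cotangent L M) = finrank M (Ω[M⁄L]) := by
  set P := gens L M x hx htop with hP
  have h1 : finrank M P.toExtension.Cotangent = 1 := finrank_cotangent L M x hx htop
  have h2 : finrank M P.toExtension.CotangentSpace = 1 := by
    rw [finrank_eq_card_basis P.cotangentSpaceBasis]
    rfl
  haveI : FiniteDimensional M P.toExtension.Cotangent := by
    apply Module.finite_of_finrank_pos
    rw [h1]; exact Nat.one_pos
  haveI : FiniteDimensional M P.toExtension.CotangentSpace := by
    apply Module.finite_of_finrank_pos
    rw [h2]; exact Nat.one_pos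
  have h3 : P.toExtension.cotangentComplex.index = 0 := by
    rw [LinearMap.index_eq_of_finiteDimensional, h1, h2]
    simp
  have e1 : P.toExtension.H1Cotangent ≃ₗ[M] H1Cotangent L M := P.equivH1Cotangent
  have e2 : (P.toExtension.CotangentSpace ⧸ LinearMap.range P.toExtension.cotangentComplex)
      ≃ₗ[M] Ω[M⁄L] :=
    (Submodule.quotEquivOfEq _ _
      (LinearMap.exact_iff.1 P.toExtension.exact_cotangentComplex_toKaehler).symm).trans
      (P.toExtension.toKaehler.quotKerEquivOfSurjective P.toExtension.toKaehler_surjective)
  rw [LinearMap.index_eq_finrank_sub, e2.finrank_eq] at h3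
  have h4 : finrank M (LinearMap.ker P.toExtension.cotangentComplex) =
      finrank M (H1Cotangent L M) := e1.finrank_eq
  omega

theorem isAlgebraic_of_algSimple (hx : IsAlgebraic L x)
    (htop : IntermediateField.adjoin L {x} = ⊤) : Algebra.IsAlgebraic L M := by
  have h1 : Algebra.IsAlgebraic L (IntermediateField.adjoin L {x}) :=
    IntermediateField.isAlgebraic_adjoin_simple hx.isIntegral
  constructor
  intro y
  have hy : y ∈ IntermediateField.adjoin L {x} := by rw [htop]; trivial
  have h2 := h1.isAlgebraic ⟨y, hy⟩
  exact IntermediateField.isAlgebraic_iff.1 h2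

theorem isFred_u_algSimple (hx : IsAlgebraic L x) (htop : IntermediateField.adjoin L {x} = ⊤) :
    IsFred (u L M) ∧ (u L M).index = 0 := by
  classical
  obtain ⟨hfin, -⟩ := finite_kaehler L M {x} (by simpa using htop)
  set P := gens L M x hx htop with hP
  have h1 : finrank M P.toExtension.Cotangent = 1 := finrank_cotangent L M x hx htop
  haveI : FiniteDimensional M P.toExtension.Cotangent := by
    apply Module.finite_of_finrank_pos
    rw [h1]; exact Nat.one_pos
  haveI : FiniteDimensional M P.toExtension.H1Cotangent :=
    inferInstanceAs (FiniteDimensional M (LinearMap.ker P.toExtension.cotangentComplex))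
  haveI : FiniteDimensional M (H1Cotangent L M) := Module.Finite.equiv P.equivH1Cotangent
  have hker : FiniteDimensional M (LinearMap.ker (u L M)) := Module.Finite.equiv (h1EquivKer L M)
  have hF : IsFred (u L M) := (isFred_u_iff L M).2 ⟨hker, hfin⟩
  refine ⟨hF, ?_⟩
  rw [index_u]
  have h2 : finrank M (EGA41.imperfection ℤ L M) = finrank M (H1Cotangent L M) :=
    (h1EquivKer L M).finrank_eq.symm
  rw [h2, finrank_h1_eq L M x hx htop, sub_self]

end AlgSimple

section TransSimple

variable (L M : Type u) [Field L] [Field M] [Algebra L M] (x : M)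

theorem trdeg_transSimple (hx : Transcendental L x)
    (htop : IntermediateField.adjoin L {x} = ⊤) : Algebra.trdeg L M = 1 := by
  have h1 : Algebra.IsAlgebraic (IntermediateField.adjoin L {x}) M := by
    constructor
    intro y
    have hy : y ∈ IntermediateField.adjoin L {x} := by rw [htop]; trivial
    exact isAlgebraic_algebraMap (⟨y, hy⟩ : IntermediateField.adjoin L {x})
  have h2 : Algebra.IsAlgebraic (Algebra.adjoin L {x}) M :=
    IntermediateField.isAlgebraic_adjoin_iff_top.1 h1
  have h3 : Algebra.trdeg L M ≤ 1 := by
    have := Algebra.IsAlgebraic.trdeg_le_cardinalMk L ({x} : Set M)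
    simpa using this
  haveI h4 : Algebra.Transcendental L M := ⟨⟨x, hx⟩⟩
  have h5 : 0 < Algebra.trdeg L M := trdeg_pos L M
  exact le_antisymm h3 (Cardinal.one_le_iff_pos.2 h5)

theorem isFred_u_transSimple (hx : Transcendental L x)
    (htop : IntermediateField.adjoin L {x} = ⊤) :
    IsFred (u L M) ∧ (u L M).index = -1 := by
  classical
  have hai : AlgebraicIndependent L (fun _ : Unit => x) :=
    algebraicIndependent_unique_type_iff.2 hx
  haveI : Algebra.FormallySmooth L M :=
    Algebra.FormallySmooth.of_algebraicIndependent hai (by rw [Set.range_const]; exact htop)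
  haveI : Subsingleton (H1Cotangent L M) := Algebra.FormallySmooth.subsingleton_h1Cotangent
  haveI : Subsingleton (LinearMap.ker (u L M)) := (h1EquivKer L M).symm.toEquiv.subsingleton
  obtain ⟨hfin, hle⟩ := finite_kaehler L M {x} (by simpa using htop)
  have hker : Module.Finite M (LinearMap.ker (u L M)) := inferInstance
  have hF := (isFred_u_iff L M).2 ⟨hker, hfin⟩
  refine ⟨hF, ?_⟩
  rw [index_u]
  have h0 : finrank M (EGA41.imperfection ℤ L M) = 0 :=
    finrank_zero_of_subsingleton (M := LinearMap.ker (u L M))
  have h1 : finrank M (Ω[M⁄L]) = 1 := by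
    refine le_antisymm (by simpa using hle) ?_
    by_contra hlt
    have h00 : finrank M (Ω[M⁄L]) = 0 := by omega
    haveI : Subsingleton (Ω[M⁄L]) := Module.finrank_zero_iff.1 h00
    haveI : Algebra.FormallyUnramified L M := ⟨inferInstance⟩
    haveI : Algebra.EssFiniteType L M :=
      IntermediateField.fg_top_iff.1 ⟨{x}, by simpa using htop⟩
    haveI := Algebra.FormallyUnramified.isSeparable L M
    exact hx (Algebra.IsAlgebraic.isAlgebraic x)
  rw [h0, h1]
  simp

end TransSimple

end Groth.Agent.H96.Cartier
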