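import Mathlib
import Groth.Agent.H96.CartierSimple

/-!
# Cartier's equality for finitely generated field extensions
-/

set_option autoImplicit false
set_option linter.style.haveILetI false
set_option linter.unusedSectionVars false
universe u

namespace Groth.Agent.H96.Cartier

open KaehlerDifferential TensorProduct Module Algebra Groth.Agent.H96.Fred

theorem isFred_u_of_card : ∀ (n : ℕ) (K L : Type u) [Field K] [Field L] [Algebra K L],
    (∃ s : Finset L, s.card ≤ n ∧ IntermediateField.adjoin K (s : Set L) = ⊤) →
    ∃ d : ℕ, Algebra.trdeg K L = d ∧ IsFred (u K L) ∧ (u K L).index = -(d : ℤ) := by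
  classical
  -- the case of no generators
  have base : ∀ (K L : Type u) [Field K] [Field L] [Algebra K L],
      IntermediateField.adjoin K (∅ : Set L) = ⊤ →
      ∃ d : ℕ, Algebra.trdeg K L = d ∧ IsFred (u K L) ∧ (u K L).index = -(d : ℤ) := by
    intro K L _ _ _ h
    have h1 : IsAlgebraic K (1 : L) := isAlgebraic_one
    have h2 : IntermediateField.adjoin K {(1 : L)} = ⊤ := by
      rw [IntermediateField.adjoin_one, ← IntermediateField.adjoin_empty, h]
    obtain ⟨h3, h4⟩ := isFred_u_algSimple K L 1 h1 h2
    haveI := isAlgebraic_of_algSimple K L 1 h1 h2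
    refine ⟨0, ?_, h3, ?_⟩
    · rw [trdeg_eq_zero]; simp
    · rw [h4]; simp
  intro n
  induction n with
  | zero =>
    intro K L _ _ _ hs
    obtain ⟨s, hs0, hs⟩ := hs
    have : s = ∅ := Finset.card_eq_zero.1 (Nat.le_zero.1 hs0)
    subst this
    exact base K L (by simpa using hs)
  | succ n ih =>
    intro K L _ _ _ hs
    obtain ⟨s, hsn, hs⟩ := hs
    rcases s.eq_empty_or_nonempty with h0 | ⟨x, hx⟩
    · subst h0
      exact base K L (by simpa using hs)
    · set s' := s.erase x with hs'
      let F : IntermediateField K L := IntermediateField.adjoin K (s' : Set L)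
      let s'' : Finset F := s'.attach.image
        (fun y => (⟨y.1, IntermediateField.subset_adjoin K _ y.2⟩ : F))
      have hval : Subtype.val '' (s'' : Set F) = (s' : Set L) := by
        ext y
        simp only [Set.mem_image, Finset.mem_coe, s'', Finset.mem_image, Finset.mem_attach,
          true_and]
        constructor
        · rintro ⟨z, ⟨w, rfl⟩, rfl⟩
          exact w.2
        · intro hy
          exact ⟨⟨y, IntermediateField.subset_adjoin K _ hy⟩, ⟨⟨y, hy⟩, rfl⟩, rfl⟩
      have hcard : s''.card ≤ n := by
        calc s''.card ≤ s'.attach.card := Finset.card_image_le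
          _ = s'.card := Finset.card_attach
          _ = s.card - 1 := Finset.card_erase_of_mem hx
          _ ≤ n := by omega
      have htopF : IntermediateField.adjoin K (s'' : Set F) = ⊤ := by
        apply IntermediateField.lift_injective F
        rw [IntermediateField.lift_adjoin, IntermediateField.lift_top, hval]
      obtain ⟨d, hd, hF1, hF2⟩ := ih K F ⟨s'', hcard, htopF⟩
      have htopL : IntermediateField.adjoin F {x} = ⊤ := by
        rw [← IntermediateField.restrictScalars_eq_top_iff (K := K),
          IntermediateField.adjoin_adjoin_left, ← hs]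
        congr 1
        rw [hs', Finset.coe_erase, Set.sdiff_union_self, Set.union_singleton,
          Set.insert_eq_of_mem (Finset.mem_coe.2 hx)]
      have hadd := trdeg_add_eq K F (A := L)
      by_cases hxa : IsAlgebraic F x
      · obtain ⟨h3, h4⟩ := isFred_u_algSimple F L x hxa htopL
        haveI := isAlgebraic_of_algSimple F L x hxa htopL
        obtain ⟨h5, h6⟩ := isFred_u_tower hF1 h3
        refine ⟨d, ?_, h5, ?_⟩
        · rw [← hadd, hd, trdeg_eq_zero, add_zero]
        · rw [h6, h4, hF2, zero_add]
      · have hxt : Transcendental F x := hxa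
        obtain ⟨h3, h4⟩ := isFred_u_transSimple F L x hxt htopL
        obtain ⟨h5, h6⟩ := isFred_u_tower hF1 h3
        refine ⟨d + 1, ?_, h5, ?_⟩
        · rw [← hadd, hd, trdeg_transSimple F L x hxt htopL]
          push_cast
          rfl
        · rw [h6, h4, hF2]
          push_cast
          ring

/-- **Cartier's equality**: for a finitely generated field extension `L/K`, the map
`L ⊗_K Ω_K → Ω_L` has finite-dimensional kernel and cokernel and index `- trdeg_K L`. -/
theorem cartier (K L : Type u) [Field K] [Field L] [Algebra K L] [Algebra.EssFiniteType K L] :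
    Module.Finite L (Ω[L⁄K]) ∧ Module.Finite L (EGA41.imperfection ℤ K L) ∧
      (Module.finrank L (Ω[L⁄K]) : ℤ) - Module.finrank L (EGA41.imperfection ℤ K L) =
        Cardinal.toNat (Algebra.trdeg K L) := by
  obtain ⟨s, hs⟩ := IntermediateField.fg_top K L
  obtain ⟨d, hd, h1, h2⟩ := isFred_u_of_card s.card K L ⟨s, le_rfl, hs⟩
  obtain ⟨h3, h4⟩ := (isFred_u_iff K L).1 h1
  refine ⟨h4, h3, ?_⟩
  rw [index_u] at h2
  rw [hd, Cardinal.toNat_natCast]
  omega

end Groth.Agent.H96.Cartier
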