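import Mathlib
import Groth.Agent.H96.CartierMain

/-!
# Relative forms of Cartier's equality: `Υ_{L/K/k}` is a quotient of `Υ_{L/K/ℤ}`
-/

set_option autoImplicit false
set_option linter.style.haveILetI false
set_option linter.unusedSectionVars false
universe u

namespace Groth.Agent.H96.Cartier

open KaehlerDifferential TensorProduct Module Algebra Groth.Agent.H96.Fred

section Rel

variable (k K L : Type u) [Field k] [Field K] [Field L] [Algebra k K] [Algebra K L] [Algebra k L]
  [IsScalarTower k K L]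

theorem map_comm (ω : Ω[K⁄ℤ]) :
    KaehlerDifferential.map ℤ k L L (KaehlerDifferential.map ℤ ℤ K L ω) =
      KaehlerDifferential.map k k K L (KaehlerDifferential.map ℤ k K K ω) := by
  have hω : ω ∈ Submodule.span K (Set.range (D ℤ K)) := by
    rw [span_range_derivation]; trivial
  induction hω using Submodule.span_induction with
  | mem x hx =>
    obtain ⟨a, rfl⟩ := hx
    rw [map_D, map_D, map_D, map_D]
    rfl
  | zero => rw [map_zero, map_zero, map_zero, map_zero]
  | add a b _ _ ha hb => rw [map_add, map_add, map_add, map_add, ha, hb]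
  | smul c a _ ha =>
    have h1 : KaehlerDifferential.map ℤ ℤ K L (c • a) =
        algebraMap K L c • KaehlerDifferential.map ℤ ℤ K L a := by
      rw [LinearMap.map_smul, algebraMap_smul]
    have h2 : KaehlerDifferential.map k k K L (c • KaehlerDifferential.map ℤ k K K a) =
        algebraMap K L c • KaehlerDifferential.map k k K L (KaehlerDifferential.map ℤ k K K a) := by
      rw [LinearMap.map_smul, algebraMap_smul]
    rw [h1, LinearMap.map_smul, LinearMap.map_smul, h2, ha]

/-- `L ⊗_K Ω_{K/ℤ} → L ⊗_K Ω_{K/k}`. -/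
noncomputable def ρ : L ⊗[K] Ω[K⁄ℤ] →ₗ[L] L ⊗[K] Ω[K⁄k] :=
  (KaehlerDifferential.map ℤ k K K).baseChange L

theorem ρ_surjective : Function.Surjective (ρ k K L) :=
  LinearMap.lTensor_surjective L (KaehlerDifferential.map_surjective ℤ k K)

theorem ρ_comm (t : L ⊗[K] Ω[K⁄ℤ]) :
    KaehlerDifferential.map ℤ k L L (mapBaseChange ℤ K L t) = mapBaseChange k K L (ρ k K L t) := by
  induction t using TensorProduct.induction_on with
  | zero => rw [map_zero, map_zero, map_zero, map_zero]
  | add a b ha hb => rw [map_add, map_add, map_add, map_add, ha, hb]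
  | tmul l ω =>
    rw [ρ, LinearMap.baseChange_tmul, mapBaseChange_tmul, mapBaseChange_tmul,
      LinearMap.map_smul, map_comm]

theorem map_map_eq_zero (ω : Ω[k⁄ℤ]) :
    KaehlerDifferential.map ℤ k K K (KaehlerDifferential.map ℤ ℤ k K ω) = 0 := by
  have h := (exact_mapBaseChange_map ℤ k K ((KaehlerDifferential.map ℤ ℤ k K ω))).2
    ⟨(1 : K) ⊗ₜ[k] ω, by rw [mapBaseChange_tmul, one_smul]⟩
  exact h

/-- every element in the image of `L ⊗_k Ω_k → Ω_L` comes from an element of `L ⊗_K Ω_K`
killed by `ρ`. -/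
theorem exists_lift (η : L ⊗[k] Ω[k⁄ℤ]) :
    ∃ η' : L ⊗[K] Ω[K⁄ℤ], mapBaseChange ℤ K L η' = mapBaseChange ℤ k L η ∧ ρ k K L η' = 0 := by
  induction η using TensorProduct.induction_on with
  | zero => exact ⟨0, by rw [map_zero, map_zero], map_zero _⟩
  | add a b ha hb =>
    obtain ⟨a', ha1, ha2⟩ := ha
    obtain ⟨b', hb1, hb2⟩ := hb
    exact ⟨a' + b', by rw [map_add, map_add, ha1, hb1], by rw [map_add, ha2, hb2, add_zero]⟩
  | tmul l ω =>
    refine ⟨l ⊗ₜ[K] KaehlerDifferential.map ℤ ℤ k K ω, ?_, ?_⟩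
    · rw [mapBaseChange_tmul, mapBaseChange_tmul, map_map]
    · rw [ρ, LinearMap.baseChange_tmul, map_map_eq_zero, tmul_zero]

/-- the comparison map of imperfection modules. -/
noncomputable def imperfectionMap :
    EGA41.imperfection ℤ K L →ₗ[L] EGA41.imperfection k K L :=
  (ρ k K L).restrict (p := EGA41.imperfection ℤ K L) (q := EGA41.imperfection k K L) (by
    intro t ht
    have ht' : mapBaseChange ℤ K L t = 0 := ht
    show mapBaseChange k K L (ρ k K L t) = 0
    rw [← ρ_comm, ht', map_zero])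

theorem imperfectionMap_surjective : Function.Surjective (imperfectionMap k K L) := by
  rintro ⟨ω, hω⟩
  have hω' : mapBaseChange k K L ω = 0 := hω
  obtain ⟨ω', rfl⟩ := ρ_surjective k K L ω
  have h1 : KaehlerDifferential.map ℤ k L L (mapBaseChange ℤ K L ω') = 0 := by
    rw [ρ_comm, hω']
  obtain ⟨η, hη⟩ := (exact_mapBaseChange_map ℤ k L _).1 h1
  obtain ⟨η', h2, h3⟩ := exists_lift k K L η
  refine ⟨⟨ω' - η', ?_⟩, ?_⟩
  · show mapBaseChange ℤ K L (ω' - η') = 0
    rw [map_sub, h2, hη, sub_self]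
  · apply Subtype.ext
    show ρ k K L (ω' - η') = ρ k K L ω'
    rw [map_sub, h3, sub_zero]

theorem cartier_rel [Algebra.EssFiniteType K L] :
    Module.Finite L (Ω[L⁄K]) ∧ Module.Finite L (EGA41.imperfection k K L) ∧
      (Cardinal.toNat (Algebra.trdeg K L) : ℤ) ≤
        (Module.finrank L (Ω[L⁄K]) : ℤ) - Module.finrank L (EGA41.imperfection k K L) := by
  obtain ⟨h1, h2, h3⟩ := cartier K L
  have h4 : Module.Finite L (EGA41.imperfection k K L) :=
    Module.Finite.of_surjective _ (imperfectionMap_surjective k K L)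
  have h5 : Module.finrank L (EGA41.imperfection k K L) ≤
      Module.finrank L (EGA41.imperfection ℤ K L) :=
    LinearMap.finrank_le_finrank_of_surjective (imperfectionMap_surjective k K L)
  refine ⟨h1, h4, ?_⟩
  rw [← h3]
  omega

theorem cartier_rel' [Algebra.EssFiniteType k L] :
    Module.Finite L (Ω[L⁄k]) ∧ Module.Finite K (Ω[K⁄k]) ∧
      (Cardinal.toNat (Algebra.trdeg K L) : ℤ) ≤
        (Module.finrank L (Ω[L⁄k]) : ℤ) - Module.finrank K (Ω[K⁄k]) := by
  haveI : Algebra.EssFiniteType K L := Algebra.EssFiniteType.of_comp k K L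
  obtain ⟨h1, h2, h3⟩ := cartier_rel k K L
  have h4 : Module.Finite L (Ω[L⁄k]) := (cartier k L).1
  set f := mapBaseChange k K L with hf
  haveI : Module.Finite L (LinearMap.ker f) := h2
  haveI : Module.Finite L (LinearMap.range f) := inferInstance
  haveI : Module.Finite L ((L ⊗[K] Ω[K⁄k]) ⧸ LinearMap.ker f) :=
    Module.Finite.equiv f.quotKerEquivRange.symm
  have h5 : Module.Finite L (L ⊗[K] Ω[K⁄k]) := Module.Finite.of_submodule_quotient (LinearMap.ker f)
  have h6 : Module.Finite K (Ω[K⁄k]) := by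
    rw [← Module.rank_lt_aleph0_iff] at h5 ⊢
    rw [Module.rank_baseChange] at h5
    exact Cardinal.lift_lt_aleph0.1 h5
  refine ⟨h4, h6, ?_⟩
  have e2 : (Ω[L⁄k] ⧸ LinearMap.range f) ≃ₗ[L] Ω[L⁄K] :=
    (Submodule.quotEquivOfEq _ _
      (LinearMap.exact_iff.1 (exact_mapBaseChange_map k K L)).symm).trans
      ((KaehlerDifferential.map k K L L).quotKerEquivOfSurjective (map_surjective k K L))
  have h7 := LinearMap.index_eq_finrank_sub (f := f)
  rw [LinearMap.index_eq_of_finiteDimensional, e2.finrank_eq, Module.finrank_baseChange] at h7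
  have h8 : finrank L (LinearMap.ker f) = finrank L (EGA41.imperfection k K L) := rfl
  omega

end Rel

end Groth.Agent.H96.Cartier
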