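import Mathlib
import Groth.Prelude.Def_CAlgX

/-!
# Permanence of formal smoothness for an adic topology: base change, localization of the target,
composition with a formally smooth base extension
-/

set_option autoImplicit false
set_option linter.style.haveILetI false
set_option linter.unusedSectionVars false
universe u

namespace Groth.Agent.H96.AdicSmoothOps

open TensorProduct

attribute [local instance] Algebra.TensorProduct.rightAlgebra

/-- base change (the new base acting on the right factor). -/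
theorem baseChange {R S R' : Type u} [CommRing R] [CommRing S] [CommRing R'] [Algebra R S]
    [Algebra R R'] (𝔫 : Ideal S) (h : CAlgX.IsAdicFormallySmooth R S 𝔫) :
    CAlgX.IsAdicFormallySmooth R' (S ⊗[R] R') (𝔫.map (algebraMap S (S ⊗[R] R'))) := by
  intro E _ _ N hN ψ hψ
  obtain ⟨n, hn⟩ := hψ
  letI : Algebra R E := ((algebraMap R' E).comp (algebraMap R R')).toAlgebra
  haveI : IsScalarTower R R' E := IsScalarTower.of_algebraMap_eq' rfl
  let incl : S →ₐ[R] S ⊗[R] R' := Algebra.TensorProduct.includeLeft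
  let ψS : S →ₐ[R] E ⧸ N := (ψ.restrictScalars R).comp incl
  have hkill : ∀ x ∈ 𝔫 ^ n, ψS x = 0 := by
    intro x hx
    show ψ (incl x) = 0
    apply hn
    have : incl x ∈ (𝔫 ^ n).map (algebraMap S (S ⊗[R] R')) := Ideal.mem_map_of_mem _ hx
    rwa [Ideal.map_pow] at this
  obtain ⟨χS, hχS⟩ := h E N hN ψS ⟨n, hkill⟩
  let χ₀ : S ⊗[R] R' →ₐ[R] E :=
    Algebra.TensorProduct.productMap χS ((Algebra.ofId R' E).restrictScalars R)
  have hχ₀ : ∀ (s : S) (r : R'), χ₀ (s ⊗ₜ r) = χS s * algebraMap R' E r := fun s r => by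
    show (Algebra.TensorProduct.productMap χS ((Algebra.ofId R' E).restrictScalars R)) (s ⊗ₜ r) = _
    rw [Algebra.TensorProduct.productMap_apply_tmul]
    rfl
  let χ : S ⊗[R] R' →ₐ[R'] E :=
    { (χ₀ : S ⊗[R] R' →+* E) with
      commutes' := fun r => by
        show χ₀ ((1 : S) ⊗ₜ r) = _
        rw [hχ₀, map_one, one_mul] }
  refine ⟨χ, ?_⟩
  apply AlgHom.ext
  intro t
  induction t using TensorProduct.induction_on with
  | zero => rw [map_zero, map_zero]
  | add a b ha hb => rw [map_add, map_add, ha, hb]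
  | tmul s r =>
    show Ideal.Quotient.mk N (χ₀ (s ⊗ₜ r)) = ψ (s ⊗ₜ r)
    rw [hχ₀, map_mul]
    have h1 : Ideal.Quotient.mk N (χS s) = ψ (s ⊗ₜ 1) := AlgHom.congr_fun hχS s
    have h2 : Ideal.Quotient.mk N (algebraMap R' E r) = ψ ((1 : S) ⊗ₜ r) := by
      exact (ψ.commutes r).symm
    rw [h1, h2, ← map_mul, Algebra.TensorProduct.tmul_mul_tmul, mul_one, one_mul]

/-- localization of the target. -/
theorem localization {R S T : Type u} [CommRing R] [CommRing S] [CommRing T] [Algebra R S]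
    [Algebra S T] [Algebra R T] [IsScalarTower R S T] (M : Submonoid S) [IsLocalization M T]
    (𝔫 : Ideal S) (h : CAlgX.IsAdicFormallySmooth R S 𝔫) :
    CAlgX.IsAdicFormallySmooth R T (𝔫.map (algebraMap S T)) := by
  intro E _ _ N hN ψ hψ
  obtain ⟨n, hn⟩ := hψ
  let ψS : S →ₐ[R] E ⧸ N := ψ.comp (IsScalarTower.toAlgHom R S T)
  have hkill : ∀ x ∈ 𝔫 ^ n, ψS x = 0 := by
    intro x hx
    show ψ (algebraMap S T x) = 0
    apply hn
    have : algebraMap S T x ∈ (𝔫 ^ n).map (algebraMap S T) := Ideal.mem_map_of_mem _ hx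
    rwa [Ideal.map_pow] at this
  obtain ⟨χS, hχS⟩ := h E N hN ψS ⟨n, hkill⟩
  have hχS' : ∀ s, Ideal.Quotient.mk N (χS s) = ψ (algebraMap S T s) :=
    fun s => AlgHom.congr_fun hχS s
  have hunit : ∀ m : M, IsUnit ((χS : S →+* E) m) := by
    intro m
    rw [← IsNilpotent.isUnit_quotient_mk_iff (I := N) ⟨2, hN⟩]
    show IsUnit (Ideal.Quotient.mk N (χS m))
    rw [hχS']
    exact (IsLocalization.map_units T m).map ψ
  let χ₀ : T →+* E := IsLocalization.lift (M := M) (g := (χS : S →+* E)) hunit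
  have hχ₀ : ∀ s, χ₀ (algebraMap S T s) = χS s := fun s => IsLocalization.lift_eq _ s
  let χ : T →ₐ[R] E :=
    { χ₀ with
      commutes' := fun r => by
        show χ₀ (algebraMap R T r) = _
        rw [IsScalarTower.algebraMap_apply R S T, hχ₀, AlgHom.commutes] }
  refine ⟨χ, ?_⟩
  have hring : ((Ideal.Quotient.mkₐ R N).comp χ : T →+* E ⧸ N) = (ψ : T →+* E ⧸ N) := by
    apply IsLocalization.ringHom_ext M
    ext s
    show Ideal.Quotient.mk N (χ₀ (algebraMap S T s)) = ψ (algebraMap S T s)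
    rw [hχ₀, hχS']
  apply AlgHom.ext
  intro t
  exact RingHom.congr_fun hring t

/-- composition with a formally smooth extension of the base. -/
theorem comp_formallySmooth {R₀ R S : Type u} [CommRing R₀] [CommRing R] [CommRing S]
    [Algebra R₀ R] [Algebra R S] [Algebra R₀ S] [IsScalarTower R₀ R S]
    [Algebra.FormallySmooth R₀ R] (𝔫 : Ideal S) (h : CAlgX.IsAdicFormallySmooth R S 𝔫) :
    CAlgX.IsAdicFormallySmooth R₀ S 𝔫 := by
  intro E _ _ N hN ψ hψ
  let φ₀ : R →ₐ[R₀] E ⧸ N := ψ.comp (IsScalarTower.toAlgHom R₀ R S)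
  obtain ⟨φ, hφ⟩ := Algebra.FormallySmooth.exists_lift N ⟨2, hN⟩ φ₀
  have hφ' : ∀ r, Ideal.Quotient.mk N (φ r) = ψ (algebraMap R S r) :=
    fun r => AlgHom.congr_fun hφ r
  letI : Algebra R E := (φ : R →+* E).toAlgebra
  haveI : IsScalarTower R₀ R E := IsScalarTower.of_algebraMap_eq (fun c => (φ.commutes c).symm)
  let ψ' : S →ₐ[R] E ⧸ N :=
    { (ψ : S →+* E ⧸ N) with
      commutes' := fun r => by
        show ψ (algebraMap R S r) = Ideal.Quotient.mk N (φ r)
        rw [hφ'] }
  obtain ⟨χ', hχ'⟩ := h E N hN ψ' hψ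
  refine ⟨χ'.restrictScalars R₀, ?_⟩
  apply AlgHom.ext
  intro s
  exact AlgHom.congr_fun hχ' s

end Groth.Agent.H96.AdicSmoothOps
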