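import Mathlib
import Groth.Prelude.Def_Found
import Groth.Agent.H96.RegAdicSmooth
import Groth.Agent.H96.AdicSmoothOps
import Groth.Agent.H47.FSSep
import Groth.Agent.H29.RegCompl

/-!
# A Noetherian local algebra over a field, formally smooth for its adic topology, is geometrically
regular, and its completion is a power series ring over the residue field (EGA 0_IV 19.6.5, 22.5.8)
-/

set_option autoImplicit false
set_option linter.style.haveILetI false
set_option linter.unusedSectionVars false
universe u

namespace Groth.Agent.H96.GeomRegAdic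

open IsLocalRing TensorProduct

section Prime

variable (k : Type u) [Field k]

/-- the prime subfield is perfect. -/
theorem perfectField_bot : PerfectField (⊥ : Subfield k) := by
  obtain h0 | ⟨p, hp, hpk⟩ := CharP.exists' k
  · exact PerfectField.ofCharZero
  · haveI := hp
    letI := ZMod.algebra k p
    haveI : Finite (⊥ : Subfield k) := by
      rw [Subfield.bot_eq_of_zMod_algebra p]
      exact Set.finite_range _
    exact PerfectField.ofFinite

end Prime

section RegField

variable (k S : Type u) [Field k] [CommRing S] [IsLocalRing S] [IsNoetherianRing S] [Algebra k S]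

/-- data over the prime field. -/
theorem prime_data (h : CAlgX.IsAdicFormallySmooth k S (maximalIdeal S)) :
    ∃ (k₀ : Type u) (_ : Field k₀) (_ : Algebra k₀ S),
      Algebra.IsGeometricallyReduced k₀ (ResidueField S) ∧
        CAlgX.IsAdicFormallySmooth k₀ S (maximalIdeal S) := by
  let k₀ := (⊥ : Subfield k)
  haveI : PerfectField k₀ := perfectField_bot k
  haveI : Algebra.FormallySmooth k₀ k := Groth.Agent.H47.formallySmooth_of_perfectField_field
  haveI : Algebra.FormallySmooth k₀ (ResidueField S) :=
    Groth.Agent.H47.formallySmooth_of_perfectField_field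
  exact ⟨k₀, inferInstance, inferInstance,
    Groth.Agent.H47.isGeometricallyReduced_of_formallySmooth_field,
    Groth.Agent.H96.AdicSmoothOps.comp_formallySmooth (maximalIdeal S) h⟩

theorem regular_of_adic_field (h : CAlgX.IsAdicFormallySmooth k S (maximalIdeal S)) :
    IsRegularLocalRing S := by
  obtain ⟨k₀, _, _, hgr, h0⟩ := prime_data k S h
  exact Groth.Agent.H96.RegAdicSmooth.regular_of_adic k₀ S h0

theorem exists_ringEquiv_of_adic (h : CAlgX.IsAdicFormallySmooth k S (maximalIdeal S)) :
    ∃ n : ℕ, Nonempty (AdicCompletion (maximalIdeal S) S ≃+*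
      MvPowerSeries (Fin n) (ResidueField S)) := by
  obtain ⟨k₀, _, _, hgr, h0⟩ := prime_data k S h
  haveI : IsRegularLocalRing S := Groth.Agent.H96.RegAdicSmooth.regular_of_adic k₀ S h0
  obtain ⟨n, ⟨e⟩⟩ := Groth.Agent.H96.RegAdicSmooth.exists_algEquiv_of_regular k₀ S
  exact ⟨n, ⟨e.toRingEquiv⟩⟩

end RegField

section Geom

attribute [local instance] Algebra.TensorProduct.rightAlgebra

variable (k A : Type u) [Field k] [CommRing A] [IsLocalRing A] [IsNoetherianRing A] [Algebra k A]

theorem isRegularRing_tensor (h : CAlgX.IsAdicFormallySmooth k A (maximalIdeal A))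
    (k' : Type u) [Field k'] [Algebra k k'] [Module.Finite k k'] :
    IsRegularRing (A ⊗[k] k') := by
  let T := A ⊗[k] k'
  haveI : IsNoetherianRing T := IsNoetherianRing.of_finite A T
  have hT : CAlgX.IsAdicFormallySmooth k' T ((maximalIdeal A).map (algebraMap A T)) :=
    Groth.Agent.H96.AdicSmoothOps.baseChange (maximalIdeal A) h
  apply Groth.Agent.H29.RegCompl.isRegularRing_of_maximal
  intro n hn
  -- `𝔪 T ≤ n`
  have hcomap : (n.comap (algebraMap A T)).IsMaximal :=
    Ideal.isMaximal_comap_of_isIntegral_of_isMaximal n
  have hle : (maximalIdeal A).map (algebraMap A T) ≤ n := by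
    rw [Ideal.map_le_iff_le_comap, ← IsLocalRing.eq_maximalIdeal hcomap]
  have hloc : CAlgX.IsAdicFormallySmooth k' (Localization.AtPrime n)
      (((maximalIdeal A).map (algebraMap A T)).map (algebraMap T (Localization.AtPrime n))) :=
    Groth.Agent.H96.AdicSmoothOps.localization n.primeCompl _ hT
  have hloc' : CAlgX.IsAdicFormallySmooth k' (Localization.AtPrime n)
      (maximalIdeal (Localization.AtPrime n)) := by
    refine Groth.Agent.H46.isAdicFormallySmooth_mono ?_ hloc
    rw [← Localization.AtPrime.map_eq_maximalIdeal]
    exact Ideal.map_mono hle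
  exact regular_of_adic_field k' (Localization.AtPrime n) hloc'

theorem isGeometricallyRegular (h : CAlgX.IsAdicFormallySmooth k A (maximalIdeal A)) :
    CAlg.IsGeometricallyRegular k A := by
  intro k' _ _ hfin
  haveI := hfin
  haveI := isRegularRing_tensor k A h k'
  exact IsRegularRing.of_ringEquiv (Algebra.TensorProduct.comm k A k').toRingEquiv

end Geom

end Groth.Agent.H96.GeomRegAdic
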