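import Groth.Agent.H8.FiniteTypeIdeal
import Mathlib.AlgebraicGeometry.IdealSheaf.Functorial
import Mathlib.AlgebraicGeometry.Morphisms.QuasiSeparated

/-!
# Extending finite type ideal sheaves (helper96)

Stacks 01PF / 01PH in the language of `IdealSheafData`:
on a quasi-compact quasi-separated scheme every ideal sheaf which is of finite type over a
quasi-compact open contains a finite type ideal sheaf agreeing with it over that open, and
every closed subset with quasi-compact complement is the support of a finite type ideal sheaf.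
-/

set_option autoImplicit false
set_option linter.style.haveILetI false
set_option linter.unusedSectionVars false
set_option linter.unusedVariables false
universe u
open CategoryTheory CategoryTheory.Limits AlgebraicGeometry TopologicalSpace Opposite

namespace Groth.Agent.H96.FiniteTypeExt

open Scheme.IdealSheafData

variable {X : Scheme.{u}}

/-! ### Stalkwise comparison of ideals -/

lemma map_germ_of_le (K : X.IdealSheafData) {V V' : X.affineOpens} (h : V' ≤ V) (x : X)
    (hx : x ∈ V'.1) :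
    (K.ideal V).map (X.presheaf.germ V.1 x (h hx)).hom =
      (K.ideal V').map (X.presheaf.germ V'.1 x hx).hom := by
  rw [← K.map_ideal h, Ideal.map_map, ← CommRingCat.hom_comp]
  congr 2
  exact (X.presheaf.germ_res (homOfLE h) x hx).symm

lemma map_germ_eq (K : X.IdealSheafData) (V V' : X.affineOpens) (x : X)
    (hx : x ∈ V.1) (hx' : x ∈ V'.1) :
    (K.ideal V).map (X.presheaf.germ V.1 x hx).hom =
      (K.ideal V').map (X.presheaf.germ V'.1 x hx').hom := by
  obtain ⟨_, ⟨V'', hV'', rfl⟩, hxV'', hle⟩ :=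
    X.isBasis_affineOpens.exists_subset_of_mem_open (show x ∈ (V.1 ⊓ V'.1 : X.Opens) from ⟨hx, hx'⟩)
      (V.1 ⊓ V'.1).2
  have h1 : (⟨V'', hV''⟩ : X.affineOpens) ≤ V := fun y hy => (hle hy).1
  have h2 : (⟨V'', hV''⟩ : X.affineOpens) ≤ V' := fun y hy => (hle hy).2
  rw [map_germ_of_le K h1 x hxV'', map_germ_of_le K h2 x hxV'']

/-- Two ideal sheaves can be compared on an affine open by comparing them on affine
neighbourhoods of every point. -/
lemma ideal_le_of_forall (K K' : X.IdealSheafData) (V : X.affineOpens)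
    (h : ∀ x ∈ V.1, ∃ V' : X.affineOpens, x ∈ V'.1 ∧ K.ideal V' ≤ K'.ideal V') :
    K.ideal V ≤ K'.ideal V := by
  rw [V.2.ideal_le_iff]
  intro x hx
  obtain ⟨V', hxV', hle⟩ := h x hx
  rw [map_germ_eq K V V' x hx hxV', map_germ_eq K' V V' x hx hxV']
  exact Ideal.map_mono hle

/-- Finite generation of the ideal on an affine open can be checked on affine neighbourhoods
of every point. -/
lemma fg_ideal_of_forall (K : X.IdealSheafData) (V : X.affineOpens)
    (h : ∀ x ∈ V.1, ∃ V' : X.affineOpens, x ∈ V'.1 ∧ (K.ideal V').FG) :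
    (K.ideal V).FG := by
  let t : Set Γ(X, V.1) := {r | (K.ideal (X.affineBasicOpen r)).FG}
  have ht : Ideal.span t = ⊤ := by
    rw [← V.2.self_le_iSup_basicOpen_iff]
    intro x hx
    obtain ⟨V', hxV', hfg⟩ := h x hx
    obtain ⟨r, r', e, hxr⟩ := exists_basicOpen_le_affine_inter V.2 V'.2 x ⟨hx, hxV'⟩
    refine Opens.mem_iSup.mpr ⟨⟨r, ?_⟩, hxr⟩
    have e' : X.affineBasicOpen r = X.affineBasicOpen r' := Subtype.ext e
    change (K.ideal (X.affineBasicOpen r)).FG
    rw [e', ← K.map_ideal_basicOpen]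
    exact hfg.map _
  refine Ideal.fg_of_localizationSpan t ht ?_
  rintro ⟨g, hg⟩
  let _ : Algebra Γ(X, V.1) Γ(X, X.basicOpen g) :=
    (X.presheaf.map (homOfLE (X.basicOpen_le g)).op).hom.toAlgebra
  have hloc : IsLocalization.Away g Γ(X, X.basicOpen g) := V.2.isLocalization_basicOpen g
  apply Groth.Agent.H8.fg_map_away_of_fg_map (S := Γ(X, X.basicOpen g)) g
  have h1 : (K.ideal V).map (algebraMap Γ(X, V.1) Γ(X, X.basicOpen g)) =
      K.ideal (X.affineBasicOpen g) := K.map_ideal_basicOpen V g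
  rw [h1]
  exact hg

/-! ### The kernel of a morphism is local on the source -/

/-- Membership in the kernel ideal of a quasi-compact morphism can be checked locally on the
source. -/
lemma mem_ker_ideal_of_forall {Y : Scheme.{u}} (f : Y ⟶ X) [QuasiCompact f] (V : X.affineOpens)
    (s : Γ(X, V.1))
    (h : ∀ y : Y, f y ∈ V.1 → ∃ (V' : X.affineOpens) (hle : V'.1 ≤ V.1), f y ∈ V'.1 ∧
      (X.presheaf.map (homOfLE hle).op).hom s ∈ f.ker.ideal V') :
    s ∈ f.ker.ideal V := by
  rw [Scheme.Hom.ker_apply, RingHom.mem_ker]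
  refine TopCat.Presheaf.section_ext Y.sheaf _ _ _ ?_
  intro y hy
  obtain ⟨V', hle, hyV', hs⟩ := h y hy
  have hs' := f.ideal_ker_le V' hs
  rw [RingHom.mem_ker] at hs'
  have hle' : f ⁻¹ᵁ V'.1 ≤ f ⁻¹ᵁ V.1 := fun z hz => hle hz
  have hnat : (f.app V.1 ≫ Y.presheaf.map (homOfLE hle').op) =
      X.presheaf.map (homOfLE hle).op ≫ f.app V'.1 := (f.naturality (homOfLE hle).op).symm
  have h2 : (Y.presheaf.map (homOfLE hle').op).hom ((f.app V.1).hom s) = 0 := by
    have := congr($(hnat).hom s)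
    simp only [CommRingCat.hom_comp, RingHom.comp_apply] at this
    rw [this]
    exact hs'
  change Y.presheaf.germ (f ⁻¹ᵁ V.1) y hy ((f.app V.1).hom s) =
    Y.presheaf.germ (f ⁻¹ᵁ V.1) y hy 0
  have h4 := Y.presheaf.germ_res_apply (homOfLE hle') y hyV' ((f.app V.1).hom s)
  rw [map_zero, ← h4]
  erw [h2]
  exact map_zero _

/-! ### The largest ideal sheaf with prescribed upper bound on one affine open -/

section cut

variable {U : X.Opens} (hU : IsAffineOpen U) (b : Ideal Γ(X, U))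

/-- The closed subscheme `Spec (Γ(X, U) / b)` of the affine open `U`, mapped to `X`. -/
noncomputable def quotMap : Spec (.of (Γ(X, U) ⧸ b)) ⟶ X :=
  Spec.map (CommRingCat.ofHom (Ideal.Quotient.mk b)) ≫ hU.fromSpec

/-- The largest ideal sheaf on `X` whose ideal on `U` is contained in `b`. -/
noncomputable def cut : X.IdealSheafData :=
  (quotMap hU b).ker

lemma quotMap_mem (y) : quotMap hU b y ∈ U := by
  have h1 : quotMap hU b y =
      hU.fromSpec (Spec.map (CommRingCat.ofHom (Ideal.Quotient.mk b)) y) := by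
    simp [quotMap]
  have h2 : hU.fromSpec (Spec.map (CommRingCat.ofHom (Ideal.Quotient.mk b)) y) ∈
      Set.range hU.fromSpec := ⟨_, rfl⟩
  rw [hU.range_fromSpec] at h2
  rw [h1]
  exact h2

lemma quotMap_preimage : quotMap hU b ⁻¹ᵁ U = ⊤ := by
  ext y
  simp only [Opens.coe_top, Set.mem_univ, iff_true]
  exact quotMap_mem hU b y

lemma quotMap_appLE :
    (quotMap hU b).appLE U ⊤ (quotMap_preimage hU b).ge =
      CommRingCat.ofHom (Ideal.Quotient.mk b) ≫ (Scheme.ΓSpecIso _).inv := by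
  have h1 : (quotMap hU b).appLE U ⊤ (quotMap_preimage hU b).ge =
      hU.fromSpec.app U ≫ (Spec.map (CommRingCat.ofHom (Ideal.Quotient.mk b))).appLE
        (hU.fromSpec ⁻¹ᵁ U) ⊤ (by rw [hU.fromSpec_preimage_self]; exact le_top) :=
    Scheme.Hom.comp_appLE _ _ _ _ _
  rw [h1, IsAffineOpen.fromSpec_app_self, Category.assoc, Scheme.Hom.map_appLE,
    Scheme.ΓSpecIso_inv_naturality]
  rfl

lemma quotMap_appLE_apply (s : Γ(X, U)) :
    ((quotMap hU b).appLE U ⊤ (quotMap_preimage hU b).ge).hom s =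
      (Scheme.ΓSpecIso (.of (Γ(X, U) ⧸ b))).inv.hom (Ideal.Quotient.mk b s) := by
  rw [quotMap_appLE]
  rfl

instance [QuasiSeparatedSpace X] : QuasiCompact (quotMap hU b) := inferInstance

lemma cut_ideal_self [QuasiSeparatedSpace X] : (cut hU b).ideal ⟨U, hU⟩ = b := by
  rw [cut, Scheme.Hom.ker_apply]
  ext s
  rw [RingHom.mem_ker]
  have h1 : ((quotMap hU b).appLE U ⊤ (quotMap_preimage hU b).ge).hom s =
      ((Spec (.of (Γ(X, U) ⧸ b))).presheaf.map (homOfLE (quotMap_preimage hU b).ge).op).hom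
        (((quotMap hU b).app U).hom s) := rfl
  have hiso : IsIso (homOfLE (quotMap_preimage hU b).ge) :=
    ⟨⟨homOfLE le_top, Subsingleton.elim _ _, Subsingleton.elim _ _⟩⟩
  have hinj : Function.Injective
      ((Spec (.of (Γ(X, U) ⧸ b))).presheaf.map (homOfLE (quotMap_preimage hU b).ge).op).hom :=
    (ConcreteCategory.bijective_of_isIso
      ((Spec (.of (Γ(X, U) ⧸ b))).presheaf.map (homOfLE (quotMap_preimage hU b).ge).op)).1
  have hinj2 : Function.Injective (Scheme.ΓSpecIso (.of (Γ(X, U) ⧸ b))).inv.hom :=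
    (ConcreteCategory.bijective_of_isIso (Scheme.ΓSpecIso (.of (Γ(X, U) ⧸ b))).inv).1
  rw [quotMap_appLE_apply] at h1
  constructor
  · intro h
    rw [h, map_zero] at h1
    have h2 := hinj2 (h1.trans (map_zero _).symm)
    exact Ideal.Quotient.eq_zero_iff_mem.mp h2
  · intro h
    apply hinj
    rw [← h1, Ideal.Quotient.eq_zero_iff_mem.mpr h, map_zero, map_zero]

end cut

/-! ### The extension step -/

lemma exists_finset_of_fg_map {R S : Type*} [CommRing R] [CommRing S] (f : R →+* S) (I : Ideal R)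
    (h : (I.map f).FG) : ∃ T : Finset R, (T : Set R) ⊆ I ∧ Ideal.span (f '' T) = I.map f := by
  classical
  have h' : (Submodule.span S (f '' (I : Set R))).FG := h
  obtain ⟨s', hs', e⟩ := (Submodule.fg_span_iff_fg_span_finset_subset _).mp h'
  obtain ⟨T, hT, rfl⟩ := Finset.subset_set_image_iff.mp hs'
  refine ⟨T, hT, ?_⟩
  rw [Finset.coe_image] at e
  exact e.symm

/-- One step of the extension: shrink `K` without changing it over the quasi-compact open `W`
(where it is of finite type) so that it becomes finitely generated on the affine open `A`. -/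
theorem step [QuasiSeparatedSpace X] (K : X.IdealSheafData) (W : X.Opens)
    (hW : IsCompact (W : Set X)) (A : X.affineOpens)
    (hK : ∀ V : X.affineOpens, V.1 ≤ W → (K.ideal V).FG) :
    ∃ I' : X.IdealSheafData, I' ≤ K ∧
      (∀ V : X.affineOpens, V.1 ≤ W → I'.ideal V = K.ideal V) ∧ (I'.ideal A).FG := by
  classical
  have hAW : IsCompact ((A.1 ⊓ W : X.Opens) : Set X) := by
    rw [Opens.coe_inf]
    exact QuasiSeparatedSpace.inter_isCompact _ _ A.1.2 A.2.isCompact W.2 hW
  have hex : ∀ x : ↥(A.1 ⊓ W : X.Opens), ∃ (g : Γ(X, A.1)) (T : Finset Γ(X, A.1)),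
      X.basicOpen g ≤ W ∧ x.1 ∈ X.basicOpen g ∧ (T : Set Γ(X, A.1)) ⊆ K.ideal A ∧
      Ideal.span ((X.presheaf.map (homOfLE (X.basicOpen_le g)).op).hom '' T) =
        K.ideal (X.affineBasicOpen g) := by
    rintro ⟨x, hxA, hxW⟩
    obtain ⟨g, hg, hxg⟩ := A.2.exists_basicOpen_le (V := W) ⟨x, hxW⟩ hxA
    have hfg : (K.ideal (X.affineBasicOpen g)).FG := hK _ hg
    rw [← K.map_ideal_basicOpen] at hfg
    obtain ⟨T, hT, e⟩ := exists_finset_of_fg_map _ _ hfg
    exact ⟨g, T, hg, hxg, hT, e.trans (K.map_ideal_basicOpen A g)⟩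
  choose g T hgW hxg hTK hspan using hex
  obtain ⟨t, ht⟩ := hAW.elim_finite_subcover (fun x => (X.basicOpen (g x) : Set X))
    (fun x => (X.basicOpen (g x)).2)
    (fun x hx => Set.mem_iUnion.mpr ⟨⟨x, hx⟩, hxg ⟨x, hx⟩⟩)
  let b : Ideal Γ(X, A.1) := Ideal.span (⋃ x ∈ t, (T x : Set Γ(X, A.1)))
  have hbK : b ≤ K.ideal A := Ideal.span_le.mpr (Set.iUnion₂_subset fun x _ => hTK x)
  have hbfg : b.FG := by
    refine ⟨t.biUnion T, ?_⟩
    simp only [Finset.coe_biUnion, b]
    rfl
  have hb : ∀ V' : X.affineOpens, ∀ (hA : V'.1 ≤ A.1), V'.1 ≤ W →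
      K.ideal V' ≤ b.map (X.presheaf.map (homOfLE hA).op).hom := by
    intro V' hA hW'
    rw [V'.2.ideal_le_iff]
    intro x hx
    have hxAW : x ∈ ((A.1 ⊓ W : X.Opens) : Set X) := ⟨hA hx, hW' hx⟩
    obtain ⟨z, hz, hxz⟩ := Set.mem_iUnion₂.mp (ht hxAW)
    have hxz' : x ∈ (X.affineBasicOpen (g z)).1 := hxz
    rw [map_germ_eq K V' (X.affineBasicOpen (g z)) x hx hxz', ← hspan z]
    refine Ideal.map_le_iff_le_comap.mpr (Ideal.span_le.mpr ?_)
    rintro _ ⟨a, ha, rfl⟩
    have hab : a ∈ b := Ideal.subset_span (Set.mem_iUnion₂.mpr ⟨z, hz, ha⟩)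
    have e1 : (X.presheaf.germ (X.basicOpen (g z)) x hxz).hom
        ((X.presheaf.map (homOfLE (X.basicOpen_le (g z))).op).hom a) =
        (X.presheaf.germ A.1 x (hA hx)).hom a :=
      X.presheaf.germ_res_apply (homOfLE (X.basicOpen_le (g z))) x hxz a
    have e2 : (X.presheaf.germ V'.1 x hx).hom ((X.presheaf.map (homOfLE hA).op).hom a) =
        (X.presheaf.germ A.1 x (hA hx)).hom a :=
      X.presheaf.germ_res_apply (homOfLE hA) x hx a
    change (X.presheaf.germ (X.basicOpen (g z)) x hxz).hom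
        ((X.presheaf.map (homOfLE (X.basicOpen_le (g z))).op).hom a) ∈
      Ideal.map (X.presheaf.germ V'.1 x hx).hom
        (Ideal.map (X.presheaf.map (homOfLE hA).op).hom b)
    rw [e1, ← e2]
    exact Ideal.mem_map_of_mem _ (Ideal.mem_map_of_mem _ hab)
  refine ⟨K ⊓ cut A.2 b, inf_le_left, ?_, ?_⟩
  · intro V hVW
    change K.ideal V ⊓ (cut A.2 b).ideal V = K.ideal V
    rw [inf_eq_left]
    intro s hs
    apply mem_ker_ideal_of_forall
    intro y hyV
    have hyA := quotMap_mem A.2 b y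
    obtain ⟨g', hg', hyg'⟩ := A.2.exists_basicOpen_le (V := A.1 ⊓ V.1) ⟨_, ⟨hyA, hyV⟩⟩ hyA
    have hle : (X.affineBasicOpen g').1 ≤ V.1 := hg'.trans inf_le_right
    refine ⟨X.affineBasicOpen g', hle, hyg', ?_⟩
    have h1 : (X.presheaf.map (homOfLE hle).op).hom s ∈ K.ideal (X.affineBasicOpen g') :=
      K.ideal_le_comap_ideal (U := X.affineBasicOpen g') (V := V) hle hs
    have h2 := hb (X.affineBasicOpen g') (X.basicOpen_le g') (hle.trans hVW) h1
    have h3 : (cut A.2 b).ideal (X.affineBasicOpen g') =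
        b.map (X.presheaf.map (homOfLE (X.basicOpen_le g')).op).hom := by
      rw [← (cut A.2 b).map_ideal (U := X.affineBasicOpen g') (V := A) (X.basicOpen_le g')]
      congr 1
      exact cut_ideal_self A.2 b
    change _ ∈ (cut A.2 b).ideal (X.affineBasicOpen g')
    rw [h3]
    exact h2
  · change (K.ideal A ⊓ (cut A.2 b).ideal A).FG
    have h4 : (cut A.2 b).ideal A = b := cut_ideal_self A.2 b
    rw [h4, inf_eq_right.mpr hbK]
    exact hbfg

lemma fg_of_le_sup (K : X.IdealSheafData) (W : X.Opens) (A : X.affineOpens)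
    (hW : ∀ V : X.affineOpens, V.1 ≤ W → (K.ideal V).FG) (hA : (K.ideal A).FG)
    (V : X.affineOpens) (hV : V.1 ≤ W ⊔ A.1) : (K.ideal V).FG := by
  apply fg_ideal_of_forall
  intro x hx
  rcases hV hx with hxW | hxA
  · obtain ⟨_, ⟨V', hV', rfl⟩, hxV', hle⟩ :=
      X.isBasis_affineOpens.exists_subset_of_mem_open hxW W.2
    exact ⟨⟨V', hV'⟩, hxV', hW ⟨V', hV'⟩ hle⟩
  · exact ⟨A, hxA, hA⟩

/-- **Extension of finite type ideal sheaves** (Stacks 01PF, for ideals): on a quasi-compact
quasi-separated scheme, an ideal sheaf `K` which is of finite type over a quasi-compact open `W₀`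
contains a finite type ideal sheaf agreeing with `K` over `W₀`. -/
theorem exists_le_fg [CompactSpace X] [QuasiSeparatedSpace X] (K : X.IdealSheafData)
    (W₀ : X.Opens) (hW₀ : IsCompact (W₀ : Set X))
    (hK : ∀ V : X.affineOpens, V.1 ≤ W₀ → (K.ideal V).FG) :
    ∃ I : X.IdealSheafData, I ≤ K ∧ (∀ V : X.affineOpens, (I.ideal V).FG) ∧
      ∀ V : X.affineOpens, V.1 ≤ W₀ → I.ideal V = K.ideal V := by
  have key : ∃ I : X.IdealSheafData, I ≤ K ∧
      (∀ V : X.affineOpens, V.1 ≤ W₀ ⊔ (⊤ : X.Opens) → (I.ideal V).FG) ∧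
      ∀ V : X.affineOpens, V.1 ≤ W₀ → I.ideal V = K.ideal V := by
    refine compact_open_induction_on (P := fun S : X.Opens => ∃ I : X.IdealSheafData, I ≤ K ∧
      (∀ V : X.affineOpens, V.1 ≤ W₀ ⊔ S → (I.ideal V).FG) ∧
      ∀ V : X.affineOpens, V.1 ≤ W₀ → I.ideal V = K.ideal V) (⊤ : X.Opens)
      (by simpa using CompactSpace.isCompact_univ) ?_ ?_
    · exact ⟨K, le_rfl, fun V hV => hK V (by simpa using hV), fun _ _ => rfl⟩
    · rintro S hS A ⟨I, hIK, hIfg, hIeq⟩
      have hWS : IsCompact ((W₀ ⊔ S : X.Opens) : Set X) := by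
        rw [Opens.coe_sup]
        exact hW₀.union hS
      obtain ⟨I', hI'I, hI'eq, hI'A⟩ := step I (W₀ ⊔ S) hWS A hIfg
      refine ⟨I', hI'I.trans hIK, ?_, ?_⟩
      · intro V hV
        refine fg_of_le_sup I' (W₀ ⊔ S) A ?_ hI'A V (by rwa [sup_assoc])
        intro V' hV'
        rw [hI'eq V' hV']
        exact hIfg V' hV'
      · intro V hV
        rw [hI'eq V (hV.trans le_sup_left), hIeq V hV]
  obtain ⟨I, hIK, hIfg, hIeq⟩ := key
  exact ⟨I, hIK, fun V => hIfg V (le_sup_of_le_right le_top), hIeq⟩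

/-! ### Closed sets with quasi-compact complement are supports of finite type ideals -/

lemma exists_fg_affine [CompactSpace X] [QuasiSeparatedSpace X] (U : X.Opens)
    (hU : IsCompact (U : Set X)) (A : X.affineOpens) :
    ∃ I : X.IdealSheafData, (∀ V : X.affineOpens, (I.ideal V).FG) ∧
      I ≤ vanishingIdeal ⟨(U : Set X)ᶜ, U.2.isClosed_compl⟩ ∧
      ∀ x ∈ A.1, x ∈ I.support → x ∉ U := by
  classical
  set N₀ : X.IdealSheafData := vanishingIdeal ⟨(U : Set X)ᶜ, U.2.isClosed_compl⟩ with hN₀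
  have hAU : IsCompact ((A.1 ⊓ U : X.Opens) : Set X) := by
    rw [Opens.coe_inf]
    exact QuasiSeparatedSpace.inter_isCompact _ _ A.1.2 A.2.isCompact U.2 hU
  have hex : ∀ x : ↥(A.1 ⊓ U : X.Opens), ∃ f : Γ(X, A.1), f ∈ N₀.ideal A ∧ x.1 ∈ X.basicOpen f := by
    rintro ⟨x, hxA, hxU⟩
    have h1 : x ∉ N₀.support := by
      intro h
      have h2 : x ∈ (N₀.support : Set X) := h
      rw [hN₀, coe_support_vanishingIdeal] at h2
      exact h2 hxU
    rw [mem_support_iff_of_mem (U := A) hxA, Scheme.mem_zeroLocus_iff] at h1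
    push Not at h1
    exact h1
  choose f hfN hxf using hex
  obtain ⟨t, ht⟩ := hAU.elim_finite_subcover (fun x => (X.basicOpen (f x) : Set X))
    (fun x => (X.basicOpen (f x)).2)
    (fun x hx => Set.mem_iUnion.mpr ⟨⟨x, hx⟩, hxf ⟨x, hx⟩⟩)
  obtain ⟨a, ha⟩ : ∃ a : Ideal Γ(X, A.1), a = Ideal.span ((t.image f : Finset _) : Set _) :=
    ⟨_, rfl⟩
  have haN : a ≤ N₀.ideal A := by
    rw [ha]
    refine Ideal.span_le.mpr ?_
    intro r hr
    obtain ⟨z, -, rfl⟩ := Finset.mem_image.mp hr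
    exact hfN z
  have hafg : a.FG := ⟨t.image f, ha.symm⟩
  set K : X.IdealSheafData := N₀ ⊓ cut A.2 a with hK
  have hKA : K.ideal A = a := by
    change N₀.ideal A ⊓ (cut A.2 a).ideal A = a
    have h4 : (cut A.2 a).ideal A = a := cut_ideal_self A.2 a
    rw [h4, inf_eq_right.mpr haN]
  obtain ⟨I, hIK, hIfg, hIeq⟩ := exists_le_fg K A.1 A.2.isCompact (by
    intro V hV
    rw [← K.map_ideal (U := V) (V := A) hV, hKA]
    exact hafg.map _)
  refine ⟨I, hIfg, hIK.trans inf_le_left, ?_⟩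
  intro x hxA hxI hxU
  rw [mem_support_iff_of_mem (U := A) hxA, hIeq A le_rfl, hKA, Scheme.mem_zeroLocus_iff] at hxI
  obtain ⟨z, hz, hxz⟩ := Set.mem_iUnion₂.mp (ht (show x ∈ ((A.1 ⊓ U : X.Opens) : Set X) from
    ⟨hxA, hxU⟩))
  refine hxI (f z) ?_ hxz
  rw [ha]
  exact Ideal.subset_span (Finset.mem_coe.mpr (Finset.mem_image_of_mem f hz))

/-- **Stacks 01PH**: on a quasi-compact quasi-separated scheme, the complement of a quasi-compact
open is the support of a finite type ideal sheaf. -/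
theorem exists_finiteType_support_eq [CompactSpace X] [QuasiSeparatedSpace X] (U : X.Opens)
    (hU : IsCompact (U : Set X)) :
    ∃ I : X.IdealSheafData, (∀ V : X.affineOpens, (I.ideal V).FG) ∧
      (I.support : Set X) = (U : Set X)ᶜ := by
  have key : ∃ I : X.IdealSheafData, (∀ V : X.affineOpens, (I.ideal V).FG) ∧
      I ≤ vanishingIdeal ⟨(U : Set X)ᶜ, U.2.isClosed_compl⟩ ∧
      ∀ x ∈ (⊤ : X.Opens), x ∈ I.support → x ∉ U := by
    refine compact_open_induction_on (P := fun S : X.Opens => ∃ I : X.IdealSheafData,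
      (∀ V : X.affineOpens, (I.ideal V).FG) ∧
      I ≤ vanishingIdeal ⟨(U : Set X)ᶜ, U.2.isClosed_compl⟩ ∧
      ∀ x ∈ S, x ∈ I.support → x ∉ U) (⊤ : X.Opens)
      (by simpa using CompactSpace.isCompact_univ) ?_ ?_
    · refine ⟨⊥, fun V => ?_, bot_le, fun x hx => (hx : x ∈ (⊥ : Set X)).elim⟩
      rw [ideal_bot]
      exact Submodule.fg_bot
    · rintro S hS A ⟨I, hIfg, hIN, hIS⟩
      obtain ⟨I', hI'fg, hI'N, hI'A⟩ := exists_fg_affine U hU A
      refine ⟨I ⊔ I', fun V => ?_, sup_le hIN hI'N, ?_⟩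
      · change (I.ideal V ⊔ I'.ideal V).FG
        exact Submodule.FG.sup (hIfg V) (hI'fg V)
      · intro x hx hxs
        rw [support_sup] at hxs
        rcases hx with hxS | hxA
        · exact hIS x hxS hxs.1
        · exact hI'A x hxA hxs.2
  obtain ⟨I, hIfg, hIN, hIU⟩ := key
  refine ⟨I, hIfg, Set.Subset.antisymm (fun x hx => hIU x trivial hx) ?_⟩
  have h1 := support_antitone hIN
  have h2 : ((vanishingIdeal ⟨(U : Set X)ᶜ, U.2.isClosed_compl⟩).support : Set X) ⊆ I.support :=
    h1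
  rwa [coe_support_vanishingIdeal] at h2

/-- The complement of the support of a finite type ideal sheaf on a quasi-compact scheme is
quasi-compact. -/
theorem isCompact_of_support_eq_compl [CompactSpace X] (I : X.IdealSheafData)
    (hfg : ∀ V : X.affineOpens, (I.ideal V).FG) (U : X.Opens)
    (hU : (I.support : Set X) = (U : Set X)ᶜ) : IsCompact (U : Set X) := by
  have hA : ∀ A : X.affineOpens, IsCompact ((A.1 ⊓ U : X.Opens) : Set X) := by
    intro A
    obtain ⟨T, hT⟩ := hfg A
    have e : ((A.1 ⊓ U : X.Opens) : Set X) = ⋃ f ∈ T, (X.basicOpen f : Set X) := by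
      ext x
      simp only [Opens.coe_inf, Set.mem_inter_iff, SetLike.mem_coe, Set.mem_iUnion, exists_prop]
      constructor
      · rintro ⟨hxA, hxU⟩
        have h1 : x ∉ I.support := by
          intro h
          have h2 : x ∈ (I.support : Set X) := h
          rw [hU] at h2
          exact h2 hxU
        rw [mem_support_iff_of_mem (U := A) hxA, ← hT, Scheme.zeroLocus_span,
          Scheme.mem_zeroLocus_iff] at h1
        push Not at h1
        obtain ⟨f, hf, hxf⟩ := h1
        exact ⟨f, hf, hxf⟩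
      · rintro ⟨f, hf, hxf⟩
        have hxA : x ∈ A.1 := X.basicOpen_le f hxf
        refine ⟨hxA, ?_⟩
        by_contra hxU
        have h2 : x ∈ (I.support : Set X) := by
          rw [hU]
          exact hxU
        have h3 : x ∈ I.support := h2
        rw [mem_support_iff_of_mem (U := A) hxA, ← hT, Scheme.zeroLocus_span,
          Scheme.mem_zeroLocus_iff] at h3
        exact h3 f hf hxf
    rw [e]
    exact T.isCompact_biUnion fun f _ => (A.2.basicOpen f).isCompact
  have key : IsCompact (((⊤ : X.Opens) ⊓ U : X.Opens) : Set X) := by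
    refine compact_open_induction_on (P := fun S : X.Opens =>
      IsCompact ((S ⊓ U : X.Opens) : Set X)) (⊤ : X.Opens)
      (by simpa using CompactSpace.isCompact_univ) ?_ ?_
    · simp
    · intro S hS A hSU
      have e : ((S ⊔ A.1) ⊓ U : X.Opens) = (S ⊓ U) ⊔ (A.1 ⊓ U) := inf_sup_right _ _ _
      rw [e, Opens.coe_sup]
      exact hSU.union (hA A)
  simpa using key

end Groth.Agent.H96.FiniteTypeExt
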