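import Mathlib
import Groth.Agent.H8.BlowUpExist

/-!
# Blow-ups in ideals of finite type are proper (helper96)

`isProper_of_isBlowUp`: a blow-up (in the sense of the universal property `BlowUp.IsBlowUp`)
of a scheme in an ideal sheaf that is locally finitely generated is a proper morphism.
-/

set_option autoImplicit false
set_option linter.style.haveILetI false
set_option linter.unusedSectionVars false
set_option linter.unusedVariables false
universe u

open CategoryTheory CategoryTheory.Limits AlgebraicGeometry TopologicalSpace Opposite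

namespace Groth.Agent.H96.BlowUpProper

open Groth.Agent.H8

section Rees

variable {A : Type u} [CommRing A] (I : Ideal A)

lemma algebraMap_zero_surjective :
    Function.Surjective (algebraMap A (Rees.deg (reesAlgebra I) 0)) := by
  rintro ⟨r, hr⟩
  refine ⟨((r : reesAlgebra I) : Polynomial A).coeff 0, ?_⟩
  apply Subtype.ext
  apply Subtype.ext
  have h1 := ReesProj.eq_mon_of_mem I hr
  change ((algebraMap A (reesAlgebra I) _ : reesAlgebra I) : Polynomial A) = (r : Polynomial A)
  rw [ReesProj.coe_algebraMap]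
  conv_rhs => rw [h1, ReesProj.coe_mon]
  simp

instance isScalarTower_zero : IsScalarTower A (Rees.deg (reesAlgebra I) 0) (reesAlgebra I) :=
  IsScalarTower.of_algebraMap_eq
    (R := A) (S := Rees.deg (reesAlgebra I) 0) (A := reesAlgebra I) (fun x => rfl)

lemma finiteType_zero (hI : I.FG) :
    Algebra.FiniteType (Rees.deg (reesAlgebra I) 0) (reesAlgebra I) := by
  have h1 : Algebra.FiniteType A (reesAlgebra I) :=
    (Subalgebra.fg_iff_finiteType _).mp (reesAlgebra.fg hI)
  exact Algebra.FiniteType.of_restrictScalars_finiteType A _ _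

/-- The structure morphism of the `Proj` of the Rees algebra of a finitely generated ideal is
proper. -/
theorem isProper_π (hI : I.FG) : IsProper (ReesProj.π I) := by
  have h1 := finiteType_zero I hI
  have h2 : IsClosedImmersion
      (Spec.map (CommRingCat.ofHom (algebraMap A (Rees.deg (reesAlgebra I) 0))) :
        Spec (CommRingCat.of (Rees.deg (reesAlgebra I) 0)) ⟶ Spec (CommRingCat.of A)) :=
    IsClosedImmersion.spec_of_surjective _ (algebraMap_zero_surjective I)
  infer_instance

end Rees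

section General

variable {X X' : Scheme.{u}}

/-- The affine case. -/
theorem isProper_of_isBlowUp_of_isAffine [IsAffine X] (b : X' ⟶ X) (𝓘 : X.IdealSheafData)
    (hb : BlowUp.IsBlowUp b 𝓘) (hfg : (𝓘.ideal ⟨⊤, isAffineOpen_top X⟩).FG) : IsProper b := by
  have h1 : BlowUp.IsBlowUp (ReesProj.π (𝓘.ideal ⟨⊤, isAffineOpen_top X⟩))
      (Curv2.idealSheaf Γ(X, ⊤) (𝓘.ideal ⟨⊤, isAffineOpen_top X⟩)) :=
    Groth.Agent.S16054.result Γ(X, ⊤) (𝓘.ideal ⟨⊤, isAffineOpen_top X⟩)
  have h2 := Groth.Agent.S1680.result X.isoSpec.hom _ _ h1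
  rw [comap_isoSpec_idealSheaf] at h2
  obtain ⟨e, he⟩ := isBlowUp_iso hb h2
  have h3 := isProper_π _ hfg
  rw [← he]
  infer_instance

lemma fg_comap_ι (𝓘 : X.IdealSheafData) (U : X.affineOpens) (h : (𝓘.ideal U).FG) :
    ((𝓘.comap U.1.ι).ideal ⟨⊤, isAffineOpen_top _⟩).FG := by
  rw [Scheme.IdealSheafData.ideal_comap_of_isOpenImmersion]
  have eV : U.1.ι ''ᵁ ⊤ = U.1 := by simp
  have key : ∀ (W : X.affineOpens), W.1 = U.1 → (𝓘.ideal W).FG := by
    intro W hW
    have : W = U := Subtype.ext hW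
    rw [this]; exact h
  have h2 := key ⟨U.1.ι ''ᵁ ⊤, (isAffineOpen_top _).image_of_isOpenImmersion U.1.ι⟩ eV
  let e := (U.1.ι.appIso ⊤).symm.commRingCatIsoToRingEquiv
  have h3 : Ideal.comap (U.1.ι.appIso ⊤).inv.hom
      (𝓘.ideal ⟨U.1.ι ''ᵁ ⊤, (isAffineOpen_top _).image_of_isOpenImmersion U.1.ι⟩) =
      Ideal.map (e.symm : _ →+* _)
        (𝓘.ideal ⟨U.1.ι ''ᵁ ⊤, (isAffineOpen_top _).image_of_isOpenImmersion U.1.ι⟩) :=
    (Ideal.map_symm e).symm
  rw [h3]
  exact h2.map _

/-- **A blow-up in a locally finitely generated ideal sheaf is proper.** -/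
theorem isProper_of_isBlowUp (b : X' ⟶ X) (𝓘 : X.IdealSheafData) (hb : BlowUp.IsBlowUp b 𝓘)
    (hfg : ∀ x : X, ∃ U : X.affineOpens, x ∈ U.1 ∧ (𝓘.ideal U).FG) : IsProper b := by
  apply IsZariskiLocalAtTarget.of_forall_exists_morphismRestrict (P := @IsProper)
  intro x
  obtain ⟨U, hxU, hU⟩ := hfg x
  refine ⟨U.1, hxU, ?_⟩
  have h1 : BlowUp.IsBlowUp (pullback.fst U.1.ι b) (𝓘.comap U.1.ι) :=
    Groth.Agent.S1680.result U.1.ι 𝓘 b hb
  have haff : IsAffine U.1.toScheme := U.2
  have h2 : IsProper (pullback.fst U.1.ι b) :=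
    isProper_of_isBlowUp_of_isAffine _ _ h1 (fg_comap_ι 𝓘 U hU)
  have hP := isPullback_morphismRestrict b U.1
  rw [← hP.isoPullback_hom_fst]
  infer_instance

end General

end Groth.Agent.H96.BlowUpProper
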