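import Mathlib
import Groth.Prelude.Def_W4c6modpairsegaMP
import Groth.Agent.H96.BlowUpProper
import Groth.Agent.H19.ComapAff

/-!
# The projection from an ambient product of modulus pairs (helper96)
-/

set_option autoImplicit false
set_option linter.style.haveILetI false
set_option linter.unusedSectionVars false
set_option linter.unusedVariables false
universe u

open CategoryTheory CategoryTheory.Limits AlgebraicGeometry TopologicalSpace Opposite

namespace Groth.Agent.H96.ModPairAmbProj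

/-- The pullback of an effective Cartier ideal is locally finitely generated near a point,
on every small enough affine open. -/
lemma fg_comap_of_le {X Z : Scheme.{u}} (a : Z ⟶ X) (I : X.IdealSheafData) (U : X.affineOpens)
    (t : Γ(X, U.1)) (hI : I.ideal U = Ideal.span {t}) (V : Z.affineOpens) (e : V.1 ≤ a ⁻¹ᵁ U.1) :
    ((I.comap a).ideal V).FG := by
  rw [Groth.Agent.H19.ComapAff.ideal_comap_appLE a I U V e, hI, Ideal.map_span,
    Set.image_singleton]
  exact ⟨{(a.appLE U.1 V.1 e).hom t}, by simp⟩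

/-- The sum of the pullbacks of two effective Cartier ideals is locally finitely generated. -/
lemma fg_sup_comap {X T Z : Scheme.{u}} (a : Z ⟶ X) (b : Z ⟶ T) (I : X.IdealSheafData)
    (J : T.IdealSheafData) (hI : BlowUp.IsEffCartierIdeal I) (hJ : BlowUp.IsEffCartierIdeal J)
    (z : Z) : ∃ V : Z.affineOpens, z ∈ V.1 ∧ ((I.comap a ⊔ J.comap b).ideal V).FG := by
  obtain ⟨UX, hzX, t, -, hIt⟩ := hI (a z)
  obtain ⟨UT, hzT, s, -, hJs⟩ := hJ (b z)
  obtain ⟨_, ⟨V, hV, rfl⟩, hzV, hVO⟩ :=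
    Z.isBasis_affineOpens.exists_subset_of_mem_open
      (show z ∈ a ⁻¹ᵁ UX.1 ⊓ b ⁻¹ᵁ UT.1 from ⟨hzX, hzT⟩) (a ⁻¹ᵁ UX.1 ⊓ b ⁻¹ᵁ UT.1).2
  refine ⟨⟨V, hV⟩, hzV, ?_⟩
  rw [Scheme.IdealSheafData.ideal_sup]
  exact Submodule.FG.sup
    (fg_comap_of_le a I UX t hIt ⟨V, hV⟩ (fun x hx => (hVO hx).1))
    (fg_comap_of_le b J UT s hJs ⟨V, hV⟩ (fun x hx => (hVO hx).2))

/-- **Main theorem.** -/
theorem main {S T X Y : Scheme.{u}}
    (IS : S.IdealSheafData) (J : T.IdealSheafData) (I : X.IdealSheafData)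
    (hS : BlowUp.IsEffCartierIdeal IS) (hT : BlowUp.IsEffCartierIdeal J)
    (hX : BlowUp.IsEffCartierIdeal I)
    (f : X ⟶ S) (hf : ModPair.IsAmbient I IS f) (g : T ⟶ S) (hg : ModPair.IsAmbient J IS g)
    (π : Y ⟶ ModPair.mprod f g I J) (K : Y.IdealSheafData)
    (hY : ModPair.IsAmbProd f g I J π K) :
    ((LocallyOfFiniteType f ∧ QuasiCompact f) →
        LocallyOfFiniteType (π ≫ ModPair.mprodι f g I J ≫ pullback.snd f g) ∧
          QuasiCompact (π ≫ ModPair.mprodι f g I J ≫ pullback.snd f g)) ∧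
      (UniversallyClosed f → UniversallyClosed (π ≫ ModPair.mprodι f g I J ≫ pullback.snd f g)) ∧
      (IsProper f → IsProper (π ≫ ModPair.mprodι f g I J ≫ pullback.snd f g)) := by
  have hπ : IsProper π :=
    Groth.Agent.H96.BlowUpProper.isProper_of_isBlowUp π (ModPair.prodCentre f g I J) hY.1
      (fun z => fg_sup_comap _ _ I J hX hT z)
  refine ⟨?_, ?_, ?_⟩
  · rintro ⟨h1, h2⟩
    exact ⟨inferInstance, inferInstance⟩
  · intro h1
    infer_instance
  · intro h1
    infer_instance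

end Groth.Agent.H96.ModPairAmbProj
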