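import Mathlib
import Groth.Prelude.Def_WeilCoh
import Groth.Agent.H77.Weil
import Groth.Agent.H79.BMCohDim
import Groth.Agent.H97.ProjProper
import Groth.Agent.H17.FibreDimBound
import Groth.Agent.H48.CycPush
import Groth.Agent.H54.Dim

/-!
# Dimension facts for the objects of a Weil cohomology theory

* objects of `WeilCoh.Var k` are proper over `Spec k` and finite dimensional;
* `pdim ≤ dim`; a section of a separated morphism preserves `pdim` and has residue degree one;
* `dim (X × Y) = dim X + dim Y`, extracted from the axioms of a theory.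
-/

set_option autoImplicit false
set_option linter.style.haveILetI false
set_option linter.unusedSectionVars false
set_option linter.unusedVariables false

universe u v w

open CategoryTheory AlgebraicGeometry WeilCoh

namespace Groth.Agent.H96.WeilDim

section FinDim

/-- A finitely generated algebra over a field has finite Krull dimension. -/
theorem ringKrullDim_lt_top_of_finiteType (k : Type u) [Field k] (A : Type u) [CommRing A]
    (φ : k →+* A) (hφ : φ.FiniteType) : ringKrullDim A < ⊤ := by
  algebraize [φ]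
  obtain ⟨N, π, hπ⟩ := Algebra.FiniteType.iff_quotient_mvPolynomial''.mp ‹Algebra.FiniteType k A›
  have h1 : ringKrullDim A ≤ ringKrullDim (MvPolynomial (Fin N) k) :=
    ringKrullDim_le_of_surjective π.toRingHom hπ
  rw [Groth.Agent.H54.ringKrullDim_mvPolynomial_fin_field k N] at h1
  exact lt_of_le_of_lt h1 (WithBot.coe_lt_coe.mpr (ENat.natCast_lt_top N))

/-- A quasi-compact scheme locally of finite type over a field is finite dimensional. -/
theorem topologicalKrullDim_lt_top_of_locallyOfFiniteType (k : Type u) [Field k]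
    {X : Scheme.{u}} [CompactSpace X] (f : X ⟶ Spec (CommRingCat.of k)) [LocallyOfFiniteType f] :
    topologicalKrullDim X < ⊤ := by
  let 𝒰 := X.affineCover.finiteSubcover
  have : Finite 𝒰.I₀ := inferInstance
  have hN : ∀ i : 𝒰.I₀, ∃ n : ℕ, topologicalKrullDim (𝒰.X i) ≤ n := by
    intro i
    have hft : (𝒰.f i ≫ f).appTop.hom.FiniteType :=
      (HasRingHomProperty.iff_of_isAffine (P := @LocallyOfFiniteType)).mp inferInstance
    have hft2 : (((𝒰.f i ≫ f).appTop.hom).comp
        (Scheme.ΓSpecIso (CommRingCat.of k)).inv.hom).FiniteType :=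
      hft.comp (RingHom.FiniteType.of_surjective _
        (ConcreteCategory.bijective_of_isIso (Scheme.ΓSpecIso (CommRingCat.of k)).inv).2)
    have h1 := ringKrullDim_lt_top_of_finiteType k Γ(𝒰.X i, ⊤) _ hft2
    rw [Groth.Agent.H17.topologicalKrullDim_of_isAffine]
    obtain ⟨n, hn⟩ : ∃ n : ℕ, ringKrullDim Γ(𝒰.X i, ⊤) ≤ n := by
      induction h : ringKrullDim Γ(𝒰.X i, ⊤) with
      | bot => exact ⟨0, bot_le⟩
      | coe a =>
        rw [h] at h1
        have ha : a ≠ ⊤ := by rintro rfl; exact lt_irrefl _ h1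
        exact ⟨a.toNat, by rw [← ENat.natCast_toNat ha]; exact le_rfl⟩
    exact ⟨n, hn⟩
  choose N hN using hN
  obtain ⟨n, hn⟩ := Finite.exists_le N
  rw [Groth.Agent.H17.topologicalKrullDim_eq_iSup_schemeOpenCover X 𝒰]
  refine lt_of_le_of_lt (iSup_le fun i => (hN i).trans ?_)
    (WithBot.coe_lt_coe.mpr (ENat.natCast_lt_top n))
  exact_mod_cast hn i

end FinDim

section Var

variable {k : Type u} [Field k]

theorem isProper_hom (X : Var k) : IsProper X.obj.hom := by
  obtain ⟨-, ⟨n, i, hi, hcomp⟩, -⟩ := X.property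
  rw [← hcomp]
  infer_instance

theorem compactSpace (X : Var k) : CompactSpace X.obj.left :=
  have := isProper_hom X
  QuasiCompact.compactSpace_of_compactSpace X.obj.hom

theorem finDim (X : Var k) : topologicalKrullDim X.obj.left < ⊤ :=
  have := isProper_hom X
  have := compactSpace X
  topologicalKrullDim_lt_top_of_locallyOfFiniteType k X.obj.hom

theorem pdim_le_dim (X : Var k) (x : X.obj.left) : pdim X.obj.left x ≤ dim X.obj.left :=
  Groth.Agent.H79.BMCohDim.pdim_le_dim _ (finDim X) x

theorem sm_comp {X Y Z : Var k} (f : X ⟶ Y) (g : Y ⟶ Z) : sm (f ≫ g) = sm f ≫ sm g := rfl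

theorem sm_id (X : Var k) : sm (𝟙 X) = 𝟙 X.obj.left := rfl

theorem isSeparated_sm {X Y : Var k} (f : X ⟶ Y) : IsSeparated (sm f) := by
  have := isProper_hom X
  have h : sm f ≫ Y.obj.hom = X.obj.hom := Over.w f.hom
  have : IsSeparated (sm f ≫ Y.obj.hom) := by rw [h]; infer_instance
  exact IsSeparated.of_comp (sm f) Y.obj.hom

theorem isClosedImmersion_of_section {X Y : Var k} (p : Y ⟶ X) (d : X ⟶ Y) (h : d ≫ p = 𝟙 X) :
    IsClosedImmersion (sm d) := by
  have h1 : sm d ≫ sm p = 𝟙 X.obj.left := by rw [← sm_comp, h, sm_id]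
  have := isSeparated_sm p
  have : IsClosedImmersion (sm d ≫ sm p) := by rw [h1]; infer_instance
  exact IsClosedImmersion.of_comp (sm d) (sm p)

end Var

section Top

theorem natDim_eq_of_homeomorph {S T : Type u} [TopologicalSpace S] [TopologicalSpace T]
    (e : S ≃ₜ T) : natDim S = natDim T := by
  unfold natDim
  rw [IsHomeomorph.topologicalKrullDim_eq _ e.isHomeomorph]

theorem pdim_eq_of_isClosedEmbedding {X Y : Scheme.{u}} (f : X ⟶ Y)
    (hf : Topology.IsClosedEmbedding f) (x : X) : pdim Y (f x) = pdim X x := by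
  unfold pdim
  have h1 : closure ({f x} : Set Y) = f '' closure ({x} : Set X) := by
    rw [← hf.closure_image_eq, Set.image_singleton]
  have e1 : ↥(closure ({x} : Set X)) ≃ₜ ↥(f '' closure ({x} : Set X)) :=
    (hf.isEmbedding.homeomorphImage _)
  rw [h1]
  exact (natDim_eq_of_homeomorph e1).symm

end Top

section Theory

variable {k : Type u} [Field k] {P : ObjectProperty (Over (Spec (CommRingCat.of k)))}
variable {K : Type v} [Field K] (T : TheoryOn.{u, v, w} k P K)

include T in
/-- The dimension of a product is the sum of the dimensions: a consequence of the trace axioms. -/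
theorem dim_prod {X Y Q : P.FullSubcategory} (p : Q ⟶ X) (q : Q ⟶ Y) (h : IsProd p q) :
    dim Q.obj.left = dim X.obj.left + dim Y.obj.left := by
  obtain ⟨a, ha⟩ := (T.tr_bijective X).2 1
  obtain ⟨b, hb⟩ := (T.tr_bijective Y).2 1
  have h1 : T.tr Q (T.pull p a * T.pull q b) = 1 := by
    rw [T.tr_prod p q h a b a.2 b.2]
    have ha' : T.tr X a = 1 := ha
    have hb' : T.tr Y b = 1 := hb
    rw [ha', hb', one_mul]
  have hmem : T.pull p (a : T.H X) * T.pull q (b : T.H Y) ∈
      T.gr Q (2 * (dim X.obj.left : ℤ) + 2 * (dim Y.obj.left : ℤ)) :=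
    SetLike.mul_mem_graded (T.pull_mem p _ a a.2) (T.pull_mem q _ b b.2)
  by_contra hne
  have h2 := T.tr_vanish Q _ _ hmem (by omega)
  rw [h1] at h2
  exact one_ne_zero h2

/-- Classes of even degree are central. -/
theorem mul_comm_of_even (X : P.FullSubcategory) (i : ℤ) (c : ℕ) (a b : T.H X)
    (ha : a ∈ T.gr X i) (hb : b ∈ T.gr X (2 * (c : ℤ))) : a * b = b * a := by
  rw [T.gradedComm X i (2 * (c : ℤ)) a b ha hb]
  have : (2 * (c : ℤ)).natAbs = 2 * c := by omega
  rw [this, ← mul_assoc, mul_comm _ 2, mul_assoc, pow_mul]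
  simp

end Theory

section ResDeg

theorem residueDegree_eq_one_of_section {X Y : Scheme.{u}} (d : X ⟶ Y) (p : Y ⟶ X)
    (h : d ≫ p = 𝟙 X) (x : X) : d.residueDegree x = 1 := by
  have h1 := Groth.Agent.H48.CycPush.residueDegree_comp d p x
  rw [h] at h1
  rw [Scheme.Hom.residueDegree_id] at h1
  exact Nat.eq_one_of_mul_eq_one_left h1.symm

end ResDeg

end Groth.Agent.H96.WeilDim
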