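import Mathlib
import Groth.Agent.H61.PSComplete
import Groth.Agent.H61.PSEval
import Groth.Agent.H61.PSDim

/-!
# The completed module of differentials of a power series ring over a field is free on the `dTᵢ`
(EGA 0_IV 21.9.3 / 20.7.17)
-/

set_option autoImplicit false
set_option linter.style.haveILetI false
set_option linter.unusedSectionVars false
universe u

namespace Groth.Agent.H96.PSKaehler

open IsLocalRing KaehlerDifferential

section Deriv

variable {R S M : Type*} [CommRing R] [CommRing S] [Algebra R S] [AddCommGroup M] [Module S M]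
  [Module R M] [IsScalarTower R S M]

/-- a derivation maps `I^(n+1)` into `I^n M`. -/
theorem derivation_mem_pow_smul (d : Derivation R S M) (I : Ideal S) (n : ℕ) (x : S)
    (hx : x ∈ I ^ (n + 1)) : d x ∈ (I ^ n • ⊤ : Submodule S M) := by
  induction n generalizing x with
  | zero =>
    rw [pow_zero, Ideal.one_eq_top, Submodule.top_smul]
    trivial
  | succ n ih =>
    rw [pow_succ] at hx
    refine Submodule.mul_induction_on hx ?_ ?_
    · intro a ha b hb
      rw [Derivation.leibniz]
      refine Submodule.add_mem _ (Submodule.smul_mem_smul ha trivial) ?_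
      have h1 := ih a ha
      have h2 : b • d a ∈ (I • (I ^ n • ⊤ : Submodule S M) : Submodule S M) :=
        Submodule.smul_mem_smul hb h1
      rwa [← mul_smul, ← pow_succ'] at h2
    · intro a b ha hb
      rw [map_add]
      exact Submodule.add_mem _ ha hb

end Deriv

section Main

variable (k : Type u) [Field k] (r : ℕ)

local notation "A" => MvPowerSeries (Fin r) k
local notation "Ω" => Ω[MvPowerSeries (Fin r) k⁄k]

/-- the coordinates of a differential form. -/
noncomputable def φ : Ω →ₗ[A] (Fin r → A) :=
  LinearMap.pi fun i => (MvPowerSeries.pderiv k i).liftKaehlerDifferential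

/-- forms from coordinates. -/
noncomputable def ψ : (Fin r → A) →ₗ[A] Ω :=
  Fintype.linearCombination A (fun i : Fin r => D k A (MvPowerSeries.X i))

theorem φ_D (f : A) (i : Fin r) : φ k r (D k A f) i = MvPowerSeries.pderiv k i f := by
  simp [φ]

theorem ψ_apply (a : Fin r → A) : ψ k r a = ∑ i, a i • D k A (MvPowerSeries.X i) := by
  simp [ψ, Fintype.linearCombination_apply]

theorem φ_ψ (a : Fin r → A) : φ k r (ψ k r a) = a := by
  classical
  funext j
  rw [ψ_apply, map_sum, Finset.sum_apply]
  have : ∀ i, (φ k r (a i • D k A (MvPowerSeries.X i))) j = if i = j then a i else 0 := by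
    intro i
    rw [map_smul, Pi.smul_apply, φ_D, MvPowerSeries.pderiv_X, smul_eq_mul]
    by_cases h : i = j
    · subst h; simp
    · rw [if_neg h]
      simp [h]
  simp only [this]
  simp

/-- the set of power series on which `d` is computed by the partial derivatives. -/
noncomputable def good : Subalgebra k A where
  carrier := {f | ψ k r (φ k r (D k A f)) = D k A f}
  mul_mem' := by
    intro f g hf hg
    show ψ k r (φ k r (D k A (f * g))) = D k A (f * g)
    rw [Derivation.leibniz, map_add, map_add, map_smul, map_smul, map_smul, map_smul]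
    rw [show ψ k r (φ k r (D k A f)) = D k A f from hf,
      show ψ k r (φ k r (D k A g)) = D k A g from hg]
  add_mem' := by
    intro f g hf hg
    show ψ k r (φ k r (D k A (f + g))) = D k A (f + g)
    rw [map_add, map_add, map_add]
    rw [show ψ k r (φ k r (D k A f)) = D k A f from hf,
      show ψ k r (φ k r (D k A g)) = D k A g from hg]
  algebraMap_mem' := by
    intro c
    show ψ k r (φ k r (D k A (algebraMap k A c))) = D k A (algebraMap k A c)
    rw [Derivation.map_algebraMap, map_zero, map_zero]

theorem X_mem_good (j : Fin r) : (MvPowerSeries.X j : A) ∈ good k r := by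
  classical
  show ψ k r (φ k r (D k A (MvPowerSeries.X j))) = D k A (MvPowerSeries.X j)
  have h1 : φ k r (D k A (MvPowerSeries.X j)) = Pi.single j 1 := by
    funext i
    rw [φ_D, MvPowerSeries.pderiv_X]
    simp [Pi.single_apply, eq_comm]
  rw [h1, ψ_apply]
  simp [Pi.single_apply]

theorem coe_mem_good (p : MvPolynomial (Fin r) k) : (p : A) ∈ good k r := by
  induction p using MvPolynomial.induction_on with
  | C a =>
    rw [MvPolynomial.coe_C]
    exact (good k r).algebraMap_mem a
  | add p q hp hq =>
    rw [MvPolynomial.coe_add]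
    exact (good k r).add_mem hp hq
  | mul_X p j hp =>
    rw [MvPolynomial.coe_mul, MvPolynomial.coe_X]
    exact (good k r).mul_mem hp (X_mem_good k r j)

/-- key approximation: modulo `𝔪ⁿ Ω` every form is given by its coordinates. -/
theorem sub_mem (n : ℕ) (ω : Ω) :
    ψ k r (φ k r ω) - ω ∈ (maximalIdeal A ^ n • ⊤ : Submodule A Ω) := by
  let N : Submodule A Ω :=
    LinearMap.ker ((Submodule.mkQ (maximalIdeal A ^ n • ⊤ : Submodule A Ω)).comp
      ((ψ k r).comp (φ k r) - LinearMap.id))
  have hN : ∀ ω, ω ∈ N ↔ ψ k r (φ k r ω) - ω ∈ (maximalIdeal A ^ n • ⊤ : Submodule A Ω) := by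
    intro ω
    rw [LinearMap.mem_ker, LinearMap.comp_apply, Submodule.mkQ_apply,
      Submodule.Quotient.mk_eq_zero]
    rfl
  rw [← hN]
  have htop : N = ⊤ := by
    rw [eq_top_iff, ← span_range_derivation, Submodule.span_le]
    rintro _ ⟨f, rfl⟩
    rw [SetLike.mem_coe, hN]
    -- decompose `f`
    let p : A := (MvPowerSeries.truncTotal (n + 1) f : MvPolynomial (Fin r) k)
    have hp : p ∈ good k r := coe_mem_good k r _
    have hg : f - p ∈ maximalIdeal A ^ (n + 1) := by
      rw [Groth.Agent.H61.maximalIdeal_ps_eq_span_X]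
      exact Groth.Agent.H61.sub_truncTotal_mem r (n + 1) f
    have hf : f = p + (f - p) := by ring
    have hDg : D k A (f - p) ∈ (maximalIdeal A ^ n • ⊤ : Submodule A Ω) :=
      derivation_mem_pow_smul (D k A) (maximalIdeal A) n _ hg
    have hψφ : ψ k r (φ k r (D k A (f - p))) ∈ (maximalIdeal A ^ n • ⊤ : Submodule A Ω) := by
      rw [ψ_apply]
      refine Submodule.sum_mem _ fun i _ => ?_
      refine Submodule.smul_mem_smul ?_ trivial
      rw [φ_D]
      have := derivation_mem_pow_smul (MvPowerSeries.pderiv k i) (maximalIdeal A) n _ hg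
      rwa [smul_eq_mul, Ideal.mul_top] at this
    have hp' : ψ k r (φ k r (D k A p)) = D k A p := hp
    rw [hf, map_add, map_add, map_add, hp']
    have : D k A p + ψ k r (φ k r (D k A (f - p))) - (D k A p + D k A (f - p)) =
        ψ k r (φ k r (D k A (f - p))) - D k A (f - p) := by abel
    rw [this]
    exact Submodule.sub_mem _ hψφ hDg
  rw [htop]
  trivial

local notation "𝔪" => maximalIdeal (MvPowerSeries (Fin r) k)

theorem map_ψφ : AdicCompletion.map 𝔪 ((ψ k r).comp (φ k r)) = LinearMap.id := by
  apply LinearMap.ext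
  intro x
  apply AdicCompletion.ext
  intro n
  rw [AdicCompletion.map_val_apply, LinearMap.id_apply]
  obtain ⟨ω, hω⟩ := Submodule.Quotient.mk_surjective _ (x.val n)
  rw [← hω, LinearMap.reduceModIdeal_apply, LinearMap.comp_apply]
  rw [Submodule.Quotient.eq]
  exact sub_mem k r n ω

theorem map_φψ : AdicCompletion.map 𝔪 ((φ k r).comp (ψ k r)) = LinearMap.id := by
  have : (φ k r).comp (ψ k r) = LinearMap.id := LinearMap.ext (φ_ψ k r)
  rw [this, AdicCompletion.map_id]

/-- the completed module of differentials of `k[[T₁..T_r]]` is `Â^r`. -/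
noncomputable def equivCompl :
    AdicCompletion 𝔪 Ω ≃ₗ[AdicCompletion 𝔪 A] AdicCompletion 𝔪 (Fin r → A) :=
  LinearEquiv.ofLinearMap (AdicCompletion.map 𝔪 (φ k r)) (AdicCompletion.map 𝔪 (ψ k r))
    (by rw [AdicCompletion.map_comp, map_φψ]) (by rw [AdicCompletion.map_comp, map_ψφ])

/-- the completed module of differentials of `k[[T₁..T_r]]` is `A^r`. -/
noncomputable def equiv : AdicCompletion 𝔪 Ω ≃ₗ[A] (Fin r → A) :=
  haveI : IsAdicComplete (maximalIdeal k) k := by
    rw [IsLocalRing.maximalIdeal_eq_bot]
    infer_instance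
  haveI : IsAdicComplete 𝔪 A := Groth.Agent.H61.ps_isAdicComplete r
  (((equivCompl k r).trans (AdicCompletion.piEquivFin 𝔪 r)).restrictScalars A).trans
    (LinearEquiv.piCongrRight fun _ => (AdicCompletion.ofLinearEquiv 𝔪 A).symm)

theorem main :
    Module.Finite A (AdicCompletion 𝔪 Ω) ∧ Module.Free A (AdicCompletion 𝔪 Ω) ∧
      Module.finrank A (AdicCompletion 𝔪 Ω) = r := by
  refine ⟨Module.Finite.equiv (equiv k r).symm, Module.Free.of_equiv (equiv k r).symm, ?_⟩
  rw [LinearEquiv.finrank_eq (equiv k r), Module.finrank_fin_fun]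

end Main

end Groth.Agent.H96.PSKaehler
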