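import Mathlib
import Groth.Prelude.Def_CAlg
import Groth.Agent.H72.CMLocal
import Groth.Agent.H72.DepthGen

/-!
# Minimal generators with a regular prefix in a Cohen–Macaulay local ring (helper96)
-/

set_option autoImplicit false
set_option linter.style.haveILetI false
set_option linter.unusedSectionVars false
set_option linter.unusedVariables false

universe u

namespace Groth.Agent.H96.CMGens

open IsLocalRing

variable {T : Type u} [CommRing T] [IsNoetherianRing T] [IsLocalRing T]

theorem spanFinrank_ofList_le (l : List T) : (Ideal.ofList l).spanFinrank ≤ l.length := by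
  classical
  have h1 : Ideal.ofList l = Ideal.span (l.toFinset : Set T) := by
    unfold Ideal.ofList
    congr 1
    ext x
    simp
  rw [h1]
  have h2 := Submodule.spanFinrank_span_le_ncard_of_finite (R := T) (l.toFinset.finite_toSet)
  refine h2.trans ?_
  rw [Set.ncard_coe_finset]
  exact List.toFinset_card_le l

/-- exchange lemma: an element of `(rs)` outside an ideal containing `m·(rs)` has a unit
coefficient on some member of the list. -/
theorem exists_split (K : Ideal T) : ∀ (rs : List T) (v : T),
    maximalIdeal T • Ideal.ofList rs ≤ K → v ∈ Ideal.ofList rs → v ∉ K →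
    ∃ (r1 r2 : List T) (g a w : T), rs = r1 ++ g :: r2 ∧ IsUnit a ∧
      w ∈ Ideal.ofList (r1 ++ r2) ∧ v = a * g + w := by
  intro rs
  induction rs with
  | nil =>
    intro v _ hv hvK
    rw [Ideal.ofList_nil, Ideal.mem_bot] at hv
    exact absurd (hv ▸ K.zero_mem) hvK
  | cons g rs' ih =>
    intro v hK hv hvK
    rw [Ideal.ofList_cons] at hv
    obtain ⟨y, hy, v', hv', rfl⟩ := Submodule.mem_sup.mp hv
    obtain ⟨a, rfl⟩ := Ideal.mem_span_singleton'.mp hy
    by_cases ha : IsUnit a
    · exact ⟨[], rs', g, a, v', rfl, ha, by simpa using hv', rfl⟩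
    · have ham : a ∈ maximalIdeal T := by rwa [mem_maximalIdeal, mem_nonunits_iff]
      have hg : g ∈ Ideal.ofList (g :: rs') := by
        rw [Ideal.ofList_cons]
        exact Ideal.mem_sup_left (Ideal.mem_span_singleton_self g)
      have hagK : a * g ∈ K := hK (Ideal.mul_mem_mul ham hg)
      have hv'K : v' ∉ K := fun h => hvK (K.add_mem hagK h)
      have hK' : maximalIdeal T • Ideal.ofList rs' ≤ K := by
        refine le_trans (Ideal.mul_mono_right ?_) hK
        rw [Ideal.ofList_cons]
        exact le_sup_right
      obtain ⟨r1, r2, g', a', w', hrs, ha', hw', hv'eq⟩ := ih v' hK' hv' hv'K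
      refine ⟨g :: r1, r2, g', a', a * g + w', by rw [hrs]; rfl, ha', ?_, by rw [hv'eq]; ring⟩
      rw [List.cons_append, Ideal.ofList_cons]
      exact Submodule.add_mem_sup (Ideal.mem_span_singleton'.mpr ⟨a, rfl⟩) hw'

theorem ofList_mono_append_left (l l' : List T) : Ideal.ofList l ≤ Ideal.ofList (l ++ l') := by
  rw [Ideal.ofList_append]; exact le_sup_left

theorem ofList_mono_append_right (l l' : List T) : Ideal.ofList l' ≤ Ideal.ofList (l ++ l') := by
  rw [Ideal.ofList_append]; exact le_sup_right

/-- heights of minimal primes of an ideal generated by `i` elements of height `i` -/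
theorem height_eq_of_mem_minimalPrimes (good : List T) (i : ℕ) (hlen : good.length = i)
    (hht : (Ideal.ofList good).height = i) {P : Ideal T}
    (hP : P ∈ (Ideal.ofList good).minimalPrimes) : P.height = i := by
  classical
  have hPprime : P.IsPrime := hP.1.1
  apply le_antisymm
  · have h1 : Ideal.ofList good = Ideal.span (good.toFinset : Set T) := by
      unfold Ideal.ofList
      congr 1
      ext x
      simp
    rw [h1] at hP
    refine (Ideal.height_le_card_of_mem_minimalPrimes_span_finset hP).trans ?_
    rw [← hlen]
    exact_mod_cast List.toFinset_card_le good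
  · rw [← hht]
    exact Ideal.height_mono hP.1.2

/-- the inductive step -/
theorem step (J : Ideal T) (hJ : J ≠ ⊤) (j : ℕ) (hj : J.height = j) (i : ℕ) (hi : i < j)
    (good rest : List T) (hlen : good.length = i) (hspan : Ideal.ofList (good ++ rest) = J)
    (hc : (good ++ rest).length = J.spanFinrank)
    (hht : (Ideal.ofList good).height = i) :
    ∃ good' rest' : List T, good'.length = i + 1 ∧ Ideal.ofList (good' ++ rest') = J ∧
      (good' ++ rest').length = J.spanFinrank ∧
      (Ideal.ofList good').height = ((i + 1 : ℕ) : ℕ∞) := by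
  classical
  have hjc : j ≤ J.spanFinrank := by
    have := Ideal.height_le_spanFinrank J hJ
    rw [hj] at this
    exact_mod_cast this
  have hIJ : Ideal.ofList good ≤ J := hspan ▸ ofList_mono_append_left good rest
  have hJm : J ≤ maximalIdeal T := le_maximalIdeal hJ
  -- Nakayama
  have hJN : ¬ J ≤ Ideal.ofList good ⊔ maximalIdeal T • J := by
    intro hle
    have h1 : J ≤ Ideal.ofList good :=
      Submodule.le_of_le_smul_of_le_jacobson_bot (IsNoetherian.noetherian J)
        (IsLocalRing.jacobson_eq_maximalIdeal (⊥ : Ideal T) bot_ne_top ▸ le_rfl) hle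
    have h2 : J = Ideal.ofList good := le_antisymm h1 hIJ
    have h3 : J.spanFinrank ≤ i := by
      rw [h2, ← hlen]; exact spanFinrank_ofList_le good
    omega
  -- minimal primes
  have hfin : (Ideal.ofList good).minimalPrimes.Finite :=
    Ideal.finite_minimalPrimes_of_isNoetherianRing T _
  have hprime : ∀ P ∈ hfin.toFinset, Ideal.IsPrime (id P : Ideal T) := by
    intro P hP
    exact ((Set.Finite.mem_toFinset hfin).mp hP).1.1
  have hJP : ∀ P ∈ hfin.toFinset, ¬ J ≤ P := by
    intro P hP hle
    have hP' := (Set.Finite.mem_toFinset hfin).mp hP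
    have h1 := height_eq_of_mem_minimalPrimes good i hlen hht hP'
    have h2 := Ideal.height_mono hle
    rw [hj, h1] at h2
    have : j ≤ i := by exact_mod_cast h2
    omega
  have havoid : ¬ ((J : Set T) ⊆ (id (Ideal.ofList good ⊔ maximalIdeal T • J) : Ideal T) ∪
      (id (Ideal.ofList good ⊔ maximalIdeal T • J) : Ideal T) ∪
      ⋃ P ∈ (↑hfin.toFinset : Set (Ideal T)), (id P : Ideal T)) := by
    rw [Ideal.subset_union_prime' (f := id) hprime]
    rintro (h | h | ⟨P, hP, h⟩)
    · exact hJN h
    · exact hJN h
    · exact hJP P hP h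
  obtain ⟨t, htJ, htnot⟩ := Set.not_subset.mp havoid
  have htN : t ∉ Ideal.ofList good ⊔ maximalIdeal T • J := by
    intro h
    exact htnot (Or.inl (Or.inl h))
  have htP : ∀ P ∈ (Ideal.ofList good).minimalPrimes, t ∉ P := by
    intro P hP h
    apply htnot
    refine Or.inr ?_
    simp only [Set.mem_iUnion]
    exact ⟨P, by simpa using hP, h⟩
  -- decompose t
  have htJ' : t ∈ Ideal.ofList good ⊔ Ideal.ofList rest := by
    rw [← Ideal.ofList_append, hspan]; exact htJ
  obtain ⟨u, hu, v, hv, rfl⟩ := Submodule.mem_sup.mp htJ'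
  have hrestJ : Ideal.ofList rest ≤ J := hspan ▸ ofList_mono_append_right good rest
  have hK : maximalIdeal T • Ideal.ofList rest ≤ Ideal.ofList good ⊔ maximalIdeal T • J :=
    le_trans (Ideal.mul_mono_right hrestJ) le_sup_right
  have hvK : v ∉ Ideal.ofList good ⊔ maximalIdeal T • J := by
    intro h
    exact htN (Ideal.add_mem _ (Ideal.mem_sup_left hu) h)
  obtain ⟨r1, r2, g, a, w, hrs, ha, hw, hveq⟩ := exists_split _ rest v hK hv hvK
  refine ⟨good ++ [u + v], r1 ++ r2, by simp [hlen], ?_, ?_, ?_⟩
  · -- generation
    apply le_antisymm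
    · rw [Ideal.ofList_append, Ideal.ofList_append, Ideal.ofList_singleton]
      refine sup_le (sup_le hIJ ?_) ?_
      · rw [Ideal.span_singleton_le_iff_mem]; exact htJ
      · refine le_trans ?_ hrestJ
        rw [hrs, Ideal.ofList_append, Ideal.ofList_append, Ideal.ofList_cons]
        exact sup_le le_sup_left (le_sup_of_le_right le_sup_right)
    · rw [← hspan, Ideal.ofList_append good rest]
      refine sup_le ?_ ?_
      · rw [List.append_assoc]; exact ofList_mono_append_left _ _
      · rw [hrs, Ideal.ofList_append r1, Ideal.ofList_cons]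
        have hr12 : Ideal.ofList (r1 ++ r2) ≤ Ideal.ofList (good ++ [u + v] ++ (r1 ++ r2)) :=
          ofList_mono_append_right _ _
        refine sup_le ((ofList_mono_append_left r1 r2).trans hr12)
          (sup_le ?_ ((ofList_mono_append_right r1 r2).trans hr12))
        rw [Ideal.span_singleton_le_iff_mem]
        obtain ⟨b, hb⟩ := ha
        have hg : g = ↑b⁻¹ * ((u + v) - u - w) := by
          rw [hveq, ← hb]
          have : ↑b⁻¹ * (u + (↑b * g + w) - u - w) = (↑b⁻¹ * ↑b) * g := by ring
          rw [this, Units.inv_mul, one_mul]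
        rw [hg]
        refine Ideal.mul_mem_left _ _ (Ideal.sub_mem _ (Ideal.sub_mem _ ?_ ?_) (hr12 hw))
        · apply ofList_mono_append_left
          apply ofList_mono_append_right
          rw [Ideal.ofList_singleton]; exact Ideal.mem_span_singleton_self _
        · apply ofList_mono_append_left
          apply ofList_mono_append_left
          exact hu
  · -- length
    rw [← hc, hrs]
    simp only [List.length_append, List.length_cons, List.length_nil]
    omega
  · -- height
    have hne : Ideal.ofList (good ++ [u + v]) ≠ ⊤ := by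
      intro htop
      apply hJ
      rw [eq_top_iff, ← htop, Ideal.ofList_append, Ideal.ofList_singleton]
      refine sup_le hIJ ?_
      rw [Ideal.span_singleton_le_iff_mem]; exact htJ
    apply le_antisymm
    · refine (Ideal.height_le_spanFinrank _ hne).trans ?_
      have := spanFinrank_ofList_le (good ++ [u + v])
      simp only [List.length_append, List.length_cons, List.length_nil, hlen] at this
      exact_mod_cast this
    · rw [Ideal.height_eq_inf_minimalPrimes, le_iInf₂_iff]
      intro Q hQ
      have hQprime : Q.IsPrime := hQ.1.1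
      have hIQ : Ideal.ofList good ≤ Q := (ofList_mono_append_left good [u + v]).trans hQ.1.2
      obtain ⟨P, hP, hPQ⟩ := Ideal.exists_minimalPrimes_le hIQ
      have hPprime : P.IsPrime := hP.1.1
      have htQ : u + v ∈ Q := by
        apply hQ.1.2
        apply ofList_mono_append_right
        rw [Ideal.ofList_singleton]; exact Ideal.mem_span_singleton_self _
      have hlt : P < Q := lt_of_le_of_ne hPQ (fun h => htP P hP (h ▸ htQ))
      have h1 := Ideal.height_add_one_le_of_lt_of_isPrime hlt
      rw [height_eq_of_mem_minimalPrimes good i hlen hht hP] at h1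
      exact_mod_cast h1

theorem exists_gens (J : Ideal T) (hJ : J ≠ ⊤) (j : ℕ) (hj : J.height = j) :
    ∀ i ≤ j, ∃ good rest : List T, good.length = i ∧ Ideal.ofList (good ++ rest) = J ∧
      (good ++ rest).length = J.spanFinrank ∧ (Ideal.ofList good).height = (i : ℕ∞) := by
  classical
  intro i
  induction i with
  | zero =>
    intro _
    obtain ⟨s, hcard, hs⟩ :=
      Submodule.FG.exists_span_finset_card_eq_spanFinrank (IsNoetherian.noetherian J)
    refine ⟨[], s.toList, rfl, ?_, ?_, ?_⟩
    · rw [List.nil_append]
      unfold Ideal.ofList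
      rw [← hs]
      congr 1
      ext x
      simp
    · rw [List.nil_append, Finset.length_toList, hcard]
    · rw [Ideal.ofList_nil, Ideal.height_bot]
      rfl
  | succ i ih =>
    intro hi
    obtain ⟨good, rest, hlen, hspan, hc, hht⟩ := ih (by omega)
    exact step J hJ j hj i (by omega) good rest hlen hspan hc hht

theorem main (hF : LocCoh.IsCohenMacaulayLocalRing T) (J : Ideal T) (hJ : J ≠ ⊤) (j : ℕ)
    (hj : LocCoh.idealDepth J T = j) :
    j ≤ Submodule.spanFinrank J ∧
      ∃ ts : List T, ts.length = Submodule.spanFinrank J ∧ Ideal.ofList ts = J ∧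
        RingTheory.Sequence.IsRegular T (ts.take j) := by
  have hht : J.height = j := by
    rw [← Groth.Agent.H72.CMLocal.idealDepth_eq_height T hF J hJ, hj]
  have hjc : j ≤ J.spanFinrank := by
    have := Ideal.height_le_spanFinrank J hJ
    rw [hht] at this
    exact_mod_cast this
  refine ⟨hjc, ?_⟩
  obtain ⟨good, rest, hlen, hspan, hc, hgood⟩ := exists_gens J hJ j hht j le_rfl
  refine ⟨good ++ rest, hc, hspan, ?_⟩
  have htake : (good ++ rest).take j = good := by
    rw [← hlen]; exact List.take_left
  rw [htake]
  have hgJ : Ideal.ofList good ≤ J := hspan ▸ ofList_mono_append_left good rest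
  have hgm : Ideal.ofList good ≤ maximalIdeal T := hgJ.trans (le_maximalIdeal hJ)
  have hmem : ∀ x ∈ good, x ∈ maximalIdeal T := by
    intro x hx
    apply hgm
    exact Ideal.subset_span hx
  have hle : ∀ ys : List T, (∀ y ∈ ys, y ∈ maximalIdeal T) →
      LocCoh.idealDepth (Ideal.ofList ys) T ≤ ys.length := by
    intro ys hys
    have hne : Ideal.ofList ys ≠ ⊤ := by
      intro htop
      have h1 : Ideal.ofList ys ≤ maximalIdeal T := Ideal.span_le.mpr hys
      rw [htop] at h1
      exact (maximalIdeal.isMaximal T).ne_top (eq_top_iff.mpr h1)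
    rw [Groth.Agent.H72.CMLocal.idealDepth_eq_height T hF _ hne]
    refine (Ideal.height_le_spanFinrank _ hne).trans ?_
    exact_mod_cast spanFinrank_ofList_le ys
  have hgne : Ideal.ofList good ≠ ⊤ := fun htop =>
    (maximalIdeal.isMaximal T).ne_top (eq_top_iff.mpr (htop ▸ hgm))
  have hdepth : LocCoh.idealDepth (Ideal.ofList good) T = good.length := by
    rw [Groth.Agent.H72.CMLocal.idealDepth_eq_height T hF _ hgne, hgood, hlen]
  refine ⟨Groth.Agent.H72.DepthGen.isWeaklyRegular_of_idealDepth_eq T hle good hmem hdepth, ?_⟩
  intro htop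
  apply hgne
  have h2 : Ideal.ofList good • (⊤ : Submodule T T) = Ideal.ofList good := by
    rw [smul_eq_mul, Ideal.mul_top]
  rw [h2] at htop
  exact htop.symm

end Groth.Agent.H96.CMGens
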