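import Mathlib.RingTheory.WittVector.Truncated
import Mathlib.RingTheory.WittVector.Identities
import Mathlib.RingTheory.WittVector.DiscreteValuationRing
import Mathlib.RingTheory.WittVector.Domain
import Mathlib.RingTheory.LocalRing.ResidueField.Basic
import Mathlib.FieldTheory.Perfect
import Mathlib.RingTheory.WittVector.Teichmuller

set_option autoImplicit false
universe u

open WittVector IsLocalRing

namespace Groth.Agent.H96.WittTrunc

section C0

variable (p : ℕ) [hp : Fact p.Prime] (k : Type u) [CommRing k] (n : ℕ)

/-- The zeroth coefficient as a ring hom on truncated Witt vectors of positive length. -/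
noncomputable def c0 : TruncatedWittVector p (n + 1) k →+* k where
  toFun x := x.coeff 0
  map_one' := by
    rw [← map_one (WittVector.truncate (p := p) (R := k) (n + 1)), WittVector.coeff_truncate]
    simp
  map_zero' := by
    rw [← map_zero (WittVector.truncate (p := p) (R := k) (n + 1)), WittVector.coeff_truncate]
    simp
  map_mul' x y := by
    obtain ⟨X, rfl⟩ := WittVector.truncate_surjective p (n + 1) k x
    obtain ⟨Y, rfl⟩ := WittVector.truncate_surjective p (n + 1) k y
    rw [← map_mul, WittVector.coeff_truncate, WittVector.coeff_truncate, WittVector.coeff_truncate]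
    exact WittVector.mul_coeff_zero X Y
  map_add' x y := by
    obtain ⟨X, rfl⟩ := WittVector.truncate_surjective p (n + 1) k x
    obtain ⟨Y, rfl⟩ := WittVector.truncate_surjective p (n + 1) k y
    rw [← map_add, WittVector.coeff_truncate, WittVector.coeff_truncate, WittVector.coeff_truncate]
    exact WittVector.add_coeff_zero X Y

theorem c0_apply (x : TruncatedWittVector p (n + 1) k) : c0 p k n x = x.coeff 0 := rfl

theorem c0_truncate (X : WittVector p k) :
    c0 p k n (WittVector.truncate (n + 1) X) = X.coeff 0 := by
  rw [c0_apply, WittVector.coeff_truncate]; rfl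

theorem c0_surjective : Function.Surjective (c0 p k n) := by
  intro a
  refine ⟨WittVector.truncate (n + 1) (WittVector.teichmuller p a), ?_⟩
  rw [c0_truncate, WittVector.teichmuller_coeff_zero]

end C0

section Local

variable (p : ℕ) [hp : Fact p.Prime] (k : Type u) [Field k] [CharP k p] (n : ℕ)

theorem isUnit_iff (x : TruncatedWittVector p (n + 1) k) : IsUnit x ↔ c0 p k n x ≠ 0 := by
  constructor
  · intro h
    exact (h.map (c0 p k n)).ne_zero
  · intro h
    obtain ⟨X, rfl⟩ := WittVector.truncate_surjective p (n + 1) k x
    rw [c0_truncate] at h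
    exact (WittVector.isUnit_of_coeff_zero_ne_zero X h).map _

instance nontrivial : Nontrivial (TruncatedWittVector p (n + 1) k) := by
  refine ⟨0, 1, fun h => ?_⟩
  have := congrArg (c0 p k n) h
  simp at this

instance isLocalRing : IsLocalRing (TruncatedWittVector p (n + 1) k) := by
  apply IsLocalRing.of_nonunits_add
  intro a b ha hb
  rw [mem_nonunits_iff, isUnit_iff, not_not] at ha hb ⊢
  rw [map_add, ha, hb, add_zero]

theorem mem_maximalIdeal_iff (x : TruncatedWittVector p (n + 1) k) :
    x ∈ maximalIdeal (TruncatedWittVector p (n + 1) k) ↔ c0 p k n x = 0 := by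
  rw [IsLocalRing.mem_maximalIdeal, mem_nonunits_iff, isUnit_iff, not_not]

theorem p_pow_eq_zero : ((p : TruncatedWittVector p (n + 1) k)) ^ (n + 1) = 0 := by
  have : ((p : TruncatedWittVector p (n + 1) k)) ^ (n + 1) =
      WittVector.truncate (n + 1) ((p : WittVector p k) ^ (n + 1)) := by
    rw [map_pow, map_natCast]
  rw [this]
  ext i
  rw [WittVector.coeff_truncate, TruncatedWittVector.coeff_zero]
  exact WittVector.coeff_p_pow_eq_zero p k (ne_of_lt i.isLt)

theorem maximalIdeal_eq [PerfectRing k p] :
    maximalIdeal (TruncatedWittVector p (n + 1) k) =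
      Ideal.span {(p : TruncatedWittVector p (n + 1) k)} := by
  apply le_antisymm
  · intro x hx
    rw [mem_maximalIdeal_iff] at hx
    obtain ⟨X, rfl⟩ := WittVector.truncate_surjective p (n + 1) k x
    rw [c0_truncate] at hx
    have hX0 : ∀ i < 0 + 1, X.coeff i = 0 := by
      intro i hi
      have : i = 0 := by omega
      rw [this, hx]
    have hV : WittVector.verschiebung (X.shift 1) = X := by
      rw [WittVector.verschiebung_shift X 0 hX0]
      ext j
      rw [WittVector.shift_coeff, zero_add]
    obtain ⟨Z, hZ⟩ := (WittVector.frobenius_bijective p k).surjective (X.shift 1)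
    rw [← hZ, WittVector.verschiebung_frobenius] at hV
    rw [← hV, map_mul, map_natCast]
    exact Ideal.mul_mem_left _ _ (Ideal.subset_span rfl)
  · rw [Ideal.span_le, Set.singleton_subset_iff, SetLike.mem_coe, mem_maximalIdeal_iff, map_natCast]
    exact CharP.cast_eq_zero k p

instance isLocalHom_c0 : IsLocalHom (c0 p k n) :=
  ⟨fun x hx => (isUnit_iff p k n x).mpr hx.ne_zero⟩

/-- The residue field of `W_{n+1}(k)` is `k`. -/
noncomputable def resEquiv : ResidueField (TruncatedWittVector p (n + 1) k) ≃+* k :=
  RingEquiv.ofBijective (ResidueField.lift (c0 p k n))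
    ⟨RingHom.injective _, fun a => by
      obtain ⟨x, rfl⟩ := c0_surjective p k n a
      exact ⟨residue _ x, ResidueField.lift_residue_apply _ _⟩⟩

theorem resEquiv_residue (x : TruncatedWittVector p (n + 1) k) :
    resEquiv p k n (residue _ x) = c0 p k n x :=
  ResidueField.lift_residue_apply _ _

end Local

end Groth.Agent.H96.WittTrunc
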