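import Groth.Prelude.Def_HopfRep
import Mathlib.RingTheory.HopfAlgebra.MonoidAlgebra
import Mathlib.LinearAlgebra.TensorProduct.Basic

/-!
# Comodules over a group algebra `k[M]`: weight components

For a comodule `V` over `AddMonoidAlgebra k M` (`M` finite as a type here), every vector is the sum of
its weight components `comp a f`, and `coact (comp a f) = comp a f ⊗ single a 1`.
-/

set_option autoImplicit false
set_option linter.unusedSectionVars false
universe u v w

open TensorProduct

namespace Groth.Agent.H96.DiagComod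

noncomputable section

variable {k : Type u} [CommRing k] {M : Type v}
variable {V : Type w} [AddCommGroup V] [Module k V]

/-- coefficient functional of the group algebra -/
def xi (a : M) : AddMonoidAlgebra k M →ₗ[k] k :=
  Finsupp.lapply a ∘ₗ (AddMonoidAlgebra.coeffLinearEquiv k).toLinearMap

@[simp] lemma xi_apply (a : M) (x : AddMonoidAlgebra k M) : xi a x = x.coeff a := rfl

/-- `v ⊗ x ↦ x.coeff a • v` -/
def sl (a : M) : V ⊗[k] AddMonoidAlgebra k M →ₗ[k] V :=
  (TensorProduct.rid k V).toLinearMap ∘ₗ LinearMap.lTensor V (xi a)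

@[simp] lemma sl_tmul (a : M) (v : V) (x : AddMonoidAlgebra k M) :
    sl a (v ⊗ₜ[k] x) = x.coeff a • v := by
  simp [sl]

lemma sum_coeff_smul_single [Fintype M] (x : AddMonoidAlgebra k M) :
    ∑ a, x.coeff a • AddMonoidAlgebra.single a (1 : k) = x := by
  conv_rhs => rw [← AddMonoidAlgebra.sum_coeff_single x]
  rw [Finsupp.sum_fintype _ _ (fun a => by simp)]
  refine Finset.sum_congr rfl (fun a _ => ?_)
  rw [AddMonoidAlgebra.smul_single, smul_eq_mul, mul_one]

lemma decomp [Fintype M] (z : V ⊗[k] AddMonoidAlgebra k M) :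
    ∑ a, sl a z ⊗ₜ[k] AddMonoidAlgebra.single a (1 : k) = z := by
  induction z with
  | zero => simp
  | add x y hx hy =>
    simp only [map_add, add_tmul, Finset.sum_add_distrib, hx, hy]
  | tmul v x =>
    simp only [sl_tmul]
    conv_rhs => rw [← sum_coeff_smul_single x, tmul_sum]
    refine Finset.sum_congr rfl (fun a _ => ?_)
    rw [smul_tmul]

variable [AddMonoid M] [HopfRep.Comod k (AddMonoidAlgebra k M) V]

/-- the weight-`a` component of `f` -/
def comp (a : M) (f : V) : V := sl a (HopfRep.Comod.coact (k := k) (A := AddMonoidAlgebra k M) f)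

lemma coact_eq_sum [Fintype M] (f : V) :
    HopfRep.Comod.coact (k := k) (A := AddMonoidAlgebra k M) f =
      ∑ a, comp (k := k) a f ⊗ₜ[k] AddMonoidAlgebra.single a (1 : k) :=
  (decomp _).symm

/-- `v ⊗ (x ⊗ y) ↦ y.coeff a • (v ⊗ x)` -/
def Phi (a : M) : V ⊗[k] (AddMonoidAlgebra k M ⊗[k] AddMonoidAlgebra k M) →ₗ[k]
    V ⊗[k] AddMonoidAlgebra k M :=
  LinearMap.lTensor V ((TensorProduct.rid k _).toLinearMap ∘ₗ LinearMap.lTensor _ (xi a))

omit [AddMonoid M] in
@[simp] lemma Phi_tmul (a : M) (v : V) (x y : AddMonoidAlgebra k M) :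
    Phi a (v ⊗ₜ[k] (x ⊗ₜ[k] y)) = y.coeff a • (v ⊗ₜ[k] x) := by
  simp [Phi, tmul_smul]

omit [AddMonoid M] in
lemma Phi_assoc (a : M) (w : V ⊗[k] AddMonoidAlgebra k M) (y : AddMonoidAlgebra k M) :
    Phi a ((TensorProduct.assoc k V _ _) (w ⊗ₜ[k] y)) = y.coeff a • w := by
  induction w with
  | zero => simp
  | add x x' hx hx' => simp only [add_tmul, map_add, hx, hx', smul_add]
  | tmul v x => simp

lemma coact_comp [Fintype M] [DecidableEq M] (a : M) (f : V) :
    HopfRep.Comod.coact (k := k) (A := AddMonoidAlgebra k M) (comp (k := k) a f) =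
      comp (k := k) a f ⊗ₜ[k] AddMonoidAlgebra.single a (1 : k) := by
  have h := LinearMap.congr_fun (HopfRep.Comod.coassoc (k := k) (A := AddMonoidAlgebra k M) (V := V)) f
  simp only [LinearMap.comp_apply, LinearEquiv.coe_coe] at h
  rw [coact_eq_sum f] at h
  simp only [map_sum, LinearMap.rTensor_tmul, LinearMap.lTensor_tmul] at h
  have h2 := congrArg (Phi a) h
  simp only [map_sum, Phi_assoc] at h2
  simp only [AddMonoidAlgebra.comul_single, CommSemiring.comul_apply, TensorProduct.map_tmul,
    AddMonoidAlgebra.lsingle_apply, Phi_tmul, AddMonoidAlgebra.coeff_single,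
    Finsupp.single_apply] at h2
  simpa [Finset.sum_ite_eq', ite_smul] using h2

lemma sum_comp [Fintype M] (f : V) : ∑ a, comp (k := k) (M := M) a f = f := by
  have h := LinearMap.congr_fun
    (HopfRep.Comod.counit_comp (k := k) (A := AddMonoidAlgebra k M) (V := V)) f
  simp only [LinearMap.comp_apply] at h
  rw [coact_eq_sum f] at h
  simp only [map_sum, LinearMap.lTensor_tmul, AddMonoidAlgebra.counit_single,
    CommSemiring.counit_apply, LinearMap.flip_apply, TensorProduct.mk_apply] at h
  have h2 := congrArg (TensorProduct.rid k V) h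
  simpa using h2

end

end Groth.Agent.H96.DiagComod
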