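import Mathlib
import Groth.Prelude.Def_WeilCoh
import Groth.Agent.H96.WeilDim
import Groth.Agent.H97.REqAffine

/-!
# The point as an object of `WeilCoh.Var k`, and the class of the generic point

* `pt k : Var k`, `toPt X : X ⟶ pt k`, `dim_pt`;
* `exists_smul_cl_generic_eq_one`: for a theory `T` on `Var k`, the class of the generic point of `X`
  is an invertible scalar multiple of `1` (pull-back formula along `X ⟶ pt`).
-/

set_option autoImplicit false
set_option linter.style.haveILetI false
set_option linter.unusedSectionVars false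
set_option linter.unusedVariables false

universe u v w

open CategoryTheory AlgebraicGeometry WeilCoh

namespace Groth.Agent.H96.WeilPt

variable (k : Type u) [Field k]

/-- A `k`-rational point of `P^0_k`. -/
noncomputable def ptSection : Spec (CommRingCat.of k) ⟶
    CohB1.ProjSpaceOver 0 (Spec (CommRingCat.of k)) :=
  Spec.map (CommRingCat.ofHom (MvPolynomial.eval (0 : Fin 0 → k))) ≫ Groth.Agent.H97.REqAffine.chart k 0

theorem ptSection_toBase :
    ptSection k ≫ CohB1.ProjSpaceOver.toBase 0 (Spec (CommRingCat.of k)) = 𝟙 _ := by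
  unfold ptSection
  rw [Category.assoc, Groth.Agent.H97.REqAffine.chart_toBase, ← Spec.map_comp,
    ← CommRingCat.ofHom_comp]
  have : (MvPolynomial.eval (0 : Fin 0 → k)).comp (algebraMap k (MvPolynomial (Fin 0) k)) =
      RingHom.id k := by
    ext a
    simp
  rw [this]
  exact Spec.map_id _

theorem isVar_pt : IsVar k (Over.mk (𝟙 (Spec (CommRingCat.of k)))) := by
  refine ⟨?_, ⟨0, ptSection k, ?_, ptSection_toBase k⟩, ?_⟩
  · change Smooth (𝟙 (Spec (CommRingCat.of k)))
    infer_instance
  · have : IsClosedImmersion (ptSection k ≫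
        CohB1.ProjSpaceOver.toBase 0 (Spec (CommRingCat.of k))) := by
      rw [ptSection_toBase]; infer_instance
    exact IsClosedImmersion.of_comp (ptSection k)
      (CohB1.ProjSpaceOver.toBase 0 (Spec (CommRingCat.of k)))
  · change IrreducibleSpace (PrimeSpectrum k)
    infer_instance

/-- The point `Spec k` as an object of `Var k`. -/
noncomputable def pt : Var k := ⟨Over.mk (𝟙 (Spec (CommRingCat.of k))), isVar_pt k⟩

variable {k}

/-- The structure morphism of `X` as a morphism to the point. -/
noncomputable def toPt (X : Var k) : X ⟶ pt k :=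
  ObjectProperty.homMk (Over.homMk X.obj.hom (by simp [pt]))

theorem sm_toPt (X : Var k) : sm (toPt X) = X.obj.hom := rfl

theorem natDim_of_subsingleton (S : Type u) [TopologicalSpace S] [Subsingleton S] :
    natDim S = 0 := by
  unfold natDim
  have h : topologicalKrullDim S ≤ 0 := by
    unfold topologicalKrullDim
    have : Subsingleton (TopologicalSpace.IrreducibleCloseds S) := ⟨fun a b => by
      apply TopologicalSpace.IrreducibleCloseds.ext
      obtain ⟨x, hx⟩ := a.isIrreducible.nonempty
      obtain ⟨y, hy⟩ := b.isIrreducible.nonempty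
      ext z
      rw [Subsingleton.elim z x]
      exact ⟨fun _ => by rw [Subsingleton.elim x y]; exact hy, fun _ => hx⟩⟩
    exact Order.krullDim_nonpos_of_subsingleton
  induction h' : topologicalKrullDim S with
  | bot => simp
  | coe a =>
    rw [h'] at h
    have : a ≤ 0 := by exact_mod_cast h
    have : a = 0 := le_antisymm this zero_le
    simp [this]

instance : Subsingleton ↥(pt k).obj.left :=
  inferInstanceAs (Subsingleton (PrimeSpectrum k))

theorem dim_pt : dim (pt k).obj.left = 0 := natDim_of_subsingleton _

theorem pdim_pt (ξ : (pt k).obj.left) : pdim (pt k).obj.left ξ = 0 := natDim_of_subsingleton _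

section Generic

theorem irreducibleSpace (X : Var k) : IrreducibleSpace X.obj.left := X.property.2.2

/-- The generic point of an object of `Var k`. -/
noncomputable def gen (X : Var k) : X.obj.left :=
  have := irreducibleSpace X
  genericPoint X.obj.left

theorem closure_gen (X : Var k) : closure ({gen X} : Set X.obj.left) = Set.univ := by
  have := irreducibleSpace X
  exact (genericPoint_spec X.obj.left).def

theorem gen_specializes (X : Var k) (w : X.obj.left) : gen X ⤳ w := by
  rw [specializes_iff_mem_closure, closure_gen]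
  exact Set.mem_univ _

theorem pdim_gen (X : Var k) : pdim X.obj.left (gen X) = dim X.obj.left := by
  unfold pdim dim
  rw [closure_gen]
  exact Groth.Agent.H96.WeilDim.natDim_eq_of_homeomorph (Homeomorph.Set.univ _)

theorem isCompPt_univ_iff (X : Var k) (F : Set X.obj.left) (hF : F = Set.univ) (w : X.obj.left) :
    IsCompPt F w ↔ w = gen X := by
  subst hF
  constructor
  · intro hw
    exact (hw.2 (gen X) (Set.mem_univ _) (gen_specializes X w)).symm
  · rintro rfl
    refine ⟨Set.mem_univ _, fun w' _ hw' => ?_⟩
    exact (hw'.antisymm (gen_specializes X w')).eq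

variable {K : Type v} [Field K] (T : TheoryOn.{u, v, w} k (IsVar k) K)

/-- The class of the generic point of `X` is an invertible multiple of `1`. -/
theorem exists_smul_cl_gen_eq_one (X : Var k) : ∃ m : K, m • T.cl X (gen X) = 1 := by
  have hpt := T.point (pt k) dim_pt
  set ξ : (pt k).obj.left := sm (toPt X) (gen X) with hξ
  have hF : (sm (toPt X)) ⁻¹' closure ({ξ} : Set (pt k).obj.left) = Set.univ := by
    ext w
    simp only [Set.mem_preimage, Set.mem_univ, iff_true]
    rw [Subsingleton.elim (sm (toPt X) w) ξ]
    exact subset_closure rfl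
  have hsm : Smooth (sm (toPt X)) := X.property.1
  have h := T.cl_pull (toPt X) ξ ?_ (Or.inl ⟨⊤, Set.subset_univ _, inferInstance⟩)
  · rw [hpt.1 ξ, map_one] at h
    have hu : Unique {w : X.obj.left //
        IsCompPt ((sm (toPt X)) ⁻¹' closure ({ξ} : Set (pt k).obj.left)) w} :=
      { default := ⟨gen X, (isCompPt_univ_iff X _ hF _).mpr rfl⟩
        uniq := fun w => Subtype.ext ((isCompPt_univ_iff X _ hF _).mp w.2) }
    rw [finsum_unique] at h
    generalize (default : {w : X.obj.left //
        IsCompPt ((sm (toPt X)) ⁻¹' closure ({ξ} : Set (pt k).obj.left)) w}) = d at h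
    obtain ⟨w, hw⟩ := d
    have hw' : w = gen X := (isCompPt_univ_iff X _ hF _).mp hw
    subst hw'
    exact ⟨_, h.symm⟩
  · intro w hw
    have hw' : w = gen X := (isCompPt_univ_iff X _ hF _).mp hw
    rw [hw', pdim_gen, pdim_pt, dim_pt]
    simp

theorem one_ne_zero' (X : Var k) : (1 : T.H X) ≠ 0 := by
  intro h
  obtain ⟨a, ha⟩ := (T.tr_bijective X).2 1
  have h1 : T.tr X (a : T.H X) = 1 := ha
  have h2 : (a : T.H X) = 0 := by rw [← mul_one (a : T.H X), h, mul_zero]
  rw [h2, map_zero] at h1
  exact zero_ne_one h1

/-- The class of the generic point of `X` is `c • 1` for a nonzero scalar `c`. -/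
theorem exists_cl_gen_eq_smul_one (X : Var k) : ∃ c : K, c ≠ 0 ∧ T.cl X (gen X) = c • 1 := by
  obtain ⟨m, hm⟩ := exists_smul_cl_gen_eq_one T X
  have hm0 : m ≠ 0 := by
    rintro rfl
    rw [zero_smul] at hm
    exact one_ne_zero' T X hm.symm
  refine ⟨m⁻¹, inv_ne_zero hm0, ?_⟩
  rw [← hm, smul_smul, inv_mul_cancel₀ hm0, one_smul]

end Generic

end Groth.Agent.H96.WeilPt
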