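import Mathlib
import Groth.Prelude.Def_WeilCoh
import Groth.Agent.H96.WeilDim
import Groth.Agent.H96.WeilPt

/-!
# Graph classes and their action as correspondences

For a theory `T` on `Var k`, a product `(p, q) : P → X, X`, and an endomorphism `F` of `X`,
every polynomial in `F^*` is the action of an algebraic class on `P`.
-/

set_option autoImplicit false
set_option linter.style.haveILetI false
set_option linter.unusedSectionVars false
set_option linter.unusedVariables false

universe u v w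

open CategoryTheory AlgebraicGeometry WeilCoh

namespace Groth.Agent.H96.WeilGraph

open Groth.Agent.H96.WeilPt Groth.Agent.H96.WeilDim

variable {k : Type u} [Field k]

/-- Morphisms into a product. -/
theorem exists_lift {X Y Q Z : Var k} (p : Q ⟶ X) (q : Q ⟶ Y) (hP : IsProd p q)
    (φ : Z ⟶ X) (ψ : Z ⟶ Y) : ∃ g : Z ⟶ Q, g ≫ p = φ ∧ g ≫ q = ψ := by
  have hw : sm φ ≫ X.obj.hom = sm ψ ≫ Y.obj.hom := by
    rw [Over.w φ.hom, Over.w ψ.hom]
  have h1 : hP.lift (sm φ) (sm ψ) hw ≫ sm p = sm φ := hP.lift_fst _ _ _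
  have h2 : hP.lift (sm φ) (sm ψ) hw ≫ sm q = sm ψ := hP.lift_snd _ _ _
  have hQ : sm p ≫ X.obj.hom = Q.obj.hom := Over.w p.hom
  refine ⟨ObjectProperty.homMk (Over.homMk (hP.lift (sm φ) (sm ψ) hw) ?_), ?_, ?_⟩
  · rw [← hQ, ← Category.assoc, h1]
    exact Over.w φ.hom
  · apply ObjectProperty.hom_ext
    apply Over.OverMorphism.ext
    exact h1
  · apply ObjectProperty.hom_ext
    apply Over.OverMorphism.ext
    exact h2

/-- Iterates of an endomorphism. -/
noncomputable def iter {X : Var k} (F : X ⟶ X) : ℕ → (X ⟶ X)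
  | 0 => 𝟙 X
  | (m + 1) => F ≫ iter F m

section General

variable {P : ObjectProperty (Over (Spec (CommRingCat.of k)))}
variable {K : Type v} [Field K] (T : TheoryOn.{u, v, w} k P K)

/-- Characterisation of a push-forward by traces. -/
theorem push_eq_of_tr {X Y : P.FullSubcategory} (f : X ⟶ Y) (i : ℤ) (a : T.gr X i) (y : T.H Y)
    (hy : y ∈ T.gr Y (i + 2 * (dim Y.obj.left : ℤ) - 2 * (dim X.obj.left : ℤ)))
    (h : ∀ γ ∈ T.gr Y (2 * (dim X.obj.left : ℤ) - i),
      T.tr X ((a : T.H X) * T.pull f γ) = T.tr Y (y * γ)) :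
    (T.push f i a : T.H Y) = y := by
  refine Groth.Agent.H77.eq_of_tr_mul_eq T Y _ (2 * (dim X.obj.left : ℤ) - i) (by omega) _ _
    (Subtype.property _) hy ?_
  intro γ hγ
  rw [Groth.Agent.H77.push_spec T f i a γ hγ, h γ hγ]

theorem pullDeg_pow_coe {X : Var k} {K : Type v} [Field K] (T : TheoryOn.{u, v, w} k (IsVar k) K)
    (F : X ⟶ X) (j : ℤ) (b : T.gr X j) (m : ℕ) :
    (((T.pullDeg F j) ^ m) b : T.H X) = T.pull (iter F m) (b : T.H X) := by
  induction m with
  | zero =>
    simp only [pow_zero, iter]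
    rw [T.pull_id]
    rfl
  | succ m ih =>
    rw [pow_succ', iter, T.pull_comp]
    change T.pull F (((T.pullDeg F j) ^ m) b : T.H X) = _
    rw [ih]
    rfl

end General

section Graph

variable {K : Type v} [Field K] (T : TheoryOn.{u, v, w} k (IsVar k) K)
variable {X P : Var k} (p q : P ⟶ X) (hP : IsProd p q)

include T hP in
theorem dim_P : (dim P.obj.left : ℤ) = 2 * (dim X.obj.left : ℤ) := by
  have := dim_prod T p q hP
  omega

include hP in
/-- The class of the graph of a section of `q` has degree `2 dim X`. -/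
theorem cl_graph_mem (g : X ⟶ P) (hgq : g ≫ q = 𝟙 X) :
    T.cl P (sm g (gen X)) ∈ T.gr P (2 * (dim X.obj.left : ℤ)) := by
  have hci : IsClosedImmersion (sm g) := isClosedImmersion_of_section q g hgq
  have hpd : pdim P.obj.left (sm g (gen X)) = pdim X.obj.left (gen X) :=
    pdim_eq_of_isClosedEmbedding (sm g) (sm g).isClosedEmbedding (gen X)
  rw [pdim_gen] at hpd
  have hn := dim_prod T p q hP
  have hc : (codim P.obj.left (sm g (gen X)) : ℤ) = (dim X.obj.left : ℤ) := by
    unfold codim; rw [hpd, hn]; omega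
  have := T.cl_mem P (sm g (gen X))
  rw [hc] at this
  exact this

/-- Trace against the class of the graph of a section `g` of `q`. -/
theorem tr_cl_graph_mul (g : X ⟶ P) (hgq : g ≫ q = 𝟙 X) (c : K)
    (hc : T.cl X (gen X) = c • 1) (A : T.H P) (hA : A ∈ T.gr P (2 * (dim X.obj.left : ℤ))) :
    T.tr P (T.cl P (sm g (gen X)) * A) = c * T.tr X (T.pull g A) := by
  have hrd : (sm g).residueDegree (gen X) = 1 :=
    residueDegree_eq_one_of_section (sm g) (sm q) (by rw [← sm_comp, hgq]; rfl) (gen X)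
  have h1 := T.cl_push g (gen X) A (by rw [pdim_gen]; exact hA)
  rw [hrd, Nat.cast_one, one_mul, hc, smul_mul_assoc, one_mul, map_smul, smul_eq_mul] at h1
  exact h1.symm

include hP in
/-- The correspondence action of the graph class of `(φ, 𝟙)`, in terms of traces. -/
theorem tr_graph_action (g : X ⟶ P) (φ : X ⟶ X) (hgp : g ≫ p = φ) (hgq : g ≫ q = 𝟙 X) (c : K)
    (hc : T.cl X (gen X) = c • 1) (j : ℤ) (b γ : T.H X) (hb : b ∈ T.gr X j)
    (hγ : γ ∈ T.gr X (2 * (dim X.obj.left : ℤ) - j)) :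
    T.tr P (T.pull p b * T.cl P (sm g (gen X)) * T.pull q γ) =
      c * T.tr X (T.pull φ b * γ) := by
  have hpb : T.pull p b ∈ T.gr P j := T.pull_mem p j b hb
  have hqγ : T.pull q γ ∈ T.gr P (2 * (dim X.obj.left : ℤ) - j) := T.pull_mem q _ γ hγ
  have hA : T.pull p b * T.pull q γ ∈ T.gr P (2 * (dim X.obj.left : ℤ)) :=
    Groth.Agent.H77.mem_gr_of_eq T P (SetLike.mul_mem_graded hpb hqγ) (by omega)
  rw [mul_comm_of_even T P j _ _ _ hpb (cl_graph_mem T p q hP g hgq), mul_assoc,
    tr_cl_graph_mul T q g hgq c hc _ hA, map_mul, ← AlgHom.comp_apply, ← AlgHom.comp_apply,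
    ← T.pull_comp, ← T.pull_comp, hgp, hgq, T.pull_id]
  rfl

include hP in
/-- Every polynomial in `F^*` is the correspondence action of an algebraic class. -/
theorem exists_class_action (F : X ⟶ X) (Q : Polynomial K) :
    ∃ u : ↥(T.gr P (2 * (dim X.obj.left : ℤ))),
      (u : T.H P) ∈ Submodule.span K (Set.range (T.cl P)) ∧
        ∀ (j : ℤ) (b : ↥(T.gr X j)),
          (T.push q (j + 2 * (dim X.obj.left : ℤ))
              ⟨T.pull p (b : T.H X) * (u : T.H P),
                SetLike.mul_mem_graded (T.pull_mem p j b b.2) u.2⟩ : T.H X) =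
            ((Polynomial.aeval (T.pullDeg F j) Q) b : T.H X) := by
  obtain ⟨c, hc0, hc⟩ := exists_cl_gen_eq_smul_one T X
  have hg : ∀ m : ℕ, ∃ g : X ⟶ P, g ≫ p = iter F m ∧ g ≫ q = 𝟙 X :=
    fun m => exists_lift p q hP (iter F m) (𝟙 X)
  choose g hgp hgq using hg
  have hdP := dim_P T p q hP
  set u0 : T.H P := c⁻¹ • ∑ m ∈ Finset.range (Q.natDegree + 1),
    Q.coeff m • T.cl P (sm (g m) (gen X)) with hu0
  have hu0mem : u0 ∈ T.gr P (2 * (dim X.obj.left : ℤ)) :=
    Submodule.smul_mem _ _ (Submodule.sum_mem _ fun m _ =>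
      Submodule.smul_mem _ _ (cl_graph_mem T p q hP (g m) (hgq m)))
  refine ⟨⟨u0, hu0mem⟩, ?_, ?_⟩
  · exact Submodule.smul_mem _ _ (Submodule.sum_mem _ fun m _ =>
      Submodule.smul_mem _ _ (Submodule.subset_span ⟨_, rfl⟩))
  · intro j b
    refine push_eq_of_tr T q _ _ _
      (Groth.Agent.H77.mem_gr_of_eq T X (Subtype.property _) (by omega)) ?_
    intro γ hγ
    have hγ' : γ ∈ T.gr X (2 * (dim X.obj.left : ℤ) - j) :=
      Groth.Agent.H77.mem_gr_of_eq T X hγ (by omega)
    change T.tr P (T.pull p (b : T.H X) * u0 * T.pull q γ) = _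
    rw [hu0, mul_smul_comm, smul_mul_assoc, Finset.mul_sum, Finset.sum_mul, map_smul, map_sum,
      Polynomial.aeval_eq_sum_range, LinearMap.sum_apply, Submodule.coe_sum, Finset.sum_mul,
      map_sum, smul_eq_mul, Finset.mul_sum]
    refine Finset.sum_congr rfl fun m _ => ?_
    rw [mul_smul_comm, smul_mul_assoc, map_smul, smul_eq_mul,
      tr_graph_action T p q hP (g m) (iter F m) (hgp m) (hgq m) c hc j _ γ b.2 hγ',
      LinearMap.smul_apply, Submodule.coe_smul, smul_mul_assoc, map_smul, smul_eq_mul,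
      pullDeg_pow_coe]
    field_simp

end Graph

end Groth.Agent.H96.WeilGraph
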