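import Mathlib
import Groth.Prelude.Def_WeilCoh
import Groth.Agent.H96.WeilGraph
import Groth.Agent.H53.ReducedSm

/-!
# The class of the generic point is `1`

Objects of `Var k` are integral; the multiplicity of the pull-back formula along `X ⟶ pt` is `1`;
hence `cl X (generic point) = 1`.
-/

set_option autoImplicit false
set_option linter.style.haveILetI false
set_option linter.unusedSectionVars false
set_option linter.unusedVariables false

universe u v w

open CategoryTheory AlgebraicGeometry WeilCoh

namespace Groth.Agent.H96.WeilUnit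

open Groth.Agent.H96.WeilPt Groth.Agent.H96.WeilDim Groth.Agent.H96.WeilGraph

variable {k : Type u} [Field k]

theorem isReduced (X : Var k) : AlgebraicGeometry.IsReduced X.obj.left := by
  have : Smooth X.obj.hom := X.property.1
  exact Groth.Agent.H53.isReduced_of_smooth_scheme X.obj.hom

theorem isIntegral (X : Var k) : IsIntegral X.obj.left := by
  have := isReduced X
  have := irreducibleSpace X
  exact isIntegral_of_irreducibleSpace_of_isReduced _

theorem isField_stalk_gen (X : Var k) : IsField (X.obj.left.presheaf.stalk (gen X)) := by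
  have := isReduced X
  have := irreducibleSpace X
  refine isField_stalk_of_closure_mem_irreducibleComponents X.obj.left (gen X) ?_
  rw [closure_gen, irreducibleComponents_eq_singleton]
  exact Set.mem_singleton _

theorem isField_stalk_pt (x : (pt k).obj.left) : IsField ((pt k).obj.left.presheaf.stalk x) := by
  have h := isField_stalk_gen (pt k)
  rwa [Subsingleton.elim (gen (pt k)) x] at h

/-- The length of a field over itself modulo the zero ideal. -/
theorem length_quot_bot_of_isField (R : Type u) [CommRing R] (hR : IsField R) (I : Ideal R)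
    (hI : I = ⊥) : Module.length R (R ⧸ I) = 1 := by
  subst hI
  letI := hR.toField
  rw [(Submodule.quotEquivOfEqBot (⊥ : Ideal R) rfl).length_eq, Module.length_eq_one_iff]
  infer_instance

theorem preimMult_toPt_gen (X : Var k) (ξ : (pt k).obj.left)
    (h : sm (toPt X) (gen X) ∈ closure ({ξ} : Set (pt k).obj.left)) :
    preimMult (sm (toPt X)) ξ (gen X) h = 1 := by
  unfold preimMult
  have hker : RingHom.ker (Cyc.specMap (sm (toPt X) (gen X)) ξ
      (specializes_iff_mem_closure.mpr h)) = ⊥ := by
    have hF := isField_stalk_pt (sm (toPt X) (gen X))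
    letI := hF.toField
    exact (Ideal.eq_bot_or_top _).resolve_right (RingHom.ker_ne_top _)
  rw [length_quot_bot_of_isField _ (isField_stalk_gen X) _ (by rw [hker, Ideal.map_bot])]
  rfl

variable {K : Type v} [Field K] (T : TheoryOn.{u, v, w} k (IsVar k) K)

/-- The class of the generic point of `X` is `1`. -/
theorem cl_gen_eq_one (X : Var k) : T.cl X (gen X) = 1 := by
  have hpt := T.point (pt k) dim_pt
  set ξ : (pt k).obj.left := sm (toPt X) (gen X) with hξ
  have hF : (sm (toPt X)) ⁻¹' closure ({ξ} : Set (pt k).obj.left) = Set.univ := by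
    ext w
    simp only [Set.mem_preimage, Set.mem_univ, iff_true]
    rw [Subsingleton.elim (sm (toPt X) w) ξ]
    exact subset_closure rfl
  have hsm : Smooth (sm (toPt X)) := X.property.1
  have h := T.cl_pull (toPt X) ξ ?_ (Or.inl ⟨⊤, Set.subset_univ _, inferInstance⟩)
  · rw [hpt.1 ξ, map_one] at h
    have hu : Unique {w : X.obj.left //
        IsCompPt ((sm (toPt X)) ⁻¹' closure ({ξ} : Set (pt k).obj.left)) w} :=
      { default := ⟨gen X, (isCompPt_univ_iff X _ hF _).mpr rfl⟩
        uniq := fun w => Subtype.ext ((isCompPt_univ_iff X _ hF _).mp w.2) }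
    rw [finsum_unique] at h
    generalize (default : {w : X.obj.left //
        IsCompPt ((sm (toPt X)) ⁻¹' closure ({ξ} : Set (pt k).obj.left)) w}) = d at h
    obtain ⟨w, hw⟩ := d
    have hw' : w = gen X := (isCompPt_univ_iff X _ hF _).mp hw
    subst hw'
    rw [preimMult_toPt_gen, Nat.cast_one, one_smul] at h
    exact h.symm
  · intro w hw
    have hw' : w = gen X := (isCompPt_univ_iff X _ hF _).mp hw
    rw [hw', pdim_gen, pdim_pt, dim_pt]
    simp

/-- Version with Mathlib's `genericPoint`. -/
theorem cl_genericPoint_eq_one (X : Var k) [IrreducibleSpace ↥X.obj.left] :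
    T.cl X (genericPoint ↥X.obj.left) = 1 :=
  cl_gen_eq_one T X

end Groth.Agent.H96.WeilUnit
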