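import Mathlib
import Groth.Prelude.Def_WeilCoh
import Groth.Agent.H96.WeilUnit

/-!
# Closed points of objects of `Var k`, `k` algebraically closed

* residue degree one over `Spec k`, `pdim = 0`, trace of the class is `1`.
-/

set_option autoImplicit false
set_option linter.style.haveILetI false
set_option linter.unusedSectionVars false
set_option linter.unusedVariables false

universe u v w

open CategoryTheory AlgebraicGeometry WeilCoh

namespace Groth.Agent.H96.WeilClosedPt

open Groth.Agent.H96.WeilPt Groth.Agent.H96.WeilDim Groth.Agent.H96.WeilGraph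
  Groth.Agent.H96.WeilUnit

variable {k : Type u} [Field k]

theorem pdim_of_isClosed (X : Scheme.{u}) (x : X) (hx : IsClosed ({x} : Set X)) :
    pdim X x = 0 := by
  unfold pdim
  rw [hx.closure_eq]
  exact natDim_of_subsingleton _

theorem residueDegree_hom_of_isClosed [IsAlgClosed k] (X : Var k) (x : X.obj.left)
    (hx : IsClosed ({x} : Set X.obj.left)) : X.obj.hom.residueDegree x = 1 := by
  have := isProper_hom X
  let s := pointOfClosedPoint X.obj.hom x hx
  have hs : s ≫ X.obj.hom = 𝟙 _ := pointOfClosedPoint_comp X.obj.hom x hx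
  let a : (Spec (CommRingCat.of k) : Scheme.{u}) := IsLocalRing.closedPoint k
  have h1 := Groth.Agent.H48.CycPush.residueDegree_comp s X.obj.hom a
  rw [hs, Scheme.Hom.residueDegree_id] at h1
  have h2 : s a = x := pointOfClosedPoint_apply X.obj.hom x hx a
  rw [h2] at h1
  exact Nat.eq_one_of_mul_eq_one_right h1.symm

variable {K : Type v} [Field K] (T : TheoryOn.{u, v, w} k (IsVar k) K)

/-- The trace of the class of a closed point is `1`. -/
theorem tr_cl_of_isClosed [IsAlgClosed k] (X : Var k) (x : X.obj.left)
    (hx : IsClosed ({x} : Set X.obj.left)) : T.tr X (T.cl X x) = 1 := by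
  have hpt := T.point (pt k) dim_pt
  have h1 := T.cl_push (toPt X) x 1 (by
    rw [pdim_of_isClosed _ x hx]
    have : (1 : T.H (pt k)) ∈ T.gr (pt k) 0 := SetLike.GradedOne.one_mem (A := T.gr (pt k))
    simpa using this)
  rw [map_one, mul_one, mul_one, hpt.1, hpt.2, mul_one] at h1
  rw [h1]
  have : (sm (toPt X)).residueDegree x = 1 := residueDegree_hom_of_isClosed X x hx
  rw [this, Nat.cast_one]

end Groth.Agent.H96.WeilClosedPt
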