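import Mathlib
import Groth.Prelude.Def_WeilCoh
import Groth.Agent.H96.WeilClosedPt
import Groth.Agent.H79.SchResMap

/-!
# Push-forward of classes

* `pdim_eq_of_residueDegree_ne_zero`: a point with finite residue extension has the same dimension
  as its image;
* `push_cl`: `f_* cl(Z) = deg(Z / f(Z)) cl(f(Z))`.
-/

set_option autoImplicit false
set_option linter.style.haveILetI false
set_option linter.unusedSectionVars false
set_option linter.unusedVariables false

universe u v w

open CategoryTheory AlgebraicGeometry WeilCoh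

namespace Groth.Agent.H96.WeilPush

open Groth.Agent.H96.WeilPt Groth.Agent.H96.WeilDim Groth.Agent.H96.WeilGraph
  Groth.Agent.H96.WeilUnit

attribute [local instance] Curv2.stalkAlgebra Curv2.resAlgebra

variable {k : Type u} [Field k]

/-- `pdim` through transcendence degrees. -/
theorem pdim_eq_of_trdeg (X : Var k) (x : X.obj.left) (n : ℕ)
    (hn : letI : X.obj.left.Over (Spec (CommRingCat.of k)) := ⟨X.obj.hom⟩
      Algebra.trdeg k (X.obj.left.residueField x) = n) :
    pdim X.obj.left x = n := by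
  letI : X.obj.left.Over (Spec (CommRingCat.of k)) := ⟨X.obj.hom⟩
  have := isProper_hom X
  have : LocallyOfFiniteType (X.obj.left ↘ Spec (CommRingCat.of k)) :=
    inferInstanceAs (LocallyOfFiniteType X.obj.hom)
  unfold pdim natDim
  rw [Groth.Agent.H79.SchDim.topologicalKrullDim_closure_eq k x n hn]
  rfl

theorem pdim_eq_of_residueDegree_ne_zero {X Y : Var k} (f : X ⟶ Y) (ξ : X.obj.left)
    (h : (sm f).residueDegree ξ ≠ 0) : pdim Y.obj.left (sm f ξ) = pdim X.obj.left ξ := by
  letI : X.obj.left.Over (Spec (CommRingCat.of k)) := ⟨X.obj.hom⟩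
  letI : Y.obj.left.Over (Spec (CommRingCat.of k)) := ⟨Y.obj.hom⟩
  have := isProper_hom X
  have := isProper_hom Y
  have : LocallyOfFiniteType (Y.obj.left ↘ Spec (CommRingCat.of k)) :=
    inferInstanceAs (LocallyOfFiniteType Y.obj.hom)
  have hf : sm f ≫ (Y.obj.left ↘ Spec (CommRingCat.of k)) =
      (X.obj.left ↘ Spec (CommRingCat.of k)) := Over.w f.hom
  obtain ⟨n, hn⟩ := Groth.Agent.H79.SchChart.exists_trdeg_eq (k := k) (sm f ξ)
  rw [pdim_eq_of_trdeg Y (sm f ξ) n hn]
  symm
  apply pdim_eq_of_trdeg X ξ n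
  letI alg : Algebra (Y.obj.left.residueField (sm f ξ)) (X.obj.left.residueField ξ) :=
    ((sm f).residueFieldMap ξ).hom.toAlgebra
  have htower : IsScalarTower k (Y.obj.left.residueField (sm f ξ))
      (X.obj.left.residueField ξ) :=
    IsScalarTower.of_algebraMap_eq fun c =>
      (congrArg (fun φ => φ c) (Groth.Agent.H79.SchResMap.resMap_comp k (sm f) hf ξ)).symm
  have hfin : Module.Finite (Y.obj.left.residueField (sm f ξ)) (X.obj.left.residueField ξ) :=
    Module.finite_of_finrank_pos (Nat.pos_of_ne_zero h)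
  have halg : Algebra.IsAlgebraic (Y.obj.left.residueField (sm f ξ))
      (X.obj.left.residueField ξ) := inferInstance
  have h0 : Algebra.trdeg (Y.obj.left.residueField (sm f ξ)) (X.obj.left.residueField ξ) = 0 :=
    _root_.trdeg_eq_zero
  have h1 := _root_.trdeg_add_eq k (Y.obj.left.residueField (sm f ξ))
    (A := X.obj.left.residueField ξ)
  rw [h0, add_zero, hn] at h1
  exact h1.symm

variable {K : Type v} [Field K] (T : TheoryOn.{u, v, w} k (IsVar k) K)

/-- `f_* cl(Z) = deg(Z / f(Z)) • cl(f(Z))`. -/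
theorem push_cl {X Y : Var k} (f : X ⟶ Y) (ξ : X.obj.left) :
    (T.push f (2 * (codim X.obj.left ξ : ℤ)) ⟨T.cl X ξ, T.cl_mem X ξ⟩ : T.H Y) =
      ((sm f).residueDegree ξ : K) • T.cl Y (sm f ξ) := by
  have hle : pdim X.obj.left ξ ≤ dim X.obj.left := pdim_le_dim X ξ
  have hle' : pdim Y.obj.left (sm f ξ) ≤ dim Y.obj.left := pdim_le_dim Y (sm f ξ)
  have hc : (codim X.obj.left ξ : ℤ) = (dim X.obj.left : ℤ) - (pdim X.obj.left ξ : ℤ) := by
    unfold codim; omega
  refine push_eq_of_tr T f _ _ _ ?_ ?_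
  · by_cases h0 : (sm f).residueDegree ξ = 0
    · rw [h0, Nat.cast_zero, zero_smul]
      exact Submodule.zero_mem _
    · have hpd := pdim_eq_of_residueDegree_ne_zero f ξ h0
      have hc' : (codim Y.obj.left (sm f ξ) : ℤ) =
          (dim Y.obj.left : ℤ) - (pdim X.obj.left ξ : ℤ) := by
        unfold codim; omega
      exact Submodule.smul_mem _ _
        (Groth.Agent.H77.mem_gr_of_eq T Y (T.cl_mem Y (sm f ξ)) (by omega))
  · intro γ hγ
    have h1 := T.cl_push f ξ γ (Groth.Agent.H77.mem_gr_of_eq T Y hγ (by omega))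
    rw [smul_mul_assoc, map_smul, smul_eq_mul]
    exact h1

end Groth.Agent.H96.WeilPush
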