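import Mathlib
import Groth.Prelude.Def_WeilCoh
import Groth.Agent.H96.WeilPush

/-!
# Künneth computations: trace on a product, the class of a graph

* `homog_induction`: induction over homogeneous components;
* `mul_comm_of_even'`: even classes are central;
* `tr_pull_mul_pull`: `tr_Q (p^* u · q^* v) = tr_X u · tr_Y v` for all `u`, `v`;
* `kunneth_induction`: every class on a product is a sum of `p^* x · q^* y`;
* `tr_cl_graph_mul_pull`: `tr_P (cl Γ_φ · p^* x · q^* y) = tr_X (x · φ^* y)`;
* `cl_graph_eq_sum`: Künneth decomposition of the class of a graph.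
-/

set_option autoImplicit false
set_option linter.style.haveILetI false
set_option linter.unusedSectionVars false
set_option linter.unusedVariables false

universe u v w

open CategoryTheory AlgebraicGeometry WeilCoh

namespace Groth.Agent.H96.WeilKunneth

open Groth.Agent.H96.WeilPt Groth.Agent.H96.WeilDim Groth.Agent.H96.WeilGraph
  Groth.Agent.H96.WeilUnit

section General

variable {k : Type u} [Field k] {P : ObjectProperty (Over (Spec (CommRingCat.of k)))}
variable {K : Type v} [Field K] (T : TheoryOn.{u, v, w} k P K)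

/-- Induction over homogeneous components. -/
theorem homog_induction (X : P.FullSubcategory) {C : T.H X → Prop} (h0 : C 0)
    (hadd : ∀ a b, C a → C b → C (a + b)) (hhom : ∀ (i : ℤ) (a : T.H X), a ∈ T.gr X i → C a)
    (a : T.H X) : C a := by
  have htop : iSup (T.gr X) = ⊤ := (T.decomp X).submodule_iSup_eq_top
  have ha : a ∈ iSup (T.gr X) := by rw [htop]; exact Submodule.mem_top
  exact Submodule.iSup_induction (T.gr X) (motive := C) ha hhom h0 hadd

/-- Classes of even degree are central in the whole cohomology ring. -/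
theorem mul_comm_of_even' (X : P.FullSubcategory) (c : ℕ) (b : T.H X)
    (hb : b ∈ T.gr X (2 * (c : ℤ))) (a : T.H X) : a * b = b * a := by
  refine homog_induction T X (C := fun a => a * b = b * a) (by simp) ?_ ?_ a
  · intro a a' h h'
    rw [add_mul, mul_add, h, h']
  · intro i a ha
    exact mul_comm_of_even T X i c a b ha hb

/-- Elements of a vanishing degree vanish. -/
theorem eq_zero_of_mem_gr (X : P.FullSubcategory) (i : ℤ)
    (hi : i < 0 ∨ 2 * (dim X.obj.left : ℤ) < i) (a : T.H X) (ha : a ∈ T.gr X i) : a = 0 := by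
  rw [T.vanish X i hi] at ha
  exact ha

/-- The trace of a product class is the product of the traces. -/
theorem tr_pull_mul_pull {X Y Q : P.FullSubcategory} (p : Q ⟶ X) (q : Q ⟶ Y) (hP : IsProd p q)
    (u : T.H X) (v : T.H Y) :
    T.tr Q (T.pull p u * T.pull q v) = T.tr X u * T.tr Y v := by
  have hn := dim_prod T p q hP
  refine homog_induction T X (C := fun u => T.tr Q (T.pull p u * T.pull q v) = T.tr X u * T.tr Y v)
    (by simp) ?_ ?_ u
  · intro a b ha hb
    rw [map_add, add_mul, map_add, map_add, add_mul, ha, hb]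
  · intro c u hu
    refine homog_induction T Y
      (C := fun v => T.tr Q (T.pull p u * T.pull q v) = T.tr X u * T.tr Y v) (by simp) ?_ ?_ v
    · intro a b ha hb
      rw [map_add, mul_add, map_add, map_add, mul_add, ha, hb]
    · intro d v hv
      by_cases hcd : c = 2 * (dim X.obj.left : ℤ) ∧ d = 2 * (dim Y.obj.left : ℤ)
      · obtain ⟨rfl, rfl⟩ := hcd
        exact T.tr_prod p q hP u v hu hv
      · have hR : T.tr X u * T.tr Y v = 0 := by
          by_cases hc : c = 2 * (dim X.obj.left : ℤ)
          · have hd : d ≠ 2 * (dim Y.obj.left : ℤ) := fun hd => hcd ⟨hc, hd⟩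
            rw [T.tr_vanish Y d v hv hd, mul_zero]
          · rw [T.tr_vanish X c u hu hc, zero_mul]
        rw [hR]
        have hmem : T.pull p u * T.pull q v ∈ T.gr Q (c + d) :=
          SetLike.mul_mem_graded (T.pull_mem p c u hu) (T.pull_mem q d v hv)
        by_cases hsum : c + d = 2 * (dim Q.obj.left : ℤ)
        · have : 2 * (dim X.obj.left : ℤ) < c ∨ 2 * (dim Y.obj.left : ℤ) < d := by omega
          rcases this with h | h
          · rw [eq_zero_of_mem_gr T X c (Or.inr h) u hu]
            simp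
          · rw [eq_zero_of_mem_gr T Y d (Or.inr h) v hv]
            simp
        · exact T.tr_vanish Q _ _ hmem hsum

/-- Künneth: every class on a product is a sum of classes `p^* x · q^* y`. -/
theorem kunneth_induction {X Y Q : P.FullSubcategory} (p : Q ⟶ X) (q : Q ⟶ Y) (hP : IsProd p q)
    {C : T.H Q → Prop} (h0 : C 0) (hadd : ∀ a b, C a → C b → C (a + b))
    (hmul : ∀ (x : T.H X) (y : T.H Y), C (T.pull p x * T.pull q y)) (z : T.H Q) : C z := by
  obtain ⟨t, rfl⟩ := (T.kunneth p q hP).2 z
  induction t using TensorProduct.induction_on with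
  | zero => simpa using h0
  | tmul x y => exact hmul x y
  | add a b ha hb =>
    rw [map_add]
    exact hadd _ _ ha hb

/-- Two classes of complementary degree on a product are equal if they have the same traces
against all `p^* x · q^* y`. -/
theorem eq_of_tr_mul_pull_eq {X Y Q : P.FullSubcategory} (p : Q ⟶ X) (q : Q ⟶ Y)
    (hP : IsProd p q) (n m : ℤ) (hnm : n + m = 2 * (dim Q.obj.left : ℤ)) (A B : T.H Q)
    (hA : A ∈ T.gr Q n) (hB : B ∈ T.gr Q n)
    (h : ∀ (x : T.H X) (y : T.H Y),
      T.tr Q (A * (T.pull p x * T.pull q y)) = T.tr Q (B * (T.pull p x * T.pull q y))) :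
    A = B := by
  refine Groth.Agent.H77.eq_of_tr_mul_eq T Q n m hnm A B hA hB fun z _ => ?_
  refine kunneth_induction T p q hP (C := fun z => T.tr Q (A * z) = T.tr Q (B * z)) (by simp) ?_ h z
  intro a b ha hb
  rw [mul_add, mul_add, map_add, map_add, ha, hb]

end General

section Graph

variable {k : Type u} [Field k] {K : Type v} [Field K] (T : TheoryOn.{u, v, w} k (IsVar k) K)
variable {X P : Var k} (p q : P ⟶ X) (hP : IsProd p q)

include hP in
/-- Trace against the class of the graph of `φ` (`j = (id, φ)`). -/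
theorem tr_cl_graph_mul_pull (φ : X ⟶ X) (j : X ⟶ P) (hjp : j ≫ p = 𝟙 X) (hjq : j ≫ q = φ)
    (x y : T.H X) :
    T.tr P (T.cl P (sm j (gen X)) * (T.pull p x * T.pull q y)) = T.tr X (x * T.pull φ y) := by
  have hdP := dim_P T p q hP
  have hcl : T.cl P (sm j (gen X)) ∈ T.gr P (2 * (dim X.obj.left : ℤ)) :=
    cl_graph_mem T q p hP.flip j hjp
  have hcl1 : T.cl X (gen X) = (1 : K) • 1 := by
    rw [one_smul]; exact cl_gen_eq_one T X
  refine homog_induction T X (C := fun x => T.tr P (T.cl P (sm j (gen X)) *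
    (T.pull p x * T.pull q y)) = T.tr X (x * T.pull φ y)) (by simp) ?_ ?_ x
  · intro a b ha hb
    rw [map_add, add_mul, mul_add, map_add, add_mul, map_add, ha, hb]
  · intro a x hx
    refine homog_induction T X (C := fun y => T.tr P (T.cl P (sm j (gen X)) *
      (T.pull p x * T.pull q y)) = T.tr X (x * T.pull φ y)) (by simp) ?_ ?_ y
    · intro c d hc hd
      rw [map_add, mul_add, mul_add, map_add, map_add, mul_add, map_add, hc, hd]
    · intro b y hy
      have hA : T.pull p x * T.pull q y ∈ T.gr P (a + b) :=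
        SetLike.mul_mem_graded (T.pull_mem p a x hx) (T.pull_mem q b y hy)
      have hR : x * T.pull φ y ∈ T.gr X (a + b) :=
        SetLike.mul_mem_graded hx (T.pull_mem φ b y hy)
      by_cases hab : a + b = 2 * (dim X.obj.left : ℤ)
      · have h1 := tr_cl_graph_mul T p j hjp 1 hcl1 _
          (Groth.Agent.H77.mem_gr_of_eq T P hA hab)
        rw [one_mul] at h1
        rw [h1, map_mul, ← AlgHom.comp_apply, ← AlgHom.comp_apply, ← T.pull_comp, ← T.pull_comp,
          hjp, hjq, T.pull_id]
        rfl
      · rw [T.tr_vanish X _ _ hR hab]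
        exact T.tr_vanish P _ _ (SetLike.mul_mem_graded hcl hA) (by omega)

/-- Expansion in a basis with a Poincaré-dual family. -/
theorem sum_dual_basis (ι : ℕ → Type) [∀ r, Fintype (ι r)] [∀ r, DecidableEq (ι r)]
    (e : (r : ℕ) → Module.Basis (ι r) K ↥(T.gr X (r : ℤ)))
    (f : (r : ℕ) → ι r → ↥(T.gr X (2 * (dim X.obj.left : ℤ) - r)))
    (hef : ∀ r, r ≤ 2 * dim X.obj.left → ∀ i l : ι r,
      T.tr X ((f r l : T.H X) * (e r i : T.H X)) = if i = l then 1 else 0) (y : T.H X) :
    ∑ r ∈ Finset.range (2 * dim X.obj.left + 1), ∑ i : ι r,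
      T.tr X ((f r i : T.H X) * y) • (e r i : T.H X) = y := by
  refine homog_induction T X (C := fun y => ∑ r ∈ Finset.range (2 * dim X.obj.left + 1),
    ∑ i : ι r, T.tr X ((f r i : T.H X) * y) • (e r i : T.H X) = y) (by simp) ?_ ?_ y
  · intro a b ha hb
    simp only [mul_add, map_add, add_smul, Finset.sum_add_distrib]
    rw [ha, hb]
  · intro b y hy
    have hzero : ∀ r : ℕ, (r : ℤ) ≠ b → ∀ i : ι r, T.tr X ((f r i : T.H X) * y) = 0 := by
      intro r hr i
      exact T.tr_vanish X _ _ (SetLike.mul_mem_graded (f r i).2 hy) (by omega)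
    by_cases hb : 0 ≤ b ∧ b ≤ 2 * (dim X.obj.left : ℤ)
    · obtain ⟨r0, rfl⟩ := Int.eq_ofNat_of_zero_le hb.1
      have hr0 : r0 ≤ 2 * dim X.obj.left := by omega
      rw [Finset.sum_eq_single r0]
      · set y' : ↥(T.gr X (r0 : ℤ)) := ⟨y, hy⟩ with hy'
        have hrepr : ∀ l : ι r0, T.tr X ((f r0 l : T.H X) * y) = (e r0).repr y' l := by
          intro l
          have hsum : y = ∑ i : ι r0, (e r0).repr y' i • ((e r0 i : ↥(T.gr X (r0 : ℤ))) : T.H X) := by
            have := congrArg (fun z : ↥(T.gr X (r0 : ℤ)) => (z : T.H X)) ((e r0).sum_repr y')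
            simp only [Submodule.coe_sum, Submodule.coe_smul] at this
            exact this.symm
          conv_lhs => rw [hsum]
          rw [Finset.mul_sum, map_sum]
          simp only [mul_smul_comm, map_smul, smul_eq_mul, hef r0 hr0]
          simp
        have hsum2 := congrArg (fun z : ↥(T.gr X (r0 : ℤ)) => (z : T.H X)) ((e r0).sum_repr y')
        simp only [Submodule.coe_sum, Submodule.coe_smul] at hsum2
        refine Eq.trans ?_ hsum2
        exact Finset.sum_congr rfl fun i _ => by rw [hrepr i]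
      · intro r _ hr
        refine Finset.sum_eq_zero fun i _ => ?_
        rw [hzero r (by exact_mod_cast hr) i, zero_smul]
      · intro h
        exact absurd (Finset.mem_range.mpr (by omega)) h
    · have hy0 : y = 0 := eq_zero_of_mem_gr T X b (by omega) y hy
      rw [hy0]
      simp

include hP in
/-- Künneth decomposition of the class of the graph of `φ`. -/
theorem cl_graph_eq_sum (φ : X ⟶ X) (j : X ⟶ P) (hjp : j ≫ p = 𝟙 X) (hjq : j ≫ q = φ)
    (ι : ℕ → Type) [∀ r, Fintype (ι r)] [∀ r, DecidableEq (ι r)]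
    (e : (r : ℕ) → Module.Basis (ι r) K ↥(T.gr X (r : ℤ)))
    (f : (r : ℕ) → ι r → ↥(T.gr X (2 * (dim X.obj.left : ℤ) - r)))
    (hef : ∀ r, r ≤ 2 * dim X.obj.left → ∀ i l : ι r,
      T.tr X ((f r l : T.H X) * (e r i : T.H X)) = if i = l then 1 else 0) :
    T.cl P (sm j (gen X)) =
      ∑ r ∈ Finset.range (2 * dim X.obj.left + 1), ∑ i : ι r,
        T.pull p (T.pull φ (e r i : T.H X)) * T.pull q (f r i : T.H X) := by
  have hdP := dim_P T p q hP
  have hcl : T.cl P (sm j (gen X)) ∈ T.gr P (2 * (dim X.obj.left : ℤ)) :=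
    cl_graph_mem T q p hP.flip j hjp
  have hterm : ∀ (r : ℕ) (i : ι r), T.pull p (T.pull φ (e r i : T.H X)) * T.pull q (f r i : T.H X) ∈
      T.gr P (2 * (dim X.obj.left : ℤ)) := fun r i =>
    Groth.Agent.H77.mem_gr_of_eq T P (SetLike.mul_mem_graded
      (T.pull_mem p _ _ (T.pull_mem φ _ _ (e r i).2)) (T.pull_mem q _ _ (f r i).2)) (by omega)
  refine eq_of_tr_mul_pull_eq T p q hP (2 * (dim X.obj.left : ℤ)) (2 * (dim X.obj.left : ℤ))
    (by omega) _ _ hcl (Submodule.sum_mem _ fun r _ => Submodule.sum_mem _ fun i _ => hterm r i) ?_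
  intro x y
  rw [tr_cl_graph_mul_pull T p q hP φ j hjp hjq x y, Finset.sum_mul, map_sum]
  have hinner : ∀ r : ℕ, T.tr P ((∑ i : ι r, T.pull p (T.pull φ (e r i : T.H X)) *
      T.pull q (f r i : T.H X)) * (T.pull p x * T.pull q y)) =
      ∑ i : ι r, T.tr X (x * T.pull φ (e r i : T.H X)) * T.tr X ((f r i : T.H X) * y) := by
    intro r
    rw [Finset.sum_mul, map_sum]
    refine Finset.sum_congr rfl fun i _ => ?_
    have hM := hterm r i
    have h1 : (T.pull p (T.pull φ (e r i : T.H X)) * T.pull q (f r i : T.H X)) *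
        (T.pull p x * T.pull q y) =
        T.pull p (x * T.pull φ (e r i : T.H X)) * T.pull q ((f r i : T.H X) * y) := by
      rw [← mul_assoc, ← mul_comm_of_even' T P (dim X.obj.left) _ hM (T.pull p x), map_mul, map_mul]
      simp only [mul_assoc]
    rw [h1, tr_pull_mul_pull T p q hP]
  simp only [hinner]
  conv_lhs => rw [← sum_dual_basis T ι e f hef y]
  rw [map_sum, Finset.mul_sum, map_sum]
  refine Finset.sum_congr rfl fun r _ => ?_
  rw [map_sum, Finset.mul_sum, map_sum]
  refine Finset.sum_congr rfl fun i _ => ?_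
  rw [map_smul, mul_smul_comm, map_smul, smul_eq_mul, mul_comm]

end Graph

end Groth.Agent.H96.WeilKunneth
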