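import Mathlib
import Groth.Prelude.Def_WeilCoh
import Groth.Agent.H96.WeilKunneth

/-!
# The Lefschetz trace formula

`tr_P (cl Γ_φ · cl Δ) = Σ_i (-1)^i trace (φ^* | H^i)`.
-/

set_option autoImplicit false
set_option linter.style.haveILetI false
set_option linter.unusedSectionVars false
set_option linter.unusedVariables false

universe u v w

open CategoryTheory AlgebraicGeometry WeilCoh

namespace Groth.Agent.H96.WeilLefschetz

open Groth.Agent.H96.WeilPt Groth.Agent.H96.WeilDim Groth.Agent.H96.WeilGraph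
  Groth.Agent.H96.WeilUnit Groth.Agent.H96.WeilKunneth

section General

variable {k : Type u} [Field k] {P : ObjectProperty (Over (Spec (CommRingCat.of k)))}
variable {K : Type v} [Field K] (T : TheoryOn.{u, v, w} k P K)

/-- A Poincaré-dual family to a basis of `H^r`. -/
theorem exists_dual_family (X : P.FullSubcategory) (r : ℤ) {ι : Type} [Fintype ι] [DecidableEq ι]
    (e : Module.Basis ι K ↥(T.gr X r)) :
    ∃ f : ι → ↥(T.gr X (2 * (dim X.obj.left : ℤ) - r)), ∀ i l : ι,
      T.tr X ((f l : T.H X) * (e i : T.H X)) = if i = l then 1 else 0 := by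
  haveI := T.duality X (2 * (dim X.obj.left : ℤ) - r) r (by omega)
  refine ⟨fun l => (pairing K (T.gr X (2 * (dim X.obj.left : ℤ) - r)) (T.gr X r)
    (T.tr X)).toPerfPair.symm ((e.coord l)), fun i l => ?_⟩
  have h1 := LinearMap.apply_symm_toPerfPair_self (pairing K
    (T.gr X (2 * (dim X.obj.left : ℤ) - r)) (T.gr X r) (T.tr X)) (e.coord l)
  have h2 := congrArg (fun ψ => ψ (e i)) h1
  simp only [Module.Basis.coord_apply, Module.Basis.repr_self] at h2
  rw [Finsupp.single_apply] at h2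
  exact h2

/-- Coordinates in a basis through a Poincaré-dual family. -/
theorem repr_eq_tr (X : P.FullSubcategory) (r : ℤ) {ι : Type} [Fintype ι] [DecidableEq ι]
    (e : Module.Basis ι K ↥(T.gr X r)) (f : ι → T.H X)
    (hef : ∀ i l : ι, T.tr X (f l * (e i : T.H X)) = if i = l then 1 else 0)
    (z : ↥(T.gr X r)) (l : ι) : e.repr z l = T.tr X (f l * (z : T.H X)) := by
  have hsum := congrArg (fun z : ↥(T.gr X r) => (z : T.H X)) (e.sum_repr z)
  simp only [Submodule.coe_sum, Submodule.coe_smul] at hsum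
  conv_rhs => rw [← hsum]
  rw [Finset.mul_sum, map_sum]
  simp only [mul_smul_comm, map_smul, smul_eq_mul, hef]
  simp

/-- The trace of an endomorphism of `H^r` through a Poincaré-dual family. -/
theorem trace_eq_sum_tr (X : P.FullSubcategory) (r : ℤ) {ι : Type} [Fintype ι] [DecidableEq ι]
    (e : Module.Basis ι K ↥(T.gr X r)) (f : ι → T.H X)
    (hef : ∀ i l : ι, T.tr X (f l * (e i : T.H X)) = if i = l then 1 else 0)
    (ψ : ↥(T.gr X r) →ₗ[K] ↥(T.gr X r)) :
    LinearMap.trace K _ ψ = ∑ i : ι, T.tr X (f i * ((ψ (e i) : ↥(T.gr X r)) : T.H X)) := by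
  rw [LinearMap.trace_eq_matrix_trace K e ψ, Matrix.trace]
  refine Finset.sum_congr rfl fun i _ => ?_
  rw [Matrix.diag_apply, LinearMap.toMatrix_apply, repr_eq_tr T X r e f hef]

end General

section Lefschetz

variable {k : Type u} [Field k] {K : Type v} [Field K] (T : TheoryOn.{u, v, w} k (IsVar k) K)
variable {X P : Var k} (p q : P ⟶ X) (hP : IsProd p q)

theorem neg_one_pow_mul_sub (r n : ℕ) (hr : r ≤ 2 * n) :
    ((-1 : K)) ^ (r * (2 * n - r)) = (-1) ^ r := by
  obtain ⟨m, rfl | rfl⟩ := Nat.even_or_odd' r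
  · rw [Even.neg_one_pow (by simp), Even.neg_one_pow (Nat.even_mul.mpr (Or.inl (by simp)))]
  · have h1 : Odd (2 * m + 1) := ⟨m, rfl⟩
    have h2 : Odd (2 * n - (2 * m + 1)) := by
      refine ⟨n - m - 1, ?_⟩
      omega
    rw [Odd.neg_one_pow h1, Odd.neg_one_pow (h1.mul h2)]

include hP in
/-- The Lefschetz trace formula. -/
theorem lefschetz (φ : X ⟶ X) (j d : X ⟶ P) (hjp : j ≫ p = 𝟙 X) (hjq : j ≫ q = φ)
    (hdp : d ≫ p = 𝟙 X) (hdq : d ≫ q = 𝟙 X) :
    T.tr P (T.cl P (sm j (gen X)) * T.cl P (sm d (gen X))) =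
      ∑ i ∈ Finset.range (2 * dim X.obj.left + 1),
        (-1 : K) ^ i * LinearMap.trace K ↥(T.gr X (i : ℤ)) (T.pullDeg φ (i : ℤ)) := by
  classical
  let ι : ℕ → Type := fun r => Fin (Module.finrank K ↥(T.gr X (r : ℤ)))
  let e : (r : ℕ) → Module.Basis (ι r) K ↥(T.gr X (r : ℤ)) := fun r =>
    Module.finBasis K ↥(T.gr X (r : ℤ))
  have hf : ∀ r : ℕ, ∃ f : ι r → ↥(T.gr X (2 * (dim X.obj.left : ℤ) - r)), ∀ i l : ι r,
      T.tr X ((f l : T.H X) * (e r i : T.H X)) = if i = l then 1 else 0 :=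
    fun r => exists_dual_family T X (r : ℤ) (e r)
  choose f hef using hf
  have hcld : T.cl P (sm d (gen X)) ∈ T.gr P (2 * (dim X.obj.left : ℤ)) :=
    cl_graph_mem T q p hP.flip d hdp
  rw [cl_graph_eq_sum T p q hP φ j hjp hjq ι e f (fun r _ => hef r), Finset.sum_mul, map_sum]
  refine Finset.sum_congr rfl fun r hr => ?_
  have hr' : r ≤ 2 * dim X.obj.left := by
    have := Finset.mem_range.mp hr
    omega
  rw [Finset.sum_mul, map_sum, trace_eq_sum_tr T X (r : ℤ) (e r) (fun l => (f r l : T.H X))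
    (hef r), Finset.mul_sum]
  refine Finset.sum_congr rfl fun i _ => ?_
  rw [mul_comm_of_even' T P (dim X.obj.left) _ hcld,
    tr_cl_graph_mul_pull T p q hP (𝟙 X) d hdp hdq, T.pull_id]
  change T.tr X (T.pull φ (e r i : T.H X) * (f r i : T.H X)) =
    (-1) ^ r * T.tr X ((f r i : T.H X) * T.pull φ (e r i : T.H X))
  rw [T.gradedComm X (r : ℤ) (2 * (dim X.obj.left : ℤ) - r) _ _ (T.pull_mem φ _ _ (e r i).2)
    (f r i).2, map_smul, smul_eq_mul]
  congr 1
  have h1 : (2 * (dim X.obj.left : ℤ) - (r : ℤ)).natAbs = 2 * dim X.obj.left - r := by omega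
  rw [h1, Int.natAbs_natCast]
  exact neg_one_pow_mul_sub r _ hr'

end Lefschetz

end Groth.Agent.H96.WeilLefschetz
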