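import Groth.Agent.H96.FiniteTypeExt
import Groth.Agent.H8.BlowUpDominate
import Groth.Agent.S1680

/-!
# Extending admissible ideals from a quasi-compact open (helper96)

* `ideal_map_ι_image`, `comap_map_ι`: pushing an ideal sheaf forward along a quasi-compact open
  immersion `V.ι` and restricting back gives the original ideal sheaf.
* `ideal_eq_top_of_disjoint_support`.
* `isBlowUp_morphismRestrict`: a blow-up restricts over an open to a blow-up of the restricted
  ideal.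
* `exists_admissible_extension`: Stacks 080L-type extension of admissible ideals.
-/

set_option autoImplicit false
set_option linter.style.haveILetI false
set_option linter.unusedSectionVars false
set_option linter.unusedVariables false
universe u
open CategoryTheory CategoryTheory.Limits AlgebraicGeometry TopologicalSpace Opposite

namespace Groth.Agent.H96.AdmExt

open Scheme.IdealSheafData Groth.Agent.H96.FiniteTypeExt

variable {X : Scheme.{u}}

/-- An ideal sheaf whose support misses an affine open is the unit ideal there. -/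
lemma ideal_eq_top_of_disjoint_support (K : X.IdealSheafData) (W : X.affineOpens)
    (h : Disjoint (K.support : Set X) (W.1 : Set X)) : K.ideal W = ⊤ := by
  have hW : IsAffineOpen W.1 := W.2
  by_contra hne
  obtain ⟨m, hm, hle⟩ := Ideal.exists_le_maximal _ hne
  let p : PrimeSpectrum Γ(X, W.1) := ⟨m, hm.isPrime⟩
  have hp0 : p ∈ PrimeSpectrum.zeroLocus (K.ideal W : Set Γ(X, W.1)) := hle
  have hp : hW.fromSpec p ∈ X.zeroLocus (U := W.1) (K.ideal W : Set Γ(X, W.1)) :=
    (Set.ext_iff.mp (hW.fromSpec_preimage_zeroLocus (K.ideal W : Set Γ(X, W.1))) p).mpr hp0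
  have hpW : hW.fromSpec p ∈ W.1 := by
    have : hW.fromSpec p ∈ Set.range hW.fromSpec := ⟨p, rfl⟩
    rwa [hW.range_fromSpec] at this
  have h1 : hW.fromSpec p ∈ (K.support : Set X) ∩ W.1 := by
    rw [coe_support_inter]
    exact ⟨hp, hpW⟩
  exact Set.disjoint_left.mp h h1.1 h1.2

/-- A blow-up restricts over an open subscheme to a blow-up of the restricted ideal. -/
theorem isBlowUp_morphismRestrict {X' : Scheme.{u}} (c : X' ⟶ X) (𝓙 : X.IdealSheafData)
    (hc : BlowUp.IsBlowUp c 𝓙) (V : X.Opens) : BlowUp.IsBlowUp (c ∣_ V) (𝓙.comap V.ι) := by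
  have h1 : BlowUp.IsBlowUp (pullback.fst V.ι c) (𝓙.comap V.ι) :=
    Groth.Agent.S1680.result V.ι 𝓙 c hc
  have hP : IsPullback (c ∣_ V) (c ⁻¹ᵁ V).ι V.ι c := isPullback_morphismRestrict c V
  have h2 := Groth.Agent.H8.isBlowUp_iso_comp h1 hP.isoPullback
  rwa [hP.isoPullback_hom_fst] at h2

section pushforward

variable (V : X.Opens) [QuasiCompact V.ι] (𝓘 : V.toScheme.IdealSheafData)

lemma ideal_map_ι_image (W' : V.toScheme.affineOpens) :
    (𝓘.map V.ι).ideal ⟨V.ι ''ᵁ W'.1, W'.2.image_of_isOpenImmersion V.ι⟩ = 𝓘.ideal W' := by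
  set g : 𝓘.subscheme ⟶ X := 𝓘.subschemeι ≫ V.ι with hg
  have hqc : QuasiCompact g := inferInstance
  have h1 := Scheme.ker_morphismRestrict_ideal g V W'
  have h2 : g ∣_ V = (g ⁻¹ᵁ V).ι ≫ 𝓘.subschemeι := by
    rw [← cancel_mono V.ι, Category.assoc, morphismRestrict_ι]
  have htop : g ⁻¹ᵁ V = ⊤ := by
    ext z
    simp only [Opens.coe_top, Set.mem_univ, iff_true]
    change g z ∈ V
    have : g z = V.ι (𝓘.subschemeι z) := by simp [g]
    rw [this]
    exact (𝓘.subschemeι z).2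
  have hiso : IsIso (g ⁻¹ᵁ V).ι := by
    rw [htop]
    exact (Scheme.topIso _).isIso_hom
  have h3 : (g ∣_ V).ker = 𝓘 := by
    rw [h2, Scheme.Hom.ker_comp_of_isIso, ker_subschemeι]
  rw [h3] at h1
  exact h1.symm

omit [QuasiCompact V.ι] in
lemma comap_ι_ideal (𝓙 : X.IdealSheafData) (W' : V.toScheme.affineOpens) :
    (𝓙.comap V.ι).ideal W' = 𝓙.ideal ⟨V.ι ''ᵁ W'.1, W'.2.image_of_isOpenImmersion V.ι⟩ := by
  rw [ideal_comap_of_isOpenImmersion]
  simp only [Scheme.Opens.ι_appIso, Iso.refl_inv]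
  exact Ideal.comap_id _

lemma comap_map_ι : (𝓘.map V.ι).comap V.ι = 𝓘 := by
  ext W' : 2
  rw [comap_ι_ideal, ideal_map_ι_image]

end pushforward

/-- **Extension of admissible ideals**: on a quasi-compact quasi-separated scheme, a
`(U ∩ V)`-admissible ideal on the quasi-compact open `V` extends to a `U`-admissible ideal on
`X`. -/
theorem exists_admissible_extension [CompactSpace X] [QuasiSeparatedSpace X] (U V : X.Opens)
    (hU : IsCompact (U : Set X)) (hV : IsCompact (V : Set X)) (𝓘 : V.toScheme.IdealSheafData)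
    (h𝓘 : BlowUp.IsAdmissibleFor (V.ι ⁻¹ᵁ U) 𝓘) :
    ∃ 𝓙 : X.IdealSheafData, BlowUp.IsAdmissibleFor U 𝓙 ∧ 𝓙.comap V.ι = 𝓘 := by
  have hVc : CompactSpace V.toScheme := isCompact_iff_compactSpace.mp hV
  have hqc : QuasiCompact V.ι := inferInstance
  set K : X.IdealSheafData := 𝓘.map V.ι with hK
  have transport : ∀ W₁ W₂ : X.affineOpens, W₁.1 = W₂.1 → (K.ideal W₁).FG → (K.ideal W₂).FG := by
    intro W₁ W₂ h
    have : W₁ = W₂ := Subtype.ext h
    rw [this]
    exact id
  have hKV : ∀ W : X.affineOpens, W.1 ≤ V → (K.ideal W).FG := by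
    intro W hW
    let W' : V.toScheme.affineOpens := ⟨V.ι ⁻¹ᵁ W.1, W.2.preimage_of_isOpenImmersion V.ι
      (by rw [Scheme.Opens.opensRange_ι]; exact hW)⟩
    have e : V.ι ''ᵁ W'.1 = W.1 := by
      change V.ι ''ᵁ (V.ι ⁻¹ᵁ W.1) = W.1
      rw [Scheme.Hom.image_preimage_eq_opensRange_inf, Scheme.Opens.opensRange_ι]
      exact inf_eq_right.mpr hW
    refine transport ⟨V.ι ''ᵁ W'.1, W'.2.image_of_isOpenImmersion V.ι⟩ W e ?_
    rw [hK, ideal_map_ι_image]
    exact h𝓘.1 W'
  have hKsupp : Disjoint (K.support : Set X) (U : Set X) := by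
    rw [Set.disjoint_left]
    intro x hxK hxU
    rw [hK, support_map, Closeds.coe_closure] at hxK
    obtain ⟨y, hyU, z, hz, rfl⟩ := mem_closure_iff.mp hxK U U.2 hxU
    exact Set.disjoint_left.mp h𝓘.2 hz hyU
  have hKU : ∀ W : X.affineOpens, W.1 ≤ U → K.ideal W = ⊤ := by
    intro W hW
    apply ideal_eq_top_of_disjoint_support
    exact hKsupp.mono_right hW
  have hKfg : ∀ W : X.affineOpens, W.1 ≤ U ⊔ V → (K.ideal W).FG := by
    intro W hW
    apply fg_ideal_of_forall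
    intro x hx
    rcases hW hx with hxU | hxV
    · obtain ⟨_, ⟨W', hW', rfl⟩, hxW', hle⟩ :=
        X.isBasis_affineOpens.exists_subset_of_mem_open hxU U.2
      refine ⟨⟨W', hW'⟩, hxW', ?_⟩
      rw [hKU ⟨W', hW'⟩ hle]
      exact ⟨{1}, by simp⟩
    · obtain ⟨_, ⟨W', hW', rfl⟩, hxW', hle⟩ :=
        X.isBasis_affineOpens.exists_subset_of_mem_open hxV V.2
      exact ⟨⟨W', hW'⟩, hxW', hKV ⟨W', hW'⟩ hle⟩
  have hUV : IsCompact ((U ⊔ V : X.Opens) : Set X) := by
    rw [Opens.coe_sup]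
    exact hU.union hV
  obtain ⟨𝓙, h𝓙K, h𝓙fg, h𝓙eq⟩ := exists_le_fg K (U ⊔ V) hUV hKfg
  refine ⟨𝓙, ⟨h𝓙fg, ?_⟩, ?_⟩
  · rw [Set.disjoint_left]
    intro x hx𝓙 hxU
    obtain ⟨_, ⟨W', hW', rfl⟩, hxW', hle⟩ :=
      X.isBasis_affineOpens.exists_subset_of_mem_open hxU U.2
    have hx : x ∈ 𝓙.support := hx𝓙
    rw [mem_support_iff_of_mem (U := ⟨W', hW'⟩) hxW', h𝓙eq ⟨W', hW'⟩ (le_sup_of_le_left hle),
      hKU ⟨W', hW'⟩ hle, Scheme.mem_zeroLocus_iff] at hx
    refine hx 1 trivial ?_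
    rw [Scheme.basicOpen_of_isUnit _ isUnit_one]
    exact hxW'
  · ext W' : 2
    rw [comap_ι_ideal, h𝓙eq _ (le_sup_of_le_right (V.ι_image_le W'.1)), hK, ideal_map_ι_image]

end Groth.Agent.H96.AdmExt
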