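import Mathlib.AlgebraicGeometry.Morphisms.Proper
import Mathlib.AlgebraicGeometry.Morphisms.Separated
import Mathlib.AlgebraicGeometry.PullbackCarrier
import Mathlib.CategoryTheory.Limits.Shapes.WidePullbacks

/-!
# The common open part of the closure of `U` in a product of compactifications (helper96)

`mem_range_of_mem_closure`: let `q i : X i ⟶ X` be proper morphisms, `o i : X i ⟶ Xb i` open
immersions into proper `S`-schemes and `v i : U ⟶ X i` compatible morphisms. If a point `z` of the
closure of `U` in the wide pullback of the `Xb i` has `i`-th coordinate in `X i`, then its `j`-th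
coordinate lies in `X j`.
-/

set_option autoImplicit false
set_option linter.style.haveILetI false
set_option linter.unusedSectionVars false
set_option linter.unusedVariables false
universe u
open CategoryTheory CategoryTheory.Limits AlgebraicGeometry

namespace Groth.Agent.H96.NagataW

theorem mem_range_of_mem_closure {S X U : Scheme.{u}} {m : ℕ} (gX : X ⟶ S)
    (Xi Xb : Fin m → Scheme.{u}) (gb : ∀ i, Xb i ⟶ S) [∀ i, IsProper (gb i)]
    (o : ∀ i, Xi i ⟶ Xb i) [∀ i, IsOpenImmersion (o i)]
    (q : ∀ i, Xi i ⟶ X) [∀ i, IsProper (q i)] (hq : ∀ i, q i ≫ gX = o i ≫ gb i)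
    (jU : U ⟶ X) (v : ∀ i, U ⟶ Xi i) (hv : ∀ i, v i ≫ q i = jU)
    (w : ∀ i, (v i ≫ o i) ≫ gb i = jU ≫ gX)
    (z : ↥(widePullback S Xb gb))
    (hz : z ∈ closure (Set.range (fun x =>
      (WidePullback.lift (jU ≫ gX) (fun i => v i ≫ o i) w) x)))
    (i j : Fin m) (hi : (WidePullback.π gb i) z ∈ Set.range (o i)) :
    (WidePullback.π gb j) z ∈ Set.range (o j) := by
  set u : U ⟶ widePullback S Xb gb := WidePullback.lift (jU ≫ gX) (fun i => v i ≫ o i) w
    with hu
  have huπ : ∀ k, u ≫ WidePullback.π gb k = v k ≫ o k := fun k =>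
    WidePullback.lift_π _ _ _ _ k
  -- the open part `T = π_i⁻¹(X_i)`
  let fstT : pullback (o i) (WidePullback.π gb i) ⟶ Xi i := pullback.fst _ _
  let sndT : pullback (o i) (WidePullback.π gb i) ⟶ widePullback S Xb gb := pullback.snd _ _
  have hT : fstT ≫ o i = sndT ≫ WidePullback.π gb i := pullback.condition
  -- `Γ = X_i ×_X X_j`
  let a : pullback (q i) (q j) ⟶ Xi i := pullback.fst _ _
  let b : pullback (q i) (q j) ⟶ Xi j := pullback.snd _ _
  have hab : a ≫ q i = b ≫ q j := pullback.condition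
  -- `B = X_i ×_S Xb_j`
  have hcompat : a ≫ (o i ≫ gb i) = (b ≫ o j) ≫ gb j := by
    rw [← hq i, ← Category.assoc, hab, Category.assoc, hq j, Category.assoc]
  let h : pullback (q i) (q j) ⟶ pullback (o i ≫ gb i) (gb j) :=
    pullback.lift a (b ≫ o j) hcompat
  have hh1 : h ≫ pullback.fst _ _ = a := pullback.lift_fst _ _ _
  have hh2 : h ≫ pullback.snd _ _ = b ≫ o j := pullback.lift_snd _ _ _
  have hproper : IsProper h := by
    have : IsProper (h ≫ pullback.fst (o i ≫ gb i) (gb j)) := by
      rw [hh1]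
      infer_instance
    exact IsProper.of_comp h (pullback.fst (o i ≫ gb i) (gb j))
  have hclosed : IsClosed (Set.range h) := h.isClosedMap.isClosed_range
  have hρc : fstT ≫ (o i ≫ gb i) = (sndT ≫ WidePullback.π gb j) ≫ gb j := by
    rw [← Category.assoc, hT, Category.assoc, Category.assoc, WidePullback.π_arrow,
      WidePullback.π_arrow]
  let ρ : pullback (o i) (WidePullback.π gb i) ⟶ pullback (o i ≫ gb i) (gb j) :=
    pullback.lift fstT (sndT ≫ WidePullback.π gb j) hρc
  have hρ1 : ρ ≫ pullback.fst _ _ = fstT := pullback.lift_fst _ _ _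
  have hρ2 : ρ ≫ pullback.snd _ _ = sndT ≫ WidePullback.π gb j := pullback.lift_snd _ _ _
  let ut : U ⟶ pullback (o i) (WidePullback.π gb i) :=
    pullback.lift (v i) u (huπ i).symm
  have hut1 : ut ≫ fstT = v i := pullback.lift_fst _ _ _
  have hut2 : ut ≫ sndT = u := pullback.lift_snd _ _ _
  let γ : U ⟶ pullback (q i) (q j) := pullback.lift (v i) (v j) ((hv i).trans (hv j).symm)
  have hγ1 : γ ≫ a = v i := pullback.lift_fst _ _ _
  have hγ2 : γ ≫ b = v j := pullback.lift_snd _ _ _
  have hkey : ut ≫ ρ = γ ≫ h := by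
    apply pullback.hom_ext
    · rw [Category.assoc, hρ1, hut1, Category.assoc, hh1, hγ1]
    · rw [Category.assoc, hρ2, ← Category.assoc, hut2, huπ, Category.assoc, hh2,
        ← Category.assoc, hγ2]
  -- the closed subset `F = ρ⁻¹(range h)`
  have hF : IsClosed (ρ ⁻¹' Set.range h) := hclosed.preimage ρ.continuous
  have hutF : Set.range ut ⊆ ρ ⁻¹' Set.range h := by
    rintro _ ⟨g, rfl⟩
    refine ⟨γ g, ?_⟩
    rw [← Scheme.Hom.comp_apply, ← Scheme.Hom.comp_apply, hkey]
  -- `z` comes from `T`
  have hzT : z ∈ Set.range sndT := by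
    rw [Scheme.Pullback.range_snd]
    exact hi
  obtain ⟨τ, rfl⟩ := hzT
  have hopen : IsOpenImmersion sndT := inferInstance
  have hτ : τ ∈ closure (Set.range ut) := by
    rw [sndT.isOpenEmbedding.isInducing.closure_eq_preimage_closure_image]
    have e : sndT '' Set.range ut = Set.range (fun x => u x) := by
      rw [← Set.range_comp]
      ext y
      constructor
      · rintro ⟨g, rfl⟩
        refine ⟨g, ?_⟩
        change u g = sndT (ut g)
        rw [← Scheme.Hom.comp_apply, hut2]
      · rintro ⟨g, rfl⟩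
        refine ⟨g, ?_⟩
        change sndT (ut g) = u g
        rw [← Scheme.Hom.comp_apply, hut2]
    rw [e]
    exact hz
  obtain ⟨γ₀, hγ₀⟩ := closure_minimal hutF hF hτ
  refine ⟨b γ₀, ?_⟩
  have h1 : (WidePullback.π gb j) (sndT τ) = (pullback.snd (o i ≫ gb i) (gb j)) (ρ τ) := by
    rw [← Scheme.Hom.comp_apply, ← Scheme.Hom.comp_apply, hρ2]
  rw [h1, ← hγ₀, ← Scheme.Hom.comp_apply, ← Scheme.Hom.comp_apply, hh2]

end Groth.Agent.H96.NagataW
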