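import Mathlib.AlgebraicGeometry.Morphisms.QuasiCompact
import Mathlib.AlgebraicGeometry.Pullbacks
import Mathlib.CategoryTheory.Limits.Shapes.WidePullbacks

/-!
# Finite wide pullbacks of quasi-compact morphisms (helper96)

* `compactSpace_widePullback`: a `Fin m`-indexed wide pullback of quasi-compact morphisms over a
  quasi-compact base is quasi-compact.
-/

set_option autoImplicit false
set_option linter.style.haveILetI false
set_option linter.unusedSectionVars false
set_option linter.unusedVariables false
universe u
open CategoryTheory CategoryTheory.Limits AlgebraicGeometry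

namespace Groth.Agent.H96.WidePB

/-- A morphism with a right inverse up to composition is surjective on points. -/
lemma surjective_of_comp_eq_id {X Y : Scheme.{u}} (Φ : X ⟶ Y) (Ψ : Y ⟶ X) (h : Ψ ≫ Φ = 𝟙 Y) :
    Function.Surjective Φ := by
  intro y
  refine ⟨Ψ y, ?_⟩
  rw [← Scheme.Hom.comp_apply, h]
  rfl

/-- A `Fin m`-indexed wide pullback of quasi-compact morphisms over a quasi-compact base is
quasi-compact. -/
theorem compactSpace_widePullback {S : Scheme.{u}} [CompactSpace S] :
    ∀ (m : ℕ) (X : Fin m → Scheme.{u}) (g : ∀ i, X i ⟶ S) [∀ i, QuasiCompact (g i)],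
      CompactSpace ↥(widePullback S X g) := by
  intro m
  induction m with
  | zero =>
    intro X g _
    let Φ : S ⟶ widePullback S X g :=
      WidePullback.lift (𝟙 S) (fun i => i.elim0) (fun i => i.elim0)
    have h : WidePullback.base g ≫ Φ = 𝟙 _ := by
      apply WidePullback.hom_ext
      · intro j
        exact j.elim0
      · have hb : Φ ≫ WidePullback.base g = 𝟙 S := WidePullback.lift_base _ _ _ _
        rw [Category.assoc, hb, Category.comp_id, Category.id_comp]
    exact (surjective_of_comp_eq_id Φ _ h).compactSpace Φ.continuous
  | succ m ih =>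
    intro X g _
    let X' : Fin m → Scheme.{u} := fun i => X i.succ
    let g' : ∀ i, X' i ⟶ S := fun i => g i.succ
    have : CompactSpace ↥(widePullback S X' g') := ih X' g'
    let Φ : pullback (WidePullback.base g') (g 0) ⟶ widePullback S X g :=
      WidePullback.lift (pullback.fst _ _ ≫ WidePullback.base g')
        (Fin.cases (motive := fun i => pullback (WidePullback.base g') (g 0) ⟶ X i)
          (pullback.snd _ _) (fun i => pullback.fst _ _ ≫ WidePullback.π g' i))
        (by
          intro j
          refine Fin.cases ?_ (fun i => ?_) j
          · simp only [Fin.cases_zero]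
            exact pullback.condition.symm
          · simp only [Fin.cases_succ, Category.assoc]
            rw [WidePullback.π_arrow g' i])
    let Ψ : widePullback S X g ⟶ pullback (WidePullback.base g') (g 0) :=
      pullback.lift
        (WidePullback.lift (WidePullback.base g) (fun i => WidePullback.π g i.succ)
          (fun i => WidePullback.π_arrow g i.succ))
        (WidePullback.π g 0)
        (by rw [WidePullback.lift_base, WidePullback.π_arrow])
    have hΦ0 : Φ ≫ WidePullback.π g 0 = pullback.snd _ _ :=
      WidePullback.lift_π _ _ _ _ 0
    have hΦs : ∀ i : Fin m, Φ ≫ WidePullback.π g i.succ =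
        pullback.fst _ _ ≫ WidePullback.π g' i := fun i =>
      WidePullback.lift_π _ _ _ _ i.succ
    have hΦb : Φ ≫ WidePullback.base g = pullback.fst _ _ ≫ WidePullback.base g' :=
      WidePullback.lift_base _ _ _ _
    have hΨ1 : Ψ ≫ pullback.fst _ _ =
        WidePullback.lift (WidePullback.base g) (fun i : Fin m => WidePullback.π g i.succ)
          (fun i : Fin m => WidePullback.π_arrow g i.succ) := pullback.lift_fst _ _ _
    have hΨ2 : Ψ ≫ pullback.snd _ _ = WidePullback.π g 0 := pullback.lift_snd _ _ _
    have h : Ψ ≫ Φ = 𝟙 _ := by
      apply WidePullback.hom_ext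
      · intro j
        refine Fin.cases ?_ (fun i => ?_) j
        · rw [Category.assoc, hΦ0, hΨ2, Category.id_comp]
        · rw [Category.assoc, hΦs, ← Category.assoc, hΨ1, Category.id_comp]
          exact WidePullback.lift_π _ _ _ _ i
      · rw [Category.assoc, hΦb, ← Category.assoc, hΨ1, Category.id_comp]
        exact WidePullback.lift_base _ _ _ _
    exact (surjective_of_comp_eq_id Φ _ h).compactSpace Φ.continuous

end Groth.Agent.H96.WidePB
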