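import Groth.Agent.H96.NagataSep3
import Groth.Agent.H96.NagataW
import Groth.Agent.H96.WidePB
import Groth.Agent.H8.BlowUpExist
import Groth.Agent.H8.FiniteTypeIdeal
import Mathlib.AlgebraicGeometry.Morphisms.QuasiSeparated

/-!
# Simultaneous separation of closures by admissible blow-ups (helper96)

`exists_blowUps_separating`: the separation lemma of the Nagata compactification argument for a
finite family of compactifications `X i ⊆ Xb i` of proper `X`-schemes sharing a dense open `U`.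
-/

set_option autoImplicit false
set_option linter.style.haveILetI false
set_option linter.unusedSectionVars false
set_option linter.unusedVariables false
universe u
open CategoryTheory CategoryTheory.Limits AlgebraicGeometry TopologicalSpace Opposite Topology

namespace Groth.Agent.H96.NagataMain

open Scheme.IdealSheafData Groth.Agent.H96.FiniteTypeExt Groth.Agent.H96.SupBlowUp
  Groth.Agent.H96.NagataSep

/-- The unit ideal is effective Cartier. -/
lemma isEffCartier_top (X : Scheme.{u}) : BlowUp.IsEffCartierIdeal (⊤ : X.IdealSheafData) := by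
  intro x
  obtain ⟨_, ⟨U, hU, rfl⟩, hxU, -⟩ :=
    X.isBasis_affineOpens.exists_subset_of_mem_open (Set.mem_univ x) isOpen_univ
  refine ⟨⟨U, hU⟩, hxU, 1, one_mem _, ?_⟩
  rw [Ideal.span_singleton_one]
  rfl

/-- A morphism missing the centre lifts to the blow-up. -/
lemma exists_lift_of_forall_notMem {X X' U : Scheme.{u}} (c : X' ⟶ X) (𝓔 : X.IdealSheafData)
    (hc : BlowUp.IsBlowUp c 𝓔) (f : U ⟶ X) (hf : ∀ x, f x ∉ 𝓔.support) :
    ∃ f' : U ⟶ X', f' ≫ c = f := by
  have h1 : 𝓔.comap f = ⊤ := by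
    rw [← support_eq_bot_iff]
    ext x
    rw [support_comap]
    simp only [Closeds.coe_bot, Set.mem_empty_iff_false, iff_false]
    exact hf x
  obtain ⟨f', hf', -⟩ := hc.2 U f (h1 ▸ isEffCartier_top U)
  exact ⟨f', hf'⟩

theorem exists_blowUps_separating
    {S X U : Scheme.{u}} [CompactSpace S] [QuasiSeparatedSpace S] {m : ℕ}
    (gX : X ⟶ S)
    (Xi Xb : Fin m → Scheme.{u}) (gb : ∀ i, Xb i ⟶ S) [∀ i, IsProper (gb i)]
    (o : ∀ i, Xi i ⟶ Xb i) [∀ i, IsOpenImmersion (o i)] [∀ i, QuasiCompact (o i)]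
    (q : ∀ i, Xi i ⟶ X) [∀ i, IsProper (q i)] (hq : ∀ i, q i ≫ gX = o i ≫ gb i)
    (jU : U ⟶ X)
    (v : ∀ i, U ⟶ Xi i)
    (hv : ∀ i, v i ≫ q i = jU) (w : ∀ i, (v i ≫ o i) ≫ gb i = jU ≫ gX)
    (Y : ∀ i, (Xi i).IdealSheafData) (hY : ∀ i, BlowUp.IsFiniteTypeIdeal (Y i))
    (hempty : ∀ z ∈ closure (Set.range (fun x =>
        (WidePullback.lift (jU ≫ gX) (fun i => v i ≫ o i) w) x)),
      ∃ i, (WidePullback.π gb i) z ∉ (fun x => o i x) '' ((Y i).support : Set (Xi i))) :
    ∃ (𝓔 : ∀ i, (Xb i).IdealSheafData) (Xb' : Fin m → Scheme.{u}) (c : ∀ i, Xb' i ⟶ Xb i)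
      (v' : ∀ i, U ⟶ Xb' i) (w' : ∀ i, v' i ≫ c i ≫ gb i = jU ≫ gX),
      (∀ i, BlowUp.IsBlowUp (c i) (𝓔 i) ∧ BlowUp.IsAdmissibleFor (o i).opensRange (𝓔 i) ∧
        v' i ≫ c i = v i ≫ o i) ∧
      ∀ z ∈ closure (Set.range (fun x =>
          (WidePullback.lift (jU ≫ gX) (fun i => v' i) w') x)),
        ∃ i, (WidePullback.π (fun i => c i ≫ gb i) i) z ∉
          closure ((fun y => c i y) ⁻¹' ((fun x => o i x) '' ((Y i).support : Set (Xi i)))) := by
  classical
  -- compactness / quasi-separatedness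
  have hcb : ∀ i, CompactSpace ↥(Xb i) := fun i =>
    QuasiCompact.compactSpace_of_compactSpace (gb i)
  have hqb : ∀ i, QuasiSeparatedSpace ↥(Xb i) := fun i =>
    quasiSeparatedSpace_of_quasiSeparated (gb i)
  have hci : ∀ i, CompactSpace ↥(Xi i) := fun i =>
    QuasiCompact.compactSpace_of_compactSpace (o i)
  have hqi : ∀ i, QuasiSeparatedSpace ↥(Xi i) := fun i =>
    quasiSeparatedSpace_of_quasiSeparated (o i)
  -- the boundary ideals
  have hK : ∀ i, ∃ K : (Xb i).IdealSheafData, (∀ A : (Xb i).affineOpens, (K.ideal A).FG) ∧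
      ∀ x : Xb i, x ∈ K.support ↔ x ∉ Set.range (o i) := by
    intro i
    obtain ⟨K, h1, h2⟩ := exists_finiteType_support_eq (X := Xb i) (o i).opensRange
      (isCompact_range (o i).continuous)
    refine ⟨K, h1, fun x => ?_⟩
    have h3 : x ∈ (K.support : Set (Xb i)) ↔ x ∈ (((o i).opensRange : (Xb i).Opens) :
        Set (Xb i))ᶜ := by rw [h2]
    exact h3
  choose K hKfg hKmem using hK
  -- the ideals of `Y i ∪ boundary`
  have hI : ∀ i, ∃ I : (Xb i).IdealSheafData, (∀ A : (Xb i).affineOpens, (I.ideal A).FG) ∧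
      ∀ x : Xb i, x ∈ I.support ↔ ∀ y : Xi i, o i y = x → y ∈ (Y i).support := by
    intro i
    have hc : IsCompact (((Y i).support : Set (Xi i))ᶜ) :=
      isCompact_of_support_eq_compl (Y i) (hY i)
        ⟨((Y i).support : Set (Xi i))ᶜ, (Y i).support.isClosed.isOpen_compl⟩
        (compl_compl _).symm
    obtain ⟨I, h1, h2⟩ := exists_finiteType_support_eq (X := Xb i)
      ((o i) ''ᵁ ⟨((Y i).support : Set (Xi i))ᶜ, (Y i).support.isClosed.isOpen_compl⟩)
      (hc.image (o i).continuous)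
    refine ⟨I, h1, fun x => ?_⟩
    have h3 : x ∈ (I.support : Set (Xb i)) ↔
        x ∈ ((o i) '' ((Y i).support : Set (Xi i))ᶜ)ᶜ := by rw [h2]; rfl
    rw [← SetLike.mem_coe, h3]
    constructor
    · intro hx y hy
      by_contra hys
      exact hx ⟨y, hys, hy⟩
    · rintro hx ⟨y, hys, hy⟩
      exact hys (hx y hy)
  choose I hIfg hImem using hI
  -- the product and the closure of `U`
  have hP : CompactSpace ↥(widePullback S Xb gb) :=
    Groth.Agent.H96.WidePB.compactSpace_widePullback m Xb gb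
  set u : U ⟶ widePullback S Xb gb := WidePullback.lift (jU ≫ gX) (fun i => v i ≫ o i) w
    with hu
  have huπ : ∀ k, u ≫ WidePullback.π gb k = v k ≫ o k := fun k =>
    WidePullback.lift_π _ _ _ _ k
  set 𝔳 : (widePullback S Xb gb).IdealSheafData :=
    vanishingIdeal ⟨closure (Set.range (fun x => u x)), isClosed_closure⟩ with h𝔳
  have h𝔳mem : ∀ x, x ∈ 𝔳.support ↔ x ∈ closure (Set.range (fun x => u x)) := by
    intro x
    rw [← SetLike.mem_coe, h𝔳, coe_support_vanishingIdeal]
    rfl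
  -- the uniform exponent
  have hn : ∀ i, ∃ n : ℕ, ∀ A : (widePullback S Xb gb).affineOpens,
      (((K i).comap (WidePullback.π gb i)) ^ n).ideal A ≤
        ((⨆ j, (I j).comap (WidePullback.π gb j)) ⊔ 𝔳).ideal A := by
    intro i
    obtain ⟨n, -, hn⟩ := exists_pow_le_of_support ((K i).comap (WidePullback.π gb i))
      ((⨆ j, (I j).comap (WidePullback.π gb j)) ⊔ 𝔳)
      (Groth.Agent.H8.isFiniteTypeIdeal_comap _ (hKfg i)) ⊤ isCompact_univ (by
        intro x _ hx
        rw [support_sup, ← SetLike.mem_coe, Closeds.coe_inf, support_iSup,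
          Closeds.coe_iInf] at hx
        obtain ⟨hx1, hx2⟩ := hx
        have hx1' : ∀ j, (WidePullback.π gb j) x ∈ (I j).support := fun j => by
          have := Set.mem_iInter.mp hx1 j
          rwa [SetLike.mem_coe, support_comap] at this
        have hx2' := (h𝔳mem x).mp hx2
        obtain ⟨j₀, hj₀⟩ := hempty x hx2'
        have hj₀' : (WidePullback.π gb j₀) x ∉ Set.range (o j₀) := by
          rintro ⟨y, hy⟩
          exact hj₀ ⟨y, (hImem j₀ _).mp (hx1' j₀) y hy, hy⟩
        rw [support_comap]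
        change (WidePullback.π gb i) x ∈ (K i).support
        rw [hKmem]
        intro hi
        exact hj₀' (Groth.Agent.H96.NagataW.mem_range_of_mem_closure gX Xi Xb gb o q hq jU v hv w
          x hx2' i j₀ hi))
    exact ⟨n, fun A => hn A le_top⟩
  choose n hn using hn
  set nt : ℕ := Finset.univ.sup n + 1 with hnt
  have hnle : ∀ i, n i ≤ nt := fun i =>
    (Finset.le_sup (f := n) (Finset.mem_univ i)).trans (Nat.le_succ _)
  have hpow : ∀ i, ((K i) ^ nt).comap (WidePullback.π gb i) ≤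
      (⨆ j, (I j).comap (WidePullback.π gb j)) ⊔ 𝔳 := by
    intro i A
    rw [comap_pow]
    refine le_trans ?_ (hn i A)
    change (((K i).comap (WidePullback.π gb i)).ideal A) ^ nt ≤
      (((K i).comap (WidePullback.π gb i)).ideal A) ^ (n i)
    exact Ideal.pow_le_pow_right (hnle i)
  have hKpow : ∀ i, ((K i) ^ nt).support = (K i).support := fun i =>
    support_pow _ _ (Nat.succ_ne_zero _)
  -- the centres
  set 𝓔 : ∀ i, (Xb i).IdealSheafData := fun i => I i ⊔ (K i) ^ nt with h𝓔
  have h𝓔supp : ∀ i (x : Xb i), x ∈ (𝓔 i).support → x ∉ Set.range (o i) := by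
    intro i x hx
    rw [h𝓔, support_sup, ← SetLike.mem_coe, Closeds.coe_inf] at hx
    have := hx.2
    rw [SetLike.mem_coe, hKpow, hKmem] at this
    exact this
  have hbl : ∀ i, ∃ (X' : Scheme.{u}) (b : X' ⟶ Xb i), BlowUp.IsBlowUp b (𝓔 i) := fun i =>
    Groth.Agent.H8.exists_isBlowUp (Xb i) (𝓔 i)
  choose Xb' c hc using hbl
  have hlift : ∀ i, ∃ f' : U ⟶ Xb' i, f' ≫ c i = v i ≫ o i := fun i =>
    exists_lift_of_forall_notMem (c i) (𝓔 i) (hc i) (v i ≫ o i) (fun x hx =>
      h𝓔supp i _ hx ⟨v i x, by rw [Scheme.Hom.comp_apply]⟩)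
  choose v' hv' using hlift
  have w' : ∀ i, v' i ≫ c i ≫ gb i = jU ≫ gX := fun i => by
    rw [← Category.assoc, hv' i]
    exact w i
  refine ⟨𝓔, Xb', c, v', w', fun i => ⟨hc i, ⟨?_, ?_⟩, hv' i⟩, ?_⟩
  · intro A
    change ((I i).ideal A ⊔ ((K i).ideal A) ^ nt).FG
    exact Submodule.FG.sup (hIfg i A) (Ideal.FG.pow (hKfg i A))
  · rw [Set.disjoint_left]
    intro x hx hx'
    exact h𝓔supp i x hx hx'
  -- the main claim
  intro z' hz'
  by_contra hcon
  push Not at hcon
  set u' : U ⟶ widePullback S Xb' (fun i => c i ≫ gb i) :=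
    WidePullback.lift (jU ≫ gX) (fun i => v' i) w' with hu'
  have hu'π : ∀ k, u' ≫ WidePullback.π (fun i => c i ≫ gb i) k = v' k := fun k =>
    WidePullback.lift_π _ _ _ _ k
  let cP : widePullback S Xb' (fun i => c i ≫ gb i) ⟶ widePullback S Xb gb :=
    WidePullback.lift (WidePullback.base (fun i => c i ≫ gb i))
      (fun i => WidePullback.π (fun i => c i ≫ gb i) i ≫ c i)
      (fun i => by
        rw [Category.assoc]
        exact WidePullback.π_arrow (fun i => c i ≫ gb i) i)
  have hcPπ : ∀ i, cP ≫ WidePullback.π gb i =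
      WidePullback.π (fun i => c i ≫ gb i) i ≫ c i := fun i =>
    WidePullback.lift_π _ _ _ _ i
  have hucP : u' ≫ cP = u := by
    apply WidePullback.hom_ext
    · intro j
      rw [Category.assoc, hcPπ, ← Category.assoc, hu'π, hv', huπ]
    · rw [Category.assoc]
      have h1 : cP ≫ WidePullback.base gb = WidePullback.base (fun i => c i ≫ gb i) :=
        WidePullback.lift_base _ _ _ _
      rw [h1, hu', WidePullback.lift_base, hu, WidePullback.lift_base]
  -- local principal generators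
  have hloc : ∀ i, ∃ (N : (Xb' i).affineOpens) (t : Γ(Xb' i, N.1)),
      (WidePullback.π (fun i => c i ≫ gb i) i) z' ∈ N.1 ∧
      (((K i) ^ nt).comap (c i)).ideal N = Ideal.span {t} ∧
      ((I i).comap (c i)).ideal N ≤ Ideal.span {t} ∧
      ((I i).comap (c i) ⊔ ((K i) ^ nt).comap (c i)).ideal N = Ideal.span {t} ∧
      ∀ a : Γ(Xb' i, N.1), t * a ∈ ((I i).comap (c i)).ideal N →
        (WidePullback.π (fun i => c i ≫ gb i) i) z' ∉ (Xb' i).basicOpen a := by
    intro i
    have hEC : BlowUp.IsEffCartierIdeal ((I i).comap (c i) ⊔ ((K i) ^ nt).comap (c i)) := by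
      rw [← comap_sup]
      exact (hc i).1
    obtain ⟨N, t, hxN, hE, hor⟩ := exists_affine_span_sup _ _ hEC
      ((WidePullback.π (fun i => c i ≫ gb i) i) z')
    have hSI : (fun y => c i y) ⁻¹' ((fun x => o i x) '' ((Y i).support : Set (Xi i))) ⊆
        (((I i).comap (c i)).support : Set (Xb' i)) := by
      rintro x' ⟨y, hy, hyx⟩
      rw [SetLike.mem_coe, support_comap]
      change c i x' ∈ (I i).support
      rw [hImem]
      intro y' hy'
      have : y' = y := (o i).isOpenEmbedding.injective (hy'.trans hyx.symm)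
      rw [this]
      exact hy
    have hSE : Disjoint ((fun y => c i y) ⁻¹' ((fun x => o i x) '' ((Y i).support : Set (Xi i))))
        (((I i).comap (c i) ⊔ ((K i) ^ nt).comap (c i)).support : Set (Xb' i)) := by
      rw [Set.disjoint_left]
      rintro x' ⟨y, hy, hyx⟩ hx''
      rw [← comap_sup, SetLike.mem_coe, support_comap] at hx''
      exact h𝓔supp i _ hx'' ⟨y, hyx⟩
    have hcolon : ∀ a : Γ(Xb' i, N.1), t * a ∈ ((I i).comap (c i)).ideal N →
        (WidePullback.π (fun i => c i ≫ gb i) i) z' ∉ (Xb' i).basicOpen a := fun a ha =>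
      notMem_basicOpen_of_mul_mem _ ((I i).comap (c i)) N t hE _ hSI hSE _ (hcon i) a ha
    have h2eq : (((K i) ^ nt).comap (c i)).ideal N = Ideal.span {t} := by
      rcases hor with h | h
      · exfalso
        refine hcolon 1 ?_ ?_
        · rw [mul_one, h]
          exact Ideal.mem_span_singleton_self t
        · rw [Scheme.basicOpen_one]
          exact hxN
      · exact h
    have hI1le : ((I i).comap (c i)).ideal N ≤ Ideal.span {t} := by
      rw [← hE]
      exact le_sup_left (a := ((I i).comap (c i)).ideal N)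
        (b := (((K i) ^ nt).comap (c i)).ideal N)
    exact ⟨N, t, hxN, h2eq, hI1le, hE, hcolon⟩
  choose N t hzN hKN hIN hEN hcolon using hloc
  have e1 : ∀ i (J : (Xb i).IdealSheafData), (J.comap (WidePullback.π gb i)).comap cP =
      (J.comap (c i)).comap (WidePullback.π (fun i => c i ≫ gb i) i) := fun i J => by
    rw [← comap_comp, ← comap_comp, hcPπ]
  have hle : ∀ i, (((K i) ^ nt).comap (c i)).comap (WidePullback.π (fun i => c i ≫ gb i) i) ≤
      (⨆ j, ((I j).comap (c j)).comap (WidePullback.π (fun i => c i ≫ gb i) j)) ⊔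
        𝔳.comap cP := by
    intro i
    have h2 := comap_mono cP (hpow i)
    simp only at h2
    rw [comap_sup, comap_iSup] at h2
    simp only [e1] at h2
    exact h2
  obtain ⟨B, hzB, hB⟩ := exists_open_forall_notMem_basicOpen Xb'
    (fun i => WidePullback.π (fun i => c i ≫ gb i) i) N t
    (fun i => ((K i) ^ nt).comap (c i)) (fun i => (I i).comap (c i)) (𝔳.comap cP)
    hKN hIN hle z' hzN hcolon
  obtain ⟨w0, hw0B, ⟨g, rfl⟩⟩ := mem_closure_iff.mp hz' B B.2 hzB
  have hwv : u' g ∈ (𝔳.comap cP).support := by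
    rw [support_comap]
    change cP (u' g) ∈ 𝔳.support
    rw [← Scheme.Hom.comp_apply, hucP, h𝔳mem]
    exact subset_closure ⟨g, rfl⟩
  obtain ⟨i, -⟩ := hempty (u g) (subset_closure ⟨g, rfl⟩)
  obtain ⟨h1, h2⟩ := hB _ hw0B hwv i
  have h3 := mem_support_of_notMem_basicOpen _ (N i) (t i) (hEN i) _ h1 h2
  rw [← comap_sup, support_comap] at h3
  refine h𝓔supp i _ h3 ⟨v i g, ?_⟩
  change o i (v i g) = c i ((WidePullback.π (fun i => c i ≫ gb i) i) (u' g))
  rw [← Scheme.Hom.comp_apply, ← Scheme.Hom.comp_apply, ← Scheme.Hom.comp_apply,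
    ← Category.assoc, hu'π, hv']

end Groth.Agent.H96.NagataMain
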