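import Groth.Agent.H96.GlueTwo
import Groth.Agent.H96.AdmExt
import Groth.Agent.H96.NagataMain
import Groth.Agent.H96.BlowUpProper
import Groth.Agent.H8.BlowUpDominate
import Groth.Agent.H8.FiniteTypeIdeal

/-!
# Quasi-dominations and blow-ups (helper96)

* `isSchemeTheoreticallyDominant_of_isEffCartier`: the complement of the support of an effective
  Cartier ideal sheaf is schematically dense.
* `isIso_morphismRestrict_of_isBlowUp`: a blow-up is an isomorphism over an open missing the centre.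
* `isBlowUp_of_quasiDomination`: a quasi-domination `ψ : W → V` of a blow-up `X̃ → X` over `V`,
  where `V → X` restricts to the identity on a schematically dense `U`, is the blow-up of `V` in
  the inverse image ideal.
-/

set_option autoImplicit false
set_option linter.style.haveILetI false
set_option linter.unusedSectionVars false
set_option linter.unusedVariables false
universe u
open CategoryTheory CategoryTheory.Limits AlgebraicGeometry TopologicalSpace Opposite Topology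

namespace Groth.Agent.H96.QuasiDom

/-- The complement of the support of an effective Cartier ideal sheaf is schematically dense. -/
theorem isSchemeTheoreticallyDominant_of_isEffCartier {X : Scheme.{u}} (I : X.IdealSheafData)
    (hI : BlowUp.IsEffCartierIdeal I) (V : X.Opens) (hV : ∀ x, x ∉ I.support → x ∈ V) :
    IsSchemeTheoreticallyDominant V.ι := by
  constructor
  refine Scheme.IdealSheafData.ext_of_iSup_eq_top
    (ι := {U : X.affineOpens // ∃ t : Γ(X, U.1), t ∈ nonZeroDivisors Γ(X, U.1) ∧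
      I.ideal U = Ideal.span {t}})
    (fun U => U.1) ?_ ?_
  · rw [eq_top_iff]
    rintro x -
    rw [Opens.mem_iSup]
    obtain ⟨U, hxU, t, ht, hE⟩ := hI x
    exact ⟨⟨U, t, ht, hE⟩, hxU⟩
  · rintro ⟨U, t, ht, hE⟩
    change V.ι.ker.ideal U = (⊥ : X.IdealSheafData).ideal U
    rw [Scheme.IdealSheafData.ideal_bot, Pi.bot_apply, eq_bot_iff]
    intro s hs
    have h1 : V.ι.app U.1 s = 0 := V.ι.ideal_ker_le U hs
    have hle : X.basicOpen t ≤ V := by
      intro x hx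
      apply hV
      intro hxs
      rw [Scheme.IdealSheafData.mem_support_iff_of_mem (X.basicOpen_le t hx), hE,
        Scheme.zeroLocus_span, Scheme.mem_zeroLocus_iff] at hxs
      exact hxs t (Set.mem_singleton t) hx
    have h2 : X.presheaf.map (homOfLE (X.basicOpen_le t)).op s = 0 := by
      haveI := V.ι.isIso_app (X.basicOpen t) (by rw [Scheme.Opens.opensRange_ι]; exact hle)
      have hinj : Function.Injective (V.ι.app (X.basicOpen t)) :=
        ((ConcreteCategory.isIso_iff_bijective _).mp inferInstance).1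
      apply hinj
      rw [map_zero, ← CommRingCat.comp_apply, V.ι.naturality, CommRingCat.comp_apply, h1, map_zero]
    have hloc := U.2.isLocalization_basicOpen t
    obtain ⟨⟨_, n, rfl⟩, hn⟩ :=
      (IsLocalization.map_eq_zero_iff (Submonoid.powers t) Γ(X, X.basicOpen t) s).mp h2
    have hn' : t ^ n * s = 0 := hn
    have htn : t ^ n ∈ nonZeroDivisors Γ(X, U.1) := pow_mem ht n
    exact (mul_left_mem_nonZeroDivisors_eq_zero_iff htn).mp (by rwa [mul_comm] at hn')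

open Scheme.IdealSheafData in
lemma comap_eq_top_of_forall_notMem {X U : Scheme.{u}} (𝓔 : X.IdealSheafData) (f : U ⟶ X)
    (hf : ∀ x, f x ∉ 𝓔.support) : 𝓔.comap f = ⊤ := by
  rw [← support_eq_bot_iff]
  ext x
  rw [support_comap]
  simp only [Closeds.coe_bot, Set.mem_empty_iff_false, iff_false]
  exact hf x

lemma isBlowUp_id_top (X : Scheme.{u}) : BlowUp.IsBlowUp (𝟙 X) (⊤ : X.IdealSheafData) := by
  refine ⟨?_, fun Y g _ => ⟨g, Category.comp_id g, fun h hh => by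
    have hh' : h ≫ 𝟙 X = g := hh
    rwa [Category.comp_id] at hh'⟩⟩
  rw [Scheme.IdealSheafData.comap_top]
  exact Groth.Agent.H96.NagataMain.isEffCartier_top X

/-- A blow-up is an isomorphism over an open subscheme missing the centre. -/
theorem isIso_morphismRestrict_of_isBlowUp {X X' : Scheme.{u}} (b : X' ⟶ X)
    (𝓘 : X.IdealSheafData) (hb : BlowUp.IsBlowUp b 𝓘) (V : X.Opens)
    (hV : Disjoint (𝓘.support : Set X) (V : Set X)) : IsIso (b ∣_ V) := by
  have h1 := Groth.Agent.H96.AdmExt.isBlowUp_morphismRestrict b 𝓘 hb V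
  have h2 : 𝓘.comap V.ι = ⊤ := comap_eq_top_of_forall_notMem 𝓘 V.ι
    (fun x hx => Set.disjoint_left.mp hV hx x.2)
  rw [h2] at h1
  obtain ⟨e, he⟩ := Groth.Agent.H8.isBlowUp_iso h1 (isBlowUp_id_top _)
  rw [Category.comp_id] at he
  rw [← he]
  infer_instance

/-- Uniqueness of lifts through a blow-up. -/
lemma lift_unique {X X' T : Scheme.{u}} {b : X' ⟶ X} {𝓘 : X.IdealSheafData}
    (hb : BlowUp.IsBlowUp b 𝓘) (h₁ h₂ : T ⟶ X') (h : h₁ ≫ b = h₂ ≫ b)
    (hT : BlowUp.IsEffCartierIdeal (𝓘.comap (h₁ ≫ b))) : h₁ = h₂ :=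
  (hb.2 T (h₁ ≫ b) hT).unique rfl h.symm

section main

variable {S U X V Xt : Scheme.{u}} (gX : X ⟶ S) (gV : V ⟶ S) [IsSeparated gX] [IsSeparated gV]
  (jX : U ⟶ X) [CompactSpace U] [QuasiSeparatedSpace V] [QuasiSeparatedSpace X]
  (jV : U ⟶ V) [IsSchemeTheoreticallyDominant jV]
  (φ : V ⟶ X) (hφU : jV ≫ φ = jX) (hφ : gV = φ ≫ gX)
  (𝓘 : X.IdealSheafData) (h𝓘 : BlowUp.IsFiniteTypeIdeal 𝓘) (hsupp : ∀ x, jX x ∉ 𝓘.support)
  (b : Xt ⟶ X) (hb : BlowUp.IsBlowUp b 𝓘)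
  (W : Xt.Opens) (u : U ⟶ (W : Scheme.{u})) (hu : u ≫ W.ι ≫ b = jX)
  [IsSchemeTheoreticallyDominant (u ≫ W.ι)]
  (ψ : (W : Scheme.{u}) ⟶ V) (hψU : u ≫ ψ = jV)
  (hψ : W.ι ≫ b ≫ gX = ψ ≫ gV)
  (hψcl : IsClosed (Set.range (pullback.lift W.ι ψ hψ)))

include hφU hφ h𝓘 hb hu hψU hψ in
/-- `b` restricted to `W` equals `ψ ≫ φ`. -/
lemma ι_comp_eq : W.ι ≫ b = ψ ≫ φ := by
  haveI : IsProper b := Groth.Agent.H96.BlowUpProper.isProper_of_isBlowUp b 𝓘 hb
    (fun x => by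
      obtain ⟨_, ⟨A, hA, rfl⟩, hxA, -⟩ :=
        X.isBasis_affineOpens.exists_subset_of_mem_open (Set.mem_univ x) isOpen_univ
      exact ⟨⟨A, hA⟩, hxA, h𝓘 ⟨A, hA⟩⟩)
  haveI : QuasiSeparatedSpace Xt := quasiSeparatedSpace_of_quasiSeparated b
  haveI : IsSchemeTheoreticallyDominant u :=
    Groth.Agent.H96.GlueTwo.isSchemeTheoreticallyDominant_of_comp_mono u W.ι
  refine Groth.Agent.H96.GlueTwo.ext_of_isSchemeTheoreticallyDominant gX ?_ u ?_
  · rw [Category.assoc, Category.assoc, ← hφ, hψ]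
  · rw [hu, ← Category.assoc, hψU, hφU]

set_option backward.isDefEq.respectTransparency false in
include hφU hφ h𝓘 hsupp hb hu hψU hψ hψcl in
/-- A quasi-domination `ψ : W → V` of the blow-up `b : X̃ → X` over `V`, where `φ : V → X`
restricts to the given embedding on the schematically dense `U`, is the blow-up of `V` in the
inverse image ideal `𝓘 · O_V`. -/
theorem isBlowUp_of_quasiDomination : BlowUp.IsBlowUp ψ (𝓘.comap φ) := by
  classical
  have hfgX : ∀ x : X, ∃ A : X.affineOpens, x ∈ A.1 ∧ (𝓘.ideal A).FG := fun x => by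
    obtain ⟨_, ⟨A, hA, rfl⟩, hxA, -⟩ :=
      X.isBasis_affineOpens.exists_subset_of_mem_open (Set.mem_univ x) isOpen_univ
    exact ⟨⟨A, hA⟩, hxA, h𝓘 ⟨A, hA⟩⟩
  haveI : IsProper b := Groth.Agent.H96.BlowUpProper.isProper_of_isBlowUp b 𝓘 hb hfgX
  haveI : QuasiSeparatedSpace Xt := quasiSeparatedSpace_of_quasiSeparated b
  have hWb : W.ι ≫ b = ψ ≫ φ := ι_comp_eq gX gV jX jV φ hφU hφ 𝓘 h𝓘 b hb W u hu ψ hψU hψ
  have h𝓙ft : BlowUp.IsFiniteTypeIdeal (𝓘.comap φ) :=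
    Groth.Agent.H8.isFiniteTypeIdeal_comap φ h𝓘
  obtain ⟨V', β, hβ⟩ := Groth.Agent.H8.exists_isBlowUp V (𝓘.comap φ)
  have hfgV : ∀ x : V, ∃ A : V.affineOpens, x ∈ A.1 ∧ ((𝓘.comap φ).ideal A).FG := fun x => by
    obtain ⟨_, ⟨A, hA, rfl⟩, hxA, -⟩ :=
      V.isBasis_affineOpens.exists_subset_of_mem_open (Set.mem_univ x) isOpen_univ
    exact ⟨⟨A, hA⟩, hxA, h𝓙ft ⟨A, hA⟩⟩
  haveI : IsProper β := Groth.Agent.H96.BlowUpProper.isProper_of_isBlowUp β _ hβ hfgV
  haveI : QuasiSeparatedSpace V' := quasiSeparatedSpace_of_quasiSeparated β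
  -- the complement of the centre in `V`
  obtain ⟨V0, hV0def⟩ : ∃ V0 : V.Opens, ∀ x, x ∈ V0 ↔ x ∉ (𝓘.comap φ).support :=
    ⟨(𝓘.comap φ).support.compl, fun x => Iff.rfl⟩
  have hV0 : Disjoint ((𝓘.comap φ).support : Set V) (V0 : Set V) := by
    rw [Set.disjoint_left]
    intro x hx hx'
    exact (hV0def x).mp hx' hx
  haveI hiso : IsIso (β ∣_ V0) := isIso_morphismRestrict_of_isBlowUp β _ hβ _ hV0
  have hjVs : ∀ x, jV x ∉ (𝓘.comap φ).support := by
    intro x hx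
    rw [Scheme.IdealSheafData.support_comap] at hx
    have hx' : φ (jV x) ∈ 𝓘.support := hx
    rw [← Scheme.Hom.comp_apply, hφU] at hx'
    exact hsupp x hx'
  have hjV0 : Set.range jV ⊆ Set.range V0.ι := by
    rintro _ ⟨x, rfl⟩
    rw [Scheme.Opens.range_ι]
    exact (hV0def _).mpr (hjVs x)
  have hjV0' : IsOpenImmersion.lift V0.ι jV hjV0 ≫ V0.ι = jV := IsOpenImmersion.lift_fac _ _ _
  haveI : IsSchemeTheoreticallyDominant (IsOpenImmersion.lift V0.ι jV hjV0 ≫ V0.ι) := by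
    rw [hjV0']; infer_instance
  haveI : IsSchemeTheoreticallyDominant (IsOpenImmersion.lift V0.ι jV hjV0) :=
    Groth.Agent.H96.GlueTwo.isSchemeTheoreticallyDominant_of_comp_mono _ V0.ι
  haveI : IsSchemeTheoreticallyDominant (β ⁻¹ᵁ V0).ι :=
    isSchemeTheoreticallyDominant_of_isEffCartier ((𝓘.comap φ).comap β) hβ.1 _ (fun x hx => by
      rw [Scheme.IdealSheafData.support_comap] at hx
      exact (hV0def _).mpr hx)
  -- the lift `v : U → V'`
  obtain ⟨v, hv, hvβ⟩ : ∃ v : U ⟶ V', IsSchemeTheoreticallyDominant v ∧ v ≫ β = jV := by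
    refine ⟨IsOpenImmersion.lift V0.ι jV hjV0 ≫ inv (β ∣_ V0) ≫ (β ⁻¹ᵁ V0).ι,
      inferInstance, ?_⟩
    rw [Category.assoc, Category.assoc, ← morphismRestrict_ι, IsIso.inv_hom_id_assoc, hjV0']
  haveI := hv
  have hE1 : BlowUp.IsEffCartierIdeal (𝓘.comap (β ≫ φ)) := by
    rw [Scheme.IdealSheafData.comap_comp]
    exact hβ.1
  obtain ⟨h₀, hh₀, -⟩ := hb.2 V' (β ≫ φ) hE1
  have hh₀' : h₀ ≫ b = β ≫ φ := hh₀
  have htopU : BlowUp.IsEffCartierIdeal (𝓘.comap jX) := by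
    rw [comap_eq_top_of_forall_notMem 𝓘 jX hsupp]
    exact Groth.Agent.H96.NagataMain.isEffCartier_top U
  have hvh : v ≫ h₀ = u ≫ W.ι := by
    refine lift_unique hb _ _ ?_ ?_
    · rw [Category.assoc, hh₀', ← Category.assoc, hvβ, hφU, Category.assoc, hu]
    · rw [Category.assoc, hh₀', ← Category.assoc, hvβ, hφU]
      exact htopU
  have hcond : h₀ ≫ b ≫ gX = β ≫ gV := by
    rw [← Category.assoc, hh₀', Category.assoc, ← hφ]
  have hh₀W : ∀ z, h₀ z ∈ W := by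
    intro z
    have hgr : v ≫ pullback.lift h₀ β hcond = u ≫ pullback.lift W.ι ψ hψ := by
      apply pullback.hom_ext
      · simp [hvh]
      · simp [hvβ, hψU]
    have hcont : Continuous (pullback.lift h₀ β hcond) := (pullback.lift h₀ β hcond).continuous
    have hz : z ∈ closure (Set.range v) := v.denseRange z
    have h1 := image_closure_subset_closure_image hcont ⟨z, hz, rfl⟩
    have h2 : (pullback.lift h₀ β hcond) z ∈ Set.range (pullback.lift W.ι ψ hψ) := by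
      refine hψcl.closure_subset_iff.mpr ?_ h1
      rintro _ ⟨_, ⟨x, rfl⟩, rfl⟩
      refine ⟨u x, ?_⟩
      rw [← Scheme.Hom.comp_apply, ← hgr, Scheme.Hom.comp_apply]
    obtain ⟨w, hw⟩ := h2
    have h3 := congrArg (fun y => pullback.fst (b ≫ gX) gV y) hw
    simp only at h3
    rw [← Scheme.Hom.comp_apply, ← Scheme.Hom.comp_apply, pullback.lift_fst,
      pullback.lift_fst] at h3
    rw [← h3]
    exact w.2
  have hh₀r : Set.range h₀ ⊆ Set.range W.ι := by
    rintro _ ⟨z, rfl⟩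
    rw [Scheme.Opens.range_ι]
    exact hh₀W z
  have hh₁ : IsOpenImmersion.lift W.ι h₀ hh₀r ≫ W.ι = h₀ := IsOpenImmersion.lift_fac _ _ _
  have hvh₁ : v ≫ IsOpenImmersion.lift W.ι h₀ hh₀r = u := by
    rw [← cancel_mono W.ι, Category.assoc, hh₁, hvh]
  have hh₁ψ : IsOpenImmersion.lift W.ι h₀ hh₀r ≫ ψ = β := by
    refine Groth.Agent.H96.GlueTwo.ext_of_isSchemeTheoreticallyDominant gV ?_ v ?_
    · rw [Category.assoc, ← hψ, ← Category.assoc, hh₁, hcond]
    · rw [← Category.assoc, hvh₁, hψU, hvβ]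
  have hEW : BlowUp.IsEffCartierIdeal (𝓘.comap (W.ι ≫ b)) := by
    rw [Scheme.IdealSheafData.comap_comp]
    exact Groth.Agent.S1680.isEffCartier_comap_of_flat W.ι hb.1
  have hE2 : BlowUp.IsEffCartierIdeal ((𝓘.comap φ).comap ψ) := by
    rw [← Scheme.IdealSheafData.comap_comp, ← hWb]
    exact hEW
  obtain ⟨θ, hθ, -⟩ := hβ.2 W ψ hE2
  have hθ' : θ ≫ β = ψ := hθ
  have hθh : θ ≫ IsOpenImmersion.lift W.ι h₀ hh₀r = 𝟙 _ := by
    rw [← cancel_mono W.ι, Category.assoc, hh₁, Category.id_comp]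
    refine lift_unique hb _ _ ?_ ?_
    · rw [Category.assoc, hh₀', ← Category.assoc, hθ', hWb]
    · rw [Category.assoc, hh₀', ← Category.assoc, hθ', ← hWb]
      exact hEW
  have hhθ : IsOpenImmersion.lift W.ι h₀ hh₀r ≫ θ = 𝟙 _ := by
    refine lift_unique hβ _ _ ?_ ?_
    · rw [Category.assoc, hθ', hh₁ψ, Category.id_comp]
    · rw [Category.assoc, hθ', hh₁ψ]
      exact hβ.1
  have hfin := Groth.Agent.H8.isBlowUp_iso_comp hβ
    (⟨θ, IsOpenImmersion.lift W.ι h₀ hh₀r, hθh, hhθ⟩ : (W : Scheme.{u}) ≅ V')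
  rwa [show (⟨θ, IsOpenImmersion.lift W.ι h₀ hh₀r, hθh, hhθ⟩ : (W : Scheme.{u}) ≅ V').hom ≫ β = ψ
    from hθ'] at hfin

end main

set_option backward.isDefEq.respectTransparency false in
/-- The graph of a quasi-domination `ψ : W → V` over an open `V ⊆ Y` stays closed in `X̃ ×_S Y`
when `V → X` has closed graph in `Y ×_S X` and `b|_W = ψ ≫ φ`. -/
theorem isClosed_range_graph_comp {S X Y Xt : Scheme.{u}} (gX : X ⟶ S) (gY : Y ⟶ S)
    (V : Y.Opens) (φ : (V : Scheme.{u}) ⟶ X) (hφ : V.ι ≫ gY = φ ≫ gX)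
    (hφcl : IsClosed (Set.range (pullback.lift V.ι φ hφ)))
    (b : Xt ⟶ X) (W : Xt.Opens) (ψ : (W : Scheme.{u}) ⟶ (V : Scheme.{u}))
    (hψ : W.ι ≫ b ≫ gX = ψ ≫ V.ι ≫ gY)
    (hψcl : IsClosed (Set.range (pullback.lift W.ι ψ hψ)))
    (hWb : W.ι ≫ b = ψ ≫ φ) :
    IsClosed (Set.range (pullback.lift (f := b ≫ gX) (g := gY) W.ι (ψ ≫ V.ι)
      (hψ.trans (Category.assoc ψ V.ι gY).symm))) := by
  have hm : pullback.snd (b ≫ gX) gY ≫ gY = (pullback.fst (b ≫ gX) gY ≫ b) ≫ gX := by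
    rw [Category.assoc, ← pullback.condition]
  have e1 : pullback.lift (f := b ≫ gX) (g := gY) W.ι (ψ ≫ V.ι)
      (hψ.trans (Category.assoc ψ V.ι gY).symm) ≫
      pullback.lift (pullback.snd (b ≫ gX) gY) (pullback.fst (b ≫ gX) gY ≫ b) hm =
      ψ ≫ pullback.lift V.ι φ hφ := by
    apply pullback.hom_ext
    · simp
    · simp [hWb]
  have e2 : pullback.lift W.ι ψ hψ ≫
      pullback.map (b ≫ gX) (V.ι ≫ gY) (b ≫ gX) gY (𝟙 Xt) V.ι (𝟙 S) (by simp) (by simp) =
      pullback.lift (f := b ≫ gX) (g := gY) W.ι (ψ ≫ V.ι)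
        (hψ.trans (Category.assoc ψ V.ι gY).symm) := by
    apply pullback.hom_ext <;> simp
  rw [← closure_subset_iff_isClosed]
  intro z hz
  have hcont : Continuous (pullback.lift (pullback.snd (b ≫ gX) gY)
      (pullback.fst (b ≫ gX) gY ≫ b) hm) :=
    (pullback.lift (pullback.snd (b ≫ gX) gY) (pullback.fst (b ≫ gX) gY ≫ b) hm).continuous
  have h1 := image_closure_subset_closure_image hcont ⟨z, hz, rfl⟩
  have h2 : (pullback.lift (pullback.snd (b ≫ gX) gY) (pullback.fst (b ≫ gX) gY ≫ b) hm) z ∈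
      Set.range (pullback.lift V.ι φ hφ) := by
    refine hφcl.closure_subset_iff.mpr ?_ h1
    rintro _ ⟨_, ⟨w, rfl⟩, rfl⟩
    refine ⟨ψ w, ?_⟩
    rw [← Scheme.Hom.comp_apply, ← e1, Scheme.Hom.comp_apply]
  obtain ⟨y, hy⟩ := h2
  have h3 := congrArg (fun t => pullback.fst gY gX t) hy
  simp only at h3
  rw [← Scheme.Hom.comp_apply, ← Scheme.Hom.comp_apply, pullback.lift_fst,
    pullback.lift_fst] at h3
  have hzr : z ∈ Set.range (pullback.map (b ≫ gX) (V.ι ≫ gY) (b ≫ gX) gY (𝟙 Xt) V.ι (𝟙 S)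
      (by simp) (by simp)) := by
    rw [Scheme.Pullback.range_map]
    refine ⟨⟨pullback.fst (b ≫ gX) gY z, rfl⟩, ⟨y, h3⟩⟩
  obtain ⟨z₀, rfl⟩ := hzr
  have hind := (pullback.map (b ≫ gX) (V.ι ≫ gY) (b ≫ gX) gY (𝟙 Xt) V.ι (𝟙 S)
      (by simp) (by simp)).isOpenEmbedding.isInducing
  have himg : (pullback.map (b ≫ gX) (V.ι ≫ gY) (b ≫ gX) gY (𝟙 Xt) V.ι (𝟙 S)
      (by simp) (by simp)) '' Set.range (pullback.lift W.ι ψ hψ) =
      Set.range (pullback.lift (f := b ≫ gX) (g := gY) W.ι (ψ ≫ V.ι)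
        (hψ.trans (Category.assoc ψ V.ι gY).symm)) := by
    rw [← e2]
    ext t
    constructor
    · rintro ⟨_, ⟨w, rfl⟩, rfl⟩
      exact ⟨w, Scheme.Hom.comp_apply _ _ w⟩
    · rintro ⟨w, rfl⟩
      exact ⟨_, ⟨w, rfl⟩, (Scheme.Hom.comp_apply _ _ w).symm⟩
  have hz₀ : z₀ ∈ closure (Set.range (pullback.lift W.ι ψ hψ)) := by
    rw [hind.closure_eq_preimage_closure_image, himg]
    exact hz
  rw [hψcl.closure_eq] at hz₀
  obtain ⟨w, rfl⟩ := hz₀
  refine ⟨w, ?_⟩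
  rw [← e2, Scheme.Hom.comp_apply]

end Groth.Agent.H96.QuasiDom
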