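import Mathlib.AlgebraicGeometry.Gluing
import Mathlib.AlgebraicGeometry.Morphisms.Separated
import Mathlib.AlgebraicGeometry.Morphisms.Immersion
import Mathlib.AlgebraicGeometry.PullbackCarrier
import Mathlib.AlgebraicGeometry.Morphisms.FiniteType
import Mathlib.AlgebraicGeometry.Morphisms.SchemeTheoreticallyDominant

/-!
# Gluing two schemes along a common open subscheme (helper96)

* `isSeparated_of_isClosed_range`: a morphism `q : Y ⟶ S` is separated as soon as `Y` is covered by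
  open subschemes `X a` such that all the maps `X a ×_Y X b ⟶ X a ×_S X b` have closed range.
* `inl_isOpenImmersion`, `inr_isOpenImmersion`, `inl_or_inr_surjective`, `exists_of_inl_eq_inr`:
  the pushout of two open immersions `a : W ⟶ X₁`, `b : W ⟶ X₂` (it exists in Mathlib as a locally
  directed colimit), its two open charts, and the description of their intersection.
* `isSeparated_pushoutDesc`: the glued scheme is separated over `S` if `X₁`, `X₂` are and the graph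
  `W ⟶ X₁ ×_S X₂` has closed range.
-/

set_option autoImplicit false
set_option linter.style.haveILetI false
set_option linter.unusedSectionVars false
set_option linter.unusedVariables false
universe u
open CategoryTheory CategoryTheory.Limits AlgebraicGeometry TopologicalSpace Opposite Topology

namespace Groth.Agent.H96.GlueTwo

section criterion

/-- A morphism `q : Y ⟶ S` is separated if `Y` is covered by open subschemes `X a` such that all
the maps `X a ×_Y X b ⟶ X a ×_S X b` have closed range. -/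
theorem isSeparated_of_isClosed_range {Y S : Scheme.{u}} (q : Y ⟶ S) {ι : Type*}
    (X : ι → Scheme.{u}) (i : ∀ a, X a ⟶ Y) [∀ a, IsOpenImmersion (i a)]
    (hcov : ∀ y : Y, ∃ a, ∃ x : X a, i a x = y)
    (hcl : ∀ a b, IsClosed (Set.range (pullback.map (i a) (i b) (i a ≫ q) (i b ≫ q) (𝟙 _) (𝟙 _) q
      (by simp) (by simp)))) : IsSeparated q := by
  have hD : IsClosed (Set.range (pullback.diagonal q)) := by
    rw [← isOpen_compl_iff, isOpen_iff_forall_mem_open]
    intro y hy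
    obtain ⟨a, xa, hxa⟩ := hcov (pullback.fst q q y)
    obtain ⟨b, xb, hxb⟩ := hcov (pullback.snd q q y)
    have hm : y ∈ Set.range (pullback.map (i a ≫ q) (i b ≫ q) q q (i a) (i b) (𝟙 S)
        (by simp) (by simp)) := by
      rw [Scheme.Pullback.range_map]
      exact ⟨⟨xa, hxa⟩, ⟨xb, hxb⟩⟩
    obtain ⟨y', rfl⟩ := hm
    have hpb := pullback_map_diagonal_isPullback (i a) (i b) q
    have hy' : y' ∉ Set.range (pullback.map (i a) (i b) (i a ≫ q) (i b ≫ q) (𝟙 _) (𝟙 _) q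
        (by simp) (by simp)) := by
      rintro ⟨z, rfl⟩
      apply hy
      refine ⟨(pullback.fst _ _ ≫ i a) z, ?_⟩
      rw [← Scheme.Hom.comp_apply, ← Scheme.Hom.comp_apply, hpb.w]
    refine ⟨(pullback.map (i a ≫ q) (i b ≫ q) q q (i a) (i b) (𝟙 S) (by simp) (by simp)) ''
      (Set.range (pullback.map (i a) (i b) (i a ≫ q) (i b ≫ q) (𝟙 _) (𝟙 _) q
        (by simp) (by simp)))ᶜ, ?_, ?_, ⟨y', hy', rfl⟩⟩
    · rintro _ ⟨o, ho, rfl⟩ ⟨t, ht⟩
      apply ho
      obtain ⟨z, hz1, hz2⟩ := Scheme.exists_preimage_of_isPullback hpb t o ht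
      exact ⟨z, hz2⟩
    · exact (pullback.map (i a ≫ q) (i b ≫ q) q q (i a) (i b) (𝟙 S) (by simp)
        (by simp)).isOpenEmbedding.isOpenMap _ (hcl a b).isOpen_compl
  haveI : IsClosedImmersion (pullback.diagonal q) := IsClosedImmersion.of_isPreimmersion _ hD
  exact ⟨inferInstance⟩

end criterion

section glue

lemma range_comp_of_surjective {X Y Z : Scheme.{u}} (f : X ⟶ Y) (g : Y ⟶ Z)
    (hf : Function.Surjective f) : Set.range (f ≫ g) = Set.range g := by
  ext z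
  constructor
  · rintro ⟨x, rfl⟩
    exact ⟨f x, (Scheme.Hom.comp_apply f g x).symm⟩
  · rintro ⟨y, rfl⟩
    obtain ⟨x, rfl⟩ := hf y
    exact ⟨x, Scheme.Hom.comp_apply f g x⟩

set_option backward.isDefEq.respectTransparency false in
lemma isClosed_range_map_self {X Y S : Scheme.{u}} (i : X ⟶ Y) [Mono i] (q : Y ⟶ S)
    [IsSeparated (i ≫ q)] :
    IsClosed (Set.range (pullback.map i i (i ≫ q) (i ≫ q) (𝟙 _) (𝟙 _) q (by simp) (by simp))) := by
  have e : pullback.diagonal i ≫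
      pullback.map i i (i ≫ q) (i ≫ q) (𝟙 _) (𝟙 _) q (by simp) (by simp) =
      pullback.diagonal (i ≫ q) := by
    apply pullback.hom_ext <;> simp
  have hsurj : Function.Surjective (pullback.diagonal i) :=
    (pullback.diagonal i).homeomorph.surjective
  rw [← range_comp_of_surjective _ _ hsurj, e]
  exact (pullback.diagonal (i ≫ q)).isClosedEmbedding.isClosed_range

variable {W X₁ X₂ Y S : Scheme.{u}} (a : W ⟶ X₁) (b : W ⟶ X₂) (i₁ : X₁ ⟶ Y) (i₂ : X₂ ⟶ Y)
  [IsOpenImmersion i₁] [IsOpenImmersion i₂]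

lemma lift_surjective (hab : a ≫ i₁ = b ≫ i₂)
    (hint : ∀ x₁ x₂, i₁ x₁ = i₂ x₂ → ∃ w, a w = x₁ ∧ b w = x₂) :
    Function.Surjective (pullback.lift a b hab) := by
  intro z
  have hz : i₁ (pullback.fst i₁ i₂ z) = i₂ (pullback.snd i₁ i₂ z) := by
    rw [← Scheme.Hom.comp_apply, ← Scheme.Hom.comp_apply, pullback.condition]
  obtain ⟨w, hw1, hw2⟩ := hint _ _ hz
  refine ⟨w, ?_⟩
  apply (pullback.fst i₁ i₂).isOpenEmbedding.injective
  rw [← Scheme.Hom.comp_apply, pullback.lift_fst, hw1]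

set_option backward.isDefEq.respectTransparency false in
lemma isClosed_range_map_of_lift (q : Y ⟶ S) (hab : a ≫ i₁ = b ≫ i₂)
    (hint : ∀ x₁ x₂, i₁ x₁ = i₂ x₂ → ∃ w, a w = x₁ ∧ b w = x₂)
    (hcl : IsClosed (Set.range (pullback.lift (f := i₁ ≫ q) (g := i₂ ≫ q) a b
      (by rw [reassoc_of% hab])))) :
    IsClosed (Set.range (pullback.map i₁ i₂ (i₁ ≫ q) (i₂ ≫ q) (𝟙 _) (𝟙 _) q
      (by simp) (by simp))) := by
  have e : pullback.lift a b hab ≫
      pullback.map i₁ i₂ (i₁ ≫ q) (i₂ ≫ q) (𝟙 _) (𝟙 _) q (by simp) (by simp) =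
      pullback.lift (f := i₁ ≫ q) (g := i₂ ≫ q) a b (by rw [reassoc_of% hab]) := by
    apply pullback.hom_ext <;> simp
  rw [← range_comp_of_surjective _ _ (lift_surjective a b i₁ i₂ hab hint), e]
  exact hcl

set_option backward.isDefEq.respectTransparency false in
/-- Separatedness of a scheme glued from two separated pieces along an open `W` whose graph in
`X₁ ×_S X₂` is closed. -/
theorem isSeparated_of_glue (q : Y ⟶ S) [IsSeparated (i₁ ≫ q)] [IsSeparated (i₂ ≫ q)]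
    (hab : a ≫ i₁ = b ≫ i₂)
    (hcov : ∀ y : Y, (∃ x, i₁ x = y) ∨ (∃ x, i₂ x = y))
    (hint : ∀ x₁ x₂, i₁ x₁ = i₂ x₂ → ∃ w, a w = x₁ ∧ b w = x₂)
    (hcl : IsClosed (Set.range (pullback.lift (f := i₁ ≫ q) (g := i₂ ≫ q) a b
      (by rw [reassoc_of% hab])))) :
    IsSeparated q := by
  have hcl' : IsClosed (Set.range (pullback.lift (f := i₂ ≫ q) (g := i₁ ≫ q) b a
      (by rw [reassoc_of% hab]))) := by
    have e : pullback.lift (f := i₁ ≫ q) (g := i₂ ≫ q) a b (by rw [reassoc_of% hab]) ≫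
        (pullbackSymmetry (i₁ ≫ q) (i₂ ≫ q)).hom =
        pullback.lift (f := i₂ ≫ q) (g := i₁ ≫ q) b a (by rw [reassoc_of% hab]) := by
      apply pullback.hom_ext <;> simp
    rw [← e]
    have : Set.range (pullback.lift (f := i₁ ≫ q) (g := i₂ ≫ q) a b (by rw [reassoc_of% hab]) ≫
        (pullbackSymmetry (i₁ ≫ q) (i₂ ≫ q)).hom) =
        (Scheme.homeoOfIso (pullbackSymmetry (i₁ ≫ q) (i₂ ≫ q))) ''
          Set.range (pullback.lift (f := i₁ ≫ q) (g := i₂ ≫ q) a b (by rw [reassoc_of% hab])) := by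
      ext z
      constructor
      · rintro ⟨w, rfl⟩
        exact ⟨_, ⟨w, rfl⟩, (Scheme.Hom.comp_apply _ _ w).symm⟩
      · rintro ⟨_, ⟨w, rfl⟩, rfl⟩
        exact ⟨w, Scheme.Hom.comp_apply _ _ w⟩
    rw [this]
    exact (Scheme.homeoOfIso (pullbackSymmetry (i₁ ≫ q) (i₂ ≫ q))).isClosedMap _ hcl
  haveI hoi : ∀ c : Bool, IsOpenImmersion
      (Bool.rec (motive := fun c => (cond c X₁ X₂ : Scheme.{u}) ⟶ Y) i₂ i₁ c) := by
    intro c
    cases c
    · exact (inferInstance : IsOpenImmersion i₂)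
    · exact (inferInstance : IsOpenImmersion i₁)
  refine isSeparated_of_isClosed_range q (fun c : Bool => (cond c X₁ X₂ : Scheme.{u}))
    (fun c => Bool.rec (motive := fun c => (cond c X₁ X₂ : Scheme.{u}) ⟶ Y) i₂ i₁ c) ?_ ?_
  · intro y
    rcases hcov y with ⟨x, hx⟩ | ⟨x, hx⟩
    · exact ⟨true, x, hx⟩
    · exact ⟨false, x, hx⟩
  · rintro (_ | _) (_ | _)
    · exact isClosed_range_map_self i₂ q
    · exact isClosed_range_map_of_lift b a i₂ i₁ q hab.symm
        (fun x₂ x₁ h => by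
          obtain ⟨w, h1, h2⟩ := hint x₁ x₂ h.symm
          exact ⟨w, h2, h1⟩) hcl'
    · exact isClosed_range_map_of_lift a b i₁ i₂ q hab hint hcl
    · exact isClosed_range_map_self i₁ q

lemma iSup_opensRange_eq_top (hcov : ∀ y : Y, (∃ x, i₁ x = y) ∨ (∃ x, i₂ x = y)) :
    (⨆ c : Bool, cond c i₁.opensRange i₂.opensRange) = ⊤ := by
  rw [eq_top_iff]
  rintro y -
  rw [Opens.mem_iSup]
  rcases hcov y with ⟨x, hx⟩ | ⟨x, hx⟩
  · exact ⟨true, x, hx⟩
  · exact ⟨false, x, hx⟩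

lemma locallyOfFiniteType_of_cover (q : Y ⟶ S)
    (hcov : ∀ y : Y, (∃ x, i₁ x = y) ∨ (∃ x, i₂ x = y))
    [LocallyOfFiniteType (i₁ ≫ q)] [LocallyOfFiniteType (i₂ ≫ q)] : LocallyOfFiniteType q := by
  refine IsZariskiLocalAtSource.of_iSup_eq_top (P := @LocallyOfFiniteType)
    (fun c : Bool => cond c i₁.opensRange i₂.opensRange)
    (iSup_opensRange_eq_top i₁ i₂ hcov) ?_
  rintro (_ | _)
  · change LocallyOfFiniteType (i₂.opensRange.ι ≫ q)
    rw [← Scheme.Hom.isoOpensRange_inv_comp, Category.assoc,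
      (MorphismProperty.cancel_left_of_respectsIso (P := @LocallyOfFiniteType))]
    infer_instance
  · change LocallyOfFiniteType (i₁.opensRange.ι ≫ q)
    rw [← Scheme.Hom.isoOpensRange_inv_comp, Category.assoc,
      (MorphismProperty.cancel_left_of_respectsIso (P := @LocallyOfFiniteType))]
    infer_instance

lemma quasiCompact_of_cover (q : Y ⟶ S)
    (hcov : ∀ y : Y, (∃ x, i₁ x = y) ∨ (∃ x, i₂ x = y))
    [QuasiCompact (i₁ ≫ q)] [QuasiCompact (i₂ ≫ q)] : QuasiCompact q := by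
  constructor
  intro V hVo hVc
  have e : q ⁻¹' V = i₁ '' ((i₁ ≫ q) ⁻¹' V) ∪ i₂ '' ((i₂ ≫ q) ⁻¹' V) := by
    ext y
    constructor
    · intro hy
      rcases hcov y with ⟨x, rfl⟩ | ⟨x, rfl⟩
      · exact Or.inl ⟨x, by simpa using hy, rfl⟩
      · exact Or.inr ⟨x, by simpa using hy, rfl⟩
    · rintro (⟨x, hx, rfl⟩ | ⟨x, hx, rfl⟩)
      · simpa using hx
      · simpa using hx
  rw [e]
  exact ((QuasiCompact.isCompact_preimage (f := i₁ ≫ q) V hVo hVc).image
      i₁.continuous).union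
    ((QuasiCompact.isCompact_preimage (f := i₂ ≫ q) V hVo hVc).image i₂.continuous)

end glue

section pushout

variable {W X₁ X₂ : Scheme.{u}} (a : W ⟶ X₁) (b : W ⟶ X₂) [IsOpenImmersion a] [IsOpenImmersion b]

instance span_map_isOpenImmersion :
    ∀ {i j : WalkingSpan} (f : i ⟶ j), IsOpenImmersion ((span a b).map f) := by
  intro i j f
  rcases f with _ | x
  · dsimp; infer_instance
  · cases x
    · exact (inferInstance : IsOpenImmersion a)
    · exact (inferInstance : IsOpenImmersion b)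

instance inl_isOpenImmersion : IsOpenImmersion (pushout.inl a b) :=
  inferInstanceAs (IsOpenImmersion (colimit.ι (span a b) WalkingSpan.left))

instance inr_isOpenImmersion : IsOpenImmersion (pushout.inr a b) :=
  inferInstanceAs (IsOpenImmersion (colimit.ι (span a b) WalkingSpan.right))

lemma inl_or_inr_surjective (y : ↥(pushout a b)) :
    (∃ x, pushout.inl a b x = y) ∨ (∃ x, pushout.inr a b x = y) := by
  obtain ⟨i, xi, h⟩ := Scheme.IsLocallyDirected.ι_jointly_surjective (span a b) y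
  rcases i with _ | i
  · left
    have e : colimit.ι (span a b) none = a ≫ pushout.inl a b :=
      (colimit.w (span a b) WalkingSpan.Hom.fst).symm
    refine ⟨a xi, ?_⟩
    rw [← h, e]
    rfl
  · cases i
    · exact Or.inl ⟨xi, h⟩
    · exact Or.inr ⟨xi, h⟩

lemma exists_of_inl_eq_inr (x₁ : X₁) (x₂ : X₂) (h : pushout.inl a b x₁ = pushout.inr a b x₂) :
    ∃ w, a w = x₁ ∧ b w = x₂ := by
  obtain ⟨k, fi, fj, x, h1, h2⟩ := (Scheme.IsLocallyDirected.ι_eq_ι_iff (span a b)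
    (i := WalkingSpan.left) (j := WalkingSpan.right)).mp h
  rcases k with _ | k
  · cases fi
    cases fj
    exact ⟨x, h1, h2⟩
  · cases k
    · cases fj
    · cases fi

/-- Gluing two separated `S`-schemes along an open `W` whose graph in `X₁ ×_S X₂` is closed. -/
theorem exists_glue {S : Scheme.{u}} (p₁ : X₁ ⟶ S) (p₂ : X₂ ⟶ S) [IsSeparated p₁] [IsSeparated p₂]
    (h : a ≫ p₁ = b ≫ p₂) (hcl : IsClosed (Set.range (pullback.lift a b h))) :
    ∃ (Y : Scheme.{u}) (q : Y ⟶ S) (i₁ : X₁ ⟶ Y) (i₂ : X₂ ⟶ Y), IsSeparated q ∧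
      IsOpenImmersion i₁ ∧ IsOpenImmersion i₂ ∧ i₁ ≫ q = p₁ ∧ i₂ ≫ q = p₂ ∧ a ≫ i₁ = b ≫ i₂ ∧
      (∀ y : Y, (∃ x, i₁ x = y) ∨ (∃ x, i₂ x = y)) ∧
      (∀ x₁ x₂, i₁ x₁ = i₂ x₂ → ∃ w, a w = x₁ ∧ b w = x₂) := by
  have e₁ : pushout.inl a b ≫ pushout.desc p₁ p₂ h = p₁ := pushout.inl_desc _ _ _
  have e₂ : pushout.inr a b ≫ pushout.desc p₁ p₂ h = p₂ := pushout.inr_desc _ _ _
  refine ⟨pushout a b, pushout.desc p₁ p₂ h, pushout.inl a b, pushout.inr a b, ?_, inferInstance,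
    inferInstance, e₁, e₂, pushout.condition, inl_or_inr_surjective a b,
    exists_of_inl_eq_inr a b⟩
  have key : ∀ (p₁' : X₁ ⟶ S) (p₂' : X₂ ⟶ S) (_ : p₁' = p₁) (_ : p₂' = p₂)
      (h' : a ≫ p₁' = b ≫ p₂'),
      IsClosed (Set.range (pullback.lift (f := p₁') (g := p₂') a b h')) := by
    rintro _ _ rfl rfl _
    exact hcl
  haveI : IsSeparated (pushout.inl a b ≫ pushout.desc p₁ p₂ h) := by rw [e₁]; infer_instance
  haveI : IsSeparated (pushout.inr a b ≫ pushout.desc p₁ p₂ h) := by rw [e₂]; infer_instance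
  exact isSeparated_of_glue a b (pushout.inl a b) (pushout.inr a b) (pushout.desc p₁ p₂ h)
    pushout.condition (inl_or_inr_surjective a b) (exists_of_inl_eq_inr a b)
    (key _ _ e₁ e₂ _)

end pushout

section dominant

/-- Two morphisms into a separated `Z`-scheme agreeing after precomposition with a
scheme-theoretically dominant morphism are equal. -/
lemma ext_of_isSchemeTheoreticallyDominant {W X Y Z : Scheme.{u}} {f g : X ⟶ Y}
    (s : Y ⟶ Z) [IsSeparated s] (h : f ≫ s = g ≫ s)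
    (ι : W ⟶ X) [IsSchemeTheoreticallyDominant ι] (hU : ι ≫ f = ι ≫ g) : f = g := by
  let X' : Over Z := Over.mk (f ≫ s)
  let Y' : Over Z := Over.mk s
  let U' : Over Z := Over.mk (ι ≫ f ≫ s)
  let f' : X' ⟶ Y' := Over.homMk f
  let g' : X' ⟶ Y' := Over.homMk g
  let ι' : U' ⟶ X' := Over.homMk ι
  have : IsSeparated Y'.hom := ‹_›
  have hfac : (equalizer.lift ι' (show ι' ≫ f' = ι' ≫ g' by ext1; exact hU)).left ≫
      (equalizer.ι f' g').left = ι := by
    rw [← Over.comp_left, equalizer.lift_ι]; rfl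
  have hker : (equalizer.ι f' g').left.ker = ⊥ := by
    rw [eq_bot_iff]
    have := Scheme.Hom.le_ker_comp
      (equalizer.lift ι' (show ι' ≫ f' = ι' ≫ g' by ext1; exact hU)).left (equalizer.ι f' g').left
    rw [hfac, ι.ker_eq_bot] at this
    exact this
  have := IsClosedImmersion.isIso_iff_ker_eq_bot.mpr hker
  rw [← cancel_epi (equalizer.ι f' g').left]
  exact congr($(equalizer.condition f' g').left)

/-- If `k ≫ m` is scheme-theoretically dominant and quasi-compact with `m` a flat monomorphism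
(e.g. an open immersion), then `k` is scheme-theoretically dominant. -/
lemma isSchemeTheoreticallyDominant_of_comp_mono {U W X : Scheme.{u}} (k : U ⟶ W) (m : W ⟶ X)
    [Mono m] [Flat m] [IsSchemeTheoreticallyDominant (k ≫ m)] [QuasiCompact (k ≫ m)] :
    IsSchemeTheoreticallyDominant k := by
  have H : IsPullback (𝟙 U) k (k ≫ m) m := IsPullback.of_horiz_isIso_mono ⟨by simp⟩
  exact IsSchemeTheoreticallyDominant.of_isPullback H

/-- A quasi-compact morphism `f : U ⟶ Y` which factors through two open subschemes covering `Y`,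
scheme-theoretically dominantly in each of them, is scheme-theoretically dominant. -/
lemma isSchemeTheoreticallyDominant_of_cover {U X₁ X₂ Y : Scheme.{u}} (i₁ : X₁ ⟶ Y) (i₂ : X₂ ⟶ Y)
    [IsOpenImmersion i₁] [IsOpenImmersion i₂]
    (hcov : ∀ y : Y, (∃ x, i₁ x = y) ∨ (∃ x, i₂ x = y))
    (f : U ⟶ Y) [QuasiCompact f] (j₁ : U ⟶ X₁) (j₂ : U ⟶ X₂) (h₁ : j₁ ≫ i₁ = f) (h₂ : j₂ ≫ i₂ = f)
    [IsSchemeTheoreticallyDominant j₁] [QuasiCompact j₁]
    [IsSchemeTheoreticallyDominant j₂] [QuasiCompact j₂] : IsSchemeTheoreticallyDominant f := by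
  constructor
  have key : ∀ {X : Scheme.{u}} (i : X ⟶ Y) [IsOpenImmersion i] (j : U ⟶ X) (hj : j ≫ i = f)
      [IsSchemeTheoreticallyDominant j] [QuasiCompact j] (V : Y.affineOpens)
      (hV : V.1 ≤ i.opensRange), f.ker.ideal V = ⊥ := by
    intro X i _ j hj _ _ V hV
    rw [Scheme.Hom.ker_apply, ← RingHom.injective_iff_ker_eq_bot]
    subst hj
    rw [Scheme.Hom.comp_app]
    haveI := i.isIso_app V.1 hV
    have h1 : Function.Injective (i.app V.1) :=
      ((ConcreteCategory.isIso_iff_bijective (i.app V.1)).mp inferInstance).1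
    have h2 : Function.Injective (j.app (i ⁻¹ᵁ V.1)) := j.app_injective _
    exact h2.comp h1
  refine Scheme.IdealSheafData.ext_of_iSup_eq_top
    (ι := {V : Y.affineOpens // V.1 ≤ i₁.opensRange ∨ V.1 ≤ i₂.opensRange})
    (fun V => V.1) ?_ ?_
  · rw [eq_top_iff]
    rintro y -
    rw [Opens.mem_iSup]
    rcases hcov y with ⟨x, hx⟩ | ⟨x, hx⟩
    · obtain ⟨_, ⟨V, hV, rfl⟩, hyV, hVr⟩ :=
        Y.isBasis_affineOpens.exists_subset_of_mem_open (show y ∈ i₁.opensRange from ⟨x, hx⟩)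
          i₁.opensRange.2
      exact ⟨⟨⟨V, hV⟩, Or.inl hVr⟩, hyV⟩
    · obtain ⟨_, ⟨V, hV, rfl⟩, hyV, hVr⟩ :=
        Y.isBasis_affineOpens.exists_subset_of_mem_open (show y ∈ i₂.opensRange from ⟨x, hx⟩)
          i₂.opensRange.2
      exact ⟨⟨⟨V, hV⟩, Or.inr hVr⟩, hyV⟩
  · rintro ⟨V, hV | hV⟩
    · rw [key i₁ j₁ h₁ V hV]; rfl
    · rw [key i₂ j₂ h₂ V hV]; rfl

end dominant

section graph

set_option backward.isDefEq.respectTransparency false in
/-- If `φ : W₁ ⟶ X₂` and `ψ : W₂ ⟶ X₁` are `S`-morphisms defined on opens `W₁ ⊆ X₁`, `W₂ ⊆ X₂`,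
restricting to the given maps on a dense `U ⊆ W₁`, and the graph of `ψ` is closed in `X₂ ×_S X₁`,
then `φ` maps `W₁` into `W₂`. -/
lemma apply_mem_of_isClosed_graph {S X₁ X₂ U : Scheme.{u}} (p₁ : X₁ ⟶ S) (p₂ : X₂ ⟶ S)
    (j₁ : U ⟶ X₁) (j₂ : U ⟶ X₂)
    (W₁ : X₁.Opens) (φ : (↑W₁ : Scheme.{u}) ⟶ X₂) (hφ : W₁.ι ≫ p₁ = φ ≫ p₂)
    (k₁ : U ⟶ ↑W₁) (hk₁ : k₁ ≫ W₁.ι = j₁) (hk₁' : k₁ ≫ φ = j₂) (hdense : DenseRange k₁)
    (W₂ : X₂.Opens) (ψ : (↑W₂ : Scheme.{u}) ⟶ X₁) (hψ : W₂.ι ≫ p₂ = ψ ≫ p₁)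
    (hψc : IsClosed (Set.range (pullback.lift W₂.ι ψ hψ)))
    (k₂ : U ⟶ ↑W₂) (hk₂ : k₂ ≫ W₂.ι = j₂) (hk₂' : k₂ ≫ ψ = j₁) (w : ↥W₁) : φ w ∈ W₂ := by
  have e : k₁ ≫ pullback.lift W₁.ι φ hφ ≫ (pullbackSymmetry p₁ p₂).hom =
      k₂ ≫ pullback.lift W₂.ι ψ hψ := by
    apply pullback.hom_ext
    · simp [hk₁', hk₂]
    · simp [hk₁, hk₂']
  have hcont : Continuous (pullback.lift W₁.ι φ hφ ≫ (pullbackSymmetry p₁ p₂).hom) :=
    (pullback.lift W₁.ι φ hφ ≫ (pullbackSymmetry p₁ p₂).hom).continuous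
  have hmem : (pullback.lift W₁.ι φ hφ ≫ (pullbackSymmetry p₁ p₂).hom) w ∈
      Set.range (pullback.lift W₂.ι ψ hψ) := by
    have hw : w ∈ closure (Set.range k₁) := hdense w
    have h1 := image_closure_subset_closure_image hcont ⟨w, hw, rfl⟩
    refine hψc.closure_subset_iff.mpr ?_ h1
    rintro _ ⟨_, ⟨u, rfl⟩, rfl⟩
    refine ⟨k₂ u, ?_⟩
    rw [← Scheme.Hom.comp_apply, ← e, Scheme.Hom.comp_apply]
  obtain ⟨w₂, hw₂⟩ := hmem
  have h3 := congrArg (fun z => pullback.fst p₂ p₁ z) hw₂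
  simp only at h3
  rw [← Scheme.Hom.comp_apply, ← Scheme.Hom.comp_apply, pullback.lift_fst, Category.assoc,
    pullbackSymmetry_hom_comp_fst, pullback.lift_snd] at h3
  rw [← h3]
  exact w₂.2

end graph

end Groth.Agent.H96.GlueTwo
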