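import Mathlib

/-!
# Kernel of a base-changed map with projective cokernel
-/

set_option autoImplicit false
set_option linter.style.haveILetI false
set_option linter.unusedSectionVars false

namespace Groth.Agent.H96.BaseChangeKer

open TensorProduct Function

variable {R : Type*} [CommRing R] {N M M' M'' : Type*} [AddCommGroup N] [Module R N]
  [AddCommGroup M] [Module R M] [AddCommGroup M'] [Module R M'] [AddCommGroup M''] [Module R M'']

/-- If `N → M → M' → M'' → 0` is exact with `M''` projective, then `S ⊗ N → S ⊗ M → S ⊗ M'` is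
exact. -/
theorem ker_baseChange_le (ι : N →ₗ[R] M) (μ : M →ₗ[R] M') (ν : M' →ₗ[R] M'')
    (h1 : Exact ι μ) (h2 : Exact μ ν) (hν : Surjective ν) [Module.Projective R M'']
    (S : Type*) [CommRing S] [Algebra R S] :
    LinearMap.ker (μ.baseChange S) ≤ LinearMap.range (ι.baseChange S) := by
  obtain ⟨s, hs⟩ := Module.projective_lifting_property ν LinearMap.id hν
  let ρ : M' →ₗ[R] M' := LinearMap.id - s ∘ₗ ν
  have hρ : ∀ m', ρ m' ∈ LinearMap.range μ := by
    intro m'
    rw [← LinearMap.exact_iff.1 h2, LinearMap.mem_ker]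
    show ν (m' - s (ν m')) = 0
    rw [map_sub]
    have : ν (s (ν m')) = ν m' := LinearMap.congr_fun hs (ν m')
    rw [this, sub_self]
  let μ₀ : M →ₗ[R] LinearMap.range μ := μ.rangeRestrict
  have hμ₀ : Surjective μ₀ := LinearMap.surjective_rangeRestrict μ
  let ρ₀ : M' →ₗ[R] LinearMap.range μ := ρ.codRestrict (LinearMap.range μ) hρ
  have hcomp : ρ₀ ∘ₗ μ = μ₀ := by
    ext m
    show μ m - s (ν (μ m)) = μ m
    rw [h2.apply_apply_eq_zero, map_zero, sub_zero]
  have hex : Exact ι μ₀ := by
    intro m
    rw [← h1 m]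
    constructor
    · intro h
      exact congrArg Subtype.val h
    · intro h
      exact Subtype.ext h
  have hex' := lTensor_exact S hex hμ₀
  intro t ht
  have h3 : (ρ₀.baseChange S) ((μ.baseChange S) t) = 0 := by
    rw [LinearMap.mem_ker.1 ht, map_zero]
  rw [← LinearMap.comp_apply, ← LinearMap.baseChange_comp, hcomp] at h3
  have h4 : (LinearMap.lTensor S μ₀) t = 0 := h3
  obtain ⟨n, hn⟩ := (hex' t).1 h4
  exact ⟨n, hn⟩

end Groth.Agent.H96.BaseChangeKer
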