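import Mathlib

/-!
# Naturality of the connecting homomorphism `H¹(L_{T/S}) → T ⊗_S Ω_{S/R}` of the Jacobi–Zariski
sequence with respect to a morphism of towers `(S → T) → (S' → T')` (helper library for S9320)
-/

set_option autoImplicit false
set_option linter.style.haveILetI false
set_option linter.unusedSectionVars false
set_option linter.unusedVariables false
universe u v

namespace Groth.Agent.H96.DeltaNat

open KaehlerDifferential TensorProduct MvPolynomial Algebra Algebra.Generators

attribute [local instance] SMulCommClass.of_commMonoid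

variable {R : Type v} {S T S' T' : Type u} [CommRing R] [CommRing S] [CommRing T] [CommRing S'] [CommRing T']
  [Algebra R S] [Algebra R T] [Algebra S T] [IsScalarTower R S T]
  [Algebra R S'] [Algebra R T'] [Algebra S' T'] [IsScalarTower R S' T']
  [Algebra S S'] [Algebra T T'] [Algebra S T'] [IsScalarTower S S' T'] [IsScalarTower S T T']
  [IsScalarTower R S S']

variable (R S T S' T')

/-- the comparison map `T ⊗_S Ω_{S/R} → T' ⊗_{S'} Ω_{S'/R}`, as an additive map. -/
noncomputable def G : T ⊗[S] Ω[S⁄R] →+ T' ⊗[S'] Ω[S'⁄R] :=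
  TensorProduct.liftAddHom
    { toFun := fun t => ((TensorProduct.mk S' T' Ω[S'⁄R] (algebraMap T T' t)).toAddMonoidHom).comp
        (KaehlerDifferential.map R R S S').toAddMonoidHom
      map_zero' := by
        ext ω
        simp
      map_add' := fun t₁ t₂ => by
        ext ω
        simp }
    (fun s t ω => by
      show (algebraMap T T' (s • t)) ⊗ₜ[S'] (KaehlerDifferential.map R R S S' ω) =
        (algebraMap T T' t) ⊗ₜ[S'] (KaehlerDifferential.map R R S S' (s • ω))
      have h1 : algebraMap T T' (s • t) = algebraMap S S' s • algebraMap T T' t := by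
        rw [Algebra.smul_def, map_mul, ← IsScalarTower.algebraMap_apply, Algebra.smul_def,
          ← IsScalarTower.algebraMap_apply]
      have h2 : KaehlerDifferential.map R R S S' (s • ω) =
          algebraMap S S' s • KaehlerDifferential.map R R S S' ω := by
        rw [LinearMap.map_smul, algebraMap_smul]
      rw [h1, h2, TensorProduct.smul_tmul])

theorem G_tmul (t : T) (ω : Ω[S⁄R]) :
    G R S T S' T' (t ⊗ₜ[S] ω) = (algebraMap T T' t) ⊗ₜ[S'] (KaehlerDifferential.map R R S S' ω) :=
  rfl


section Aux

/-- the default morphism between the standard presentations. -/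
noncomputable abbrev f₀ : Hom (Generators.self S T) (Generators.self S' T') :=
  Generators.defaultHom (Generators.self S T) (Generators.self S' T')

theorem f₀_val (t : T) : (f₀ S T S' T').val t = X (algebraMap T T' t) := rfl

/-- polynomials on which `δAux` vanishes form a submonoid. -/
noncomputable def Z : Submonoid (Generators.self S' T').Ring where
  carrier := {q | H1Cotangent.δAux R (Generators.self S' T') q = 0}
  one_mem' := by
    show H1Cotangent.δAux R (Generators.self S' T') 1 = 0
    have : (1 : (Generators.self S' T').Ring) = C 1 := (map_one C).symm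
    rw [this, H1Cotangent.δAux_C, Derivation.map_one_eq_zero, tmul_zero]
  mul_mem' := by
    intro a b ha hb
    show H1Cotangent.δAux R (Generators.self S' T') (a * b) = 0
    rw [H1Cotangent.δAux_mul]
    have ha' : H1Cotangent.δAux R (Generators.self S' T') a = 0 := ha
    have hb' : H1Cotangent.δAux R (Generators.self S' T') b = 0 := hb
    rw [ha', hb', smul_zero, smul_zero, add_zero]

theorem X_mem_Z (t : T') : (X t : (Generators.self S' T').Ring) ∈ Z R S' T' :=
  H1Cotangent.δAux_X (R := R) (Generators.self S' T') t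

theorem δAux_toAlgHom (y : (Generators.self S T).Ring) :
    H1Cotangent.δAux R (Generators.self S' T') ((f₀ S T S' T').toAlgHom y) =
      G R S T S' T' (H1Cotangent.δAux R (Generators.self S T) y) := by
  induction y using MvPolynomial.induction_on' with
  | add a b ha hb => rw [map_add, map_add, map_add, map_add, ha, hb]
  | monomial v s =>
    rw [Hom.toAlgHom_monomial, H1Cotangent.δAux_monomial, G_tmul, map_D]
    have hq : v.prod (fun t e => (f₀ S T S' T').val t ^ e) ∈ Z R S' T' := by
      refine Submonoid.prod_mem _ (fun t _ => ?_)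
      exact Submonoid.pow_mem _ (X_mem_Z R S' T' _) _
    have hq' : H1Cotangent.δAux R (Generators.self S' T')
        (v.prod (fun t e => (f₀ S T S' T').val t ^ e)) = 0 := hq
    rw [Algebra.smul_def, H1Cotangent.δAux_mul, hq', smul_zero, zero_add]
    have h1 : algebraMap S (Generators.self S' T').Ring s = C (algebraMap S S' s) := rfl
    rw [h1, H1Cotangent.δAux_C, TensorProduct.smul_tmul', Algebra.smul_def, mul_one,
      Generators.algebraMap_apply, map_finsuppProd, map_finsuppProd]
    congr 2
    funext t e
    rw [map_pow, map_pow, f₀_val, aeval_X]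
    rfl

end Aux


/-- naturality of the Jacobi–Zariski connecting homomorphism. -/
theorem δ_map (x : H1Cotangent S T) :
    H1Cotangent.δ R S' T' (H1Cotangent.map S S' T T' x) =
      G R S T S' T' (H1Cotangent.δ R S T x) := by
  obtain ⟨x, hx⟩ := x
  obtain ⟨⟨y, hy⟩, rfl⟩ := Extension.Cotangent.mk_surjective x
  have h1 : H1Cotangent.δ R S T ⟨Extension.Cotangent.mk ⟨y, hy⟩, hx⟩ =
      H1Cotangent.δAux R (Generators.self S T) y :=
    Generators.H1Cotangent.δ_eq_δAux (Generators.self S T) (Generators.self R S) ⟨y, hy⟩ hx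
  refine Eq.trans ?_ ((δAux_toAlgHom R S T S' T' y).trans (congrArg _ h1.symm))
  obtain ⟨hy', hw⟩ : ∃ hy' : (f₀ S T S' T').toAlgHom y ∈ (Generators.self S' T').ker,
      (H1Cotangent.map S S' T T' ⟨Extension.Cotangent.mk ⟨y, hy⟩, hx⟩).1 =
        Extension.Cotangent.mk ⟨(f₀ S T S' T').toAlgHom y, hy'⟩ :=
    ⟨_, Extension.Cotangent.map_mk (f₀ S T S' T').toExtensionHom ⟨y, hy⟩⟩
  have h2 : H1Cotangent.map S S' T T' ⟨Extension.Cotangent.mk ⟨y, hy⟩, hx⟩ =
      ⟨Extension.Cotangent.mk ⟨(f₀ S T S' T').toAlgHom y, hy'⟩,
        hw ▸ (H1Cotangent.map S S' T T' ⟨Extension.Cotangent.mk ⟨y, hy⟩, hx⟩).2⟩ :=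
    Subtype.ext hw
  refine (congrArg _ h2).trans ?_
  exact Generators.H1Cotangent.δ_eq_δAux (Generators.self S' T') (Generators.self R S')
    ⟨(f₀ S T S' T').toAlgHom y, hy'⟩ _

end Groth.Agent.H96.DeltaNat
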