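import Mathlib
import Groth.Agent.H96.FredIndex

/-!
# Fredholm maps: two-out-of-three for compositions and additivity of the index in short exact
sequences of linear maps
-/

set_option autoImplicit false
set_option linter.style.haveILetI false
set_option linter.unusedSectionVars false

namespace Groth.Agent.H96.Fred

open Module Function LinearMap Submodule

section Basic

variable {k : Type*} [Field k] {M N P : Type*} [AddCommGroup M] [Module k M]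
  [AddCommGroup N] [Module k N] [AddCommGroup P] [Module k P]

/-- the middle term of an exact sequence with finite-dimensional ends is finite-dimensional. -/
theorem finite_of_exact (f : M →ₗ[k] N) (g : N →ₗ[k] P) (h : Exact f g)
    [FiniteDimensional k M] [FiniteDimensional k P] : FiniteDimensional k N := by
  haveI : Module.Finite k (LinearMap.ker g) := by
    rw [← (LinearMap.exact_iff.1 h).symm]
    infer_instance
  haveI : Module.Finite k (N ⧸ LinearMap.ker g) :=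
    Module.Finite.equiv g.quotKerEquivRange.symm
  exact Module.Finite.of_submodule_quotient (LinearMap.ker g)

theorem IsFred.of_comp_left {f : M →ₗ[k] N} {g : N →ₗ[k] P} (hgf : IsFred (g ∘ₗ f))
    (hg : IsFred g) : IsFred f := by
  haveI := hgf.ker
  haveI := hgf.coker
  haveI := hg.ker
  haveI := hg.coker
  refine ⟨?_, ?_⟩
  · exact Submodule.finiteDimensional_of_le (LinearMap.ker_le_ker_comp f g)
  · have aux : LinearMap.range f ≤ comap g (LinearMap.range (g ∘ₗ f)) := by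
      rw [← map_le_iff_le_comap, LinearMap.range_comp]
    let f₂ : LinearMap.ker g →ₗ[k] N ⧸ LinearMap.range f :=
      (LinearMap.range f).mkQ ∘ₗ (LinearMap.ker g).subtype
    let f₃ : (N ⧸ LinearMap.range f) →ₗ[k] P ⧸ LinearMap.range (g ∘ₗ f) :=
      (LinearMap.range f).mapQ (LinearMap.range (g ∘ₗ f)) g aux
    have h₃ : Exact f₂ f₃ := by
      rw [LinearMap.exact_iff]
      simp [f₂, f₃, LinearMap.range_comp, ker_mapQ, comap_map_eq]
    exact finite_of_exact f₂ f₃ h₃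

theorem IsFred.of_comp_right {f : M →ₗ[k] N} {g : N →ₗ[k] P} (hgf : IsFred (g ∘ₗ f))
    (hf : IsFred f) : IsFred g := by
  haveI := hgf.ker
  haveI := hgf.coker
  haveI := hf.ker
  haveI := hf.coker
  refine ⟨?_, ?_⟩
  · let f₁ : LinearMap.ker (g ∘ₗ f) →ₗ[k] LinearMap.ker g := f.restrict <| by simp
    let f₂ : LinearMap.ker g →ₗ[k] N ⧸ LinearMap.range f :=
      (LinearMap.range f).mkQ ∘ₗ (LinearMap.ker g).subtype
    have h₂ : Exact f₁ f₂ := by
      intro y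
      constructor
      · intro hy
        have hy' : (LinearMap.range f).mkQ (y : N) = 0 := hy
        rw [Submodule.mkQ_apply, Submodule.Quotient.mk_eq_zero] at hy'
        obtain ⟨x, hx⟩ := hy'
        have hxk : x ∈ LinearMap.ker (g ∘ₗ f) := by
          rw [LinearMap.mem_ker, LinearMap.comp_apply, hx]
          exact y.2
        exact ⟨⟨x, hxk⟩, Subtype.ext hx⟩
      · rintro ⟨x, rfl⟩
        show (LinearMap.range f).mkQ (f x.1) = 0
        rw [Submodule.mkQ_apply, Submodule.Quotient.mk_eq_zero]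
        exact ⟨x.1, rfl⟩
    exact finite_of_exact f₁ f₂ h₂
  · let f₄ : (P ⧸ LinearMap.range (g ∘ₗ f)) →ₗ[k] P ⧸ LinearMap.range g :=
      factor <| LinearMap.range_comp_le_range f g
    exact Module.Finite.of_surjective f₄ (factor_surjective _)

/-- a map whose kernel and cokernel are identified with those of a Fredholm map is Fredholm of
the same index. -/
theorem isFred_of_equivs {M' N' : Type*} [AddCommGroup M'] [Module k M'] [AddCommGroup N']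
    [Module k N'] {f : M →ₗ[k] N} {f' : M' →ₗ[k] N'}
    (e₁ : LinearMap.ker f ≃ₗ[k] LinearMap.ker f')
    (e₂ : (N ⧸ LinearMap.range f) ≃ₗ[k] (N' ⧸ LinearMap.range f')) (h : IsFred f') :
    IsFred f ∧ f.index = f'.index := by
  haveI := h.ker
  haveI := h.coker
  refine ⟨⟨Module.Finite.equiv e₁.symm, Module.Finite.equiv e₂.symm⟩, ?_⟩
  rw [LinearMap.index_eq_finrank_sub, LinearMap.index_eq_finrank_sub, e₁.finrank_eq, e₂.finrank_eq]

end Basic

section SES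

variable {k : Type*} [Field k] {A₁ A₂ A₃ B₁ B₂ B₃ : Type*}
  [AddCommGroup A₁] [Module k A₁] [AddCommGroup A₂] [Module k A₂] [AddCommGroup A₃] [Module k A₃]
  [AddCommGroup B₁] [Module k B₁] [AddCommGroup B₂] [Module k B₂] [AddCommGroup B₃] [Module k B₃]
  (i : A₁ →ₗ[k] A₂) (p : A₂ →ₗ[k] A₃) (j : B₁ →ₗ[k] B₂) (q : B₂ →ₗ[k] B₃)
  (f₁ : A₁ →ₗ[k] B₁) (f₂ : A₂ →ₗ[k] B₂) (f₃ : A₃ →ₗ[k] B₃)

/-- the pullback `B₂ ×_{B₃} A₃`. -/
def pb : Submodule k (B₂ × A₃) where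
  carrier := {x | q x.1 = f₃ x.2}
  add_mem' := by
    intro x y hx hy
    show q (x + y).1 = f₃ (x + y).2
    rw [Prod.fst_add, Prod.snd_add, map_add, map_add, hx, hy]
  zero_mem' := by
    show q (0 : B₂ × A₃).1 = f₃ (0 : B₂ × A₃).2
    rw [Prod.fst_zero, Prod.snd_zero, map_zero, map_zero]
  smul_mem' := by
    intro c x hx
    show q (c • x).1 = f₃ (c • x).2
    rw [Prod.smul_fst, Prod.smul_snd, map_smul, map_smul, hx]

theorem mem_pb (x : B₂ × A₃) : x ∈ pb q f₃ ↔ q x.1 = f₃ x.2 := Iff.rfl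

variable {i p j q f₁ f₂ f₃}

/-- `A₂ → B₂ ×_{B₃} A₃`. -/
def ψ₁ (h₂ : q ∘ₗ f₂ = f₃ ∘ₗ p) : A₂ →ₗ[k] pb q f₃ :=
  (f₂.prod p).codRestrict _ (fun a => LinearMap.congr_fun h₂ a)

variable (q f₃) in
/-- `B₂ ×_{B₃} A₃ → B₂`. -/
def ψ₂ : pb q f₃ →ₗ[k] B₂ := (LinearMap.fst k B₂ A₃) ∘ₗ (pb q f₃).subtype

theorem ψ₂_comp_ψ₁ (h₂ : q ∘ₗ f₂ = f₃ ∘ₗ p) : ψ₂ q f₃ ∘ₗ ψ₁ h₂ = f₂ := by
  ext a
  rfl

variable (q f₃) in
/-- `ker f₃ ≃ ker ψ₂`. -/
noncomputable def kerψ₂ : LinearMap.ker f₃ ≃ₗ[k] LinearMap.ker (ψ₂ q f₃) := by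
  let ι₀ : LinearMap.ker f₃ →ₗ[k] pb q f₃ :=
    ((0 : LinearMap.ker f₃ →ₗ[k] B₂).prod (LinearMap.ker f₃).subtype).codRestrict _ (fun a => by
      show q 0 = f₃ a.1
      rw [map_zero, (LinearMap.mem_ker.1 a.2)])
  let ι : LinearMap.ker f₃ →ₗ[k] LinearMap.ker (ψ₂ q f₃) :=
    ι₀.codRestrict _ (fun a => rfl)
  refine LinearEquiv.ofBijective ι ⟨?_, ?_⟩
  · intro a b hab
    have h1 := congrArg (fun x : LinearMap.ker (ψ₂ q f₃) => (x.1.1 : B₂ × A₃).2) hab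
    exact Subtype.ext h1
  · rintro ⟨⟨⟨b, a⟩, hx⟩, hk⟩
    have hb : b = 0 := hk
    subst hb
    have ha : f₃ a = 0 := by
      have : q 0 = f₃ a := hx
      rw [← this, map_zero]
    exact ⟨⟨a, ha⟩, rfl⟩

/-- `coker ψ₂ ≃ coker f₃`. -/
noncomputable def cokerψ₂ (hq : Surjective q) :
    (B₂ ⧸ LinearMap.range (ψ₂ q f₃)) ≃ₗ[k] (B₃ ⧸ LinearMap.range f₃) := by
  let π : B₂ →ₗ[k] B₃ ⧸ LinearMap.range f₃ := (LinearMap.range f₃).mkQ ∘ₗ q
  have hπ : Surjective π := (Submodule.mkQ_surjective _).comp hq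
  have hker : LinearMap.ker π = LinearMap.range (ψ₂ q f₃) := by
    ext b
    constructor
    · intro hb
      have hb' : (LinearMap.range f₃).mkQ (q b) = 0 := hb
      rw [Submodule.mkQ_apply, Submodule.Quotient.mk_eq_zero] at hb'
      obtain ⟨a, ha⟩ := hb'
      exact ⟨⟨(b, a), ha.symm⟩, rfl⟩
    · rintro ⟨⟨⟨b', a⟩, hx⟩, rfl⟩
      show (LinearMap.range f₃).mkQ (q b') = 0
      rw [Submodule.mkQ_apply, Submodule.Quotient.mk_eq_zero]
      exact ⟨a, hx.symm⟩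
  exact (Submodule.quotEquivOfEq _ _ hker.symm).trans (π.quotKerEquivOfSurjective hπ)

/-- `ker f₁ ≃ ker ψ₁`. -/
noncomputable def kerψ₁ (hi : Injective i) (hip : Exact i p) (hj : Injective j)
    (h₁ : j ∘ₗ f₁ = f₂ ∘ₗ i) (h₂ : q ∘ₗ f₂ = f₃ ∘ₗ p) :
    LinearMap.ker f₁ ≃ₗ[k] LinearMap.ker (ψ₁ h₂) := by
  have hmem : ∀ a : LinearMap.ker f₁, i a.1 ∈ LinearMap.ker (ψ₁ h₂) := by
    intro a
    rw [LinearMap.mem_ker]
    apply Subtype.ext
    show (f₂ (i a.1), p (i a.1)) = (0, 0)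
    have e1 : f₂ (i a.1) = j (f₁ a.1) := (LinearMap.congr_fun h₁ a.1).symm
    rw [e1, LinearMap.mem_ker.1 a.2, map_zero, hip.apply_apply_eq_zero]
  let ι : LinearMap.ker f₁ →ₗ[k] LinearMap.ker (ψ₁ h₂) :=
    (i ∘ₗ (LinearMap.ker f₁).subtype).codRestrict _ hmem
  refine LinearEquiv.ofBijective ι ⟨?_, ?_⟩
  · intro a b hab
    have h1 : i a.1 = i b.1 := congrArg Subtype.val hab
    exact Subtype.ext (hi h1)
  · rintro ⟨a, ha⟩
    have ha' : (f₂ a, p a) = ((0 : B₂), (0 : A₃)) := congrArg Subtype.val (LinearMap.mem_ker.1 ha)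
    have hf : f₂ a = 0 := congrArg Prod.fst ha'
    have hp0 : p a = 0 := congrArg Prod.snd ha'
    obtain ⟨a₁, rfl⟩ := (hip a).1 hp0
    have e1 : j (f₁ a₁) = 0 := (LinearMap.congr_fun h₁ a₁).trans hf
    have e2 : f₁ a₁ = 0 := hj (e1.trans (map_zero j).symm)
    exact ⟨⟨a₁, e2⟩, rfl⟩

/-- `coker ψ₁ ≃ coker f₁`. -/
noncomputable def cokerψ₁ (hip : Exact i p) (hp : Surjective p) (hj : Injective j)
    (hjq : Exact j q) (h₁ : j ∘ₗ f₁ = f₂ ∘ₗ i) (h₂ : q ∘ₗ f₂ = f₃ ∘ₗ p) :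
    (pb q f₃ ⧸ LinearMap.range (ψ₁ h₂)) ≃ₗ[k] (B₁ ⧸ LinearMap.range f₁) := by
  let τ : B₁ →ₗ[k] pb q f₃ := (j.prod 0).codRestrict _ (fun b => by
    show q (j b) = f₃ 0
    rw [hjq.apply_apply_eq_zero, map_zero])
  let π : B₁ →ₗ[k] pb q f₃ ⧸ LinearMap.range (ψ₁ h₂) := (LinearMap.range (ψ₁ h₂)).mkQ ∘ₗ τ
  have hπ : Surjective π := by
    intro y
    obtain ⟨⟨⟨b, a₃⟩, hx⟩, rfl⟩ := Submodule.mkQ_surjective _ y
    obtain ⟨a, rfl⟩ := hp a₃
    have hx' : q b = f₃ (p a) := hx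
    have h3 : q (b - f₂ a) = 0 := by
      rw [map_sub, hx']
      have := LinearMap.congr_fun h₂ a
      rw [LinearMap.comp_apply, LinearMap.comp_apply] at this
      rw [this, sub_self]
    obtain ⟨b₁, hb₁⟩ := (hjq _).1 h3
    refine ⟨b₁, ?_⟩
    show (LinearMap.range (ψ₁ h₂)).mkQ (τ b₁) = (LinearMap.range (ψ₁ h₂)).mkQ ⟨(b, p a), hx⟩
    rw [Submodule.mkQ_apply, Submodule.mkQ_apply, eq_comm, Submodule.Quotient.eq]
    refine ⟨a, ?_⟩
    apply Subtype.ext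
    show (f₂ a, p a) = (b, p a) - (j b₁, 0)
    rw [Prod.mk_sub_mk, hb₁, sub_zero, sub_sub_cancel]
  have hker : LinearMap.ker π = LinearMap.range f₁ := by
    ext b₁
    constructor
    · intro hb
      have hb' : (LinearMap.range (ψ₁ h₂)).mkQ (τ b₁) = 0 := hb
      rw [Submodule.mkQ_apply, Submodule.Quotient.mk_eq_zero] at hb'
      obtain ⟨a, ha⟩ := hb'
      have ha' : (f₂ a, p a) = (j b₁, (0 : A₃)) := congrArg Subtype.val ha
      have hf : f₂ a = j b₁ := congrArg Prod.fst ha'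
      have hp0 : p a = 0 := congrArg Prod.snd ha'
      obtain ⟨a₁, rfl⟩ := (hip a).1 hp0
      have e1 : j (f₁ a₁) = j b₁ := (LinearMap.congr_fun h₁ a₁).trans hf
      exact ⟨a₁, hj e1⟩
    · rintro ⟨a₁, rfl⟩
      show (LinearMap.range (ψ₁ h₂)).mkQ (τ (f₁ a₁)) = 0
      rw [Submodule.mkQ_apply, Submodule.Quotient.mk_eq_zero]
      refine ⟨i a₁, ?_⟩
      apply Subtype.ext
      show (f₂ (i a₁), p (i a₁)) = (j (f₁ a₁), 0)
      rw [hip.apply_apply_eq_zero]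
      have := LinearMap.congr_fun h₁ a₁
      rw [LinearMap.comp_apply, LinearMap.comp_apply] at this
      rw [this]
  exact ((Submodule.quotEquivOfEq _ _ hker.symm).trans (π.quotKerEquivOfSurjective hπ)).symm

/-- **Additivity of the index** in a morphism of short exact sequences. -/
theorem index_ses (hi : Injective i) (hip : Exact i p) (hp : Surjective p) (hj : Injective j)
    (hjq : Exact j q) (hq : Surjective q) (h₁ : j ∘ₗ f₁ = f₂ ∘ₗ i) (h₂ : q ∘ₗ f₂ = f₃ ∘ₗ p)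
    (hf₁ : IsFred f₁) (hf₃ : IsFred f₃) :
    IsFred f₂ ∧ f₂.index = f₁.index + f₃.index := by
  obtain ⟨hψ₁, hi₁⟩ := isFred_of_equivs (kerψ₁ (i := i) (j := j) hi hip hj h₁ h₂).symm
    (cokerψ₁ hip hp hj hjq h₁ h₂) hf₁
  obtain ⟨hψ₂, hi₂⟩ := isFred_of_equivs (kerψ₂ q f₃).symm (cokerψ₂ hq) hf₃
  obtain ⟨h3, h4⟩ := hψ₁.comp hψ₂
  rw [ψ₂_comp_ψ₁ h₂] at h3 h4
  exact ⟨h3, by rw [h4, hi₁, hi₂, add_comm]⟩

/-- two-out-of-three, kernel part. -/
theorem isFred_ses_left (hi : Injective i) (hip : Exact i p) (hp : Surjective p)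
    (hj : Injective j) (hjq : Exact j q) (hq : Surjective q) (h₁ : j ∘ₗ f₁ = f₂ ∘ₗ i)
    (h₂ : q ∘ₗ f₂ = f₃ ∘ₗ p) (hf₂ : IsFred f₂) (hf₃ : IsFred f₃) : IsFred f₁ := by
  obtain ⟨hψ₂, -⟩ := isFred_of_equivs (kerψ₂ q f₃).symm (cokerψ₂ hq) hf₃
  rw [← ψ₂_comp_ψ₁ h₂] at hf₂
  have hψ₁ := hf₂.of_comp_left hψ₂
  exact (isFred_of_equivs (kerψ₁ (i := i) (j := j) hi hip hj h₁ h₂)
    (cokerψ₁ hip hp hj hjq h₁ h₂).symm hψ₁).1

/-- two-out-of-three, cokernel part. -/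
theorem isFred_ses_right (hi : Injective i) (hip : Exact i p) (hp : Surjective p)
    (hj : Injective j) (hjq : Exact j q) (hq : Surjective q) (h₁ : j ∘ₗ f₁ = f₂ ∘ₗ i)
    (h₂ : q ∘ₗ f₂ = f₃ ∘ₗ p) (hf₂ : IsFred f₂) (hf₁ : IsFred f₁) : IsFred f₃ := by
  obtain ⟨hψ₁, -⟩ := isFred_of_equivs (kerψ₁ (i := i) (j := j) hi hip hj h₁ h₂).symm
    (cokerψ₁ hip hp hj hjq h₁ h₂) hf₁
  rw [← ψ₂_comp_ψ₁ h₂] at hf₂
  have hψ₂ := hf₂.of_comp_right hψ₁
  exact (isFred_of_equivs (kerψ₂ q f₃) (cokerψ₂ hq).symm hψ₂).1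

/-- the induced map on kernels of the rows. -/
theorem exists_ker_map (hj : Injective j) (hip : Exact i p) (hjq : Exact j q)
    (h₂ : q ∘ₗ f₂ = f₃ ∘ₗ p) : ∃ f₁ : A₁ →ₗ[k] B₁, j ∘ₗ f₁ = f₂ ∘ₗ i := by
  have hmem : ∀ a, (f₂ ∘ₗ i) a ∈ LinearMap.range j := by
    intro a
    rw [← LinearMap.exact_iff.1 hjq, LinearMap.mem_ker, LinearMap.comp_apply]
    have := LinearMap.congr_fun h₂ (i a)
    rw [LinearMap.comp_apply, LinearMap.comp_apply] at this
    rw [this, hip.apply_apply_eq_zero, map_zero]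
  refine ⟨(LinearEquiv.ofInjective j hj).symm.toLinearMap ∘ₗ
    (f₂ ∘ₗ i).codRestrict (LinearMap.range j) hmem, ?_⟩
  ext a
  have h3 : j ((LinearEquiv.ofInjective j hj).symm
      ((f₂ ∘ₗ i).codRestrict (LinearMap.range j) hmem a)) =
      ((f₂ ∘ₗ i).codRestrict (LinearMap.range j) hmem a : B₂) :=
    LinearEquiv.ofInjective_symm_apply (h := hj) j _
  exact h3

end SES

section FiniteDim

variable {k : Type*} [Field k] {M N : Type*} [AddCommGroup M] [Module k M]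
  [AddCommGroup N] [Module k N]

theorem isFred_of_finiteDimensional [FiniteDimensional k M] [FiniteDimensional k N]
    (f : M →ₗ[k] N) : IsFred f ∧ f.index = (finrank k M : ℤ) - finrank k N :=
  ⟨⟨inferInstance, inferInstance⟩, LinearMap.index_eq_of_finiteDimensional⟩

end FiniteDim

end Groth.Agent.H96.Fred
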