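import Mathlib
import Groth.Agent.H96.FredSES

/-!
# Index of a morphism of four-term exact sequences of vector spaces

Given exact rows `0 → N → X → Y → C → 0`, `0 → N' → X' → Y' → C' → 0` and a morphism
`(β, a, b, α)` between them with `a`, `b` Fredholm, the outer maps `β`, `α` are Fredholm and
`index a - index b = index β - index α`.
-/

set_option autoImplicit false
set_option linter.style.haveILetI false
set_option linter.unusedSectionVars false
set_option linter.unusedVariables false

namespace Groth.Agent.H96.Fred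

open Function Module

variable {k : Type*} [Field k] {N X Y C N' X' Y' C' : Type*}
  [AddCommGroup N] [Module k N] [AddCommGroup X] [Module k X] [AddCommGroup Y] [Module k Y]
  [AddCommGroup C] [Module k C] [AddCommGroup N'] [Module k N'] [AddCommGroup X'] [Module k X']
  [AddCommGroup Y'] [Module k Y'] [AddCommGroup C'] [Module k C']
  {i : N →ₗ[k] X} {f : X →ₗ[k] Y} {π : Y →ₗ[k] C} {i' : N' →ₗ[k] X'} {f' : X' →ₗ[k] Y'}
  {π' : Y' →ₗ[k] C'} {β : N →ₗ[k] N'} {a : X →ₗ[k] X'} {b : Y →ₗ[k] Y'} {α : C →ₗ[k] C'}

theorem index_square (hi : Injective i) (hif : Exact i f) (hfπ : Exact f π) (hπ : Surjective π)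
    (hi' : Injective i') (hif' : Exact i' f') (hfπ' : Exact f' π') (hπ' : Surjective π')
    (h₁ : i' ∘ₗ β = a ∘ₗ i) (h₂ : f' ∘ₗ a = b ∘ₗ f) (h₃ : π' ∘ₗ b = α ∘ₗ π)
    (ha : IsFred a) (hb : IsFred b) :
    IsFred β ∧ IsFred α ∧ a.index - b.index = β.index - α.index := by
  haveI := ha.ker
  haveI := ha.coker
  haveI := hb.ker
  haveI := hb.coker
  -- the images
  let p : X →ₗ[k] LinearMap.range f := f.rangeRestrict
  let p' : X' →ₗ[k] LinearMap.range f' := f'.rangeRestrict
  let j : LinearMap.range f →ₗ[k] Y := (LinearMap.range f).subtype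
  let j' : LinearMap.range f' →ₗ[k] Y' := (LinearMap.range f').subtype
  have hp : Surjective p := f.surjective_rangeRestrict
  have hp' : Surjective p' := f'.surjective_rangeRestrict
  have hj : Injective j := Submodule.injective_subtype _
  have hj' : Injective j' := Submodule.injective_subtype _
  have hip : Exact i p := by
    intro x
    rw [← hif x]
    constructor
    · intro h
      have := congrArg Subtype.val h
      exact this
    · intro h
      exact Subtype.ext h
  have hip' : Exact i' p' := by
    intro x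
    rw [← hif' x]
    constructor
    · intro h
      have := congrArg Subtype.val h
      exact this
    · intro h
      exact Subtype.ext h
  have hjπ : Exact j π := by
    intro y
    rw [hfπ y]
    constructor
    · rintro ⟨x, rfl⟩
      exact ⟨⟨f x, x, rfl⟩, rfl⟩
    · rintro ⟨⟨y', x, rfl⟩, rfl⟩
      exact ⟨x, rfl⟩
  have hjπ' : Exact j' π' := by
    intro y
    rw [hfπ' y]
    constructor
    · rintro ⟨x, rfl⟩
      exact ⟨⟨f' x, x, rfl⟩, rfl⟩
    · rintro ⟨⟨y', x, rfl⟩, rfl⟩
      exact ⟨x, rfl⟩
  -- the map on images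
  have hbI : ∀ y ∈ LinearMap.range f, b y ∈ LinearMap.range f' := by
    rintro _ ⟨x, rfl⟩
    exact ⟨a x, LinearMap.congr_fun h₂ x⟩
  let c : LinearMap.range f →ₗ[k] LinearMap.range f' := b.restrict hbI
  have hc₁ : p' ∘ₗ a = c ∘ₗ p := by
    ext x
    exact LinearMap.congr_fun h₂ x
  have hc₂ : j' ∘ₗ c = b ∘ₗ j := by
    ext y
    rfl
  -- `c` is Fredholm
  have hc : IsFred c := by
    refine ⟨?_, ?_⟩
    · let ι : LinearMap.ker c →ₗ[k] LinearMap.ker b :=
        LinearMap.codRestrict _ (j ∘ₗ (LinearMap.ker c).subtype) (fun y => by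
          have h := y.2
          rw [LinearMap.mem_ker] at h ⊢
          have := congrArg Subtype.val h
          exact this)
      have hι : Injective ι := by
        intro y z hyz
        have := congrArg Subtype.val hyz
        exact Subtype.ext (Subtype.ext this)
      exact Module.Finite.of_injective ι hι
    · have hle : LinearMap.range a ≤ (LinearMap.range c).comap p' := by
        rintro _ ⟨x, rfl⟩
        exact ⟨p x, (LinearMap.congr_fun hc₁ x).symm⟩
      let q : (X' ⧸ LinearMap.range a) →ₗ[k] (LinearMap.range f' ⧸ LinearMap.range c) :=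
        Submodule.mapQ _ _ p' hle
      have hq : Surjective q := by
        intro z
        obtain ⟨y, rfl⟩ := Submodule.Quotient.mk_surjective _ z
        obtain ⟨x, rfl⟩ := hp' y
        exact ⟨Submodule.Quotient.mk x, rfl⟩
      exact Module.Finite.of_surjective q hq
  have hβ : IsFred β := isFred_ses_left hi hip hp hi' hip' hp' h₁ hc₁ ha hc
  have hα : IsFred α := isFred_ses_right hj hjπ hπ hj' hjπ' hπ' hc₂ h₃ hb hc
  obtain ⟨-, e1⟩ := index_ses hi hip hp hi' hip' hp' h₁ hc₁ hβ hc
  obtain ⟨-, e2⟩ := index_ses hj hjπ hπ hj' hjπ' hπ' hc₂ h₃ hc hα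
  refine ⟨hβ, hα, ?_⟩
  rw [e1, e2]
  ring

end Groth.Agent.H96.Fred
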