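import Mathlib
import Groth.Agent.H47.FSField

/-!
# The cotangent sequence `0 → 𝔪/𝔪² → κ ⊗ Ω_R → Ω_κ → 0` of a local ring of characteristic `p`
(absolute differentials; helper library for S4595)
-/

set_option autoImplicit false
set_option linter.style.haveILetI false
set_option linter.unusedSectionVars false
set_option linter.unusedVariables false
universe u

namespace Groth.Agent.H96.CotSeq

open IsLocalRing KaehlerDifferential TensorProduct

variable (R : Type u) [CommRing R] [IsLocalRing R]

theorem ker_algebraMap_residueField :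
    RingHom.ker (algebraMap R (ResidueField R)) = maximalIdeal R :=
  IsLocalRing.ker_residue

theorem algebraMap_surjective : Function.Surjective (algebraMap R (ResidueField R)) :=
  IsLocalRing.residue_surjective

section Injective

variable (p : ℕ) [Fact p.Prime] (hp0 : (p : R) = 0)
include hp0

/-- in characteristic `p`, `𝔪/𝔪² → κ ⊗ Ω_{R/ℤ}` is injective: the residue field is formally
smooth over `𝔽_p`, hence `R/𝔪² → κ` has a ring section. -/
theorem kerCotangentToTensor_injective :
    Function.Injective (kerCotangentToTensor ℤ R (ResidueField R)) := by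
  classical
  set κ := ResidueField R
  have hf : Function.Surjective (algebraMap R κ) := algebraMap_surjective R
  let P' := R ⧸ (RingHom.ker (algebraMap R κ) ^ 2)
  let π : P' →ₐ[ℤ] κ := (IsScalarTower.toAlgHom ℤ R κ).kerSquareLift
  have hπ : Function.Surjective π := by
    intro y
    obtain ⟨x, rfl⟩ := hf y
    exact ⟨Ideal.Quotient.mk _ x, rfl⟩
  haveI : Nontrivial P' := π.toRingHom.domain_nontrivial
  have hpκ : (p : κ) = 0 := by
    have := congrArg (algebraMap R κ) hp0
    rwa [map_natCast, map_zero] at this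
  have hpP : (p : P') = 0 := by
    have := congrArg (Ideal.Quotient.mk (RingHom.ker (algebraMap R κ) ^ 2)) hp0
    rwa [map_natCast, map_zero] at this
  haveI : CharP κ p := (CharP.charP_iff_prime_eq_zero (Fact.out : p.Prime)).2 hpκ
  haveI : CharP P' p := (CharP.charP_iff_prime_eq_zero (Fact.out : p.Prime)).2 hpP
  letI := ZMod.algebra κ p
  letI := ZMod.algebra P' p
  haveI : Algebra.FormallySmooth (ZMod p) κ := Groth.Agent.H47.formallySmooth_of_perfectField_field
  let π' : P' →ₐ[ZMod p] κ :=
    { π.toRingHom with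
      commutes' := fun c => by
        have := RingHom.congr_fun (Subsingleton.elim
          (π.toRingHom.comp (algebraMap (ZMod p) P')) (algebraMap (ZMod p) κ)) c
        exact this }
  have hπ' : Function.Surjective π' := hπ
  have hnil : IsNilpotent (RingHom.ker (π' : P' →+* κ)) := by
    refine ⟨2, ?_⟩
    have h1 : RingHom.ker (π' : P' →+* κ) = RingHom.ker π.toRingHom := rfl
    rw [h1]
    have h2 : RingHom.ker π.toRingHom =
        (RingHom.ker (IsScalarTower.toAlgHom ℤ R κ).toRingHom).cotangentIdeal :=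
      AlgHom.ker_kerSquareLift (IsScalarTower.toAlgHom ℤ R κ)
    rw [h2]
    exact Ideal.cotangentIdeal_square _
  let g₀ : κ →ₐ[ZMod p] P' :=
    Algebra.FormallySmooth.liftOfSurjective (AlgHom.id (ZMod p) κ) π' hπ' hnil
  have hg₀ : ∀ x, π' (g₀ x) = x := fun x =>
    Algebra.FormallySmooth.liftOfSurjective_apply (AlgHom.id (ZMod p) κ) π' hπ' hnil x
  let g : κ →ₐ[ℤ] P' := g₀.toRingHom.toIntAlgHom
  have hg : (IsScalarTower.toAlgHom ℤ R κ).kerSquareLift.comp g = AlgHom.id ℤ κ := by
    ext x
    exact hg₀ x
  obtain ⟨l, hl⟩ := (retractionKerCotangentToTensorEquivSection (R := ℤ) hf).symm ⟨g, hg⟩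
  intro a b hab
  have := congrArg l hab
  rwa [← LinearMap.comp_apply, ← LinearMap.comp_apply, hl] at this

end Injective

/-- `𝔪/𝔪² → κ ⊗ Ω_{R/ℤ}`, `[x] ↦ 1 ⊗ dx` (as an `R`-linear map). -/
noncomputable def cotR : (maximalIdeal R).Cotangent →ₗ[R] ResidueField R ⊗[R] Ω[R⁄ℤ] :=
  (kerCotangentToTensor ℤ R (ResidueField R)) ∘ₗ
    (Ideal.mapCotangent (maximalIdeal R) (RingHom.ker (algebraMap R (ResidueField R)))
      (AlgHom.id R R) (by
        rw [ker_algebraMap_residueField]
        exact fun x hx => hx))

theorem cotR_toCotangent (x : maximalIdeal R) :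
    cotR R ((maximalIdeal R).toCotangent x) = (1 : ResidueField R) ⊗ₜ[R] D ℤ R x.1 := rfl

/-- `𝔪/𝔪² → κ ⊗ Ω_{R/ℤ}` as a `κ`-linear map. -/
noncomputable def cot : CotangentSpace R →ₗ[ResidueField R] ResidueField R ⊗[R] Ω[R⁄ℤ] :=
  (cotR R).extendScalarsOfSurjective (algebraMap_surjective R)

theorem cot_toCotangent (x : maximalIdeal R) :
    cot R ((maximalIdeal R).toCotangent x) = (1 : ResidueField R) ⊗ₜ[R] D ℤ R x.1 := rfl

theorem exact_cot : Function.Exact (cot R) (mapBaseChange ℤ R (ResidueField R)) := by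
  intro y
  constructor
  · intro hy
    obtain ⟨z, rfl⟩ :=
      (exact_kerCotangentToTensor_mapBaseChange ℤ R (ResidueField R) (algebraMap_surjective R) y).1 hy
    obtain ⟨x, rfl⟩ := Ideal.toCotangent_surjective _ z
    have hx : x.1 ∈ maximalIdeal R := by
      rw [← ker_algebraMap_residueField]; exact x.2
    exact ⟨(maximalIdeal R).toCotangent ⟨x.1, hx⟩, rfl⟩
  · rintro ⟨z, rfl⟩
    obtain ⟨x, rfl⟩ := Ideal.toCotangent_surjective _ z
    rw [cot_toCotangent, mapBaseChange_tmul, one_smul, map_D]
    have : algebraMap R (ResidueField R) x.1 = 0 := (residue_eq_zero_iff _).2 x.2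
    rw [this, map_zero]

theorem mapBaseChange_surjective :
    Function.Surjective (mapBaseChange ℤ R (ResidueField R)) :=
  KaehlerDifferential.mapBaseChange_surjective ℤ R (ResidueField R) (algebraMap_surjective R)

theorem cot_injective (p : ℕ) [Fact p.Prime] (hp0 : (p : R) = 0) :
    Function.Injective (cot R) := by
  rw [injective_iff_map_eq_zero]
  intro z hz
  obtain ⟨x, rfl⟩ := Ideal.toCotangent_surjective _ z
  rw [cot_toCotangent] at hz
  have hx : x.1 ∈ RingHom.ker (algebraMap R (ResidueField R)) := by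
    rw [ker_algebraMap_residueField]; exact x.2
  have h1 : kerCotangentToTensor ℤ R (ResidueField R)
      ((RingHom.ker (algebraMap R (ResidueField R))).toCotangent ⟨x.1, hx⟩) = 0 := hz
  have h2 := kerCotangentToTensor_injective R p hp0 (h1.trans (map_zero _).symm)
  rw [Ideal.toCotangent_eq_zero] at h2 ⊢
  have h3 : (x.1 : R) ∈ RingHom.ker (algebraMap R (ResidueField R)) ^ 2 := h2
  rwa [ker_algebraMap_residueField] at h3

end Groth.Agent.H96.CotSeq
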