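import Mathlib

/-!
# The ring `B = A[T_1, …, T_r]/(T_i^p - f_i)` over a local ring of characteristic `p` with
nilpotent maximal ideal (helper library for S4595)
-/

set_option autoImplicit false
set_option linter.style.haveILetI false
set_option linter.unusedSectionVars false
set_option linter.unusedVariables false
universe u

namespace Groth.Agent.H96.PRoot

open IsLocalRing MvPolynomial

variable {A : Type u} [CommRing A] (p : ℕ) {r : ℕ} (f : Fin r → A)

/-- the relations `T_i^p - f_i`. -/
noncomputable def rel (i : Fin r) : MvPolynomial (Fin r) A := X i ^ p - C (f i)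

/-- the ideal of relations. -/
noncomputable abbrev relIdeal : Ideal (MvPolynomial (Fin r) A) :=
  Ideal.span (Set.range fun i => (X i ^ p - C (f i) : MvPolynomial (Fin r) A))

/-- the ring `B`. -/
abbrev B : Type u := MvPolynomial (Fin r) A ⧸ relIdeal p f

/-- the class of `T_i`. -/
noncomputable def t (i : Fin r) : B p f := Ideal.Quotient.mk _ (X i)

theorem t_pow (i : Fin r) : t p f i ^ p = algebraMap A (B p f) (f i) := by
  have h : (X i ^ p - C (f i) : MvPolynomial (Fin r) A) ∈ relIdeal p f :=
    Ideal.subset_span ⟨i, rfl⟩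
  have h2 := Ideal.Quotient.eq_zero_iff_mem.2 h
  rw [map_sub, map_pow, sub_eq_zero] at h2
  exact h2

section CharP

variable [Fact p.Prime] [CharP A p]

theorem natCast_eq_zero : (p : B p f) = 0 := by
  have h : ((p : A) : A) = 0 := CharP.cast_eq_zero A p
  have := congrArg (algebraMap A (B p f)) h
  rwa [map_natCast, map_zero] at this

/-- every `p`-th power lies in the image of `A`. -/
theorem pow_mem_range (b : B p f) : ∃ a : A, b ^ p = algebraMap A (B p f) a := by
  by_cases hnt : Nontrivial (B p f)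
  · have hp0 : (p : B p f) = 0 := natCast_eq_zero p f
    haveI : CharP (B p f) p := (CharP.charP_iff_prime_eq_zero (Fact.out : p.Prime)).2 hp0
    obtain ⟨P, rfl⟩ := Ideal.Quotient.mk_surjective b
    induction P using MvPolynomial.induction_on with
    | C a => exact ⟨a ^ p, by rw [map_pow]; rfl⟩
    | add P Q hP hQ =>
      obtain ⟨a, ha⟩ := hP
      obtain ⟨b, hb⟩ := hQ
      refine ⟨a + b, ?_⟩
      rw [map_add, map_add, ← ha, ← hb]
      exact add_pow_char _ _ _
    | mul_X P i hP =>
      obtain ⟨a, ha⟩ := hP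
      refine ⟨a * f i, ?_⟩
      rw [map_mul, mul_pow, ha, map_mul]
      congr 1
      exact t_pow p f i
  · haveI := not_nontrivial_iff_subsingleton.1 hnt
    exact ⟨0, Subsingleton.elim _ _⟩

variable [IsLocalRing A]

theorem nontrivial_B : Nontrivial (B p f) := by
  classical
  let K := ResidueField A
  let L := AlgebraicClosure K
  have hp : p ≠ 0 := (Fact.out : p.Prime).ne_zero
  have hs : ∀ i, ∃ s : L, s ^ p = algebraMap K L (residue A (f i)) := fun i =>
    IsAlgClosed.exists_pow_nat_eq _ (Nat.pos_of_ne_zero hp)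
  choose s hs using hs
  let φ₀ : MvPolynomial (Fin r) A →+* L :=
    MvPolynomial.eval₂Hom ((algebraMap K L).comp (residue A)) s
  have hφ₀ : ∀ x ∈ relIdeal p f, φ₀ x = 0 := by
    intro x hx
    have hle : relIdeal p f ≤ RingHom.ker φ₀ := by
      rw [Ideal.span_le]
      rintro _ ⟨i, rfl⟩
      show φ₀ (X i ^ p - C (f i)) = 0
      rw [map_sub, map_pow]
      simp only [φ₀, MvPolynomial.coe_eval₂Hom, MvPolynomial.eval₂_X, MvPolynomial.eval₂_C]
      rw [hs i, RingHom.comp_apply, sub_self]
    exact hle hx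
  let φ : B p f →+* L := Ideal.Quotient.lift _ φ₀ hφ₀
  exact φ.domain_nontrivial

variable (hm : maximalIdeal A ^ 2 = ⊥)
include hm

theorem sq_eq_zero_of_mem {a : A} (ha : a ∈ maximalIdeal A) : a ^ 2 = 0 := by
  have : a ^ 2 ∈ maximalIdeal A ^ 2 := Ideal.pow_mem_pow ha 2
  rwa [hm, Ideal.mem_bot] at this

theorem isUnit_or_isNilpotent (b : B p f) : IsUnit b ∨ IsNilpotent b := by
  have hp : p ≠ 0 := (Fact.out : p.Prime).ne_zero
  obtain ⟨a, ha⟩ := pow_mem_range p f b
  by_cases hau : IsUnit a
  · left
    have : IsUnit (b ^ p) := by rw [ha]; exact hau.map _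
    exact (isUnit_pow_iff hp).1 this
  · right
    have ham : a ∈ maximalIdeal A := (mem_maximalIdeal a).2 hau
    refine ⟨p * 2, ?_⟩
    rw [pow_mul, ha, ← map_pow, sq_eq_zero_of_mem hm ham, map_zero]

theorem isLocalRing_B : IsLocalRing (B p f) := by
  haveI := nontrivial_B p f
  refine IsLocalRing.of_isUnit_or_isUnit_one_sub_self (fun b => ?_)
  rcases isUnit_or_isNilpotent p f hm b with h | h
  · exact Or.inl h
  · exact Or.inr h.isUnit_one_sub

theorem isLocalHom_algebraMap : IsLocalHom (algebraMap A (B p f)) := by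
  haveI := nontrivial_B p f
  refine ⟨fun a ha => ?_⟩
  by_contra hau
  have ham : a ∈ maximalIdeal A := (mem_maximalIdeal a).2 hau
  have h0 : (algebraMap A (B p f) a) ^ 2 = 0 := by
    rw [← map_pow, sq_eq_zero_of_mem hm ham, map_zero]
  have h1 : IsUnit ((algebraMap A (B p f) a) ^ 2) := ha.pow 2
  rw [h0] at h1
  exact not_isUnit_zero h1

omit hm [IsLocalRing A] in
theorem isIntegral_B : Algebra.IsIntegral A (B p f) := by
  have hp : p ≠ 0 := (Fact.out : p.Prime).ne_zero
  refine ⟨fun b => ?_⟩
  obtain ⟨a, ha⟩ := pow_mem_range p f b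
  refine ⟨Polynomial.X ^ p - Polynomial.C a, Polynomial.monic_X_pow_sub_C a hp, ?_⟩
  rw [Polynomial.eval₂_sub, Polynomial.eval₂_pow, Polynomial.eval₂_X, Polynomial.eval₂_C, ha,
    sub_self]

omit hm [IsLocalRing A] in
theorem finite_B : Module.Finite A (B p f) := by
  haveI := isIntegral_B p f
  exact Algebra.IsIntegral.finite

end CharP

end Groth.Agent.H96.PRoot
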