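import Mathlib
import Groth.Agent.H96.PRoot

/-!
# Differentials of `B = A[T_i]/(T_i^p - f_i)` in characteristic `p`: `Ω_{B/A}` is free of rank `r`
and the kernel of `B ⊗_A Ω_A → Ω_B` is spanned by the `1 ⊗ d f_i` (helper library for S4595)
-/

set_option autoImplicit false
set_option linter.style.haveILetI false
set_option linter.unusedSectionVars false
set_option linter.unusedVariables false
universe u

namespace Groth.Agent.H96.PRootKaehler

open Groth.Agent.H96.PRoot KaehlerDifferential TensorProduct MvPolynomial Algebra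

variable {A : Type u} [CommRing A] (p : ℕ) [Fact p.Prime] [CharP A p] {r : ℕ} (f : Fin r → A)

theorem aeval_t_eq :
    (MvPolynomial.aeval (R := A) (t p f)) = Ideal.Quotient.mkₐ A (relIdeal p f) := by
  apply MvPolynomial.algHom_ext
  intro i
  rw [MvPolynomial.aeval_X]
  rfl

theorem aeval_surjective : Function.Surjective (MvPolynomial.aeval (R := A) (t p f)) := by
  rw [aeval_t_eq]
  exact Ideal.Quotient.mkₐ_surjective _ _

/-- the presentation of `B` by the `T_i`. -/
noncomputable def gens : Generators A (B p f) (Fin r) :=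
  Generators.ofSurjective (t p f) (aeval_surjective p f)

theorem gens_ker : (gens p f).ker = relIdeal p f := by
  rw [Generators.ker_eq_ker_aeval_val]
  show RingHom.ker (MvPolynomial.aeval (R := A) (t p f)) = _
  rw [aeval_t_eq]
  exact Ideal.mk_ker

theorem rel_mem_ker (i : Fin r) :
    (X i ^ p - C (f i) : MvPolynomial (Fin r) A) ∈ (gens p f).ker := by
  rw [gens_ker]
  exact Ideal.subset_span ⟨i, rfl⟩

/-- the classes of the relations in `I/I²`. -/
noncomputable def relCot (i : Fin r) : (gens p f).toExtension.Cotangent :=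
  Extension.Cotangent.mk ⟨(X i ^ p - C (f i) : MvPolynomial (Fin r) A), rel_mem_ker p f i⟩

theorem span_relCot : Submodule.span (B p f) (Set.range (relCot p f)) = ⊤ := by
  have h := Extension.Cotangent.span_eq_top_of_span_eq_ker (P := (gens p f).toExtension)
    (fun i : Fin r => (X i ^ p - C (f i) : MvPolynomial (Fin r) A)) (by
      show Ideal.span (Set.range fun i : Fin r =>
        (X i ^ p - C (f i) : MvPolynomial (Fin r) A)) = (gens p f).ker
      rw [gens_ker])
  exact h

theorem natCast_mvPolynomial : ((p : ℕ) : MvPolynomial (Fin r) A) = 0 := by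
  have h : ((p : A) : A) = 0 := CharP.cast_eq_zero A p
  have := congrArg (MvPolynomial.C (σ := Fin r)) h
  rwa [map_natCast, map_zero] at this

theorem D_rel (i : Fin r) :
    D A (MvPolynomial (Fin r) A) (X i ^ p - C (f i)) = 0 := by
  rw [map_sub, Derivation.leibniz_pow]
  have h1 : D A (MvPolynomial (Fin r) A) (C (f i)) = 0 := by
    have : (C (f i) : MvPolynomial (Fin r) A) = algebraMap A _ (f i) := rfl
    rw [this, Derivation.map_algebraMap]
  rw [h1, sub_zero, ← Nat.cast_smul_eq_nsmul (MvPolynomial (Fin r) A), natCast_mvPolynomial,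
    zero_smul]

theorem cotangentComplex_relCot (i : Fin r) :
    (gens p f).toExtension.cotangentComplex (relCot p f i) = 0 := by
  rw [relCot, Extension.cotangentComplex_mk]
  have : D A (gens p f).toExtension.Ring (X i ^ p - C (f i) : MvPolynomial (Fin r) A) = 0 :=
    D_rel p f i
  show (1 : B p f) ⊗ₜ[(gens p f).toExtension.Ring]
    D A (gens p f).toExtension.Ring (X i ^ p - C (f i) : MvPolynomial (Fin r) A) = 0
  rw [this, tmul_zero]

theorem cotangentComplex_eq_zero (x : (gens p f).toExtension.Cotangent) :
    (gens p f).toExtension.cotangentComplex x = 0 := by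
  have hx : x ∈ Submodule.span (B p f) (Set.range (relCot p f)) := by
    rw [span_relCot]; trivial
  induction hx using Submodule.span_induction with
  | mem y hy =>
    obtain ⟨i, rfl⟩ := hy
    exact cotangentComplex_relCot p f i
  | zero => exact map_zero _
  | add a b _ _ ha hb => rw [map_add, ha, hb, add_zero]
  | smul c a _ ha => rw [map_smul, ha, smul_zero]

/-- `Ω_{B/A}` is free on the `dT_i`. -/
noncomputable def kaehlerEquiv : (gens p f).toExtension.CotangentSpace ≃ₗ[B p f] Ω[B p f⁄A] :=
  LinearEquiv.ofBijective (gens p f).toExtension.toKaehler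
    ⟨by
      rw [injective_iff_map_eq_zero]
      intro x hx
      obtain ⟨y, rfl⟩ := ((gens p f).toExtension.exact_cotangentComplex_toKaehler x).1 hx
      exact cotangentComplex_eq_zero p f y,
    (gens p f).toExtension.toKaehler_surjective⟩

/-- the basis `dT_i` of `Ω_{B/A}`. -/
noncomputable def kaehlerBasis : Module.Basis (Fin r) (B p f) (Ω[B p f⁄A]) :=
  (gens p f).cotangentSpaceBasis.map (kaehlerEquiv p f)

instance : Module.Free (B p f) (Ω[B p f⁄A]) := Module.Free.of_basis (kaehlerBasis p f)

instance : Module.Finite (B p f) (Ω[B p f⁄A]) := Module.Finite.of_basis (kaehlerBasis p f)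

theorem finrank_kaehler [Nontrivial (B p f)] : Module.finrank (B p f) (Ω[B p f⁄A]) = r := by
  rw [Module.finrank_eq_card_basis (kaehlerBasis p f), Fintype.card_fin]

section Delta

open Algebra.Generators

/-- every class in `I/I²` is a cycle. -/
noncomputable def toH1 :
    (gens p f).toExtension.Cotangent →ₗ[B p f] (gens p f).toExtension.H1Cotangent :=
  LinearMap.codRestrict (LinearMap.ker (gens p f).toExtension.cotangentComplex) LinearMap.id
    (fun c => LinearMap.mem_ker.2 (cotangentComplex_eq_zero p f c))

theorem δAux_X_pow (i : Fin r) (n : ℕ) :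
    H1Cotangent.δAux ℤ (gens p f) (X i ^ n : MvPolynomial (Fin r) A) = 0 := by
  rw [MvPolynomial.X_pow_eq_monomial, H1Cotangent.δAux_monomial, Derivation.map_one_eq_zero,
    tmul_zero]

theorem δ_relCot (i : Fin r) :
    H1Cotangent.δ (gens p f) (Generators.self ℤ A) (toH1 p f (relCot p f i)) =
      -((1 : B p f) ⊗ₜ[A] D ℤ A (f i)) := by
  have h := H1Cotangent.δ_eq_δAux (gens p f) (Generators.self ℤ A)
    ⟨(X i ^ p - C (f i) : MvPolynomial (Fin r) A), rel_mem_ker p f i⟩
    (LinearMap.mem_ker.2 (cotangentComplex_eq_zero p f _))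
  have h2 : toH1 p f (relCot p f i) = ⟨Extension.Cotangent.mk
      ⟨(X i ^ p - C (f i) : MvPolynomial (Fin r) A), rel_mem_ker p f i⟩,
      LinearMap.mem_ker.2 (cotangentComplex_eq_zero p f _)⟩ := rfl
  refine (congrArg _ h2).trans (h.trans ?_)
  show H1Cotangent.δAux ℤ (gens p f) (X i ^ p - C (f i) : MvPolynomial (Fin r) A) = _
  rw [map_sub, δAux_X_pow, H1Cotangent.δAux_C, zero_sub]

theorem ker_mapBaseChange_le :
    LinearMap.ker (mapBaseChange ℤ A (B p f)) ≤
      Submodule.span (B p f) (Set.range fun i => (1 : B p f) ⊗ₜ[A] D ℤ A (f i)) := by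
  intro x hx
  obtain ⟨h, rfl⟩ :=
    (H1Cotangent.exact_δ_map (gens p f) (Generators.self ℤ A) x).1 (LinearMap.mem_ker.1 hx)
  have h1 : h = toH1 p f h.1 := Subtype.ext rfl
  rw [h1]
  have hc : h.1 ∈ Submodule.span (B p f) (Set.range (relCot p f)) := by
    rw [span_relCot]; trivial
  generalize h.1 = c at hc
  induction hc using Submodule.span_induction with
  | mem y hy =>
    obtain ⟨i, rfl⟩ := hy
    rw [δ_relCot]
    exact Submodule.neg_mem _ (Submodule.subset_span ⟨i, rfl⟩)
  | zero => rw [map_zero, map_zero]; exact Submodule.zero_mem _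
  | add a b _ _ ha hb => rw [map_add, map_add]; exact Submodule.add_mem _ ha hb
  | smul c a _ ha => rw [map_smul, map_smul]; exact Submodule.smul_mem _ _ ha

end Delta

end Groth.Agent.H96.PRootKaehler
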