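import Mathlib
import Groth.Agent.H96.PRootKaehler
import Groth.Agent.H96.CotSeq
import Groth.Agent.H96.FredSES
import Groth.Agent.H96.BaseChangeKer
import Groth.Agent.H96.CartierMain

/-!
# The index computation for `B = A[T_i]/(T_i^p - f_i)` (helper library for S4595)
-/

set_option autoImplicit false
set_option linter.style.haveILetI false
set_option linter.unusedSectionVars false
set_option linter.unusedVariables false
universe u

namespace Groth.Agent.H96.PRootIndex

open Groth.Agent.H96.PRoot Groth.Agent.H96.PRootKaehler Groth.Agent.H96.Fred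
  KaehlerDifferential TensorProduct IsLocalRing Module

section General

/-- functoriality of `KaehlerDifferential.map` over a general base. -/
theorem map_map' (R K L M : Type*) [CommRing R] [CommRing K] [CommRing L] [CommRing M]
    [Algebra R K] [Algebra R L] [Algebra R M] [Algebra K L] [Algebra L M] [Algebra K M]
    [IsScalarTower R K L] [IsScalarTower R L M] [IsScalarTower R K M] [IsScalarTower K L M]
    (ω : Ω[K⁄R]) :
    KaehlerDifferential.map R R L M (KaehlerDifferential.map R R K L ω) =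
      KaehlerDifferential.map R R K M ω := by
  have hω : ω ∈ Submodule.span K (Set.range (D R K)) := by
    rw [span_range_derivation]; trivial
  induction hω using Submodule.span_induction with
  | mem x hx =>
    obtain ⟨a, rfl⟩ := hx
    rw [map_D, map_D, map_D, ← IsScalarTower.algebraMap_apply]
  | zero => rw [map_zero, map_zero, map_zero]
  | add a b _ _ ha hb => rw [map_add, map_add, map_add, ha, hb]
  | smul c a _ ha =>
    have h1 : KaehlerDifferential.map R R K L (c • a) =
        algebraMap K L c • KaehlerDifferential.map R R K L a := by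
      rw [LinearMap.map_smul, algebraMap_smul]
    have h2 : KaehlerDifferential.map R R K M (c • a) =
        algebraMap K L c • KaehlerDifferential.map R R K M a := by
      rw [LinearMap.map_smul, algebraMap_smul]
    rw [h1, h2, LinearMap.map_smul, ha]

/-- a finite field extension has `L ⊗_K Ω_K → Ω_L` Fredholm of index `0`, for arbitrary
`ℤ`-algebra instances. -/
theorem isFred_mapBaseChange_of_finite (K L : Type u) [Field K] [Field L] [Algebra K L]
    [instK : Algebra ℤ K] [instL : Algebra ℤ L]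
    [h : @IsScalarTower ℤ K L instK.toSMul Algebra.toSMul instL.toSMul] [Module.Finite K L] :
    IsFred (mapBaseChange ℤ K L) ∧ (mapBaseChange ℤ K L).index = 0 := by
  obtain rfl : instK = Ring.toIntAlgebra K := Subsingleton.elim _ _
  obtain rfl : instL = Ring.toIntAlgebra L := Subsingleton.elim _ _
  obtain ⟨s, hs⟩ := IntermediateField.fg_top K L
  obtain ⟨d, hd, h1, h2⟩ := Groth.Agent.H96.Cartier.isFred_u_of_card s.card K L ⟨s, le_rfl, hs⟩
  have h0 : Algebra.trdeg K L = 0 := trdeg_eq_zero
  have hd0 : d = 0 := by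
    rw [h0] at hd
    exact_mod_cast hd.symm
  subst hd0
  refine ⟨h1, ?_⟩
  rw [Groth.Agent.H96.Cartier.u] at h2
  rw [h2]; simp

end General

variable {A : Type u} [CommRing A] [IsLocalRing A] (p : ℕ) [Fact p.Prime] [CharP A p] {r : ℕ}
  (f : Fin r → A) [IsLocalRing (B p f)]

local notation "K'" => ResidueField (B p f)

section PhiPrime

/-- `K' ⊗_B (B ⊗_A Ω_A) → K' ⊗_B Ω_B`. -/
noncomputable def φ' : K' ⊗[B p f] (B p f ⊗[A] Ω[A⁄ℤ]) →ₗ[K'] K' ⊗[B p f] Ω[B p f⁄ℤ] :=
  (mapBaseChange ℤ A (B p f)).baseChange K'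

/-- the elements `1 ⊗ (1 ⊗ d f_i)`. -/
noncomputable def w (i : Fin r) : K' ⊗[B p f] (B p f ⊗[A] Ω[A⁄ℤ]) :=
  (1 : K') ⊗ₜ[B p f] ((1 : B p f) ⊗ₜ[A] D ℤ A (f i))

theorem D_algebraMap_f (i : Fin r) : D ℤ (B p f) (algebraMap A (B p f) (f i)) = 0 := by
  rw [← t_pow, Derivation.leibniz_pow, ← Nat.cast_smul_eq_nsmul (B p f), natCast_eq_zero]
  exact zero_smul (B p f) (t p f i ^ (p - 1) • (D ℤ (B p f)) (t p f i))

theorem φ'_w (i : Fin r) : φ' p f (w p f i) = 0 := by
  rw [φ', w, LinearMap.baseChange_tmul, mapBaseChange_tmul]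
  have h1 : (1 : B p f) • (KaehlerDifferential.map ℤ ℤ A (B p f)) ((D ℤ A) (f i)) =
      (KaehlerDifferential.map ℤ ℤ A (B p f)) ((D ℤ A) (f i)) :=
    one_smul (B p f) ((KaehlerDifferential.map ℤ ℤ A (B p f)) ((D ℤ A) (f i)))
  rw [h1, map_D, D_algebraMap_f, tmul_zero]

theorem ker_φ' : LinearMap.ker (φ' p f) = Submodule.span K' (Set.range (w p f)) := by
  apply le_antisymm
  · have h := Groth.Agent.H96.BaseChangeKer.ker_baseChange_le (R := B p f)
      (N := LinearMap.ker (mapBaseChange ℤ A (B p f)))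
      (LinearMap.ker (mapBaseChange ℤ A (B p f))).subtype (mapBaseChange ℤ A (B p f))
      (KaehlerDifferential.map ℤ A (B p f) (B p f))
      (LinearMap.exact_subtype_ker_map (mapBaseChange ℤ A (B p f)))
      (exact_mapBaseChange_map ℤ A (B p f))
      (map_surjective ℤ A (B p f)) K'
    have key : ∀ y : K' ⊗[B p f] (LinearMap.ker (mapBaseChange ℤ A (B p f))),
        ((LinearMap.ker (mapBaseChange ℤ A (B p f))).subtype.baseChange K') y ∈
          Submodule.span K' (Set.range (w p f)) := by
      intro y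
      induction y using TensorProduct.induction_on with
      | zero => rw [map_zero]; exact Submodule.zero_mem _
      | add a b ha hb => rw [map_add]; exact Submodule.add_mem _ ha hb
      | tmul c n =>
        rw [LinearMap.baseChange_tmul]
        have hn : (n : B p f ⊗[A] Ω[A⁄ℤ]) ∈ Submodule.span (B p f)
            (Set.range fun i => (1 : B p f) ⊗ₜ[A] D ℤ A (f i)) := ker_mapBaseChange_le p f n.2
        show c ⊗ₜ[B p f] (n : B p f ⊗[A] Ω[A⁄ℤ]) ∈ _
        generalize (n : B p f ⊗[A] Ω[A⁄ℤ]) = m at hn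
        induction hn using Submodule.span_induction with
        | mem y hy =>
          obtain ⟨i, rfl⟩ := hy
          have : c ⊗ₜ[B p f] ((1 : B p f) ⊗ₜ[A] D ℤ A (f i)) = c • w p f i := by
            rw [w, TensorProduct.smul_tmul', smul_eq_mul, mul_one]
          rw [this]
          exact Submodule.smul_mem _ _ (Submodule.subset_span ⟨i, rfl⟩)
        | zero => rw [tmul_zero]; exact Submodule.zero_mem _
        | add a b _ _ ha hb => rw [tmul_add]; exact Submodule.add_mem _ ha hb
        | smul b a _ ha =>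
          have : c ⊗ₜ[B p f] (b • a) = (algebraMap (B p f) K' b) • (c ⊗ₜ[B p f] a) := by
            have e1 : c ⊗ₜ[B p f] (b • a) = (b • c) ⊗ₜ[B p f] a :=
              (TensorProduct.smul_tmul b c a).symm
            rw [e1, Algebra.smul_def, TensorProduct.smul_tmul', smul_eq_mul]
          rw [this]
          exact Submodule.smul_mem _ _ ha
    intro x hx
    obtain ⟨y, rfl⟩ := h hx
    exact key y
  · rw [Submodule.span_le]
    rintro _ ⟨i, rfl⟩
    exact LinearMap.mem_ker.2 (φ'_w p f i)

theorem isFred_φ' : IsFred (φ' p f) ∧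
    (φ' p f).index = (finrank K' (Submodule.span K' (Set.range (w p f))) : ℤ) - r := by
  haveI : FiniteDimensional K' (LinearMap.ker (φ' p f)) := by
    rw [ker_φ']
    exact FiniteDimensional.span_of_finite K' (Set.finite_range _)
  let π : K' ⊗[B p f] Ω[B p f⁄ℤ] →ₗ[K'] K' ⊗[B p f] Ω[B p f⁄A] :=
    (KaehlerDifferential.map ℤ A (B p f) (B p f)).baseChange K'
  have h2 : Function.Exact (φ' p f) π :=
    lTensor_exact K' (exact_mapBaseChange_map ℤ A (B p f)) (map_surjective ℤ A (B p f))
  have hπ : Function.Surjective π :=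
    LinearMap.lTensor_surjective K' (map_surjective ℤ A (B p f))
  obtain ⟨h3, h4⟩ := isFred_of_exact (K := LinearMap.ker (φ' p f))
    (LinearMap.ker (φ' p f)).subtype (φ' p f) π
    (Submodule.injective_subtype _) (LinearMap.exact_subtype_ker_map (φ' p f)) h2 hπ
  refine ⟨h3, ?_⟩
  rw [h4, Module.finrank_baseChange, finrank_kaehler, ker_φ']

end PhiPrime

section Main

variable [IsLocalHom (algebraMap A (B p f))]

local notation "κ" => ResidueField A

/-- the comparison of coefficients `K' ⊗_K (K ⊗_A Ω_A) ≃ K' ⊗_B (B ⊗_A Ω_A)`. -/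
noncomputable def e : K' ⊗[κ] (κ ⊗[A] Ω[A⁄ℤ]) ≃ₗ[K'] K' ⊗[B p f] (B p f ⊗[A] Ω[A⁄ℤ]) :=
  (AlgebraTensorModule.cancelBaseChange A κ K' K' Ω[A⁄ℤ]).trans
    (AlgebraTensorModule.cancelBaseChange A (B p f) K' K' Ω[A⁄ℤ]).symm

theorem e_tmul (c' : K') (c : κ) (ω : Ω[A⁄ℤ]) :
    e p f (c' ⊗ₜ[κ] (c ⊗ₜ[A] ω)) = (c • c') ⊗ₜ[B p f] ((1 : B p f) ⊗ₜ[A] ω) := by
  rw [e, LinearEquiv.trans_apply, AlgebraTensorModule.cancelBaseChange_tmul,
    AlgebraTensorModule.cancelBaseChange_symm_tmul]

/-- the middle vertical map `K' ⊗_K (K ⊗_A Ω_A) → K' ⊗_B Ω_B`. -/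
noncomputable def φ : K' ⊗[κ] (κ ⊗[A] Ω[A⁄ℤ]) →ₗ[K'] K' ⊗[B p f] Ω[B p f⁄ℤ] :=
  φ' p f ∘ₗ (e p f).toLinearMap

theorem φ_tmul (c' : K') (c : κ) (ω : Ω[A⁄ℤ]) :
    φ p f (c' ⊗ₜ[κ] (c ⊗ₜ[A] ω)) =
      (c • c') ⊗ₜ[B p f] (KaehlerDifferential.map ℤ ℤ A (B p f) ω) := by
  rw [φ, LinearMap.comp_apply, LinearEquiv.coe_coe, e_tmul, φ', LinearMap.baseChange_tmul,
    mapBaseChange_tmul]
  congr 1
  exact one_smul (B p f) (KaehlerDifferential.map ℤ ℤ A (B p f) ω)

theorem isFred_φ : IsFred (φ p f) ∧
    (φ p f).index = (finrank K' (Submodule.span K' (Set.range (w p f))) : ℤ) - r := by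
  obtain ⟨h1, h2⟩ := isFred_φ' p f
  obtain ⟨h3, h4⟩ := (isFred_equiv (e p f)).comp h1
  refine ⟨h3, ?_⟩
  have h5 : ((e p f).toLinearMap).index = 0 := LinearEquiv.index_eq_zero
  show (φ' p f ∘ₗ (e p f).toLinearMap).index = _
  rw [h4, h2, h5, add_zero]

theorem comm₂ : (mapBaseChange ℤ (B p f) K') ∘ₗ φ p f =
    (mapBaseChange ℤ κ K') ∘ₗ ((mapBaseChange ℤ A κ).baseChange K') := by
  apply LinearMap.ext
  intro x
  induction x using TensorProduct.induction_on with
  | zero => rw [map_zero, map_zero]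
  | add a b ha hb => rw [map_add, map_add, ha, hb]
  | tmul c' y =>
    induction y using TensorProduct.induction_on with
    | zero => rw [tmul_zero, map_zero, map_zero]
    | add a b ha hb => rw [tmul_add, map_add, map_add, ha, hb]
    | tmul c ω =>
      rw [LinearMap.comp_apply, LinearMap.comp_apply, φ_tmul, mapBaseChange_tmul,
        LinearMap.baseChange_tmul, mapBaseChange_tmul,
        mapBaseChange_tmul, map_map' ℤ A (B p f) K', LinearMap.map_smul,
        map_map' ℤ A κ K', smul_assoc, smul_comm]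

open Groth.Agent.H96.CotSeq in
theorem index_formula [IsNoetherianRing A] :
    (finrank κ (CotangentSpace A) : ℤ) - finrank K' (CotangentSpace (B p f)) =
      (finrank K' (Submodule.span K' (Set.range (w p f))) : ℤ) - r := by
  have hpA : ((p : ℕ) : A) = 0 := CharP.cast_eq_zero A p
  haveI : Module.Finite A (B p f) := finite_B p f
  haveI : IsNoetherianRing (B p f) := inferInstance
  have hi : Function.Injective ((cot A).baseChange K') := by
    have := Module.Flat.lTensor_preserves_injective_linearMap (M := K') (cot A)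
      (cot_injective A p hpA)
    exact this
  have hip : Function.Exact ((cot A).baseChange K') ((mapBaseChange ℤ A κ).baseChange K') := by
    have := Module.Flat.lTensor_exact K' (exact_cot A)
    exact this
  have hp : Function.Surjective ((mapBaseChange ℤ A κ).baseChange K') := by
    have := LinearMap.lTensor_surjective K' (CotSeq.mapBaseChange_surjective A)
    exact this
  have hj := cot_injective (B p f) p (natCast_eq_zero p f)
  have hjq := exact_cot (B p f)
  have hq := CotSeq.mapBaseChange_surjective (B p f)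
  obtain ⟨f₁, h₁⟩ := exists_ker_map (i := (cot A).baseChange K')
    (p := (mapBaseChange ℤ A κ).baseChange K')
    (j := cot (B p f)) (q := mapBaseChange ℤ (B p f) K') (f₂ := φ p f)
    (f₃ := mapBaseChange ℤ κ K') hj hip hjq (comm₂ p f)
  obtain ⟨hf₁, hif₁⟩ := isFred_of_finiteDimensional f₁
  obtain ⟨hf₃, hif₃⟩ := isFred_mapBaseChange_of_finite κ K'
  obtain ⟨h5, h6⟩ := index_ses (i := (cot A).baseChange K')
    (p := (mapBaseChange ℤ A κ).baseChange K')
    (j := cot (B p f)) (q := mapBaseChange ℤ (B p f) K') (f₁ := f₁) (f₂ := φ p f)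
    (f₃ := mapBaseChange ℤ κ K') hi hip hp hj hjq hq h₁ (comm₂ p f) hf₁ hf₃
  obtain ⟨h7, h8⟩ := isFred_φ p f
  have h9 : (finrank K' (Submodule.span K' (Set.range (w p f))) : ℤ) - r =
      ((finrank K' (K' ⊗[κ] CotangentSpace A) : ℤ) - finrank K' (CotangentSpace (B p f))) + 0 :=
    h8.symm.trans (h6.trans (congrArg₂ (· + ·) hif₁ hif₃))
  rw [add_zero, Module.finrank_baseChange] at h9
  exact h9.symm

theorem linearIndependent_w_iff :
    LinearIndependent K' (w p f) ↔
      LinearIndependent κ (fun i => (1 : κ) ⊗ₜ[A] D ℤ A (f i)) := by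
  have hw : w p f = (e p f).toLinearMap ∘
      (fun i => (1 : K') ⊗ₜ[κ] ((1 : κ) ⊗ₜ[A] D ℤ A (f i))) := by
    funext i
    rw [Function.comp_apply, LinearEquiv.coe_coe, e_tmul, one_smul]
    rfl
  rw [hw, LinearMap.linearIndependent_iff (e p f).toLinearMap (LinearEquiv.ker _)]
  constructor
  · intro h
    have h1 : LinearIndependent κ (fun i => (1 : K') ⊗ₜ[κ] ((1 : κ) ⊗ₜ[A] D ℤ A (f i))) :=
      LinearIndependent.restrict_scalars' κ h
    exact LinearIndependent.of_comp (TensorProduct.mk κ K' (κ ⊗[A] Ω[A⁄ℤ]) 1) h1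
  · intro h
    exact Module.Flat.linearIndependent_one_tmul h

/-- the main numerical criterion. -/
theorem finrank_eq_iff [IsNoetherianRing A] :
    finrank κ (CotangentSpace A) = finrank K' (CotangentSpace (B p f)) ↔
      LinearIndependent κ (fun i => (1 : κ) ⊗ₜ[A] D ℤ A (f i)) := by
  rw [← linearIndependent_w_iff, linearIndependent_iff_card_eq_finrank_span, Set.finrank,
    Fintype.card_fin]
  have h := index_formula p f
  constructor
  · intro h1
    rw [h1] at h
    omega
  · intro h1
    rw [← h1] at h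
    omega

end Main

end Groth.Agent.H96.PRootIndex
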