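import Mathlib
import Groth.Agent.H96.FredSquare
import Groth.Agent.H96.DeltaNat
import Groth.Agent.H96.CartierMain
import Groth.Agent.H96.PRootIndex

/-!
# Cartier's equality for a commutative square of fields (helper library for S9320)
-/

set_option autoImplicit false
set_option linter.style.haveILetI false
set_option linter.unusedSectionVars false
set_option linter.unusedVariables false
universe u

namespace Groth.Agent.H96.CartierSquare

open KaehlerDifferential TensorProduct Module Algebra Groth.Agent.H96.Fred Groth.Agent.H96.Cartier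

variable (k k' K K' : Type u) [Field k] [Field k'] [Field K] [Field K'] [Algebra k k']
  [Algebra k K] [Algebra k K'] [Algebra k' K'] [Algebra K K'] [IsScalarTower k k' K']
  [IsScalarTower k K K']

/-- the comparison of coefficients `K' ⊗_K (K ⊗_k Ω_k) ≃ K' ⊗_{k'} (k' ⊗_k Ω_k)`. -/
noncomputable def e : K' ⊗[K] (K ⊗[k] Ω[k⁄ℤ]) ≃ₗ[K'] K' ⊗[k'] (k' ⊗[k] Ω[k⁄ℤ]) :=
  (AlgebraTensorModule.cancelBaseChange k K K' K' Ω[k⁄ℤ]).trans
    (AlgebraTensorModule.cancelBaseChange k k' K' K' Ω[k⁄ℤ]).symm

theorem e_tmul (c' : K') (c : K) (ω : Ω[k⁄ℤ]) :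
    e k k' K K' (c' ⊗ₜ[K] (c ⊗ₜ[k] ω)) = (c • c') ⊗ₜ[k'] ((1 : k') ⊗ₜ[k] ω) := by
  rw [e, LinearEquiv.trans_apply, AlgebraTensorModule.cancelBaseChange_tmul,
    AlgebraTensorModule.cancelBaseChange_symm_tmul]

/-- the left vertical map `K' ⊗_K (K ⊗_k Ω_k) → K' ⊗_{k'} Ω_{k'}`. -/
noncomputable def a : K' ⊗[K] (K ⊗[k] Ω[k⁄ℤ]) →ₗ[K'] K' ⊗[k'] Ω[k'⁄ℤ] :=
  ((mapBaseChange ℤ k k').baseChange K') ∘ₗ (e k k' K K').toLinearMap

theorem a_tmul (c' : K') (c : K) (ω : Ω[k⁄ℤ]) :
    a k k' K K' (c' ⊗ₜ[K] (c ⊗ₜ[k] ω)) =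
      (c • c') ⊗ₜ[k'] (KaehlerDifferential.map ℤ ℤ k k' ω) := by
  rw [a, LinearMap.comp_apply, LinearEquiv.coe_coe, e_tmul, LinearMap.baseChange_tmul,
    mapBaseChange_tmul]
  congr 1
  exact one_smul k' (KaehlerDifferential.map ℤ ℤ k k' ω)

theorem a_eq_G (c' : K') (z : K ⊗[k] Ω[k⁄ℤ]) :
    a k k' K K' (c' ⊗ₜ[K] z) = c' • DeltaNat.G ℤ k K k' K' z := by
  induction z using TensorProduct.induction_on with
  | zero => rw [tmul_zero, map_zero, map_zero, smul_zero]
  | add x y hx hy => rw [tmul_add, map_add, map_add, smul_add, hx, hy]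
  | tmul c ω =>
    rw [a_tmul, DeltaNat.G_tmul, TensorProduct.smul_tmul', Algebra.smul_def, smul_eq_mul,
      mul_comm]

theorem isFred_a [Algebra.EssFiniteType k k'] : IsFred (a k k' K K') ∧
    (a k k' K K').index = -(Cardinal.toNat (Algebra.trdeg k k') : ℤ) := by
  obtain ⟨s, hs⟩ := IntermediateField.fg_top k k'
  obtain ⟨d, hd, h1, h2⟩ := isFred_u_of_card s.card k k' ⟨s, le_rfl, hs⟩
  obtain ⟨h3, h4⟩ := IsFred.baseChange K' h1
  obtain ⟨h5, h6⟩ := (isFred_equiv (e k k' K K')).comp h3
  refine ⟨h5, ?_⟩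
  have h7 : ((e k k' K K').toLinearMap).index = 0 := LinearEquiv.index_eq_zero
  show (((mapBaseChange ℤ k k').baseChange K') ∘ₗ (e k k' K K').toLinearMap).index = _
  rw [h6, h7, add_zero]
  refine h4.trans (h2.trans ?_)
  rw [hd, Cardinal.toNat_natCast]

theorem isFred_b [Algebra.EssFiniteType K K'] : IsFred (mapBaseChange ℤ K K') ∧
    (mapBaseChange ℤ K K').index = -(Cardinal.toNat (Algebra.trdeg K K') : ℤ) := by
  obtain ⟨s, hs⟩ := IntermediateField.fg_top K K'
  obtain ⟨d, hd, h1, h2⟩ := isFred_u_of_card s.card K K' ⟨s, le_rfl, hs⟩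
  refine ⟨h1, ?_⟩
  refine h2.trans ?_
  rw [hd, Cardinal.toNat_natCast]


/-- functoriality of `KaehlerDifferential.map` along the square. -/
theorem map_comm (ω : Ω[K⁄ℤ]) :
    KaehlerDifferential.map ℤ k' K' K' (KaehlerDifferential.map ℤ ℤ K K' ω) =
      KaehlerDifferential.map k k' K K' (KaehlerDifferential.map ℤ k K K ω) := by
  have hω : ω ∈ Submodule.span K (Set.range (D ℤ K)) := by
    rw [span_range_derivation]; trivial
  induction hω using Submodule.span_induction with
  | mem x hx =>
    obtain ⟨y, rfl⟩ := hx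
    rw [map_D, map_D, map_D, map_D]
    rfl
  | zero => rw [map_zero, map_zero, map_zero, map_zero]
  | add x y _ _ hx hy => rw [map_add, map_add, map_add, map_add, hx, hy]
  | smul c x _ hx =>
    have h1 : KaehlerDifferential.map ℤ ℤ K K' (c • x) =
        algebraMap K K' c • KaehlerDifferential.map ℤ ℤ K K' x := by
      rw [LinearMap.map_smul, algebraMap_smul]
    have h2 : KaehlerDifferential.map k k' K K' (c • KaehlerDifferential.map ℤ k K K x) =
        algebraMap K K' c • KaehlerDifferential.map k k' K K' (KaehlerDifferential.map ℤ k K K x) := by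
      rw [LinearMap.map_smul, algebraMap_smul]
    rw [h1, LinearMap.map_smul, LinearMap.map_smul, h2, hx]

theorem comm₁ : (H1Cotangent.δ ℤ k' K') ∘ₗ ((H1Cotangent.map k k' K K').liftBaseChange K') =
    (a k k' K K') ∘ₗ ((H1Cotangent.δ ℤ k K).baseChange K') := by
  apply LinearMap.ext
  intro x
  induction x using TensorProduct.induction_on with
  | zero => rw [map_zero, map_zero]
  | add x y hx hy => rw [map_add, map_add, hx, hy]
  | tmul c' x =>
    rw [LinearMap.comp_apply, LinearMap.comp_apply, LinearMap.liftBaseChange_tmul,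
      LinearMap.map_smul, LinearMap.baseChange_tmul, a_eq_G, DeltaNat.δ_map]

theorem comm₂ : (mapBaseChange ℤ k' K') ∘ₗ (a k k' K K') =
    (mapBaseChange ℤ K K') ∘ₗ ((mapBaseChange ℤ k K).baseChange K') := by
  apply LinearMap.ext
  intro x
  induction x using TensorProduct.induction_on with
  | zero => rw [map_zero, map_zero]
  | add x y hx hy => rw [map_add, map_add, hx, hy]
  | tmul c' y =>
    induction y using TensorProduct.induction_on with
    | zero => rw [tmul_zero, map_zero, map_zero]
    | add x y hx hy => rw [tmul_add, map_add, map_add, hx, hy]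
    | tmul c ω =>
      rw [LinearMap.comp_apply, LinearMap.comp_apply, a_tmul, mapBaseChange_tmul,
        LinearMap.baseChange_tmul, mapBaseChange_tmul, mapBaseChange_tmul,
        Groth.Agent.H96.PRootIndex.map_map' ℤ k k' K', LinearMap.map_smul,
        Groth.Agent.H96.PRootIndex.map_map' ℤ k K K', smul_assoc, smul_comm]

theorem comm₃ : (KaehlerDifferential.map ℤ k' K' K') ∘ₗ (mapBaseChange ℤ K K') =
    ((KaehlerDifferential.map k k' K K').liftBaseChange K') ∘ₗ
      ((KaehlerDifferential.map ℤ k K K).baseChange K') := by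
  apply LinearMap.ext
  intro x
  induction x using TensorProduct.induction_on with
  | zero => rw [map_zero, map_zero]
  | add x y hx hy => rw [map_add, map_add, hx, hy]
  | tmul c' ω =>
    rw [LinearMap.comp_apply, LinearMap.comp_apply, mapBaseChange_tmul, LinearMap.map_smul,
      LinearMap.baseChange_tmul, LinearMap.liftBaseChange_tmul, map_comm k k' K K']

/-- the generalized Cartier equality. -/
theorem main [Algebra.EssFiniteType k k'] [Algebra.EssFiniteType K K'] :
    IsFred ((H1Cotangent.map k k' K K').liftBaseChange K') ∧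
      IsFred ((KaehlerDifferential.map k k' K K').liftBaseChange K') ∧
      ((KaehlerDifferential.map k k' K K').liftBaseChange K').index -
          ((H1Cotangent.map k k' K K').liftBaseChange K').index =
        (Cardinal.toNat (Algebra.trdeg k k') : ℤ) - Cardinal.toNat (Algebra.trdeg K K') := by
  have hi : Function.Injective ((H1Cotangent.δ ℤ k K).baseChange K') := by
    have := Module.Flat.lTensor_preserves_injective_linearMap (M := K') (H1Cotangent.δ ℤ k K)
      (δ_injective k K)
    exact this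
  have hif : Function.Exact ((H1Cotangent.δ ℤ k K).baseChange K')
      ((mapBaseChange ℤ k K).baseChange K') := by
    have := Module.Flat.lTensor_exact K' (H1Cotangent.exact_δ_mapBaseChange ℤ k K)
    exact this
  have hfπ : Function.Exact ((mapBaseChange ℤ k K).baseChange K')
      ((KaehlerDifferential.map ℤ k K K).baseChange K') := by
    have := lTensor_exact K' (exact_mapBaseChange_map ℤ k K) (map_surjective ℤ k K)
    exact this
  have hπ : Function.Surjective ((KaehlerDifferential.map ℤ k K K).baseChange K') := by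
    have := LinearMap.lTensor_surjective K' (map_surjective ℤ k K)
    exact this
  obtain ⟨ha, hia⟩ := isFred_a k k' K K'
  obtain ⟨hb, hib⟩ := isFred_b K K'
  obtain ⟨hβ, hα, h⟩ := index_square hi hif hfπ hπ (δ_injective k' K')
    (H1Cotangent.exact_δ_mapBaseChange ℤ k' K') (exact_mapBaseChange_map ℤ k' K')
    (map_surjective ℤ k' K') (comm₁ k k' K K') (comm₂ k k' K K') (comm₃ k k' K K') ha hb
  refine ⟨hβ, hα, ?_⟩
  rw [hia, hib] at h
  linarith

end Groth.Agent.H96.CartierSquare
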