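import Mathlib
import Groth.Agent.H13.PBasisPerfect
import Groth.Agent.H13.PBasisField

/-!
# `dx_i` is part of a basis of `Ω_A` for a regular local ring of characteristic `p`

Helper library for S19270.  The residue field `κ` of `A` is formally smooth over `𝔽_p`
(p-basis argument, helper13's library), hence `A ⧸ 𝔪² → κ` has a ring section.  This gives, for any
`κ`-linear functional `φ` on the cotangent space `𝔪 ⧸ 𝔪²`, a derivation `A → κ` restricting to `φ`
on `𝔪`.  Hence the `1 ⊗ dx_i` are linearly independent in `κ ⊗ Ω_A`, and Nakayama finishes.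
-/

set_option autoImplicit false
set_option linter.style.haveILetI false
universe u

namespace Groth.Agent.H96.KaehlerReg

open IsLocalRing

/-- every field of characteristic `p` has a `p`-basis over any subfield. -/
theorem exists_isPBasis_field (p : ℕ) [Fact p.Prime] {k K : Type u} [Field k] [Field K]
    [Algebra k K] [CharP K p] :
    ∃ B : Set K, EGA41.IsPBasis p k (Subtype.val : B → K) := by
  classical
  have hS : EGA41.IsPGenerating p k (Subtype.val : ↥(Set.univ : Set K) → K) := by
    rw [← Groth.Agent.H13.PB.adjoin_eq_top_iff_isPGenerating, Subtype.range_coe]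
    exact Algebra.adjoin_univ _ _
  have hL : EGA41.IsPIndependent p k (Subtype.val : ↥(∅ : Set K) → K) := by
    rw [Groth.Agent.H13.PB.isPIndependent_iff]
    have : IsEmpty (↥(∅ : Set K)) := Set.isEmpty_coe_sort.2 rfl
    haveI : Unique (Groth.Agent.H13.PB.Red (↥(∅ : Set K)) p) :=
      ⟨⟨⟨0, fun i => isEmptyElim i⟩⟩, fun e => Subtype.ext (Subsingleton.elim _ _)⟩
    rw [linearIndependent_unique_iff]
    have : Groth.Agent.H13.PB.mono p (Subtype.val : ↥(∅ : Set K) → K) default = 1 := by
      have h0 : (default : Groth.Agent.H13.PB.Red (↥(∅ : Set K)) p).1 = 0 :=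
        Subsingleton.elim _ _
      unfold Groth.Agent.H13.PB.mono
      simp [h0]
    rw [this]
    exact one_ne_zero
  obtain ⟨B, -, -, hB⟩ := Groth.Agent.H13.PB.exists_isPBasis_between p (k := k)
    (Set.univ : Set K) ∅ (Set.empty_subset _) hS hL
  exact ⟨B, hB⟩

/-- A field of characteristic `p` is formally smooth over its prime field. -/
theorem formallySmooth_primeField (p : ℕ) [Fact p.Prime] (κ : Type u) [Field κ] [CharP κ p]
    [Algebra (ULift.{u} (ZMod p)) κ] : Algebra.FormallySmooth (ULift.{u} (ZMod p)) κ := by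
  haveI : ExpChar (ULift.{u} (ZMod p)) p := ExpChar.prime Fact.out
  haveI : PerfectRing (ULift.{u} (ZMod p)) p := PerfectRing.ofFiniteOfIsReduced p _
  obtain ⟨B, hB⟩ := exists_isPBasis_field p (k := ULift.{u} (ZMod p)) (K := κ)
  exact (Groth.Agent.H13.PB.formallySmooth_of_isPBasis_of_perfect p _ hB).1

/-- In characteristic `p`, the projection `A ⧸ 𝔪² → κ` has a ring-theoretic section. -/
theorem exists_section (p : ℕ) [Fact p.Prime] (A : Type u) [CommRing A] [IsLocalRing A]
    [CharP A p] :
    ∃ s : ResidueField A →+* A ⧸ (maximalIdeal A) ^ 2,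
      ∀ z, Ideal.Quotient.factor (Ideal.pow_le_self two_ne_zero) (s z) = z := by
  let F := ULift.{u} (ZMod p)
  let e : F ≃+* ZMod p := ULift.ringEquiv
  letI : Algebra F A := ((ZMod.castHom (dvd_refl p) A).comp e.toRingHom).toAlgebra
  haveI : CharP (ResidueField A) p := by
    haveI : Nontrivial (ResidueField A) := inferInstance
    exact (CharP.charP_iff_prime_eq_zero (R := ResidueField A) Fact.out).2 (by
      have h0 : ((p : ℕ) : A) = 0 := CharP.cast_eq_zero A p
      have := congrArg (IsLocalRing.residue A) h0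
      rw [map_natCast, map_zero] at this
      exact this)
  haveI := formallySmooth_primeField p (ResidueField A)
  let g : A ⧸ (maximalIdeal A) ^ 2 →ₐ[F] ResidueField A :=
    Ideal.Quotient.factorₐ F (Ideal.pow_le_self two_ne_zero)
  have hg : Function.Surjective g :=
    Ideal.Quotient.factor_surjective (Ideal.pow_le_self two_ne_zero)
  have hker : IsNilpotent (RingHom.ker (g : A ⧸ (maximalIdeal A) ^ 2 →+* ResidueField A)) := by
    refine ⟨2, ?_⟩
    have key : ∀ a ∈ RingHom.ker (g : A ⧸ (maximalIdeal A) ^ 2 →+* ResidueField A),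
        ∀ b ∈ RingHom.ker (g : A ⧸ (maximalIdeal A) ^ 2 →+* ResidueField A), a * b = 0 := by
      intro a ha b hb
      obtain ⟨a, rfl⟩ := Ideal.Quotient.mk_surjective a
      obtain ⟨b, rfl⟩ := Ideal.Quotient.mk_surjective b
      rw [RingHom.mem_ker] at ha hb
      have ha' : a ∈ maximalIdeal A := Ideal.Quotient.eq_zero_iff_mem.1 ha
      have hb' : b ∈ maximalIdeal A := Ideal.Quotient.eq_zero_iff_mem.1 hb
      rw [← map_mul, Ideal.Quotient.eq_zero_iff_mem]
      exact (pow_two (maximalIdeal A)).symm ▸ Ideal.mul_mem_mul ha' hb'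
    rw [Ideal.zero_eq_bot, eq_bot_iff]
    exact (pow_two (RingHom.ker _)).trans_le
      (Ideal.mul_le.2 fun a ha b hb => (Ideal.mem_bot).2 (key a ha b hb))
  let s := Algebra.FormallySmooth.liftOfSurjective (AlgHom.id F (ResidueField A)) g hg hker
  exact ⟨s.toRingHom, fun z => Algebra.FormallySmooth.liftOfSurjective_apply _ g hg hker z⟩

section Deriv

variable {A : Type u} [CommRing A] [IsLocalRing A]
  (s : ResidueField A →+* A ⧸ (maximalIdeal A) ^ 2)
  (hs : ∀ z, Ideal.Quotient.factor (Ideal.pow_le_self two_ne_zero) (s z) = z)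

/-- a set-theoretic lift to `A` of `s (residue a)`. -/
noncomputable def tl (a : A) : A := (Ideal.Quotient.mk_surjective (s (residue A a))).choose

lemma mk_tl (a : A) : Ideal.Quotient.mk ((maximalIdeal A) ^ 2) (tl s a) = s (residue A a) :=
  (Ideal.Quotient.mk_surjective (s (residue A a))).choose_spec

include hs in
lemma sub_tl_mem (a : A) : a - tl s a ∈ maximalIdeal A := by
  have h1 : residue A (tl s a) = residue A a := by
    have := hs (residue A a)
    rw [← mk_tl s a, Ideal.Quotient.factor_mk] at this
    exact this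
  rw [← Ideal.Quotient.eq_zero_iff_mem, map_sub]
  exact sub_eq_zero.2 h1.symm

lemma mem_sq_of_mk_eq_zero {a : A} (h : Ideal.Quotient.mk ((maximalIdeal A) ^ 2) a = 0) :
    a ∈ (maximalIdeal A) ^ 2 := Ideal.Quotient.eq_zero_iff_mem.1 h

/-- the "differential" `A → 𝔪 ⧸ 𝔪²`, `a ↦ a - s(ā)`. -/
noncomputable def δ (a : A) : CotangentSpace A :=
  (maximalIdeal A).toCotangent ⟨a - tl s a, sub_tl_mem s hs a⟩

lemma δ_add (a b : A) : δ s hs (a + b) = δ s hs a + δ s hs b := by
  unfold δ
  rw [← map_add, Ideal.toCotangent_eq]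
  apply mem_sq_of_mk_eq_zero
  simp only [Submodule.coe_add, map_sub, map_add, mk_tl]
  ring

lemma δ_mul (a b : A) : δ s hs (a * b) = a • δ s hs b + b • δ s hs a := by
  unfold δ
  rw [← map_smul, ← map_smul, ← map_add, Ideal.toCotangent_eq]
  have e : ((⟨a * b - tl s (a * b), sub_tl_mem s hs (a * b)⟩ : maximalIdeal A) : A) -
      ((a • (⟨b - tl s b, sub_tl_mem s hs b⟩ : maximalIdeal A) +
        b • (⟨a - tl s a, sub_tl_mem s hs a⟩ : maximalIdeal A) : maximalIdeal A) : A) =
      -((a - tl s a) * (b - tl s b)) + (tl s a * tl s b - tl s (a * b)) := by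
    simp only [Submodule.coe_add, Submodule.coe_smul, smul_eq_mul]
    ring
  rw [e]
  refine Ideal.add_mem _ (neg_mem ?_) ?_
  · exact (pow_two (maximalIdeal A)).symm ▸
      Ideal.mul_mem_mul (sub_tl_mem s hs a) (sub_tl_mem s hs b)
  · apply mem_sq_of_mk_eq_zero
    simp only [map_sub, map_mul, mk_tl]
    ring

lemma δ_of_mem {x : A} (hx : x ∈ maximalIdeal A) :
    δ s hs x = (maximalIdeal A).toCotangent ⟨x, hx⟩ := by
  unfold δ
  rw [Ideal.toCotangent_eq]
  have : x - tl s x - x = -tl s x := by ring
  rw [this]
  refine neg_mem (mem_sq_of_mk_eq_zero ?_)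
  rw [mk_tl, (residue_eq_zero_iff x).2 hx, map_zero]

/-- the derivation `A → κ` attached to a functional on the cotangent space. -/
noncomputable def deriv (φ : CotangentSpace A →ₗ[ResidueField A] ResidueField A) :
    Derivation ℤ A (ResidueField A) :=
  Derivation.mk'
    (AddMonoidHom.toIntLinearMap
      { toFun := fun a => φ (δ s hs a)
        map_zero' := by
          have := δ_add s hs 0 0
          rw [add_zero] at this
          have h0 : δ s hs 0 = 0 := by simpa using this
          rw [h0, map_zero]
        map_add' := fun a b => by rw [δ_add, map_add] })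
    (fun a b => by
      show φ (δ s hs (a * b)) = a • φ (δ s hs b) + b • φ (δ s hs a)
      rw [δ_mul, map_add, LinearMap.map_smul_of_tower, LinearMap.map_smul_of_tower])

lemma deriv_apply (φ : CotangentSpace A →ₗ[ResidueField A] ResidueField A) (a : A) :
    deriv s hs φ a = φ (δ s hs a) := rfl

lemma deriv_of_mem (φ : CotangentSpace A →ₗ[ResidueField A] ResidueField A) {x : A}
    (hx : x ∈ maximalIdeal A) :
    deriv s hs φ x = φ ((maximalIdeal A).toCotangent ⟨x, hx⟩) := by
  rw [deriv_apply, δ_of_mem s hs hx]

end Deriv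

section Main

open TensorProduct

variable {A : Type u} [CommRing A] [IsRegularLocalRing A]

/-- generators `x_1, …, x_N` of `𝔪` with `N = dim A` give a basis of the cotangent space. -/
theorem exists_cotangent_basis {N : ℕ} (x : Fin N → A)
    (hx : Ideal.span (Set.range x) = maximalIdeal A)
    (hN : ringKrullDim A = (N : WithBot ℕ∞)) :
    ∃ (hm : ∀ i, x i ∈ maximalIdeal A)
      (B : Module.Basis (Fin N) (ResidueField A) (CotangentSpace A)),
      ∀ i, B i = (maximalIdeal A).toCotangent ⟨x i, hm i⟩ := by
  have hm : ∀ i, x i ∈ maximalIdeal A := fun i => by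
    rw [← hx]; exact Ideal.subset_span (Set.mem_range_self i)
  refine ⟨hm, ?_⟩
  have hfin : Module.finrank (ResidueField A) (CotangentSpace A) = N := by
    have h1 := (IsRegularLocalRing.iff_finrank_cotangentSpace A).1 inferInstance
    rw [hN] at h1
    exact_mod_cast h1
  let y : Fin N → maximalIdeal A := fun i => ⟨x i, hm i⟩
  have hspan : Submodule.span A (Set.range y) = ⊤ := by
    apply Submodule.map_injective_of_injective (maximalIdeal A).injective_subtype
    rw [Submodule.map_span, Submodule.map_top, Submodule.range_subtype, ← Set.range_comp]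
    exact hx
  have hspan' : Submodule.span (ResidueField A)
      (Set.range fun i => (maximalIdeal A).toCotangent (y i)) = ⊤ := by
    have := (CotangentSpace.span_image_eq_top_iff (R := A) (s := Set.range y)).2 hspan
    rwa [← Set.range_comp] at this
  refine ⟨basisOfTopLeSpanOfCardEqFinrank (fun i => (maximalIdeal A).toCotangent (y i))
    hspan'.ge (by rw [Fintype.card_fin, hfin]), fun i => ?_⟩
  rw [coe_basisOfTopLeSpanOfCardEqFinrank]

/-- the `1 ⊗ dx_i` are linearly independent in `κ ⊗ Ω_A`. -/
theorem linearIndependent_D (p : ℕ) [Fact p.Prime] [CharP A p] {N : ℕ} (x : Fin N → A)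
    (hx : Ideal.span (Set.range x) = maximalIdeal A)
    (hN : ringKrullDim A = (N : WithBot ℕ∞)) :
    LinearIndependent (ResidueField A)
      (TensorProduct.mk A (ResidueField A) (KaehlerDifferential ℤ A) 1 ∘
        fun i => KaehlerDifferential.D ℤ A (x i)) := by
  classical
  obtain ⟨s, hs⟩ := exists_section p A
  obtain ⟨hm, B, hB⟩ := exists_cotangent_basis x hx hN
  -- the functionals
  let L : Fin N → (ResidueField A ⊗[A] KaehlerDifferential ℤ A) →ₗ[ResidueField A]
      ResidueField A := fun j =>
    LinearMap.liftBaseChange (ResidueField A) (deriv s hs (B.coord j)).liftKaehlerDifferential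
  have hL : ∀ i j, L j (TensorProduct.mk A (ResidueField A) (KaehlerDifferential ℤ A) 1
      (KaehlerDifferential.D ℤ A (x i))) = if i = j then 1 else 0 := by
    intro i j
    show LinearMap.liftBaseChange (ResidueField A)
      (deriv s hs (B.coord j)).liftKaehlerDifferential ((1 : ResidueField A) ⊗ₜ[A]
        KaehlerDifferential.D ℤ A (x i)) = _
    rw [LinearMap.liftBaseChange_tmul, one_smul, Derivation.liftKaehlerDifferential_comp_D,
      deriv_of_mem s hs _ (hm i), ← hB i, Module.Basis.coord_apply, Module.Basis.repr_self,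
      Finsupp.single_apply]
  rw [Fintype.linearIndependent_iff]
  intro g hg j
  have := congrArg (L j) hg
  rw [map_sum, map_zero] at this
  simp only [Function.comp_apply, map_smul, hL, smul_eq_mul, mul_ite, mul_one, mul_zero,
    Finset.sum_ite_eq', Finset.mem_univ, if_true] at this
  exact this

/-- Nakayama: a family in a finite free module over a local ring whose image in `κ ⊗ M` is
linearly independent is part of a basis. -/
theorem exists_basis_extending {M : Type u} [AddCommGroup M] [Module A M] [Module.Free A M]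
    [Module.Finite A M] {N : ℕ} (v₀ : Fin N → M)
    (hli : LinearIndependent (ResidueField A) (TensorProduct.mk A (ResidueField A) M 1 ∘ v₀)) :
    ∃ (ι : Type u) (b : Module.Basis ι A M) (e : Fin N ↪ ι), ∀ i, b (e i) = v₀ i := by
  classical
  let V := ResidueField A ⊗[A] M
  let mk1 : M →ₗ[A] V := TensorProduct.mk A (ResidueField A) M 1
  have hsurj : Function.Surjective mk1 :=
    TensorProduct.mk_surjective A M (ResidueField A) Ideal.Quotient.mk_surjective
  have hS : LinearIndepOn (ResidueField A) id (Set.range (mk1 ∘ v₀)) := hli.linearIndepOn_id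
  let b₁ := Module.Basis.extend hS
  let ι := ↥(hS.extend (Set.subset_univ _))
  -- lifts
  let v : ι → M := fun j =>
    if h : ∃ i, mk1 (v₀ i) = j.1 then v₀ h.choose else (hsurj j.1).choose
  have hv : ∀ j : ι, mk1 (v j) = j.1 := by
    intro j
    by_cases h : ∃ i, mk1 (v₀ i) = j.1
    · simp only [v, dif_pos h]
      exact h.choose_spec
    · simp only [v, dif_neg h]
      exact (hsurj j.1).choose_spec
  have hcomp : mk1 ∘ v = ⇑b₁ := by
    funext j
    rw [Module.Basis.coe_extend]
    exact hv j
  have hli' : LinearIndependent (ResidueField A) (mk1 ∘ v) := hcomp ▸ b₁.linearIndependent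
  have hsp : Submodule.span (ResidueField A) (Set.range (mk1 ∘ v)) = ⊤ := hcomp ▸ b₁.span_eq
  have H : Function.Injective ((maximalIdeal A).subtype.rTensor M) :=
    Module.Flat.rTensor_preserves_injective_linearMap _ Subtype.val_injective
  haveI : Module.FinitePresentation A M := Module.finitePresentation_of_projective A M
  obtain ⟨b, hb⟩ := Module.exists_basis_of_basis_baseChange v hli' hsp H
  have hmem : ∀ i, mk1 (v₀ i) ∈ hS.extend (Set.subset_univ _) := fun i =>
    hS.subset_extend _ (Set.mem_range_self i)
  refine ⟨ι, b, ⟨fun i => ⟨mk1 (v₀ i), hmem i⟩, fun i i' h => ?_⟩, fun i => ?_⟩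
  · exact hli.injective (congrArg Subtype.val h)
  · rw [hb]
    have h : ∃ i', mk1 (v₀ i') = mk1 (v₀ i) := ⟨i, rfl⟩
    show (if h : ∃ i', mk1 (v₀ i') = mk1 (v₀ i) then v₀ h.choose else _) = _
    rw [dif_pos h]
    exact congrArg v₀ (hli.injective h.choose_spec)

/-- S19270. -/
theorem main (p : ℕ) [Fact p.Prime] [CharP A p]
    [Module.Free A (KaehlerDifferential ℤ A)] [Module.Finite A (KaehlerDifferential ℤ A)]
    {N : ℕ} (x : Fin N → A) (hx : Ideal.span (Set.range x) = maximalIdeal A)
    (hN : ringKrullDim A = (N : WithBot ℕ∞)) :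
    ∃ (ι : Type u) (b : Module.Basis ι A (KaehlerDifferential ℤ A)) (e : Fin N ↪ ι),
      ∀ i : Fin N, b (e i) = KaehlerDifferential.D ℤ A (x i) :=
  exists_basis_extending (fun i => KaehlerDifferential.D ℤ A (x i))
    (linearIndependent_D p x hx hN)

end Main

end Groth.Agent.H96.KaehlerReg
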