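import Mathlib
import Groth.Agent.H96.KaehlerReg
import Groth.Agent.H47.FSField

/-!
# Coefficient fields of local rings with nilpotent maximal ideal (helper library for S7150)
-/

set_option autoImplicit false
set_option linter.style.haveILetI false
universe u

namespace Groth.Agent.H96.CoeffNil

open IsLocalRing

/-- The kernel of the residue map is nilpotent when a power of the maximal ideal vanishes. -/
theorem isNilpotent_ker_residue (A : Type u) [CommRing A] [IsLocalRing A]
    (hnil : ∃ n : ℕ, maximalIdeal A ^ n = ⊥) :
    IsNilpotent (RingHom.ker (residue A)) := by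
  obtain ⟨n, hn⟩ := hnil
  refine ⟨n, ?_⟩
  rw [IsLocalRing.ker_residue, hn, Ideal.zero_eq_bot]

/-- Existence of a coefficient field in characteristic `p`, nilpotent maximal ideal. -/
theorem exists_section (p : ℕ) [Fact p.Prime] (A : Type u) [CommRing A] [IsLocalRing A]
    [CharP A p] (hnil : ∃ n : ℕ, maximalIdeal A ^ n = ⊥) :
    ∃ σ : ResidueField A →+* A, (residue A).comp σ = RingHom.id _ := by
  let F := ULift.{u} (ZMod p)
  let e : F ≃+* ZMod p := ULift.ringEquiv
  letI : Algebra F A := ((ZMod.castHom (dvd_refl p) A).comp e.toRingHom).toAlgebra
  haveI : CharP (ResidueField A) p := by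
    haveI : Nontrivial (ResidueField A) := inferInstance
    exact (CharP.charP_iff_prime_eq_zero (R := ResidueField A) Fact.out).2 (by
      have h0 : ((p : ℕ) : A) = 0 := CharP.cast_eq_zero A p
      have := congrArg (IsLocalRing.residue A) h0
      rw [map_natCast, map_zero] at this
      exact this)
  haveI := Groth.Agent.H96.KaehlerReg.formallySmooth_primeField p (ResidueField A)
  let g : A →ₐ[F] ResidueField A := IsScalarTower.toAlgHom F A (ResidueField A)
  have hg : Function.Surjective g := residue_surjective
  have hker : IsNilpotent (RingHom.ker (g : A →+* ResidueField A)) :=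
    isNilpotent_ker_residue A hnil
  let s := Algebra.FormallySmooth.liftOfSurjective (AlgHom.id F (ResidueField A)) g hg hker
  refine ⟨s.toRingHom, ?_⟩
  ext z
  exact Algebra.FormallySmooth.liftOfSurjective_apply _ g hg hker z

/-- Compatible coefficient fields along a local homomorphism with separable residue extension. -/
theorem exists_section_compat (A : Type u) [CommRing A] [IsLocalRing A]
    (A' : Type u) [CommRing A'] [IsLocalRing A'] [Algebra A A'] [IsLocalHom (algebraMap A A')]
    (hnil : ∃ n : ℕ, maximalIdeal A' ^ n = ⊥)
    [Algebra.IsGeometricallyReduced (ResidueField A) (ResidueField A')]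
    (σ : ResidueField A →+* A) (hσ : (residue A).comp σ = RingHom.id _) :
    ∃ σ' : ResidueField A' →+* A', (residue A').comp σ' = RingHom.id _ ∧
      σ'.comp (ResidueField.map (algebraMap A A')) = (algebraMap A A').comp σ := by
  letI : Algebra (ResidueField A) A' := ((algebraMap A A').comp σ).toAlgebra
  haveI : Algebra.FormallySmooth (ResidueField A) (ResidueField A') :=
    Groth.Agent.H47.formallySmooth_of_isGeometricallyReduced_field
  let g : A' →ₐ[ResidueField A] ResidueField A' :=
    { toRingHom := residue A'
      commutes' := fun x => by
        show residue A' (algebraMap A A' (σ x)) = algebraMap (ResidueField A) (ResidueField A') x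
        have h1 : residue A (σ x) = x := RingHom.congr_fun hσ x
        conv_rhs => rw [← h1]
        rfl }
  have hg : Function.Surjective g := residue_surjective
  have hker : IsNilpotent (RingHom.ker (g : A' →+* ResidueField A')) :=
    isNilpotent_ker_residue A' hnil
  let s := Algebra.FormallySmooth.liftOfSurjective (AlgHom.id (ResidueField A) (ResidueField A'))
    g hg hker
  refine ⟨s.toRingHom, ?_, ?_⟩
  · ext z
    exact Algebra.FormallySmooth.liftOfSurjective_apply _ g hg hker z
  · ext x
    exact s.commutes x

end Groth.Agent.H96.CoeffNil
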