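import Mathlib
import Groth.Agent.H96.KaehlerReg
import Groth.Agent.H20.CoeffField

/-!
# Uniqueness of coefficient fields (helper library for S2483)
-/

set_option autoImplicit false
set_option linter.style.haveILetI false
universe u

namespace Groth.Agent.H96.CoeffUnique

open IsLocalRing

/-- `I`-adically complete implies `I ^ n`-adically complete for `0 < n`. -/
theorem isAdicComplete_pow {R : Type*} [CommRing R] (I : Ideal R) [IsAdicComplete I R] {n : ℕ}
    (hn : 0 < n) : IsAdicComplete (I ^ n) R := by
  let _ : WithIdeal R := ⟨I⟩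
  have hI : IsAdic I := rfl
  rw [(is_ideal_adic_pow hI hn).isAdicComplete_iff]
  exact (hI.isAdicComplete_iff).1 inferInstance

section Lift

variable {C : Type u} [CommRing C] [IsLocalRing C] [IsAdicComplete (maximalIdeal C) C]

/-- Lifting ring homomorphisms `K → C ⧸ 𝔪²` to `K → C` for a complete local ring containing a
field mapping onto its residue field. -/
theorem exists_lift (u : ResidueField C →+* C)
    (w : ResidueField C →+* C ⧸ (maximalIdeal C) ^ 2) :
    ∃ v : ResidueField C →+* C, ∀ x, Ideal.Quotient.mk ((maximalIdeal C) ^ 2) (v x) = w x := by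
  haveI : IsAdicComplete ((maximalIdeal C) ^ 2) C := isAdicComplete_pow _ two_pos
  obtain h0 | ⟨p, hp, hpk⟩ := CharP.exists' (ResidueField C)
  · -- characteristic zero
    letI : Algebra ℚ C := (u.comp (algebraMap ℚ (ResidueField C))).toAlgebra
    haveI := Groth.Agent.H20.formallySmooth_rat (ResidueField C)
    let f : ResidueField C →ₐ[ℚ] C ⧸ (maximalIdeal C) ^ 2 :=
      { toRingHom := w
        commutes' := fun r => by
          exact RingHom.congr_fun (RingHom.ext_rat (w.comp (algebraMap ℚ (ResidueField C)))
            (algebraMap ℚ (C ⧸ (maximalIdeal C) ^ 2))) r }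
    obtain ⟨g, hg⟩ := Algebra.FormallySmooth.exists_mkₐ_comp_eq_of_isAdicComplete f
    exact ⟨g.toRingHom, fun x => congrArg (fun h => h x) hg⟩
  · haveI := hp
    let F := ULift.{u} (ZMod p)
    let e : F ≃+* ZMod p := ULift.ringEquiv
    letI : Algebra F (ResidueField C) :=
      ((ZMod.castHom (dvd_refl p) (ResidueField C)).comp e.toRingHom).toAlgebra
    letI : Algebra F C := (u.comp (algebraMap F (ResidueField C))).toAlgebra
    haveI := Groth.Agent.H96.KaehlerReg.formallySmooth_primeField p (ResidueField C)
    let f : ResidueField C →ₐ[F] C ⧸ (maximalIdeal C) ^ 2 :=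
      { toRingHom := w
        commutes' := fun r => by
          have h1 : (w.comp (algebraMap F (ResidueField C))).comp e.symm.toRingHom =
              (algebraMap F (C ⧸ (maximalIdeal C) ^ 2)).comp e.symm.toRingHom := by
            exact Subsingleton.elim _ _
          have := RingHom.congr_fun h1 (e r)
          simp only [RingHom.comp_apply, RingEquiv.toRingHom_eq_coe, RingHom.coe_coe,
            RingEquiv.symm_apply_apply] at this
          exact this }
    obtain ⟨g, hg⟩ := Algebra.FormallySmooth.exists_mkₐ_comp_eq_of_isAdicComplete f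
    exact ⟨g.toRingHom, fun x => congrArg (fun h => h x) hg⟩

end Lift

section Unique

variable {C : Type u} [CommRing C] [IsLocalRing C]

/-- The `ℤ`-algebra structure on the residue field found by instance search is not syntactically
the canonical one; this provides the scalar tower instances needed for derivations. -/
theorem isScalarTower_int (M : Type*) [AddCommGroup M] [Module (ResidueField C) M] :
    @IsScalarTower ℤ (ResidueField C) M Algebra.toSMul inferInstance inferInstance :=
  @IsScalarTower.mk ℤ (ResidueField C) M Algebra.toSMul inferInstance inferInstance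
    (fun z x m => by
      rw [Algebra.smul_def, eq_intCast, mul_smul, Int.cast_smul_eq_zsmul])

/-- If `Ω_{K/ℤ} = 0` two sections of the residue map agree modulo every power of `𝔪`. -/
theorem sub_mem_pow (u v : ResidueField C →+* C) (hu : ∀ x, residue C (u x) = x)
    (hv : ∀ x, residue C (v x) = x) [Subsingleton (Ω[ResidueField C⁄ℤ])] (n : ℕ) :
    ∀ x, v x - u x ∈ (maximalIdeal C) ^ n := by
  have h1 : ∀ x, v x - u x ∈ maximalIdeal C := fun x => by
    rw [← residue_eq_zero_iff, map_sub, hu, hv, sub_self]
  induction n with
  | zero => intro x; simp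
  | succ n ih =>
    rcases Nat.eq_zero_or_pos n with rfl | hn
    · simpa using h1
    · let Cn := C ⧸ (maximalIdeal C) ^ (n + 1)
      let mk' : C →+* Cn := Ideal.Quotient.mk _
      letI : Algebra (ResidueField C) Cn := (mk'.comp u).toAlgebra
      have hsm : ∀ (x : ResidueField C) (c : Cn), x • c = mk' (u x) * c := fun x c => by
        rw [Algebra.smul_def]; rfl
      haveI := isScalarTower_int (C := C) Cn
      have hprod : ∀ x y, mk' ((v x - u x) * (v y - u y)) = 0 := fun x y => by
        rw [Ideal.Quotient.eq_zero_iff_mem]
        have := Ideal.mul_mem_mul (ih x) (ih y)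
        rw [← pow_add] at this
        exact Ideal.pow_le_pow_right (by omega) this
      let D : Derivation ℤ (ResidueField C) Cn :=
        Derivation.mk'
          (AddMonoidHom.toIntLinearMap
            { toFun := fun x => mk' (v x) - mk' (u x)
              map_zero' := by simp
              map_add' := fun x y => by simp only [map_add]; ring })
          (fun x y => by
            show mk' (v (x * y)) - mk' (u (x * y)) =
              x • (mk' (v y) - mk' (u y)) + y • (mk' (v x) - mk' (u x))
            rw [hsm, hsm]
            have := hprod x y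
            simp only [map_mul, map_sub] at this ⊢
            linear_combination this)
      intro x
      have hD : D x = 0 := by
        rw [← Derivation.liftKaehlerDifferential_comp_D D x,
          Subsingleton.elim (KaehlerDifferential.D ℤ (ResidueField C) x) 0, map_zero]
      have hD' : mk' (v x) - mk' (u x) = 0 := hD
      rw [← map_sub, Ideal.Quotient.eq_zero_iff_mem] at hD'
      exact hD'

/-- `Ω_{K/ℤ} = 0` implies uniqueness of the coefficient field. -/
theorem section_unique [IsHausdorff (maximalIdeal C) C] (u v : ResidueField C →+* C)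
    (hu : ∀ x, residue C (u x) = x) (hv : ∀ x, residue C (v x) = x)
    [Subsingleton (Ω[ResidueField C⁄ℤ])] : v = u := by
  ext x
  rw [← sub_eq_zero]
  apply IsHausdorff.haus (I := maximalIdeal C) inferInstance
  intro n
  rw [SModEq.zero, smul_eq_mul, Ideal.mul_top]
  exact sub_mem_pow u v hu hv n x

end Unique

section Other

variable {C : Type u} [CommRing C] [IsLocalRing C] [IsAdicComplete (maximalIdeal C) C]

/-- If `Ω_{K/ℤ} ≠ 0` and `𝔪 ≠ 0` there is a second coefficient field. -/
theorem exists_other_section [IsNoetherianRing C] (hm : maximalIdeal C ≠ ⊥)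
    (u : ResidueField C →+* C) (hu : ∀ x, residue C (u x) = x)
    (hΩ : ¬ Subsingleton (Ω[ResidueField C⁄ℤ])) :
    ∃ v : ResidueField C →+* C, (∀ x, residue C (v x) = x) ∧ v ≠ u := by
  classical
  -- an element of `𝔪 \ 𝔪²`
  obtain ⟨t, htm, htm2⟩ : ∃ t ∈ maximalIdeal C, t ∉ (maximalIdeal C) ^ 2 := by
    by_contra hcon
    push Not at hcon
    apply hm
    refine Submodule.eq_bot_of_le_smul_of_le_jacobson_bot (maximalIdeal C) (maximalIdeal C)
      (IsNoetherian.noetherian _) ?_ (IsLocalRing.maximalIdeal_le_jacobson _)
    intro t ht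
    have := hcon t ht
    rwa [pow_two] at this
  -- a nonzero derivation
  rw [not_subsingleton_iff_nontrivial] at hΩ
  obtain ⟨ω, hω⟩ := exists_ne (0 : Ω[ResidueField C⁄ℤ])
  obtain ⟨f, hf⟩ : ∃ f : Module.Dual (ResidueField C) (Ω[ResidueField C⁄ℤ]), f ω ≠ 0 := by
    by_contra hcon
    push Not at hcon
    exact hω ((Module.forall_dual_apply_eq_zero_iff (ResidueField C) ω).1 hcon)
  haveI := isScalarTower_int (C := C) (ResidueField C)
  let D : Derivation ℤ (ResidueField C) (ResidueField C) :=
    f.compDer (KaehlerDifferential.D ℤ (ResidueField C))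
  obtain ⟨x₀, hx₀⟩ : ∃ x₀, D x₀ ≠ 0 := by
    by_contra hcon
    push Not at hcon
    apply hf
    have : f = 0 := by
      apply Derivation.liftKaehlerDifferential_unique
      ext x
      show f (KaehlerDifferential.D ℤ (ResidueField C) x) =
        (0 : Module.Dual (ResidueField C) (Ω[ResidueField C⁄ℤ]))
          (KaehlerDifferential.D ℤ (ResidueField C) x)
      rw [LinearMap.zero_apply]
      exact hcon x
    rw [this, LinearMap.zero_apply]
  -- the homomorphism into `C ⧸ 𝔪²`
  let mk2 : C →+* C ⧸ (maximalIdeal C) ^ 2 := Ideal.Quotient.mk _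
  have htt : mk2 (t * t) = 0 := by
    rw [Ideal.Quotient.eq_zero_iff_mem, pow_two]
    exact Ideal.mul_mem_mul htm htm
  let w : ResidueField C →+* C ⧸ (maximalIdeal C) ^ 2 :=
    { toFun := fun x => mk2 (u x + u (D x) * t)
      map_one' := by simp
      map_zero' := by simp
      map_add' := fun x y => by simp only [map_add, map_mul]; ring
      map_mul' := fun x y => by
        rw [Derivation.leibniz, smul_eq_mul, smul_eq_mul]
        simp only [map_mul, map_add] at htt ⊢
        linear_combination (- mk2 (u (D x)) * mk2 (u (D y))) * htt }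
  obtain ⟨v, hv⟩ := exists_lift u w
  have hvm : ∀ x, v x - (u x + u (D x) * t) ∈ (maximalIdeal C) ^ 2 := fun x => by
    rw [← Ideal.Quotient.eq_zero_iff_mem, map_sub, sub_eq_zero]
    exact hv x
  refine ⟨v, fun x => ?_, fun hvu => ?_⟩
  · have h1 : v x - (u x + u (D x) * t) ∈ maximalIdeal C :=
      Ideal.pow_le_self two_ne_zero (hvm x)
    rw [← residue_eq_zero_iff, map_sub, sub_eq_zero] at h1
    rw [h1, map_add, map_mul, hu, (residue_eq_zero_iff t).2 htm, mul_zero, add_zero]
  · have h1 := hvm x₀
    rw [hvu] at h1
    have h2 : u (D x₀) * t ∈ (maximalIdeal C) ^ 2 := by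
      have : u x₀ - (u x₀ + u (D x₀) * t) = -(u (D x₀) * t) := by ring
      rw [this] at h1
      exact neg_mem_iff.1 h1
    have hunit : IsUnit (u (D x₀)) := by
      by_contra hnu
      have := (residue_eq_zero_iff _).2 ((mem_maximalIdeal _).2 hnu)
      rw [hu] at this
      exact hx₀ this
    exact htm2 ((Ideal.unit_mul_mem_iff_mem _ hunit).1 h2)

end Other

end Groth.Agent.H96.CoeffUnique
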