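import Mathlib
import Groth.Agent.H20.ComplMap
import Groth.Agent.H44.AdicLemmas

/-!
# Lifting finite maps modulo `I` to adic completions of formally smooth algebras

For a ring `V`, a finitely generated ideal `I`, `V`-algebras `A` (formally smooth) and `C`:
a `V`-algebra map `A/IA → C/IC` which is finite lifts to a finite `V`-algebra map between the
`I`-adic completions (`exists_lift_finite`). Pieces: `exists_extension(_algHom)` (extend
`A → Ĉ` to `Â → Ĉ`), `comm_of_extension`, `finite_of_extension` (complete Nakayama).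
-/

set_option autoImplicit false
set_option linter.style.haveILetI false
set_option linter.unusedSectionVars false
set_option linter.unusedVariables false
universe u

namespace Groth.Agent.H96.ComplLift

open AdicCompletion

variable {V : Type u} [CommRing V] (I : Ideal V)
  (A C : Type u) [CommRing A] [Algebra V A] [CommRing C] [Algebra V C]

theorem map_map_eq :
    (I.map (algebraMap V A)).map (algebraMap A (AdicCompletion (I.map (algebraMap V A)) A)) =
      I.map (algebraMap V (AdicCompletion (I.map (algebraMap V A)) A)) := by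
  rw [Ideal.map_map, ← IsScalarTower.algebraMap_eq]

theorem exists_extension (hI : I.FG)
    (g : A →ₐ[V] AdicCompletion (I.map (algebraMap V C)) C) :
    ∃ φ : AdicCompletion (I.map (algebraMap V A)) A →+*
        AdicCompletion (I.map (algebraMap V C)) C,
      ∀ a : A, φ (of (I.map (algebraMap V A)) A a) = g a := by
  have hJCfg : (I.map (algebraMap V C)).FG := hI.map _
  haveI hcomplC : IsAdicComplete ((I.map (algebraMap V C)).map
      (algebraMap C (AdicCompletion (I.map (algebraMap V C)) C)))
      (AdicCompletion (I.map (algebraMap V C)) C) :=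
    AdicCompletion.isAdicComplete_self _ hJCfg
  have hmap : (I.map (algebraMap V A)).map (g : A →+* AdicCompletion (I.map (algebraMap V C)) C) ≤
      (I.map (algebraMap V C)).map
        (algebraMap C (AdicCompletion (I.map (algebraMap V C)) C)) := by
    rw [map_map_eq, Ideal.map_map, AlgHom.comp_algebraMap]
  obtain ⟨ψ, hψ⟩ : ∃ ψ : AdicCompletion (I.map (algebraMap V A)) A →+*
      AdicCompletion ((I.map (algebraMap V C)).map
        (algebraMap C (AdicCompletion (I.map (algebraMap V C)) C)))
        (AdicCompletion (I.map (algebraMap V C)) C),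
      ∀ a : A, ψ (of (I.map (algebraMap V A)) A a) = of ((I.map (algebraMap V C)).map
        (algebraMap C (AdicCompletion (I.map (algebraMap V C)) C)))
        (AdicCompletion (I.map (algebraMap V C)) C) (g a) :=
    ⟨FSch.complMap (I.map (algebraMap V A)) ((I.map (algebraMap V C)).map
        (algebraMap C (AdicCompletion (I.map (algebraMap V C)) C)))
        (g : A →+* AdicCompletion (I.map (algebraMap V C)) C) hmap,
      fun a => Groth.Agent.H20.complMap_of (I.map (algebraMap V A)) ((I.map (algebraMap V C)).map
        (algebraMap C (AdicCompletion (I.map (algebraMap V C)) C)))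
        (g : A →+* AdicCompletion (I.map (algebraMap V C)) C) hmap a⟩
  obtain ⟨e, he⟩ : ∃ e : AdicCompletion ((I.map (algebraMap V C)).map
        (algebraMap C (AdicCompletion (I.map (algebraMap V C)) C)))
        (AdicCompletion (I.map (algebraMap V C)) C) →+* AdicCompletion (I.map (algebraMap V C)) C,
      ∀ x, e (of ((I.map (algebraMap V C)).map
        (algebraMap C (AdicCompletion (I.map (algebraMap V C)) C)))
        (AdicCompletion (I.map (algebraMap V C)) C) x) = x :=
    ⟨((AdicCompletion.ofAlgEquiv ((I.map (algebraMap V C)).map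
      (algebraMap C (AdicCompletion (I.map (algebraMap V C)) C)))).symm : _ →+* _),
      fun x => AdicCompletion.ofAlgEquiv_symm_of _ x⟩
  refine ⟨e.comp ψ, fun a => ?_⟩
  rw [RingHom.comp_apply, hψ, he]

theorem exists_extension_algHom (hI : I.FG)
    (g : A →ₐ[V] AdicCompletion (I.map (algebraMap V C)) C) :
    ∃ φ : AdicCompletion (I.map (algebraMap V A)) A →ₐ[V]
        AdicCompletion (I.map (algebraMap V C)) C,
      ∀ a : A, φ (of (I.map (algebraMap V A)) A a) = g a := by
  obtain ⟨φr, hφ⟩ := exists_extension I A C hI g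
  refine ⟨{ φr with commutes' := fun v => ?_ }, hφ⟩
  show φr (algebraMap V _ v) = algebraMap V _ v
  rw [AdicCompletion.algebraMap_apply, hφ, AlgHom.commutes]

/-- A `V`-algebra map kills `I·B` once the target is killed by `I`. -/
theorem map_le_ker {B D : Type u} [CommRing B] [Algebra V B] [CommRing D] [Algebra V D]
    (h : B →ₐ[V] D) (hD : ∀ i ∈ I, algebraMap V D i = 0) :
    I.map (algebraMap V B) ≤ RingHom.ker (h : B →+* D) := by
  rw [Ideal.map_le_iff_le_comap]
  intro i hi
  rw [Ideal.mem_comap, RingHom.mem_ker, RingHom.coe_coe, AlgHom.commutes]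
  exact hD i hi

theorem algebraMap_quot_eq_zero (i : V) (hi : i ∈ I) :
    algebraMap V (C ⧸ I.map (algebraMap V C)) i = 0 := by
  rw [IsScalarTower.algebraMap_apply V C (C ⧸ I.map (algebraMap V C)),
    Ideal.Quotient.algebraMap_eq, Ideal.Quotient.eq_zero_iff_mem]
  exact Ideal.mem_map_of_mem _ hi

/-- compatibility of an extension with the reductions. -/
theorem comm_of_extension (hI : I.FG)
    (φ₀ : (A ⧸ I.map (algebraMap V A)) →ₐ[V] (C ⧸ I.map (algebraMap V C)))
    (φ : AdicCompletion (I.map (algebraMap V A)) A →ₐ[V]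
        AdicCompletion (I.map (algebraMap V C)) C)
    (hφ : ∀ a : A, evalOneₐ (I.map (algebraMap V C)) (φ (of (I.map (algebraMap V A)) A a)) =
      φ₀ (Ideal.Quotient.mk _ a))
    (x : AdicCompletion (I.map (algebraMap V A)) A) :
    evalOneₐ (I.map (algebraMap V C)) (φ x) = φ₀ (evalOneₐ (I.map (algebraMap V A)) x) := by
  have hJAfg : (I.map (algebraMap V A)).FG := hI.map _
  obtain ⟨a, ha⟩ := Ideal.Quotient.mk_surjective (evalOneₐ (I.map (algebraMap V A)) x)
  have hk : x - of (I.map (algebraMap V A)) A a ∈
      I.map (algebraMap V (AdicCompletion (I.map (algebraMap V A)) A)) := by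
    rw [← map_map_eq, ← AdicCompletion.ker_evalOneₐ_eq_map _ hJAfg, RingHom.mem_ker]
    show evalOneₐ (I.map (algebraMap V A)) (x - of (I.map (algebraMap V A)) A a) = 0
    rw [map_sub, evalOneₐ_of, ha, sub_self]
  have h1 := map_le_ker I
    (((evalOneₐ (I.map (algebraMap V C))).restrictScalars V).comp φ)
    (algebraMap_quot_eq_zero I C) hk
  rw [RingHom.mem_ker] at h1
  have h2 : evalOneₐ (I.map (algebraMap V C)) (φ (x - of (I.map (algebraMap V A)) A a)) = 0 := h1
  rw [map_sub, map_sub, sub_eq_zero] at h2
  rw [h2, hφ, ha]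

theorem finite_of_extension (hI : I.FG)
    (φ₀ : (A ⧸ I.map (algebraMap V A)) →ₐ[V] (C ⧸ I.map (algebraMap V C)))
    (hφ₀ : φ₀.toRingHom.Finite)
    (φ : AdicCompletion (I.map (algebraMap V A)) A →ₐ[V]
        AdicCompletion (I.map (algebraMap V C)) C)
    (hcomm : ∀ x, evalOneₐ (I.map (algebraMap V C)) (φ x) =
      φ₀ (evalOneₐ (I.map (algebraMap V A)) x)) : φ.toRingHom.Finite := by
  have hJAfg : (I.map (algebraMap V A)).FG := hI.map _
  have hJCfg : (I.map (algebraMap V C)).FG := hI.map _
  haveI hcomplA : IsAdicComplete ((I.map (algebraMap V A)).map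
      (algebraMap A (AdicCompletion (I.map (algebraMap V A)) A)))
      (AdicCompletion (I.map (algebraMap V A)) A) :=
    AdicCompletion.isAdicComplete_self _ hJAfg
  haveI hcomplC : IsAdicComplete ((I.map (algebraMap V C)).map
      (algebraMap C (AdicCompletion (I.map (algebraMap V C)) C)))
      (AdicCompletion (I.map (algebraMap V C)) C) :=
    AdicCompletion.isAdicComplete_self _ hJCfg
  letI alg : Algebra (AdicCompletion (I.map (algebraMap V A)) A)
      (AdicCompletion (I.map (algebraMap V C)) C) := φ.toRingHom.toAlgebra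
  show Module.Finite (AdicCompletion (I.map (algebraMap V A)) A)
      (AdicCompletion (I.map (algebraMap V C)) C)
  have halg : (algebraMap (AdicCompletion (I.map (algebraMap V A)) A)
      (AdicCompletion (I.map (algebraMap V C)) C)) = (φ : _ →+* _) := rfl
  -- `K_A^n • ⊤ = K_C^n`
  have hpow : ∀ n : ℕ, (((I.map (algebraMap V A)).map
      (algebraMap A (AdicCompletion (I.map (algebraMap V A)) A))) ^ n).map
      (algebraMap (AdicCompletion (I.map (algebraMap V A)) A)
        (AdicCompletion (I.map (algebraMap V C)) C)) =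
      ((I.map (algebraMap V C)).map
        (algebraMap C (AdicCompletion (I.map (algebraMap V C)) C))) ^ n := by
    intro n
    rw [Ideal.map_pow, map_map_eq, map_map_eq, Ideal.map_map, halg, AlgHom.comp_algebraMap]
  haveI : IsHausdorff ((I.map (algebraMap V A)).map
      (algebraMap A (AdicCompletion (I.map (algebraMap V A)) A)))
      (AdicCompletion (I.map (algebraMap V C)) C) := by
    refine ⟨fun x hx => ?_⟩
    apply IsHausdorff.haus hcomplC.toIsHausdorff x
    intro n
    have h2 := hx n
    rw [SModEq.zero] at h2 ⊢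
    rw [Ideal.smul_top_eq_map, Submodule.restrictScalars_mem, hpow] at h2
    simpa using h2
  letI alg0 : Algebra (A ⧸ I.map (algebraMap V A)) (C ⧸ I.map (algebraMap V C)) :=
    φ₀.toRingHom.toAlgebra
  haveI : Module.Finite (A ⧸ I.map (algebraMap V A)) (C ⧸ I.map (algebraMap V C)) := hφ₀
  obtain ⟨n, s, hs⟩ := Module.Finite.exists_fin (R := A ⧸ I.map (algebraMap V A))
    (M := C ⧸ I.map (algebraMap V C))
  choose y hy using fun i => evalOneₐ_surjective (I.map (algebraMap V C)) (s i)
  apply Groth.Agent.H44.finite_of_exists_approx ((I.map (algebraMap V A)).map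
      (algebraMap A (AdicCompletion (I.map (algebraMap V A)) A)))
      (AdicCompletion (I.map (algebraMap V C)) C) y
  intro z
  have hz : evalOneₐ (I.map (algebraMap V C)) z ∈
      Submodule.span (A ⧸ I.map (algebraMap V A)) (Set.range s) := by rw [hs]; trivial
  obtain ⟨c, hc⟩ := (Submodule.mem_span_range_iff_exists_fun _).mp hz
  choose a ha using fun i => evalOneₐ_surjective (I.map (algebraMap V A)) (c i)
  refine ⟨a, ?_⟩
  have hker : z - ∑ i, a i • y i ∈ RingHom.ker (evalOneₐ (I.map (algebraMap V C))).toRingHom := by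
    rw [RingHom.mem_ker]
    show evalOneₐ (I.map (algebraMap V C)) (z - ∑ i, a i • y i) = 0
    rw [map_sub, map_sum, ← hc, sub_eq_zero]
    refine Finset.sum_congr rfl fun i _ => ?_
    rw [Algebra.smul_def, Algebra.smul_def, map_mul, hy]
    show φ₀ (c i) * s i = evalOneₐ (I.map (algebraMap V C)) (φ (a i)) * s i
    rw [hcomm, ha]
  rw [AdicCompletion.ker_evalOneₐ_eq_map _ hJCfg] at hker
  rw [Ideal.smul_top_eq_map, Submodule.restrictScalars_mem]
  have := hpow 1
  rw [pow_one, pow_one] at this
  rw [this]
  exact hker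

/-- Lifting a finite map modulo `I` to a finite map of `I`-adic completions, for a formally
smooth source. -/
theorem exists_lift_finite (hI : I.FG) [Algebra.FormallySmooth V A]
    (φ₀ : (A ⧸ I.map (algebraMap V A)) →ₐ[V] (C ⧸ I.map (algebraMap V C)))
    (hφ₀ : φ₀.toRingHom.Finite) :
    ∃ φ : AdicCompletion (I.map (algebraMap V A)) A →ₐ[V]
        AdicCompletion (I.map (algebraMap V C)) C,
      φ.toRingHom.Finite ∧
      (AdicCompletion.evalOneₐ (I.map (algebraMap V C))).toRingHom.comp φ.toRingHom =
        φ₀.toRingHom.comp (AdicCompletion.evalOneₐ (I.map (algebraMap V A))).toRingHom := by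
  obtain ⟨g, hg⟩ := Algebra.FormallySmooth.exists_adicCompletionEvalOneₐ_comp_eq
    (I := I.map (algebraMap V C)) (φ₀.comp (Ideal.Quotient.mkₐ V (I.map (algebraMap V A))))
  obtain ⟨φ, hφ⟩ := exists_extension_algHom I A C hI g
  have hcomm := comm_of_extension I A C hI φ₀ φ (fun a => by
    rw [hφ]
    exact congrArg (fun h => h a) hg)
  refine ⟨φ, finite_of_extension I A C hI φ₀ hφ₀ φ hcomm, ?_⟩
  ext x
  exact hcomm x

end Groth.Agent.H96.ComplLift
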