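import Mathlib
import Groth.Agent.H47.FSField
import Groth.Agent.H47.PSStruct
import Groth.Agent.H61.CompleteLocalK
import Groth.Agent.H63.ComplNoeth

/-!
# The completion of a Noetherian local `k`-algebra with separable residue field is a quotient
of a power series ring over the residue field
-/

set_option autoImplicit false
set_option linter.style.haveILetI false
universe u

namespace Groth.Agent.H96.ComplPS

open IsLocalRing

variable (k A : Type u) [Field k] [CommRing A] [Algebra k A]
    [IsNoetherianRing A] [IsLocalRing A] [Algebra.IsGeometricallyReduced k (ResidueField A)]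

theorem main :
    ∃ (n : ℕ) (I : Ideal (MvPowerSeries (Fin n) (ResidueField A)))
      (e : (MvPowerSeries (Fin n) (ResidueField A) ⧸ I) ≃ₐ[k]
        AdicCompletion (maximalIdeal A) A),
      ∀ a : A, e (Ideal.Quotient.mk I (MvPowerSeries.C (residue A a))) -
          algebraMap A (AdicCompletion (maximalIdeal A) A) a ∈
        (maximalIdeal A).map (algebraMap A (AdicCompletion (maximalIdeal A) A)) := by
  classical
  let κ := ResidueField A
  let B := AdicCompletion (maximalIdeal A) A
  haveI : IsNoetherianRing B := Groth.Agent.H63.isNoetherianRing_adicCompletion (maximalIdeal A)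
  haveI : Algebra.FormallySmooth k κ :=
    Groth.Agent.H47.formallySmooth_of_isGeometricallyReduced_field
  -- the map on residue fields, as a `k`-algebra map
  let ι : κ →+* ResidueField B := ResidueField.map (algebraMap A B)
  have hι : Function.Bijective ι := AdicCompletion.residueField_map_bijective A
  let f : κ →ₐ[k] B ⧸ maximalIdeal B :=
    { toRingHom := ι
      commutes' := fun r => by
        show ι (residue A (algebraMap k A r)) = residue B (algebraMap k B r)
        rw [IsScalarTower.algebraMap_apply k A B]
        exact ResidueField.map_residue _ _ }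
  obtain ⟨g, hg⟩ := Algebra.FormallySmooth.exists_mkₐ_comp_eq_of_isAdicComplete f
  have hgres : ∀ x : κ, residue B (g x) = ι x := fun x => congrArg (fun h => h x) hg
  letI : Algebra κ B := g.toRingHom.toAlgebra
  have halg : ∀ x : κ, algebraMap κ B x = g x := fun x => rfl
  haveI : IsScalarTower k κ B := IsScalarTower.of_algebraMap_eq (fun c => by
    rw [halg]; exact (g.commutes c).symm)
  -- generators of the maximal ideal
  obtain ⟨s, hs⟩ := (maximalIdeal A).fg_of_isNoetherianRing
  let n := s.card
  let t : Fin n → A := fun i => (s.equivFin.symm i : A)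
  have ht : Ideal.span (Set.range t) = maximalIdeal A := by
    rw [← hs]
    congr 1
    ext x
    constructor
    · rintro ⟨i, rfl⟩
      exact (s.equivFin.symm i).2
    · intro hx
      exact ⟨s.equivFin ⟨x, hx⟩, by simp [t]⟩
  let b : Fin n → B := fun i => algebraMap A B (t i)
  have hmB : maximalIdeal B = Ideal.span (Set.range b) := by
    have h0 := congrArg (Ideal.map (algebraMap A B)) ht.symm
    rw [Ideal.map_span, ← Set.range_comp] at h0
    exact (AdicCompletion.maximalIdeal_eq_map (R := A)).trans h0
  have hb : ∀ i, b i ∈ maximalIdeal B := fun i => by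
    rw [hmB]; exact Ideal.subset_span ⟨i, rfl⟩
  obtain ⟨ψ, hψX⟩ := Groth.Agent.H47.exists_evalHom_complete (k := κ) (maximalIdeal B) n b hb
  have hψ : ∀ i : Fin n, ψ (MvPowerSeries.X i) ∈ maximalIdeal B := fun i => by
    rw [hψX]; exact hb i
  have hres : Function.Surjective ((residue B).comp (algebraMap κ B)) := by
    intro y
    obtain ⟨x, hx⟩ := hι.2 y
    exact ⟨x, by rw [RingHom.comp_apply, halg, hgres, hx]⟩
  have hsp : Submodule.span (ResidueField B)
      (Set.range (fun i : Fin n => (maximalIdeal B).toCotangent ⟨ψ (MvPowerSeries.X i), hψ i⟩))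
      = ⊤ := by
    rw [Set.range_comp' (maximalIdeal B).toCotangent
      (fun i : Fin n => (⟨ψ (MvPowerSeries.X i), hψ i⟩ : maximalIdeal B)),
      IsLocalRing.CotangentSpace.span_image_eq_top_iff]
    apply Submodule.map_injective_of_injective (maximalIdeal B).subtype_injective
    rw [Submodule.map_span, ← Set.range_comp, Submodule.map_top, Submodule.range_subtype]
    refine Eq.trans ?_ hmB.symm
    show Submodule.span B _ = Submodule.span B _
    congr 2
    funext i
    exact hψX i
  have hsurj : Function.Surjective ψ :=
    Groth.Agent.H61.CLK.ps_surjective ψ hψ hres hsp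
  let I : Ideal (MvPowerSeries (Fin n) κ) := RingHom.ker (ψ : MvPowerSeries (Fin n) κ →+* B)
  let e₀ : (MvPowerSeries (Fin n) κ ⧸ I) ≃ₐ[κ] B := Ideal.quotientKerAlgEquivOfSurjective hsurj
  refine ⟨n, I, e₀.restrictScalars k, fun a => ?_⟩
  show e₀ (Ideal.Quotient.mk I (MvPowerSeries.C (residue A a))) - algebraMap A B a ∈ _
  rw [← AdicCompletion.maximalIdeal_eq_map]
  have h1 : e₀ (Ideal.Quotient.mk I (MvPowerSeries.C (residue A a))) = g (residue A a) := by
    have : (MvPowerSeries.C (residue A a) : MvPowerSeries (Fin n) κ) =
        algebraMap κ (MvPowerSeries (Fin n) κ) (residue A a) := rfl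
    rw [this]
    show e₀ (algebraMap κ (MvPowerSeries (Fin n) κ ⧸ I) (residue A a)) = _
    rw [e₀.commutes]
    rfl
  rw [h1, ← residue_eq_zero_iff, map_sub, hgres, sub_eq_zero]
  exact ResidueField.map_residue _ _

end Groth.Agent.H96.ComplPS
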