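import Mathlib

/-!
# Rational polyhedral cones: a real nonnegative solution of an integer linear system is a positive
combination of linearly independent nonnegative integer solutions
-/

set_option autoImplicit false

namespace Groth.Agent.H96.ConeCore

variable {ι κ : Type*} [Fintype ι]

/-- integer solutions of the system with rows `a r` -/
def IsSolZ (a : κ → ι → ℤ) (u : ι → ℤ) : Prop := ∀ r, ∑ i, a r i * u i = 0

/-- real solutions -/
def IsSolR (a : κ → ι → ℤ) (p : ι → ℝ) : Prop := ∀ r, ∑ i, (a r i : ℝ) * p i = 0

/-- rational solutions -/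
def IsSolQ (a : κ → ι → ℤ) (q : ι → ℚ) : Prop := ∀ r, ∑ i, (a r i : ℚ) * q i = 0

/-- Step (A1): a rational solution with the same support. -/
theorem exists_rat_sol_full_support (a : κ → ι → ℤ) (p : ι → ℝ) (hp0 : ∀ i, 0 ≤ p i)
    (hsol : IsSolR a p) :
    ∃ q : ι → ℚ, (∀ i, 0 ≤ q i) ∧ IsSolQ a q ∧ ∀ i, (q i ≠ 0 ↔ p i ≠ 0) := by
  classical
  let W : Submodule ℚ ℝ := Submodule.span ℚ (Set.range p)
  haveI : FiniteDimensional ℚ W := FiniteDimensional.span_of_finite ℚ (Set.finite_range p)
  let b := Module.finBasis ℚ W
  let r := Module.finrank ℚ W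
  let w : Fin r → ℝ := fun l => (b l : ℝ)
  let pw : ι → W := fun i => ⟨p i, Submodule.subset_span (Set.mem_range_self i)⟩
  let c : ι → Fin r → ℚ := fun i l => b.repr (pw i) l
  have hp_repr : ∀ i, p i = ∑ l, (c i l : ℝ) * w l := by
    intro i
    have h1 := b.sum_repr (pw i)
    have h2 := congrArg (Subtype.val) h1
    simp only [Submodule.coe_sum, Submodule.coe_smul] at h2
    rw [show ((pw i : W) : ℝ) = p i from rfl] at h2
    rw [← h2]
    apply Finset.sum_congr rfl
    intro l _
    rw [Rat.smul_def]
  have hli : LinearIndependent ℚ w := by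
    have := b.linearIndependent.map' W.subtype (Submodule.ker_subtype W)
    exact this
  rw [Fintype.linearIndependent_iff] at hli
  have hc_sol : ∀ r' l, ∑ i, (a r' i : ℚ) * c i l = 0 := by
    intro r'
    apply hli (fun l => ∑ i, (a r' i : ℚ) * c i l)
    have h1 := hsol r'
    simp only [hp_repr] at h1
    rw [← h1]
    simp only [Rat.smul_def, Finset.mul_sum]
    rw [Finset.sum_comm]
    apply Finset.sum_congr rfl
    intro l _
    push_cast
    rw [Finset.sum_mul]
    apply Finset.sum_congr rfl
    intro i _
    ring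
  have hc_zero : ∀ i, p i = 0 → ∀ l, c i l = 0 := by
    intro i hi l
    have : pw i = 0 := Subtype.ext hi
    simp only [c, this, map_zero, Finsupp.zero_apply]
  -- the open set of good approximations
  let U : Set (Fin r → ℝ) := {w'' | ∀ i, p i ≠ 0 → 0 < ∑ l, (c i l : ℝ) * w'' l}
  have hUopen : IsOpen U := by
    have : U = ⋂ i, {w'' : Fin r → ℝ | p i ≠ 0 → 0 < ∑ l, (c i l : ℝ) * w'' l} := by
      ext w''
      simp [U]
    rw [this]
    apply isOpen_iInter_of_finite
    intro i
    by_cases hi : p i ≠ 0
    · have : {w'' : Fin r → ℝ | p i ≠ 0 → 0 < ∑ l, (c i l : ℝ) * w'' l} =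
          {w'' : Fin r → ℝ | 0 < ∑ l, (c i l : ℝ) * w'' l} := by
        ext w''
        simp [hi]
      rw [this]
      exact isOpen_lt continuous_const (by fun_prop)
    · have : {w'' : Fin r → ℝ | p i ≠ 0 → 0 < ∑ l, (c i l : ℝ) * w'' l} = Set.univ := by
        ext w''
        simp [hi]
      rw [this]
      exact isOpen_univ
  have hwU : w ∈ U := by
    intro i hi
    rw [← hp_repr]
    exact lt_of_le_of_ne (hp0 i) (Ne.symm hi)
  have hdense : DenseRange (Pi.map (fun (_ : Fin r) => ((↑) : ℚ → ℝ))) :=
    DenseRange.piMap (fun _ => Rat.denseRange_cast)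
  obtain ⟨w', hw'⟩ := hdense.exists_mem_open hUopen ⟨w, hwU⟩
  refine ⟨fun i => ∑ l, c i l * w' l, ?_, ?_, ?_⟩
  · intro i
    by_cases hi : p i = 0
    · simp [hc_zero i hi]
    · have := hw' i hi
      simp only [Pi.map_apply] at this
      have h2 : (0 : ℝ) < ((∑ l, c i l * w' l : ℚ) : ℝ) := by
        push_cast
        exact this
      exact_mod_cast h2.le
  · intro r'
    simp only [Finset.mul_sum]
    rw [Finset.sum_comm]
    apply Finset.sum_eq_zero
    intro l _
    have := hc_sol r' l
    calc ∑ i, (a r' i : ℚ) * (c i l * w' l) = (∑ i, (a r' i : ℚ) * c i l) * w' l := by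
          rw [Finset.sum_mul]
          apply Finset.sum_congr rfl
          intro i _
          ring
      _ = 0 := by rw [this, zero_mul]
  · intro i
    constructor
    · intro hq hp
      apply hq
      simp [hc_zero i hp]
    · intro hp
      have := hw' i hp
      simp only [Pi.map_apply] at this
      have h2 : (0 : ℝ) < ((∑ l, c i l * w' l : ℚ) : ℝ) := by
        push_cast
        exact this
      have h3 : (0 : ℚ) < ∑ l, c i l * w' l := by exact_mod_cast h2
      exact h3.ne'

/-- Step (A2): an integer solution with the same support. -/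
theorem exists_int_sol_full_support (a : κ → ι → ℤ) (p : ι → ℝ) (hp0 : ∀ i, 0 ≤ p i)
    (hsol : IsSolR a p) :
    ∃ u : ι → ℤ, (∀ i, 0 ≤ u i) ∧ IsSolZ a u ∧ ∀ i, (u i ≠ 0 ↔ p i ≠ 0) := by
  classical
  obtain ⟨q, hq0, hqsol, hqsupp⟩ := exists_rat_sol_full_support a p hp0 hsol
  let D : ℕ := ∏ i, (q i).den
  have hDpos : 0 < D := Finset.prod_pos (fun i _ => (q i).den_pos)
  have hdvd : ∀ i, (q i).den ∣ D := fun i => Finset.dvd_prod_of_mem _ (Finset.mem_univ i)
  let u : ι → ℤ := fun i => (q i).num * ((D / (q i).den : ℕ) : ℤ)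
  have hu : ∀ i, (u i : ℚ) = q i * D := by
    intro i
    obtain ⟨e, he⟩ := hdvd i
    have hden : ((q i).den : ℚ) ≠ 0 := by exact_mod_cast (q i).den_ne_zero
    simp only [u]
    rw [he, Nat.mul_div_cancel_left _ (q i).den_pos]
    push_cast
    calc ((q i).num : ℚ) * e = ((q i).num / (q i).den) * ((q i).den * e) := by field_simp
      _ = q i * ((q i).den * e) := by rw [Rat.num_div_den]
  have hDq : (D : ℚ) ≠ 0 := by exact_mod_cast hDpos.ne'
  refine ⟨u, ?_, ?_, ?_⟩
  · intro i
    have h1 : (0 : ℚ) ≤ (u i : ℚ) := by
      rw [hu]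
      exact mul_nonneg (hq0 i) (by positivity)
    exact_mod_cast h1
  · intro r
    have h1 : ((∑ i, a r i * u i : ℤ) : ℚ) = 0 := by
      push_cast
      simp only [hu]
      have := hqsol r
      calc ∑ i, (a r i : ℚ) * (q i * D) = (∑ i, (a r i : ℚ) * q i) * D := by
            rw [Finset.sum_mul]
            apply Finset.sum_congr rfl
            intro i _
            ring
        _ = 0 := by rw [this, zero_mul]
    exact_mod_cast h1
  · intro i
    rw [← hqsupp i]
    constructor
    · intro h hq
      apply h
      have : (u i : ℚ) = 0 := by rw [hu, hq, zero_mul]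
      exact_mod_cast this
    · intro h hu0
      apply h
      have : (u i : ℚ) = 0 := by exact_mod_cast hu0
      rw [hu] at this
      exact (mul_eq_zero.mp this).resolve_right hDq

/-- Step (B): decomposition into a triangular (hence linearly independent) family. -/
theorem exists_decomp (a : κ → ι → ℤ) :
    ∀ (N : ℕ) (p : ι → ℝ), (Finset.univ.filter (fun i => p i ≠ 0)).card = N → (∀ i, 0 ≤ p i) →
      IsSolR a p →
    ∃ (m : ℕ) (u : Fin m → ι → ℤ) (t : Fin m → ℝ), (∀ j i, 0 ≤ u j i) ∧ (∀ j, IsSolZ a (u j)) ∧
      (∀ j, 0 < t j) ∧ (∀ i, p i = ∑ j, t j * (u j i : ℝ)) ∧ (∀ j i, u j i ≠ 0 → p i ≠ 0) ∧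
      (∀ c : Fin m → ℤ, (∀ i, ∑ j, c j * u j i = 0) → ∀ j, c j = 0) := by
  classical
  intro N
  induction N using Nat.strong_induction_on with
  | _ N ih =>
    intro p hN hp0 hsol
    by_cases hzero : ∀ i, p i = 0
    · refine ⟨0, Fin.elim0, Fin.elim0, fun j => j.elim0, fun j => j.elim0, fun j => j.elim0, ?_,
        fun j => j.elim0, fun c _ j => j.elim0⟩
      intro i
      simp [hzero i]
    · push Not at hzero
      obtain ⟨u₀, hu₀0, hu₀sol, hu₀supp⟩ := exists_int_sol_full_support a p hp0 hsol
      set I := Finset.univ.filter (fun i => p i ≠ 0) with hI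
      have hIne : I.Nonempty := by
        obtain ⟨i, hi⟩ := hzero
        exact ⟨i, by simp [hI, hi]⟩
      obtain ⟨i₀, hi₀I, hmin⟩ := Finset.exists_min_image I (fun i => p i / (u₀ i : ℝ)) hIne
      have hpi₀ : p i₀ ≠ 0 := by simpa [hI] using hi₀I
      have hu₀i₀ : u₀ i₀ ≠ 0 := (hu₀supp i₀).mpr hpi₀
      have hupos : ∀ i, p i ≠ 0 → (0 : ℝ) < (u₀ i : ℝ) := by
        intro i hi
        have h1 := (hu₀supp i).mpr hi
        have h2 := hu₀0 i
        have : 0 < u₀ i := lt_of_le_of_ne h2 (Ne.symm h1)
        exact_mod_cast this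
      have hppos : ∀ i, p i ≠ 0 → 0 < p i := fun i hi => lt_of_le_of_ne (hp0 i) (Ne.symm hi)
      set ε : ℝ := p i₀ / (u₀ i₀ : ℝ) with hε
      have hεpos : 0 < ε := div_pos (hppos i₀ hpi₀) (hupos i₀ hpi₀)
      set p' : ι → ℝ := fun i => p i - ε * (u₀ i : ℝ) with hp'
      have hp'0 : ∀ i, 0 ≤ p' i := by
        intro i
        by_cases hi : p i = 0
        · have hu0 : u₀ i = 0 := by
            by_contra h
            exact (hu₀supp i).mp h hi
          simp [hp', hi, hu0]
        · have h1 := hmin i (by simp [hI, hi])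
          have h2 := hupos i hi
          simp only [hp', sub_nonneg]
          calc ε * (u₀ i : ℝ) ≤ p i / (u₀ i : ℝ) * (u₀ i : ℝ) :=
                mul_le_mul_of_nonneg_right h1 h2.le
            _ = p i := by field_simp
      have hp'i₀ : p' i₀ = 0 := by
        have h2 := hupos i₀ hpi₀
        simp only [hp', hε]
        field_simp
        ring
      have hp'supp : ∀ i, p' i ≠ 0 → p i ≠ 0 := by
        intro i hi hpi
        apply hi
        have hu0 : u₀ i = 0 := by
          by_contra h
          exact (hu₀supp i).mp h hpi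
        simp [hp', hpi, hu0]
      have hcard : (Finset.univ.filter (fun i => p' i ≠ 0)).card < N := by
        rw [← hN]
        apply Finset.card_lt_card
        refine ⟨?_, ?_⟩
        · intro i hi
          rw [hI]
          simp only [Finset.mem_filter, Finset.mem_univ, true_and] at hi ⊢
          exact hp'supp i hi
        · intro hsub
          have := hsub hi₀I
          simp only [Finset.mem_filter, Finset.mem_univ, true_and] at this
          exact this hp'i₀
      have hsol' : IsSolR a p' := by
        intro r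
        have h1 := hsol r
        have h2 : ∑ i, (a r i : ℝ) * (u₀ i : ℝ) = 0 := by
          have := hu₀sol r
          exact_mod_cast congrArg (fun z : ℤ => (z : ℝ)) this
        simp only [hp', mul_sub, Finset.sum_sub_distrib, h1]
        have : ∑ i, (a r i : ℝ) * (ε * (u₀ i : ℝ)) = ε * ∑ i, (a r i : ℝ) * (u₀ i : ℝ) := by
          rw [Finset.mul_sum]
          apply Finset.sum_congr rfl
          intro i _
          ring
        rw [this, h2, mul_zero, sub_zero]
      obtain ⟨m, u, t, hu0, husol, ht, hsum, hsupp, hind⟩ := ih _ hcard p' rfl hp'0 hsol'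
      refine ⟨m + 1, Fin.cons u₀ u, Fin.cons ε t, ?_, ?_, ?_, ?_, ?_, ?_⟩
      · intro j
        refine Fin.cases ?_ (fun j' => ?_) j
        · simpa using hu₀0
        · simpa using hu0 j'
      · intro j
        refine Fin.cases ?_ (fun j' => ?_) j
        · simpa using hu₀sol
        · simpa using husol j'
      · intro j
        refine Fin.cases ?_ (fun j' => ?_) j
        · simpa using hεpos
        · simpa using ht j'
      · intro i
        rw [Fin.sum_univ_succ]
        simp only [Fin.cons_zero, Fin.cons_succ]
        rw [← hsum i]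
        simp only [hp']
        ring
      · intro j
        refine Fin.cases ?_ (fun j' => ?_) j
        · intro i hi
          simp only [Fin.cons_zero] at hi
          exact (hu₀supp i).mp hi
        · intro i hi
          simp only [Fin.cons_succ] at hi
          exact hp'supp i (hsupp j' i hi)
      · intro c hc
        have hui₀ : ∀ j', u j' i₀ = 0 := by
          intro j'
          by_contra h
          exact hsupp j' i₀ h hp'i₀
        have hc0 : c 0 = 0 := by
          have := hc i₀
          rw [Fin.sum_univ_succ] at this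
          simp only [Fin.cons_zero, Fin.cons_succ, hui₀, mul_zero, Finset.sum_const_zero,
            add_zero] at this
          exact (mul_eq_zero.mp this).resolve_right hu₀i₀
        have hrest := hind (fun j' => c j'.succ) (by
          intro i
          have := hc i
          rw [Fin.sum_univ_succ] at this
          simp only [Fin.cons_zero, Fin.cons_succ, hc0, zero_mul, zero_add] at this
          exact this)
        intro j
        refine Fin.cases hc0 (fun j' => hrest j') j

end Groth.Agent.H96.ConeCore
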