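import Groth.Prelude.Def_W4c6equivkfinstabCyc
import Mathlib.FieldTheory.Separable
import Mathlib.GroupTheory.SpecificGroups.Cyclic
import Mathlib.GroupTheory.OrderOfElement
import Mathlib.Algebra.Module.LocalizedModule.Basic
import Mathlib.RingTheory.Polynomial.Cyclotomic.Basic

/-!
# Cyclotomic quotients of group rings of finite cyclic groups: `[h] - 1` is a unit for `h ≠ 0`
-/

set_option autoImplicit false

namespace Groth.Agent.H96.CycQ

open Polynomial W4c6equivkfinstab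

variable (Λ : Type*) [CommRing Λ]

lemma isCoprime_X_pow_sub_one_cyclotomic {d n : ℕ} (hd : d ∈ n.properDivisors)
    (hn : IsUnit (n : Λ)) : IsCoprime (X ^ d - 1 : Λ[X]) (cyclotomic n Λ) := by
  have h1 := X_pow_sub_one_mul_cyclotomic_dvd_X_pow_sub_one_of_dvd Λ hd
  have h2 : (X ^ n - 1 : Λ[X]).Separable := by
    simpa using separable_X_pow_sub_C_unit (1 : Λˣ) hn
  exact (h2.of_dvd h1).isCoprime

variable (C : Type*) [AddCommGroup C]

/-- class of a group element in the cyclotomic quotient -/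
noncomputable def cl (x : C) : CycQuot Λ C :=
  Ideal.Quotient.mk (cycIdeal Λ C) (AddMonoidAlgebra.single x 1)

lemma cl_add (x y : C) : cl Λ C (x + y) = cl Λ C x * cl Λ C y := by
  unfold cl
  rw [← map_mul, AddMonoidAlgebra.single_mul_single, mul_one]

lemma cl_zero : cl Λ C 0 = 1 := by
  unfold cl
  rw [← map_one (Ideal.Quotient.mk (cycIdeal Λ C))]
  rfl

lemma cl_nsmul (k : ℕ) (x : C) : cl Λ C (k • x) = cl Λ C x ^ k := by
  induction k with
  | zero => rw [zero_smul, pow_zero, cl_zero]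
  | succ k ih => rw [succ_nsmul, cl_add, ih, pow_succ]

theorem isUnit_cl_sub_one [Finite C] [IsAddCyclic C] (hn : IsUnit ((Nat.card C : ℕ) : Λ)) {h : C}
    (hh : h ≠ 0) : IsUnit (cl Λ C h - 1) := by
  obtain ⟨g, hg⟩ := IsAddCyclic.exists_generator (α := C)
  have htop : AddSubgroup.zmultiples g = ⊤ := (AddSubgroup.eq_top_iff' _).mpr hg
  set n := Nat.card C with hn_def
  have hnpos : 0 < n := Nat.card_pos
  have hng : n • g = 0 := card_nsmul_eq_zero'
  have hΦ : aeval (cl Λ C g) (cyclotomic n Λ) = 0 := by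
    have h1 : aeval (AddMonoidAlgebra.single g (1 : Λ)) (cyclotomic n Λ) ∈ cycIdeal Λ C :=
      Ideal.subset_span ⟨g, htop, rfl⟩
    have h2 := Polynomial.aeval_algHom_apply (Ideal.Quotient.mkₐ Λ (cycIdeal Λ C))
      (AddMonoidAlgebra.single g (1 : Λ)) (cyclotomic n Λ)
    rw [Ideal.Quotient.mkₐ_eq_mk] at h2
    unfold cl
    rw [h2]
    exact Ideal.Quotient.eq_zero_iff_mem.mpr h1
  obtain ⟨k, hk⟩ : ∃ k : ℕ, k • g = h :=
    (AddSubmonoid.mem_multiples_iff _ _).mp (mem_multiples_iff_mem_zmultiples.mpr (hg h))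
  have hnk : ¬ n ∣ k := by
    rintro ⟨t, rfl⟩
    apply hh
    rw [← hk, mul_comm, mul_smul, hng, smul_zero]
  set d := Nat.gcd k n with hd_def
  have hdn : d ∣ n := Nat.gcd_dvd_right k n
  have hdlt : d < n := by
    refine lt_of_le_of_ne (Nat.le_of_dvd hnpos hdn) ?_
    intro hdeq
    apply hnk
    rw [← hdeq]
    exact Nat.gcd_dvd_left k n
  have hdmem : d ∈ n.properDivisors := Nat.mem_properDivisors.mpr ⟨hdn, hdlt⟩
  obtain ⟨a, b, hab⟩ := isCoprime_X_pow_sub_one_cyclotomic Λ hdmem hn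
  have hunit : IsUnit (cl Λ C (d • g) - 1) := by
    have h1 := congrArg (aeval (cl Λ C g)) hab
    simp only [map_add, map_mul, map_sub, map_pow, aeval_X, map_one, hΦ, mul_zero, add_zero] at h1
    rw [cl_nsmul]
    exact IsUnit.of_mul_eq_one _ (by rw [mul_comm]; exact h1)
  have hbez : ((d : ℤ)) • g = (Nat.gcdA k n) • h := by
    rw [hd_def, Nat.gcd_eq_gcd_ab, add_smul, mul_comm (k : ℤ), mul_smul, natCast_zsmul, hk,
      mul_comm (n : ℤ), mul_smul, natCast_zsmul, hng, smul_zero, add_zero]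
  have hmem : d • g ∈ AddSubgroup.zmultiples h := by
    rw [← natCast_zsmul, hbez]
    exact AddSubgroup.zsmul_mem_zmultiples h _
  obtain ⟨y, hy⟩ : ∃ y : ℕ, y • h = d • g :=
    (AddSubmonoid.mem_multiples_iff _ _).mp (mem_multiples_iff_mem_zmultiples.mpr hmem)
  have hdvd : cl Λ C h - 1 ∣ cl Λ C (d • g) - 1 := by
    rw [← hy, cl_nsmul]
    simpa using sub_dvd_pow_sub_pow (cl Λ C h) 1 y
  exact isUnit_of_dvd_unit hdvd hunit

section Quot

variable (M : Type*) [AddCommGroup M] (B : AddSubgroup M)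

lemma quotMap_surjective : Function.Surjective (quotMap Λ M B) := by
  intro y
  obtain ⟨c, hc⟩ := Finsupp.mapDomain_surjective (QuotientAddGroup.mk'_surjective B) y.coeff
  refine ⟨AddMonoidAlgebra.ofCoeff c, ?_⟩
  apply AddMonoidAlgebra.coeff_injective
  exact hc

lemma cycQuotMap_surjective : Function.Surjective (cycQuotMap Λ M B) :=
  Ideal.Quotient.mk_surjective.comp (quotMap_surjective Λ M B)

lemma quotMap_single (b : M) :
    quotMap Λ M B (AddMonoidAlgebra.single b 1) = AddMonoidAlgebra.single (b : M ⧸ B) 1 :=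
  AddMonoidAlgebra.mapDomain_single

lemma quotMap_single_sub_one_of_mem {b : M} (hb : b ∈ B) :
    quotMap Λ M B (AddMonoidAlgebra.single b 1 - 1) = 0 := by
  rw [map_sub, map_one, quotMap_single, (QuotientAddGroup.eq_zero_iff b).mpr hb]
  exact sub_self _

lemma cycQuotMap_single_sub_one_of_mem {b : M} (hb : b ∈ B) :
    cycQuotMap Λ M B (AddMonoidAlgebra.single b 1 - 1) = 0 := by
  unfold cycQuotMap
  rw [RingHom.comp_apply, quotMap_single_sub_one_of_mem Λ M B hb, map_zero]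

lemma cycQuotMap_single (b : M) :
    cycQuotMap Λ M B (AddMonoidAlgebra.single b 1) = cl Λ (M ⧸ B) (b : M ⧸ B) := by
  unfold cycQuotMap cl
  rw [RingHom.comp_apply, quotMap_single]

lemma exists_mul_eq_one [B.FiniteIndex] [IsAddCyclic (M ⧸ B)] (hu : IsUnit ((B.index : ℕ) : Λ))
    {b : M} (hb : b ∉ B) :
    ∃ w : AddMonoidAlgebra Λ M,
      cycQuotMap Λ M B ((AddMonoidAlgebra.single b 1 - 1) * w) = 1 := by
  have hne : (b : M ⧸ B) ≠ 0 := fun h => hb ((QuotientAddGroup.eq_zero_iff b).mp h)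
  have hcard : Nat.card (M ⧸ B) = B.index := (AddSubgroup.index_eq_card B).symm
  have hunit := isUnit_cl_sub_one Λ (M ⧸ B) (by rw [hcard]; exact hu) hne
  obtain ⟨v, hv⟩ := hunit.exists_right_inv
  obtain ⟨w, rfl⟩ := cycQuotMap_surjective Λ M B v
  refine ⟨w, ?_⟩
  rw [map_mul, map_sub, map_one, cycQuotMap_single]
  exact hv

lemma smul_quot (r : AddMonoidAlgebra Λ M) (m : AddMonoidAlgebra Λ (M ⧸ B)) :
    r • m = quotMap Λ M B r * m := by
  rw [Algebra.smul_def]
  rfl

lemma smul_cycQuot (r : AddMonoidAlgebra Λ M) (m : CycQuot Λ (M ⧸ B)) :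
    r • m = cycQuotMap Λ M B r * m := by
  obtain ⟨x, rfl⟩ := Ideal.Quotient.mk_surjective m
  have h1 : r • (Ideal.Quotient.mk (cycIdeal Λ (M ⧸ B)) x) =
      Ideal.Quotient.mk (cycIdeal Λ (M ⧸ B)) (r • x) := rfl
  rw [h1, smul_quot, map_mul]
  rfl

end Quot

end Groth.Agent.H96.CycQ
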