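import Mathlib

set_option autoImplicit false
universe u

namespace Groth.Agent.H96.EllAut

variable (k : Type u) [Field k] [IsAlgClosed k]

/-- number of `n`-th roots of unity in an algebraically closed field, `n` prime to the characteristic -/
lemma card_pow_eq_one (n : ℕ) (hn : (n : k) ≠ 0) : Nat.card {c : k // c ^ n = 1} = n := by
  have : NeZero (n : k) := ⟨hn⟩
  have : NeZero n := .of_neZero_natCast k
  refine (Nat.card_congr ?_).trans (HasEnoughRootsOfUnity.natCard_rootsOfUnity k n)
  exact
    { toFun := fun c => ⟨Units.mk0 c.1 (fun h0 => by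
          have h1 := c.2
          rw [h0, zero_pow (NeZero.ne n)] at h1
          exact zero_ne_one h1), by
        rw [mem_rootsOfUnity]
        ext
        simpa using c.2⟩
      invFun := fun ζ => ⟨(ζ.1 : k), by
        have h1 := (mem_rootsOfUnity n ζ.1).mp ζ.2
        have h2 := congrArg (fun u : kˣ => (u : k)) h1
        simpa using h2⟩
      left_inv := fun c => by ext; rfl
      right_inv := fun ζ => by ext; rfl }

open Classical in
lemma card_C (h2 : (2 : k) ≠ 0) (h3 : (3 : k) ≠ 0) (a b : k) (hdisc : 4 * a ^ 3 + 27 * b ^ 2 ≠ 0) :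
    Nat.card {c : k // c ≠ 0 ∧ a * (c ^ 4 - 1) = 0 ∧ b * (c ^ 6 - 1) = 0} =
      if a = 0 then 6 else if b = 0 then 4 else 2 := by
  by_cases ha : a = 0
  · rw [if_pos ha]
    have hb : b ≠ 0 := by
      rintro rfl
      apply hdisc
      rw [ha]; ring
    have h6 : ((6 : ℕ) : k) ≠ 0 := by
      have : ((6 : ℕ) : k) = 2 * 3 := by norm_num
      rw [this]
      exact mul_ne_zero h2 h3
    refine (Nat.card_congr ?_).trans (card_pow_eq_one k 6 h6)
    apply Equiv.subtypeEquivRight
    intro c
    constructor
    · rintro ⟨-, -, h⟩
      rcases mul_eq_zero.mp h with h | h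
      · exact absurd h hb
      · exact sub_eq_zero.mp h
    · intro h
      refine ⟨?_, by rw [ha, zero_mul], by rw [h, sub_self, mul_zero]⟩
      rintro rfl
      norm_num at h
  · rw [if_neg ha]
    by_cases hb : b = 0
    · rw [if_pos hb]
      have h4 : ((4 : ℕ) : k) ≠ 0 := by
        have : ((4 : ℕ) : k) = 2 * 2 := by norm_num
        rw [this]
        exact mul_ne_zero h2 h2
      refine (Nat.card_congr ?_).trans (card_pow_eq_one k 4 h4)
      apply Equiv.subtypeEquivRight
      intro c
      constructor
      · rintro ⟨-, h, -⟩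
        rcases mul_eq_zero.mp h with h | h
        · exact absurd h ha
        · exact sub_eq_zero.mp h
      · intro h
        refine ⟨?_, by rw [h, sub_self, mul_zero], by rw [hb, zero_mul]⟩
        rintro rfl
        norm_num at h
    · rw [if_neg hb]
      have h2' : ((2 : ℕ) : k) ≠ 0 := by exact_mod_cast h2
      refine (Nat.card_congr ?_).trans (card_pow_eq_one k 2 h2')
      apply Equiv.subtypeEquivRight
      intro c
      constructor
      · rintro ⟨hc, h4, h6⟩
        have e4 : c ^ 4 = 1 := by
          rcases mul_eq_zero.mp h4 with h | h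
          · exact absurd h ha
          · exact sub_eq_zero.mp h
        have e6 : c ^ 6 = 1 := by
          rcases mul_eq_zero.mp h6 with h | h
          · exact absurd h hb
          · exact sub_eq_zero.mp h
        have : c ^ 6 = c ^ 4 * c ^ 2 := by ring
        rw [this, e4, one_mul] at e6
        exact e6
      · intro h
        have e4 : c ^ 4 = 1 := by
          have : c ^ 4 = (c ^ 2) ^ 2 := by ring
          rw [this, h, one_pow]
        have e6 : c ^ 6 = 1 := by
          have : c ^ 6 = (c ^ 2) ^ 3 := by ring
          rw [this, h, one_pow]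
        refine ⟨?_, by rw [e4, sub_self, mul_zero], by rw [e6, sub_self, mul_zero]⟩
        rintro rfl
        norm_num at h

end Groth.Agent.H96.EllAut
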