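import Groth.Agent.H55.FFElliptic
import Groth.Agent.H55.FFAut
import Groth.Agent.H55.FFMisc
import Groth.Agent.H55.FFRiemannRoch
import Groth.Agent.H96.EllAutCount

set_option autoImplicit false
universe u v

namespace Groth.Agent.H96.EllAut

open FunFld Groth.Agent.H55

variable {k : Type u} {K : Type v} [Field k] [Field K] [Algebra k K]

/-- `L(P) = k` in genus one -/
lemma L_single_one (hK : IsFunctionField k K) (hg : genus k K = 1) {P : Place k K} (hP : P.deg = 1)
    {u : K} (hu : u ∈ L (Finsupp.single P 1 : Divisor k K)) : ∃ d : k, u = algebraMap k K d := by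
  classical
  have h0 : (0 : Divisor k K) ≤ Finsupp.single P 1 := by
    intro Q
    rw [Finsupp.zero_apply, Finsupp.single_apply]
    split_ifs <;> omega
  have hle : L (0 : Divisor k K) ≤ L (Finsupp.single P 1 : Divisor k K) := L_mono h0
  have hfin : Module.Finite k (L (Finsupp.single P 1 : Divisor k K)) := L_finite hK _
  have heq : L (0 : Divisor k K) = L (Finsupp.single P 1 : Divisor k K) := by
    apply Submodule.eq_of_le_of_finrank_eq hle
    have h1 := ell_single_one hK (by omega) hP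
    have h2 := ell_zero (k := k) (K := K) hK
    unfold ell at h1 h2
    rw [h1, h2]
  rw [← heq, L_zero hK, Submodule.mem_one] at hu
  obtain ⟨d, hd⟩ := hu
  exact ⟨d, hd.symm⟩

lemma mem_L_two (hK : IsFunctionField k K) (hg : genus k K = 1) {P : Place k K} (hP : P.deg = 1)
    {x : K} (hx : PoleAt P x 2) {u : K} (hu : u ∈ L (Finsupp.single P 2 : Divisor k K)) :
    ∃ c d : k, u = c • x + algebraMap k K d := by
  obtain ⟨c, hc⟩ := exists_sub_smul_mem hK hP 2 (hx.mem le_rfl) (hx.notMem (by norm_num)) hu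
  have h21 : (2 - 1 : ℤ) = 1 := by norm_num
  rw [h21] at hc
  obtain ⟨d, hd⟩ := L_single_one hK hg hP hc
  exact ⟨c, d, by rw [← hd]; ring⟩

lemma mem_L_three (hK : IsFunctionField k K) (hg : genus k K = 1) {P : Place k K} (hP : P.deg = 1)
    {x y : K} (hx : PoleAt P x 2) (hy : PoleAt P y 3) {u : K}
    (hu : u ∈ L (Finsupp.single P 3 : Divisor k K)) :
    ∃ c c' d : k, u = c • y + c' • x + algebraMap k K d := by
  obtain ⟨c, hc⟩ := exists_sub_smul_mem hK hP 3 (hy.mem le_rfl) (hy.notMem (by norm_num)) hu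
  have h32 : (3 - 1 : ℤ) = 2 := by norm_num
  rw [h32] at hc
  obtain ⟨c', d, hd⟩ := mem_L_two hK hg hP hx hc
  exact ⟨c, c', d, by rw [add_assoc, ← hd]; ring⟩

/-- an automorphism preserving the valuation of `P` preserves `PoleAt P` -/
lemma poleAt_map {P : Place k K} (σ : K ≃ₐ[k] K) (hσ : ∀ z : K, P.1 (σ z) = P.1 z) {u : K} {j : ℤ}
    (hu : PoleAt P u j) : PoleAt P (σ u) j := by
  obtain ⟨hu0, huP, huQ⟩ := hu
  have hPσ : Place.comapAlg P σ = P := Place.ext' (fun z => by rw [Place.comapAlg_val, hσ])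
  refine ⟨by simpa using hu0, ?_, fun Q hQ => ?_⟩
  · show -WithZero.log (P.1 (σ u)) = -j
    rw [hσ]
    exact huP
  · rw [← Place.comapAlg_ord]
    apply huQ
    intro h
    apply hQ
    have h1 : Place.comapAlg (Place.comapAlg Q σ) σ.symm = Q := by
      have := Place.comapAlg_symm Q σ.symm
      rwa [AlgEquiv.symm_symm] at this
    have h2 : Place.comapAlg (Place.comapAlg P σ) σ.symm = P := by
      have := Place.comapAlg_symm P σ.symm
      rwa [AlgEquiv.symm_symm] at this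
    rw [← h1, h, ← hPσ, h2, hPσ]

lemma top_coeff {P : Place k K} {m : ℤ} {c : k} {w r : K}
    (hw : w ∉ L (Finsupp.single P m : Divisor k K)) (hr : r ∈ L (Finsupp.single P m : Divisor k K))
    (h : c • w + r = 0) : c = 0 := by
  by_contra hc
  apply hw
  have h1 : c • w = -r := eq_neg_of_add_eq_zero_left h
  have h2 : w = c⁻¹ • (-r) := by
    rw [← h1, smul_smul, inv_mul_cancel₀ hc, one_smul]
  rw [h2]
  exact Submodule.smul_mem _ _ (Submodule.neg_mem _ hr)

lemma const_mem_L (P : Place k K) {m : ℤ} (hm : 0 ≤ m) (c : k) :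
    algebraMap k K c ∈ L (Finsupp.single P m : Divisor k K) := by
  classical
  intro Q
  refine (Q.2.1 c).trans ?_
  rw [← WithZero.exp_zero, WithZero.exp_le_exp]
  rw [Finsupp.single_apply]
  split_ifs <;> omega

lemma indep6 {P : Place k K} {x y : K} (hx : PoleAt P x 2) (hy : PoleAt P y 3)
    (c0 c1 c2 c3 c4 c5 : k)
    (h : c5 • x ^ 3 + (c4 • (x * y) + (c3 • x ^ 2 + (c2 • y + (c1 • x + algebraMap k K c0)))) = 0) :
    c5 = 0 ∧ c4 = 0 ∧ c3 = 0 ∧ c2 = 0 ∧ c1 = 0 ∧ c0 = 0 := by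
  have h4 : PoleAt P (x ^ 2) 4 := by
    have := hx.mul hx
    rw [← pow_two] at this
    exact this
  have h6 : PoleAt P (x ^ 3) 6 := by
    have := h4.mul hx
    rw [← pow_succ] at this
    exact this
  have h5 : PoleAt P (x * y) 5 := hx.mul hy
  have m0 : ∀ m : ℤ, 0 ≤ m → algebraMap k K c0 ∈ L (Finsupp.single P m : Divisor k K) :=
    fun m hm => const_mem_L P hm c0
  have m1 : ∀ m : ℤ, 2 ≤ m → c1 • x + algebraMap k K c0 ∈ L (Finsupp.single P m : Divisor k K) :=
    fun m hm => Submodule.add_mem _ (Submodule.smul_mem _ _ (hx.mem hm)) (m0 m (by omega))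
  have m2 : ∀ m : ℤ, 3 ≤ m →
      c2 • y + (c1 • x + algebraMap k K c0) ∈ L (Finsupp.single P m : Divisor k K) :=
    fun m hm => Submodule.add_mem _ (Submodule.smul_mem _ _ (hy.mem hm)) (m1 m (by omega))
  have m3 : ∀ m : ℤ, 4 ≤ m →
      c3 • x ^ 2 + (c2 • y + (c1 • x + algebraMap k K c0)) ∈
        L (Finsupp.single P m : Divisor k K) :=
    fun m hm => Submodule.add_mem _ (Submodule.smul_mem _ _ (h4.mem hm)) (m2 m (by omega))
  have m4 : ∀ m : ℤ, 5 ≤ m →
      c4 • (x * y) + (c3 • x ^ 2 + (c2 • y + (c1 • x + algebraMap k K c0))) ∈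
        L (Finsupp.single P m : Divisor k K) :=
    fun m hm => Submodule.add_mem _ (Submodule.smul_mem _ _ (h5.mem hm)) (m3 m (by omega))
  have e5 : c5 = 0 := top_coeff (h6.notMem (by norm_num : (5 : ℤ) < 6)) (m4 5 le_rfl) h
  rw [e5, zero_smul, zero_add] at h
  have e4 : c4 = 0 := top_coeff (h5.notMem (by norm_num : (4 : ℤ) < 5)) (m3 4 le_rfl) h
  rw [e4, zero_smul, zero_add] at h
  have e3 : c3 = 0 := top_coeff (h4.notMem (by norm_num : (3 : ℤ) < 4)) (m2 3 le_rfl) h
  rw [e3, zero_smul, zero_add] at h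
  have e2 : c2 = 0 := top_coeff (hy.notMem (by norm_num : (2 : ℤ) < 3)) (m1 2 le_rfl) h
  rw [e2, zero_smul, zero_add] at h
  have e1 : c1 = 0 := top_coeff (hx.notMem (by norm_num : (1 : ℤ) < 2)) (m0 1 (by norm_num)) h
  rw [e1, zero_smul, zero_add] at h
  have e0 : c0 = 0 := by
    have : algebraMap k K c0 = algebraMap k K 0 := by rw [h, map_zero]
    exact (algebraMap k K).injective this
  exact ⟨e5, e4, e3, e2, e1, e0⟩

theorem aut_form (hK : IsFunctionField k K) (hg : genus k K = 1) {P : Place k K} (hP : P.deg = 1)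
    (h2 : (2 : k) ≠ 0) (h3 : (3 : k) ≠ 0) {a b : k} {x y : K}
    (hx : PoleAt P x 2) (hy : PoleAt P y 3)
    (heq : y ^ 2 = x ^ 3 + algebraMap k K a * x + algebraMap k K b)
    (σ : K ≃ₐ[k] K) (hσ : ∀ z : K, P.1 (σ z) = P.1 z) :
    ∃ c : k, c ≠ 0 ∧ a * (c ^ 4 - 1) = 0 ∧ b * (c ^ 6 - 1) = 0 ∧
      σ x = algebraMap k K (c ^ 2) * x ∧ σ y = algebraMap k K (c ^ 3) * y := by
  have hσx := poleAt_map σ hσ hx
  have hσy := poleAt_map σ hσ hy
  obtain ⟨u, r, hux⟩ := mem_L_two hK hg hP hx (hσx.mem le_rfl)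
  obtain ⟨v, s, t, hvy⟩ := mem_L_three hK hg hP hx hy (hσy.mem le_rfl)
  have hu0 : u ≠ 0 := by
    rintro rfl
    rw [zero_smul, zero_add] at hux
    apply hσx.notMem (by norm_num : (1 : ℤ) < 2)
    rw [hux]
    exact const_mem_L P (by norm_num) r
  have hv0 : v ≠ 0 := by
    rintro rfl
    rw [zero_smul, zero_add] at hvy
    apply hσy.notMem (by norm_num : (2 : ℤ) < 3)
    rw [hvy]
    exact Submodule.add_mem _ (Submodule.smul_mem _ _ (hx.mem le_rfl))
      (const_mem_L P (by norm_num) t)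
  have hσeq : σ y ^ 2 = σ x ^ 3 + algebraMap k K a * σ x + algebraMap k K b := by
    have := congrArg σ heq
    simpa only [map_pow, map_add, map_mul, AlgEquiv.commutes] using this
  rw [hux, hvy] at hσeq
  have hE : (v ^ 2 - u ^ 3) • x ^ 3 + ((2 * v * s) • (x * y) + ((s ^ 2 - 3 * u ^ 2 * r) • x ^ 2 +
      ((2 * v * t) • y + ((v ^ 2 * a + 2 * s * t - 3 * u * r ^ 2 - a * u) • x +
        algebraMap k K (v ^ 2 * b + t ^ 2 - r ^ 3 - a * r - b))))) = 0 := by
    simp only [Algebra.smul_def, map_sub, map_mul, map_add, map_pow, map_ofNat] at hσeq ⊢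
    linear_combination hσeq - (algebraMap k K v) ^ 2 * heq
  obtain ⟨e5, e4, e3, e2, e1, e0⟩ := indep6 hx hy _ _ _ _ _ _ hE
  have hs : s = 0 := by
    rcases mul_eq_zero.mp e4 with h | h
    · rcases mul_eq_zero.mp h with h | h
      · exact absurd h h2
      · exact absurd h hv0
    · exact h
  have ht : t = 0 := by
    rcases mul_eq_zero.mp e2 with h | h
    · rcases mul_eq_zero.mp h with h | h
      · exact absurd h h2
      · exact absurd h hv0
    · exact h
  have hr : r = 0 := by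
    rw [hs] at e3
    have : 3 * u ^ 2 * r = 0 := by linear_combination -e3
    rcases mul_eq_zero.mp this with h | h
    · rcases mul_eq_zero.mp h with h | h
      · exact absurd h h3
      · exact absurd (pow_eq_zero_iff (two_ne_zero) |>.mp h) hu0
    · exact h
  rw [hs, ht, hr] at e1
  rw [ht, hr] at e0
  have hvu : v ^ 2 = u ^ 3 := by linear_combination e5
  refine ⟨v / u, div_ne_zero hv0 hu0, ?_, ?_, ?_, ?_⟩
  · have hc4 : (v / u) ^ 4 = u ^ 2 := by
      rw [div_pow, div_eq_iff (pow_ne_zero 4 hu0)]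
      calc v ^ 4 = (v ^ 2) ^ 2 := by ring
        _ = (u ^ 3) ^ 2 := by rw [hvu]
        _ = u ^ 2 * u ^ 4 := by ring
    rw [hc4]
    have h1 : u * (a * (u ^ 2 - 1)) = 0 := by linear_combination e1 - a * hvu
    rcases mul_eq_zero.mp h1 with h | h
    · exact absurd h hu0
    · exact h
  · have hc6 : (v / u) ^ 6 = v ^ 2 := by
      rw [div_pow, div_eq_iff (pow_ne_zero 6 hu0)]
      calc v ^ 6 = v ^ 2 * (v ^ 2) ^ 2 := by ring
        _ = v ^ 2 * (u ^ 3) ^ 2 := by rw [hvu]
        _ = v ^ 2 * u ^ 6 := by ring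
    rw [hc6]
    linear_combination e0
  · have hc2 : (v / u) ^ 2 = u := by
      rw [div_pow, div_eq_iff (pow_ne_zero 2 hu0), hvu]
      ring
    rw [hux, hr, hc2, map_zero, add_zero, Algebra.smul_def]
  · have hc3 : (v / u) ^ 3 = v := by
      rw [div_pow, div_eq_iff (pow_ne_zero 3 hu0)]
      calc v ^ 3 = v * v ^ 2 := by ring
        _ = v * u ^ 3 := by rw [hvu]
    rw [hvy, hs, ht, hc3, zero_smul, map_zero, add_zero, add_zero, Algebra.smul_def]

end Groth.Agent.H96.EllAut
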