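import Groth.Agent.H96.EllAut

set_option autoImplicit false
universe u v

namespace Groth.Agent.H96.EllAut

open FunFld Groth.Agent.H55 IntermediateField Polynomial

variable {k : Type u} {K : Type v} [Field k] [Field K] [Algebra k K]

lemma algHom_ext_of_adjoin_top {s : Set K} (hs : IntermediateField.adjoin k s = ⊤)
    (φ₁ φ₂ : K →ₐ[k] K) (h : ∀ z ∈ s, φ₁ z = φ₂ z) : φ₁ = φ₂ := by
  ext z
  have hz : z ∈ IntermediateField.adjoin k s := by rw [hs]; trivial
  induction hz using IntermediateField.adjoin_induction with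
  | mem z hz => exact h z hz
  | algebraMap c => rw [φ₁.commutes, φ₂.commutes]
  | add a b _ _ ha hb => rw [map_add, map_add, ha, hb]
  | inv a _ ha => rw [map_inv₀, map_inv₀, ha]
  | mul a b _ _ ha hb => rw [map_mul, map_mul, ha, hb]

section Construct

variable {a b : k} {x y : K} (hxtr : Transcendental k x)
  (heq : y ^ 2 = x ^ 3 + algebraMap k K a * x + algebraMap k K b)
  (hgen : IntermediateField.adjoin k ({x, y} : Set K) = ⊤) (hy : y ∉ k⟮x⟯)

/-- the cubic in `k(x)` -/
noncomputable def fF (a b : k) (x : K) : k⟮x⟯ :=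
  AdjoinSimple.gen k x ^ 3 + algebraMap k k⟮x⟯ a * AdjoinSimple.gen k x + algebraMap k k⟮x⟯ b

lemma coe_fF : ((fF a b x : k⟮x⟯) : K) = x ^ 3 + algebraMap k K a * x + algebraMap k K b := by
  simp [fF]

/-- the quadratic polynomial over `k(x)` -/
noncomputable def gP (a b : k) (x : K) : Polynomial k⟮x⟯ := X ^ 2 - C (fF a b x)

lemma gP_monic : (gP a b x).Monic := by
  unfold gP
  exact monic_X_pow_sub_C _ (by norm_num)

lemma gP_natDegree : (gP a b x).natDegree = 2 := by
  unfold gP
  exact natDegree_X_pow_sub_C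

include heq hy in
lemma gP_irreducible : Irreducible (gP a b x) := by
  rw [Polynomial.Monic.irreducible_iff_roots_eq_zero_of_degree_le_three gP_monic
    (by rw [gP_natDegree]) (by rw [gP_natDegree]; norm_num)]
  rw [Multiset.eq_zero_iff_forall_notMem]
  intro r hr
  rw [mem_roots gP_monic.ne_zero, IsRoot.def] at hr
  have h1 : r ^ 2 = fF a b x := by
    unfold gP at hr
    simpa [sub_eq_zero] using hr
  have h2 : ((r : k⟮x⟯) : K) ^ 2 = y ^ 2 := by
    rw [heq, ← coe_fF, ← h1]
    simp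
  have h3 : ((r : K) - y) * ((r : K) + y) = 0 := by linear_combination h2
  rcases mul_eq_zero.mp h3 with h | h
  · apply hy
    have : y = (r : K) := by linear_combination -h
    rw [this]
    exact r.2
  · apply hy
    have : y = ((-r : k⟮x⟯) : K) := by
      push_cast
      linear_combination h
    rw [this]
    exact (-r).2

include heq in
lemma gP_eval₂ : (gP a b x).eval₂ (algebraMap k⟮x⟯ K) y = 0 := by
  unfold gP
  rw [eval₂_sub, eval₂_pow, eval₂_X, eval₂_C]
  have : algebraMap k⟮x⟯ K (fF a b x) = ((fF a b x : k⟮x⟯) : K) := rfl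
  rw [this, coe_fF, heq, sub_self]

/-- `k(x)[Y]/(Y² - f) → K` -/
noncomputable def eHom : AdjoinRoot (gP a b x) →+* K :=
  AdjoinRoot.lift (algebraMap k⟮x⟯ K) y (gP_eval₂ heq)

lemma eHom_of (z : k⟮x⟯) : eHom heq (AdjoinRoot.of (gP a b x) z) = (z : K) := by
  unfold eHom
  rw [AdjoinRoot.lift_of]
  rfl

lemma eHom_root : eHom heq (AdjoinRoot.root (gP a b x)) = y := by
  unfold eHom
  rw [AdjoinRoot.lift_root]

include hgen hy in
lemma eHom_bijective : Function.Bijective (eHom heq) := by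
  haveI : Fact (Irreducible (gP a b x)) := ⟨gP_irreducible heq hy⟩
  refine ⟨(eHom heq).injective, fun z => ?_⟩
  have hz : z ∈ IntermediateField.adjoin k ({x, y} : Set K) := by rw [hgen]; trivial
  induction hz using IntermediateField.adjoin_induction with
  | mem z hz =>
    rcases hz with rfl | hz
    · exact ⟨AdjoinRoot.of _ (AdjoinSimple.gen k z), by rw [eHom_of]; rfl⟩
    · rw [Set.mem_singleton_iff] at hz
      subst hz
      exact ⟨AdjoinRoot.root _, eHom_root heq⟩
  | algebraMap c =>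
    exact ⟨AdjoinRoot.of _ (algebraMap k k⟮x⟯ c), by rw [eHom_of]; rfl⟩
  | add a b _ _ ha hb =>
    obtain ⟨a', rfl⟩ := ha
    obtain ⟨b', rfl⟩ := hb
    exact ⟨a' + b', map_add _ _ _⟩
  | inv a _ ha =>
    obtain ⟨a', rfl⟩ := ha
    exact ⟨a'⁻¹, map_inv₀ _ _⟩
  | mul a b _ _ ha hb =>
    obtain ⟨a', rfl⟩ := ha
    obtain ⟨b', rfl⟩ := hb
    exact ⟨a' * b', map_mul _ _ _⟩

/-- the `k`-embedding `k(x) → K` sending `x` to another transcendental element -/
noncomputable def tauHom (hxtr : Transcendental k x) {x' : K} (hx' : Transcendental k x') :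
    k⟮x⟯ →ₐ[k] K :=
  (k⟮x'⟯.val).comp (((RatFunc.algEquivOfTranscendental x' hx').toAlgHom).comp
    (RatFunc.algEquivOfTranscendental x hxtr).symm.toAlgHom)

lemma tauHom_gen {x' : K} (hx' : Transcendental k x') :
    tauHom hxtr hx' (AdjoinSimple.gen k x) = x' := by
  unfold tauHom
  simp

lemma tauHom_fF {x' : K} (hx' : Transcendental k x') :
    tauHom hxtr hx' (fF a b x) = x' ^ 3 + algebraMap k K a * x' + algebraMap k K b := by
  unfold fF
  rw [map_add, map_add, map_mul, map_pow, tauHom_gen, AlgHom.commutes, AlgHom.commutes]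

/-- the endomorphism `x ↦ x'`, `y ↦ y'` on `k(x)[Y]/(Y² - f)` with values in `K` -/
noncomputable def sigma0 {x' y' : K} (hx' : Transcendental k x')
    (heq' : y' ^ 2 = x' ^ 3 + algebraMap k K a * x' + algebraMap k K b) :
    AdjoinRoot (gP a b x) →+* K :=
  AdjoinRoot.lift (tauHom hxtr hx').toRingHom y' (by
    unfold gP
    rw [eval₂_sub, eval₂_pow, eval₂_X, eval₂_C]
    show y' ^ 2 - tauHom hxtr hx' (fF a b x) = 0
    rw [tauHom_fF, heq', sub_self])

/-- the `k`-algebra endomorphism of `K` with `x ↦ x'`, `y ↦ y'` -/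
noncomputable def sigmaHom {x' y' : K} (hx' : Transcendental k x')
    (heq' : y' ^ 2 = x' ^ 3 + algebraMap k K a * x' + algebraMap k K b) : K →ₐ[k] K :=
  { (sigma0 hxtr hx' heq').comp
      (RingEquiv.ofBijective (eHom heq) (eHom_bijective heq hgen hy)).symm.toRingHom with
    commutes' := fun c => by
      have h1 : (RingEquiv.ofBijective (eHom heq) (eHom_bijective heq hgen hy)).symm
          (algebraMap k K c) = AdjoinRoot.of (gP a b x) (algebraMap k k⟮x⟯ c) := by
        rw [RingEquiv.symm_apply_eq]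
        rw [RingEquiv.ofBijective_apply, eHom_of]
        rfl
      show sigma0 hxtr hx' heq' ((RingEquiv.ofBijective (eHom heq)
        (eHom_bijective heq hgen hy)).symm (algebraMap k K c)) = algebraMap k K c
      rw [h1]
      unfold sigma0
      rw [AdjoinRoot.lift_of]
      exact (tauHom hxtr hx').commutes c }

lemma sigmaHom_x {x' y' : K} (hx' : Transcendental k x')
    (heq' : y' ^ 2 = x' ^ 3 + algebraMap k K a * x' + algebraMap k K b) :
    sigmaHom hxtr heq hgen hy hx' heq' x = x' := by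
  have h1 : (RingEquiv.ofBijective (eHom heq) (eHom_bijective heq hgen hy)).symm x =
      AdjoinRoot.of (gP a b x) (AdjoinSimple.gen k x) := by
    rw [RingEquiv.symm_apply_eq]
    rw [RingEquiv.ofBijective_apply, eHom_of]
    rfl
  show sigma0 hxtr hx' heq' ((RingEquiv.ofBijective (eHom heq)
    (eHom_bijective heq hgen hy)).symm x) = x'
  rw [h1]
  unfold sigma0
  rw [AdjoinRoot.lift_of]
  exact tauHom_gen hxtr hx'

lemma sigmaHom_y {x' y' : K} (hx' : Transcendental k x')
    (heq' : y' ^ 2 = x' ^ 3 + algebraMap k K a * x' + algebraMap k K b) :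
    sigmaHom hxtr heq hgen hy hx' heq' y = y' := by
  have h1 : (RingEquiv.ofBijective (eHom heq) (eHom_bijective heq hgen hy)).symm y =
      AdjoinRoot.root (gP a b x) := by
    rw [RingEquiv.symm_apply_eq]
    rw [RingEquiv.ofBijective_apply, eHom_root]
  show sigma0 hxtr hx' heq' ((RingEquiv.ofBijective (eHom heq)
    (eHom_bijective heq hgen hy)).symm y) = y'
  rw [h1]
  unfold sigma0
  rw [AdjoinRoot.lift_root]

end Construct

lemma poleAt_const (P : Place k K) {c : k} (hc : c ≠ 0) : PoleAt P (algebraMap k K c) 0 := by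
  refine ⟨fun h => hc ((algebraMap k K).injective (by rw [h, map_zero])), ?_, fun Q _ => ?_⟩
  · rw [Place.ord_algebraMap]; norm_num
  · rw [Place.ord_algebraMap]

lemma not_mem_adjoin_x (hK : IsFunctionField k K) {P : Place k K} (hP : P.deg = 1) {x y : K}
    (hx : PoleAt P x 2) (hgen : IntermediateField.adjoin k ({x, y} : Set K) = ⊤) : y ∉ k⟮x⟯ := by
  intro hy
  have hfin : Module.finrank k⟮x⟯ K = 2 := by
    have h2 : PoleAt P x ((2 : ℕ) : ℤ) := by exact_mod_cast hx
    exact h2.finrank hK hP (by norm_num)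
  have htop : k⟮x⟯ = ⊤ := by
    rw [eq_top_iff, ← hgen, IntermediateField.adjoin_le_iff]
    rintro z (rfl | hz)
    · exact IntermediateField.mem_adjoin_simple_self k z
    · rw [Set.mem_singleton_iff] at hz
      subst hz
      exact hy
  rw [htop, IntermediateField.finrank_top] at hfin
  norm_num at hfin

/-- the endomorphism attached to `c` -/
theorem exists_algHom (hK : IsFunctionField k K) {P : Place k K} (hP : P.deg = 1)
    {a b : k} {x y : K} (hx : PoleAt P x 2)
    (heq : y ^ 2 = x ^ 3 + algebraMap k K a * x + algebraMap k K b)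
    (hgen : IntermediateField.adjoin k ({x, y} : Set K) = ⊤)
    (c : k) (hc : c ≠ 0) (h4 : a * (c ^ 4 - 1) = 0) (h6 : b * (c ^ 6 - 1) = 0) :
    ∃ φ : K →ₐ[k] K, φ x = algebraMap k K (c ^ 2) * x ∧ φ y = algebraMap k K (c ^ 3) * y := by
  have hxtr : Transcendental k x := hx.transcendental hK (by norm_num)
  have hynot := not_mem_adjoin_x hK hP hx hgen
  have hx' : PoleAt P (algebraMap k K (c ^ 2) * x) 2 := by
    have := (poleAt_const P (pow_ne_zero 2 hc)).mul hx
    rwa [zero_add] at this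
  have hx'tr : Transcendental k (algebraMap k K (c ^ 2) * x) := hx'.transcendental hK (by norm_num)
  have heq' : (algebraMap k K (c ^ 3) * y) ^ 2 = (algebraMap k K (c ^ 2) * x) ^ 3 +
      algebraMap k K a * (algebraMap k K (c ^ 2) * x) + algebraMap k K b := by
    have h4' := congrArg (algebraMap k K) h4
    have h6' := congrArg (algebraMap k K) h6
    simp only [map_mul, map_sub, map_pow, map_one, map_zero] at h4' h6' ⊢
    linear_combination (algebraMap k K c) ^ 6 * heq + (algebraMap k K c) ^ 2 * x * h4' + h6'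
  exact ⟨sigmaHom hxtr heq hgen hynot hx'tr heq', sigmaHom_x hxtr heq hgen hynot hx'tr heq',
    sigmaHom_y hxtr heq hgen hynot hx'tr heq'⟩

theorem exists_aut (hK : IsFunctionField k K) {P : Place k K} (hP : P.deg = 1)
    {a b : k} {x y : K} (hx : PoleAt P x 2)
    (heq : y ^ 2 = x ^ 3 + algebraMap k K a * x + algebraMap k K b)
    (hgen : IntermediateField.adjoin k ({x, y} : Set K) = ⊤)
    (c : k) (hc : c ≠ 0) (h4 : a * (c ^ 4 - 1) = 0) (h6 : b * (c ^ 6 - 1) = 0) :
    ∃ σ : K ≃ₐ[k] K, (∀ z : K, P.1 (σ z) = P.1 z) ∧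
      σ x = algebraMap k K (c ^ 2) * x ∧ σ y = algebraMap k K (c ^ 3) * y := by
  obtain ⟨φ, hφx, hφy⟩ := exists_algHom hK hP hx heq hgen c hc h4 h6
  have h4i : a * (c⁻¹ ^ 4 - 1) = 0 := by
    have : a * (c⁻¹ ^ 4 - 1) = -(c⁻¹ ^ 4) * (a * (c ^ 4 - 1)) := by
      field_simp
      ring
    rw [this, h4, mul_zero]
  have h6i : b * (c⁻¹ ^ 6 - 1) = 0 := by
    have : b * (c⁻¹ ^ 6 - 1) = -(c⁻¹ ^ 6) * (b * (c ^ 6 - 1)) := by
      field_simp
      ring
    rw [this, h6, mul_zero]
  obtain ⟨ψ, hψx, hψy⟩ := exists_algHom hK hP hx heq hgen c⁻¹ (inv_ne_zero hc) h4i h6i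
  have hcc2 : algebraMap k K (c⁻¹ ^ 2) * algebraMap k K (c ^ 2) = 1 := by
    rw [← map_mul, ← mul_pow, inv_mul_cancel₀ hc, one_pow, map_one]
  have hcc3 : algebraMap k K (c⁻¹ ^ 3) * algebraMap k K (c ^ 3) = 1 := by
    rw [← map_mul, ← mul_pow, inv_mul_cancel₀ hc, one_pow, map_one]
  have h1 : φ.comp ψ = AlgHom.id k K := by
    apply algHom_ext_of_adjoin_top hgen
    rintro z (rfl | hz)
    · rw [AlgHom.comp_apply, hψx, map_mul, AlgHom.commutes, hφx, AlgHom.id_apply, ← mul_assoc,
        hcc2, one_mul]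
    · rw [Set.mem_singleton_iff] at hz
      subst hz
      rw [AlgHom.comp_apply, hψy, map_mul, AlgHom.commutes, hφy, AlgHom.id_apply, ← mul_assoc,
        hcc3, one_mul]
  have h2 : ψ.comp φ = AlgHom.id k K := by
    apply algHom_ext_of_adjoin_top hgen
    rintro z (rfl | hz)
    · rw [AlgHom.comp_apply, hφx, map_mul, AlgHom.commutes, hψx, AlgHom.id_apply, ← mul_assoc,
        mul_comm (algebraMap k K (c ^ 2)), hcc2, one_mul]
    · rw [Set.mem_singleton_iff] at hz
      subst hz
      rw [AlgHom.comp_apply, hφy, map_mul, AlgHom.commutes, hψy, AlgHom.id_apply, ← mul_assoc,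
        mul_comm (algebraMap k K (c ^ 3)), hcc3, one_mul]
  refine ⟨AlgEquiv.ofAlgHom φ ψ h1 h2, ?_, hφx, hφy⟩
  set σ : K ≃ₐ[k] K := AlgEquiv.ofAlgHom φ ψ h1 h2 with hσ
  have hσx : σ x = algebraMap k K (c ^ 2) * x := hφx
  have hPσ : Place.comapAlg P σ = P := by
    by_contra hne
    have h0 := hx.2.2 (Place.comapAlg P σ) hne
    rw [Place.comapAlg_ord, hσx] at h0
    have hx' : PoleAt P (algebraMap k K (c ^ 2) * x) 2 := by
      have := (poleAt_const P (pow_ne_zero 2 hc)).mul hx
      rwa [zero_add] at this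
    rw [hx'.2.1] at h0
    norm_num at h0
  intro z
  rw [← Place.comapAlg_val, hPσ]

end Groth.Agent.H96.EllAut
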