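import Groth.Agent.H96.EllAutCons

set_option autoImplicit false
universe u v

namespace Groth.Agent.H96.EllAut

open FunFld Groth.Agent.H55 IntermediateField

variable {k : Type u} {K : Type v} [Field k] [Field K] [Algebra k K]

lemma poleAt_of_mem {P : Place k K} {u : K} {j : ℤ} (hu : u ∈ L (Finsupp.single P j : Divisor k K))
    (hord : P.ord u = -j) (hj : j ≠ 0) : PoleAt P u j := by
  classical
  have hu0 : u ≠ 0 := by
    rintro rfl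
    rw [Place.ord_zero] at hord
    omega
  refine ⟨hu0, hord, fun Q hQ => ?_⟩
  have := (mem_L_iff_ord hu0).mp hu Q
  rw [Finsupp.single_apply, if_neg (Ne.symm hQ)] at this
  omega

open Classical in
theorem main [IsAlgClosed k] (h2 : (2 : k) ≠ 0) (h3 : (3 : k) ≠ 0)
    (hK : FunFld.IsFunctionField k K) (hgen : FunFld.genus k K = 1) (P : FunFld.Place k K)
    (a b : k) (hdisc : 4 * a ^ 3 + 27 * b ^ 2 ≠ 0) (x y : K)
    (heq : y ^ 2 = x ^ 3 + algebraMap k K a * x + algebraMap k K b)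
    (hxy : IntermediateField.adjoin k ({x, y} : Set K) = ⊤)
    (hx : x ∈ FunFld.L (Finsupp.single P 2)) (hx2 : P.ord x = -2)
    (hy : y ∈ FunFld.L (Finsupp.single P 3)) (hy3 : P.ord y = -3) :
    Nat.card {σ : K ≃ₐ[k] K // ∀ z : K, P.1 (σ z) = P.1 z} =
      if a = 0 then 6 else if b = 0 then 4 else 2 := by
  have hP : P.deg = 1 := Place.deg_eq_one_of_isAlgClosed hK P
  have hxp : PoleAt P x 2 := poleAt_of_mem hx hx2 (by norm_num)
  have hyp : PoleAt P y 3 := poleAt_of_mem hy hy3 (by norm_num)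
  rw [← card_C k h2 h3 a b hdisc]
  have hform := fun σ : {σ : K ≃ₐ[k] K // ∀ z : K, P.1 (σ z) = P.1 z} =>
    aut_form hK hgen hP h2 h3 hxp hyp heq σ.1 σ.2
  choose Ψ hΨ0 hΨ4 hΨ6 hΨx hΨy using hform
  have hx0 : x ≠ 0 := hxp.1
  have hy0 : y ≠ 0 := hyp.1
  apply Nat.card_eq_of_bijective
    (fun σ => (⟨Ψ σ, hΨ0 σ, hΨ4 σ, hΨ6 σ⟩ :
      {c : k // c ≠ 0 ∧ a * (c ^ 4 - 1) = 0 ∧ b * (c ^ 6 - 1) = 0}))
  constructor
  · intro σ σ' h
    have hc : Ψ σ = Ψ σ' := congrArg Subtype.val h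
    apply Subtype.ext
    have : (σ.1 : K →ₐ[k] K) = (σ'.1 : K →ₐ[k] K) := by
      apply algHom_ext_of_adjoin_top hxy
      rintro z (rfl | hz)
      · show σ.1 z = σ'.1 z
        rw [hΨx σ, hΨx σ', hc]
      · rw [Set.mem_singleton_iff] at hz
        subst hz
        show σ.1 z = σ'.1 z
        rw [hΨy σ, hΨy σ', hc]
    ext z
    exact DFunLike.congr_fun this z
  · rintro ⟨c, hc0, hc4, hc6⟩
    obtain ⟨σ, hσP, hσx, hσy⟩ := exists_aut hK hP hxp heq hxy c hc0 hc4 hc6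
    refine ⟨⟨σ, hσP⟩, ?_⟩
    apply Subtype.ext
    show Ψ ⟨σ, hσP⟩ = c
    have e2 : (Ψ ⟨σ, hσP⟩) ^ 2 = c ^ 2 := by
      have h1 := hΨx ⟨σ, hσP⟩
      rw [show (⟨σ, hσP⟩ : {σ : K ≃ₐ[k] K // ∀ z : K, P.1 (σ z) = P.1 z}).1 x = σ x from rfl,
        hσx] at h1
      exact ((algebraMap k K).injective (mul_right_cancel₀ hx0 h1)).symm
    have e3 : (Ψ ⟨σ, hσP⟩) ^ 3 = c ^ 3 := by
      have h1 := hΨy ⟨σ, hσP⟩
      rw [show (⟨σ, hσP⟩ : {σ : K ≃ₐ[k] K // ∀ z : K, P.1 (σ z) = P.1 z}).1 y = σ y from rfl,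
        hσy] at h1
      exact ((algebraMap k K).injective (mul_right_cancel₀ hy0 h1)).symm
    have hne := hΨ0 ⟨σ, hσP⟩
    have : Ψ ⟨σ, hσP⟩ * c ^ 2 = c * c ^ 2 := by
      calc Ψ ⟨σ, hσP⟩ * c ^ 2 = Ψ ⟨σ, hσP⟩ * (Ψ ⟨σ, hσP⟩) ^ 2 := by rw [e2]
        _ = (Ψ ⟨σ, hσP⟩) ^ 3 := by ring
        _ = c ^ 3 := e3
        _ = c * c ^ 2 := by ring
    exact mul_right_cancel₀ (pow_ne_zero 2 hc0) this

end Groth.Agent.H96.EllAut
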