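import Mathlib

set_option autoImplicit false
universe u
open CategoryTheory CategoryTheory.Limits MonoidalCategory CartesianMonoidalCategory MonObj AlgebraicGeometry

namespace Groth.Agent.H96.EtSepHom

set_option backward.isDefEq.respectTransparency false in
/-- the equalizer of two morphisms into a scheme with open diagonal is an open immersion -/
theorem isOpenImmersion_equalizer_ι_left {S : Scheme.{u}} {X Y : Over S}
    [IsOpenImmersion (pullback.diagonal Y.hom)]
    (f g : X ⟶ Y) : IsOpenImmersion (equalizer.ι f g).left := by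
  refine MorphismProperty.of_isPullback
    ((Limits.isPullback_equalizer_prod f g).map (Over.forget _)).flip ?_
  rw [← MorphismProperty.cancel_right_of_respectsIso @IsOpenImmersion _
    (Over.prodLeftIsoPullback Y Y).hom]
  convert! (inferInstance : IsOpenImmersion (pullback.diagonal Y.hom))
  ext1 <;> simp [← Over.comp_left]

theorem main {S : Scheme.{u}} (P X : Over S)
    [GrpObj P] [GrpObj X]
    [Etale X.hom] [IsSeparated X.hom]
    (hP : ∀ s : S, ConnectedSpace ↥(P.hom.fiber s))
    (f : P ⟶ X) [IsMonHom f] : f = 1 := by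
  have hdiag : IsOpenImmersion (pullback.diagonal X.hom) := inferInstance
  have hopen : IsOpenImmersion (equalizer.ι f 1).left := isOpenImmersion_equalizer_ι_left f 1
  have hclosed : IsClosedImmersion (equalizer.ι f 1).left := inferInstance
  -- the unit section factors through the equalizer
  have hη : (η : 𝟙_ (Over S) ⟶ P) ≫ f = η ≫ (1 : P ⟶ X) := by
    rw [IsMonHom.one_hom, MonObj.comp_one, Hom.one_def, toUnit_unit, Category.id_comp]
  set j := (equalizer.ι f 1).left with hj
  have hrange_unit : ∀ s : S, (η : 𝟙_ (Over S) ⟶ P).left s ∈ Set.range j := by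
    intro s
    have h1 : equalizer.lift η hη ≫ equalizer.ι f 1 = η := equalizer.lift_ι _ _
    have h2 : (equalizer.lift (η : 𝟙_ (Over S) ⟶ P) hη).left ≫ j = (η : 𝟙_ (Over S) ⟶ P).left := by
      rw [hj, ← Over.comp_left, h1]
    refine ⟨(equalizer.lift (η : 𝟙_ (Over S) ⟶ P) hη).left s, ?_⟩
    rw [← Scheme.Hom.comp_apply, h2]
  have hclopen : IsClopen (Set.range j) :=
    ⟨j.isClosedEmbedding.isClosed_range, j.isOpenEmbedding.isOpen_range⟩
  have hsurj : Function.Surjective j := by
    intro p
    set s := P.hom p with hs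
    have hpre : _root_.IsPreconnected (P.hom ⁻¹' {s}) := by
      rw [← Scheme.Hom.range_fiberι]
      have := hP s
      exact isPreconnected_range (P.hom.fiberι s).continuous
    have hne : (P.hom ⁻¹' {s} ∩ Set.range j).Nonempty := by
      refine ⟨(η : 𝟙_ (Over S) ⟶ P).left s, ?_, hrange_unit s⟩
      show P.hom ((η : 𝟙_ (Over S) ⟶ P).left s) = s
      rw [← Scheme.Hom.comp_apply, Over.w]
      rfl
    exact hpre.subset_isClopen hclopen hne rfl
  have hepi : Epi j.base := (TopCat.epi_iff_surjective _).mpr hsurj
  have hiso : IsIso j := (isIso_iff_isOpenImmersion_and_epi_base j).mpr ⟨hopen, hepi⟩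
  have hiso' : IsIso (equalizer.ι f 1) := by
    have : IsIso ((Over.forget S).map (equalizer.ι f 1)) := hiso
    exact isIso_of_reflects_iso _ (Over.forget S)
  exact (cancel_epi (equalizer.ι f 1)).mp (equalizer.condition f 1)

end Groth.Agent.H96.EtSepHom
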