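import Mathlib
import Groth.Agent.H85.DetExp
import Groth.Agent.H85.ExpLog

/-!
# Formal part of the cohomological expression of the zeta function

If `N m = ∑ i, (-1)^i tr(φ_i^m)` for all `m ≥ 1`, then
`exp(∑ N_m t^m / m) * ∏ det(1 - t φ_{2i}) = ∏ det(1 - t φ_{2i+1})`.
-/

set_option autoImplicit false
set_option linter.style.haveILetI false
set_option linter.unusedSectionVars false
set_option linter.unusedVariables false

open PowerSeries

namespace Groth.Agent.H96.FrobZetaFormal

variable {K : Type*} [Field K] [CharZero K]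

/-- The series `∑_m tr(φ^{m+1}) t^m`. -/
noncomputable def trS {V : Type*} [AddCommGroup V] [Module K V] (φ : V →ₗ[K] V) : K⟦X⟧ :=
  mk fun m => LinearMap.trace K V (φ ^ (m + 1))

/-- `det(1 - tφ)` as a power series. -/
noncomputable def D {V : Type*} [AddCommGroup V] [Module K V] [Module.Finite K V]
    (φ : V →ₗ[K] V) : K⟦X⟧ :=
  ((LinearMap.charpoly φ).reverse : Polynomial K)

theorem derivative_D {V : Type*} [AddCommGroup V] [Module K V] [Module.Finite K V]
    (φ : V →ₗ[K] V) : d⁄dX K (D φ) = -trS φ * D φ := by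
  classical
  let b := Module.finBasis K V
  set M := LinearMap.toMatrix b b φ with hM
  have h1 : D φ = (Groth.Agent.H85.DetExp.A M).det := by
    rw [Groth.Agent.H85.DetExp.det_A, ← Matrix.reverse_charpoly, hM, LinearMap.charpoly_toMatrix]
    rfl
  have h2 : Groth.Agent.H85.DetExp.trSeries M = trS φ := by
    unfold Groth.Agent.H85.DetExp.trSeries trS
    congr 1
    funext m
    rw [LinearMap.trace_eq_matrix_trace K b, LinearMap.toMatrix_pow]
  rw [h1, Groth.Agent.H85.DetExp.derivative_det_A, h2]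

theorem constantCoeff_D {V : Type*} [AddCommGroup V] [Module K V] [Module.Finite K V]
    (φ : V →ₗ[K] V) : constantCoeff (D φ) = 1 := by
  unfold D
  rw [← coeff_zero_eq_constantCoeff_apply, Polynomial.coeff_coe, Polynomial.coeff_zero_reverse,
    (LinearMap.charpoly_monic φ).leadingCoeff]

theorem derivative_prod {ι : Type*} (s : Finset ι) (g t : ι → K⟦X⟧)
    (h : ∀ i ∈ s, d⁄dX K (g i) = t i * g i) :
    d⁄dX K (∏ i ∈ s, g i) = (∑ i ∈ s, t i) * ∏ i ∈ s, g i := by
  classical
  induction s using Finset.induction_on with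
  | empty => simp
  | insert a s ha ih =>
    rw [Finset.prod_insert ha, Finset.sum_insert ha, Derivation.leibniz,
      ih (fun i hi => h i (Finset.mem_insert_of_mem hi)), h a (Finset.mem_insert_self a s)]
    simp only [smul_eq_mul]
    ring

theorem constantCoeff_prod {ι : Type*} (s : Finset ι) (g : ι → K⟦X⟧)
    (h : ∀ i ∈ s, constantCoeff (g i) = 1) : constantCoeff (∏ i ∈ s, g i) = 1 := by
  rw [map_prod]
  exact Finset.prod_eq_one h

theorem alt_sum_split {R : Type*} [CommRing R] (n : ℕ) (g : ℕ → R) :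
    ∑ j ∈ Finset.range (2 * n + 1), (-1 : R) ^ j * g j =
      ∑ i ∈ Finset.range (n + 1), g (2 * i) - ∑ i ∈ Finset.range n, g (2 * i + 1) := by
  induction n with
  | zero => simp
  | succ n ih =>
    have e : 2 * (n + 1) + 1 = 2 * n + 1 + 1 + 1 := by ring
    have e1 : (-1 : R) ^ (2 * n + 1) = -1 := by
      rw [pow_succ, pow_mul]; simp
    have e2 : (-1 : R) ^ (2 * n + 1 + 1) = 1 := by
      rw [pow_succ, e1]; simp
    have e3 : 2 * n + 1 + 1 = 2 * (n + 1) := by ring
    have h1 : ∑ i ∈ Finset.range (n + 1 + 1), g (2 * i) =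
        ∑ i ∈ Finset.range (n + 1), g (2 * i) + g (2 * (n + 1)) := Finset.sum_range_succ _ _
    have h2 : ∑ i ∈ Finset.range (n + 1), g (2 * i + 1) =
        ∑ i ∈ Finset.range n, g (2 * i + 1) + g (2 * n + 1) := Finset.sum_range_succ _ _
    rw [e, Finset.sum_range_succ, Finset.sum_range_succ, ih, h1, h2, e1, e2, e3]
    ring

theorem derivative_map (z : ℚ⟦X⟧) :
    d⁄dX K (PowerSeries.map (algebraMap ℚ K) z) = PowerSeries.map (algebraMap ℚ K) (d⁄dX ℚ z) := by
  ext m
  rw [coeff_derivative, coeff_map, coeff_map, coeff_derivative, map_mul, map_add, map_natCast,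
    map_one]

/-- The formal identity. -/
theorem formal (N : ℕ → ℕ) (n : ℕ) (V : ℕ → Type*) [∀ i, AddCommGroup (V i)]
    [∀ i, Module K (V i)] [∀ i, Module.Finite K (V i)] (φ : ∀ i, V i →ₗ[K] V i)
    (hN : ∀ m : ℕ, 1 ≤ m → (N m : K) = ∑ i ∈ Finset.range (2 * n + 1),
      (-1 : K) ^ i * LinearMap.trace K (V i) (φ i ^ m)) :
    PowerSeries.map (algebraMap ℚ K)
        ((exp ℚ).subst (mk fun m : ℕ => (N m : ℚ) / (m : ℚ))) *
      ∏ i ∈ Finset.range (n + 1), D (φ (2 * i)) =
    ∏ i ∈ Finset.range n, D (φ (2 * i + 1)) := by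
  classical
  set L : ℚ⟦X⟧ := mk fun m : ℕ => (N m : ℚ) / (m : ℚ) with hL
  have hL0 : constantCoeff L = 0 := by
    simp [hL]
  have hs : HasSubst L := HasSubst.of_constantCoeff_zero' hL0
  have hZ : d⁄dX ℚ ((exp ℚ).subst L) = d⁄dX ℚ L * (exp ℚ).subst L := by
    rw [derivative_subst hs, derivative_exp, mul_comm]
  have hZ0 : constantCoeff ((exp ℚ).subst L) = 1 := by
    rw [Groth.Agent.H85.ExpLog.constantCoeff_subst_of_zero hL0]
    simp
  set Z : K⟦X⟧ := PowerSeries.map (algebraMap ℚ K) ((exp ℚ).subst L) with hZdef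
  have hZK : d⁄dX K Z = PowerSeries.map (algebraMap ℚ K) (d⁄dX ℚ L) * Z := by
    rw [hZdef, derivative_map, hZ, map_mul]
  have hZK0 : constantCoeff Z = 1 := by
    rw [hZdef, ← coeff_zero_eq_constantCoeff_apply, coeff_map, coeff_zero_eq_constantCoeff_apply,
      hZ0, map_one]
  -- the coefficient identity
  have hcoef : PowerSeries.map (algebraMap ℚ K) (d⁄dX ℚ L) +
      ∑ i ∈ Finset.range (n + 1), -trS (φ (2 * i)) =
      ∑ i ∈ Finset.range n, -trS (φ (2 * i + 1)) := by
    ext m
    rw [map_add, map_sum, map_sum, coeff_map, coeff_derivative, hL, coeff_mk]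
    have h3 : ((N (m + 1) : ℕ) : ℚ) / ((m + 1 : ℕ) : ℚ) * ((m : ℚ) + 1) = (N (m + 1) : ℚ) := by
      push_cast
      field_simp
    rw [h3, map_natCast, hN (m + 1) (by omega), alt_sum_split]
    simp only [trS, map_neg, coeff_mk, Finset.sum_neg_distrib]
    ring
  apply Groth.Agent.H85.ExpLog.ode_unique (a := ∑ i ∈ Finset.range n, -trS (φ (2 * i + 1)))
  · rw [Derivation.leibniz, hZK,
      derivative_prod _ _ (fun i => -trS (φ (2 * i))) (fun i _ => derivative_D _), ← hcoef]
    simp only [smul_eq_mul]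
    ring
  · exact derivative_prod _ _ _ (fun i _ => derivative_D _)
  · rw [map_mul, hZK0, constantCoeff_prod _ _ (fun i _ => constantCoeff_D _),
      constantCoeff_prod _ _ (fun i _ => constantCoeff_D _), one_mul]

end Groth.Agent.H96.FrobZetaFormal
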