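import Mathlib
import Groth.Agent.H85.ExpLog
import Groth.Agent.H96.FrobZetaFormal

/-!
# Formal identities for `exp (L)` over a field of characteristic zero

* `exp_subst_sum`, `rescale_exp_subst`, `map_exp_subst`;
* `formal_bc`: if `N' j = N (r j)` then `Z'(t^r) = ∏_{i<r} Z(ξ^i t)`.
-/

set_option autoImplicit false
set_option linter.style.haveILetI false
set_option linter.unusedSectionVars false
set_option linter.unusedVariables false

open PowerSeries

namespace Groth.Agent.H96.ExpFormal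

variable {K : Type*} [Field K] [CharZero K]

theorem exp_subst_sum {ι : Type*} (s : Finset ι) (L : ι → K⟦X⟧)
    (hL : ∀ i ∈ s, constantCoeff (L i) = 0) :
    (exp K).subst (∑ i ∈ s, L i) = ∏ i ∈ s, (exp K).subst (L i) := by
  classical
  have h0 : constantCoeff (∑ i ∈ s, L i) = 0 := by
    rw [map_sum]
    exact Finset.sum_eq_zero hL
  have hs : HasSubst (∑ i ∈ s, L i) := HasSubst.of_constantCoeff_zero' h0
  apply Groth.Agent.H85.ExpLog.ode_unique (a := ∑ i ∈ s, d⁄dX K (L i))
  · rw [derivative_subst hs, derivative_exp, map_sum, mul_comm]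
  · refine Groth.Agent.H96.FrobZetaFormal.derivative_prod s _ (fun i => d⁄dX K (L i)) ?_
    intro i hi
    have hsi : HasSubst (L i) := HasSubst.of_constantCoeff_zero' (hL i hi)
    rw [derivative_subst hsi, derivative_exp, mul_comm]
  · rw [Groth.Agent.H85.ExpLog.constantCoeff_subst_of_zero h0, map_prod]
    rw [Finset.prod_congr rfl (fun i hi =>
      Groth.Agent.H85.ExpLog.constantCoeff_subst_of_zero (f := exp K) (hL i hi))]
    simp

theorem rescale_exp_subst (a : K) (L : K⟦X⟧) (hL : constantCoeff L = 0) :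
    rescale a ((exp K).subst L) = (exp K).subst (rescale a L) := by
  have hs : HasSubst L := HasSubst.of_constantCoeff_zero' hL
  rw [rescale_eq_subst, subst_comp_subst_apply hs (HasSubst.smul_X' a), ← rescale_eq_subst]

theorem map_exp_subst (L : ℚ⟦X⟧) (hL : constantCoeff L = 0) :
    PowerSeries.map (algebraMap ℚ K) ((exp ℚ).subst L) =
      (exp K).subst (PowerSeries.map (algebraMap ℚ K) L) := by
  have hs : HasSubst L := HasSubst.of_constantCoeff_zero' hL
  have h := PowerSeries.map_subst (τ := Unit) hs (h := algebraMap ℚ K) (exp ℚ)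
  rw [map_exp] at h
  exact h

theorem sum_pow_primitiveRoot {ξ : K} {r : ℕ} (hr : 1 ≤ r) (hξ : IsPrimitiveRoot ξ r) (m : ℕ) :
    ∑ i ∈ Finset.range r, (ξ ^ i) ^ m = if r ∣ m then (r : K) else 0 := by
  have h1 : ∀ i, (ξ ^ i) ^ m = (ξ ^ m) ^ i := fun i => by rw [← pow_mul, ← pow_mul, mul_comm]
  simp only [h1]
  split_ifs with h
  · have : ξ ^ m = 1 := (hξ.pow_eq_one_iff_dvd m).mpr h
    simp [this]
  · have hne : ξ ^ m ≠ 1 := fun h' => h ((hξ.pow_eq_one_iff_dvd m).mp h')
    rw [geom_sum_eq hne, ← pow_mul, mul_comm, pow_mul, hξ.pow_eq_one, one_pow, sub_self, zero_div]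

/-- The formal base change identity. -/
theorem formal_bc (N N' : ℕ → ℕ) (r : ℕ) (hr : 1 ≤ r) (hN : ∀ j, N' j = N (r * j)) (ξ : K)
    (hξ : IsPrimitiveRoot ξ r) :
    PowerSeries.subst ((X : K⟦X⟧) ^ r) (PowerSeries.map (algebraMap ℚ K)
        ((exp ℚ).subst (mk fun m : ℕ => (N' m : ℚ) / (m : ℚ)))) =
      ∏ i ∈ Finset.range r, rescale (ξ ^ i) (PowerSeries.map (algebraMap ℚ K)
        ((exp ℚ).subst (mk fun m : ℕ => (N m : ℚ) / (m : ℚ)))) := by
  set L : ℚ⟦X⟧ := mk fun m : ℕ => (N m : ℚ) / (m : ℚ) with hLdef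
  set L' : ℚ⟦X⟧ := mk fun m : ℕ => (N' m : ℚ) / (m : ℚ) with hL'def
  have hL0 : constantCoeff L = 0 := by simp [hLdef]
  have hL'0 : constantCoeff L' = 0 := by simp [hL'def]
  set LK := PowerSeries.map (algebraMap ℚ K) L with hLK
  set L'K := PowerSeries.map (algebraMap ℚ K) L' with hL'K
  have hLK0 : constantCoeff LK = 0 := by
    rw [hLK, ← coeff_zero_eq_constantCoeff_apply, coeff_map, coeff_zero_eq_constantCoeff_apply,
      hL0, map_zero]
  have hL'K0 : constantCoeff L'K = 0 := by
    rw [hL'K, ← coeff_zero_eq_constantCoeff_apply, coeff_map, coeff_zero_eq_constantCoeff_apply,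
      hL'0, map_zero]
  have hr0 : r ≠ 0 := by omega
  have hsX : HasSubst ((X : K⟦X⟧) ^ r) := HasSubst.X_pow hr0
  rw [map_exp_subst L' hL'0, map_exp_subst L hL0,
    subst_comp_subst_apply (HasSubst.of_constantCoeff_zero' hL'K0) hsX]
  have h1 : ∀ i ∈ Finset.range r, rescale (ξ ^ i) ((exp K).subst LK) =
      (exp K).subst (rescale (ξ ^ i) LK) := fun i _ => rescale_exp_subst _ _ hLK0
  rw [Finset.prod_congr rfl h1, ← exp_subst_sum]
  · congr 1
    rw [← expand_apply r hr0]
    ext m
    rw [coeff_expand, map_sum]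
    simp only [coeff_rescale, hLK, hL'K, coeff_map, hLdef, hL'def, coeff_mk]
    rw [← Finset.sum_mul, sum_pow_primitiveRoot hr hξ]
    split_ifs with h
    · obtain ⟨j, rfl⟩ := h
      rw [Nat.mul_div_cancel_left _ (by omega : 0 < r), hN j]
      rcases Nat.eq_zero_or_pos j with rfl | hj
      · simp
      · have hjK : (j : K) ≠ 0 := by exact_mod_cast hj.ne'
        have hrK : (r : K) ≠ 0 := by exact_mod_cast hr0
        simp only [map_div₀, map_natCast]
        push_cast
        field_simp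
    · rw [zero_mul]
  · intro i _
    rw [← coeff_zero_eq_constantCoeff_apply, coeff_rescale, coeff_zero_eq_constantCoeff_apply,
      hLK0, mul_zero]

end Groth.Agent.H96.ExpFormal
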