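import Groth.Agent.H55.FFRiemannRoch

/-!
# Function fields: elements with pairwise distinct valuations at a place are linearly independent
-/

set_option autoImplicit false

namespace Groth.Agent.H96.FFVal

open FunFld Groth.Agent.H55

variable {k K : Type*} [Field k] [Field K] [Algebra k K]

theorem val_smul (P : Place k K) {c : k} (hc : c ≠ 0) (x : K) : P.1 (c • x) = P.1 x := by
  rw [Algebra.smul_def, map_mul, Place.val_algebraMap_eq_one P hc, one_mul]

theorem linearIndependent_of_val_injective (P : Place k K) {ι : Type*} (x : ι → K)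
    (hx0 : ∀ i, x i ≠ 0) (hinj : Function.Injective (fun i => P.1 (x i))) :
    LinearIndependent k x := by
  classical
  rw [linearIndependent_iff']
  intro s c hsum
  by_contra hcon
  push Not at hcon
  obtain ⟨i1, hi1s, hci1⟩ := hcon
  set s' := s.filter (fun i => c i ≠ 0) with hs'
  have hne : s'.Nonempty := ⟨i1, Finset.mem_filter.mpr ⟨hi1s, hci1⟩⟩
  obtain ⟨i0, hi0, hmax⟩ := Finset.exists_max_image s' (fun i => P.1 (x i)) hne
  have hsum' : ∑ i ∈ s', c i • x i = 0 := by
    rw [← hsum, hs', Finset.sum_filter]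
    apply Finset.sum_congr rfl
    intro i _
    by_cases h : c i = 0 <;> simp [h]
  rw [← Finset.add_sum_erase s' _ hi0] at hsum'
  have hlt : P.1 (∑ i ∈ s'.erase i0, c i • x i) < P.1 (x i0) := by
    apply Valuation.map_sum_lt
    · exact (Valuation.ne_zero_iff _).mpr (hx0 i0)
    · intro i hi
      have hi' := Finset.mem_of_mem_erase hi
      rw [val_smul P (Finset.mem_filter.mp hi').2]
      exact lt_of_le_of_ne (hmax i hi') (fun h => (Finset.ne_of_mem_erase hi) (hinj h))
  have h1 : c i0 • x i0 = - ∑ i ∈ s'.erase i0, c i • x i := eq_neg_of_add_eq_zero_left hsum'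
  have h2 := congrArg P.1 h1
  rw [val_smul P (Finset.mem_filter.mp hi0).2, Valuation.map_neg] at h2
  exact absurd h2 (ne_of_gt hlt)

/-- value of an element from its order -/
theorem val_eq_exp_of_ord (P : Place k K) {x : K} {m : ℤ} (hm : m ≠ 0) (h : P.ord x = -m) :
    x ≠ 0 ∧ P.1 x = WithZero.exp m := by
  have hx0 : x ≠ 0 := by
    rintro rfl
    simp [Place.ord] at h
    exact hm h
  refine ⟨hx0, ?_⟩
  have : WithZero.log (P.1 x) = m := by
    unfold Place.ord at h
    omega
  rw [← this, WithZero.exp_log]
  exact (Valuation.ne_zero_iff _).mpr hx0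

end Groth.Agent.H96.FFVal
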