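import Groth.Prelude.Def_W4c6instabfans3Fan
import Groth.Agent.H96.ConeCore

/-!
# Formal fans: fibre products of cones at a real point, and the common sub-cone lemma
-/

set_option autoImplicit false

open CategoryTheory Opposite Instab

universe u

namespace Groth.Agent.H96.FanCore

open Groth.Agent.H96.ConeCore

/-- matrix entry of a cone morphism -/
def ent {k n : ICone} (φ : k ⟶ n) (r : Fin n.dim) (i : Fin k.dim) : ℤ :=
  φ.toLin (Pi.single i 1) r

lemma toLin_apply {k n : ICone} (φ : k ⟶ n) (x : Fin k.dim → ℤ) (r : Fin n.dim) :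
    φ.toLin x r = ∑ i, ent φ r i * x i := by
  have h := LinearMap.pi_apply_eq_sum_univ φ.toLin x
  rw [h]
  simp only [Finset.sum_apply, Pi.smul_apply, smul_eq_mul, ent]
  apply Finset.sum_congr rfl
  intro i _
  rw [mul_comm]
  have : (fun j => if i = j then (1:ℤ) else 0) = Pi.single i 1 := by
    funext j
    simp [Pi.single_apply, eq_comm]
  rw [this]

lemma realMap_apply {k n : ICone} (φ : k ⟶ n) (v : Fin k.dim → ℝ) (r : Fin n.dim) :
    φ.realMap v r = ∑ i, (ent φ r i : ℝ) * v i := rfl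

lemma realMap_smul {k n : ICone} (φ : k ⟶ n) (s : ℝ) (v : Fin k.dim → ℝ) :
    φ.realMap (s • v) = s • φ.realMap v := by
  funext r
  simp only [realMap_apply, Pi.smul_apply, smul_eq_mul, Finset.mul_sum]
  apply Finset.sum_congr rfl
  intro i _
  ring

lemma comp_toLin {k m n : ICone} (α : k ⟶ m) (φ : m ⟶ n) :
    (α ≫ φ).toLin = φ.toLin.comp α.toLin := rfl

lemma ent_comp {k m n : ICone} (α : k ⟶ m) (φ : m ⟶ n) (r : Fin n.dim) (j : Fin k.dim) :
    ent (α ≫ φ) r j = ∑ i, ent φ r i * ent α i j := by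
  unfold ent
  rw [comp_toLin, LinearMap.comp_apply, toLin_apply]
  rfl

lemma realMap_comp {k m n : ICone} (α : k ⟶ m) (φ : m ⟶ n) (v : Fin k.dim → ℝ) :
    (α ≫ φ).realMap v = φ.realMap (α.realMap v) := by
  funext r
  simp only [realMap_apply, ent_comp, Finset.mul_sum]
  push_cast
  simp only [Finset.sum_mul]
  rw [Finset.sum_comm]
  apply Finset.sum_congr rfl
  intro i _
  apply Finset.sum_congr rfl
  intro j _
  ring

lemma realMap_id {k : ICone} (v : Fin k.dim → ℝ) : (𝟙 k : k ⟶ k).realMap v = v := by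
  funext r
  rw [realMap_apply]
  have : ∀ i, ent (𝟙 k : k ⟶ k) r i = if i = r then 1 else 0 := by
    intro i
    unfold ent
    change (Pi.single i (1 : ℤ) : Fin k.dim → ℤ) r = _
    rw [Pi.single_apply]
    simp [eq_comm]
  simp only [this]
  simp

/-- a linear map from a matrix -/
def matLin {m k : ℕ} (A : Fin k → Fin m → ℤ) : (Fin m → ℤ) →ₗ[ℤ] (Fin k → ℤ) where
  toFun c i := ∑ j, A i j * c j
  map_add' c d := by
    funext i
    simp only [Pi.add_apply, mul_add, Finset.sum_add_distrib]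
  map_smul' s c := by
    funext i
    simp only [Pi.smul_apply, smul_eq_mul, RingHom.id_apply, Finset.mul_sum]
    apply Finset.sum_congr rfl
    intro j _
    ring

lemma matLin_apply {m k : ℕ} (A : Fin k → Fin m → ℤ) (c : Fin m → ℤ) (i : Fin k) :
    matLin A c i = ∑ j, A i j * c j := rfl

/-- a cone morphism from a nonnegative matrix with trivial kernel -/
def ofMatrix {m k : ICone} (A : Fin k.dim → Fin m.dim → ℤ) (hA : ∀ i j, 0 ≤ A i j)
    (hinj : Function.Injective (matLin A)) : m ⟶ k where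
  toLin := matLin A
  injective := hinj
  nonneg v hv i := by
    rw [matLin_apply]
    exact Finset.sum_nonneg (fun j _ => mul_nonneg (hA i j) (hv j))

lemma ent_ofMatrix {m k : ICone} (A : Fin k.dim → Fin m.dim → ℤ) (hA : ∀ i j, 0 ≤ A i j)
    (hinj : Function.Injective (matLin A)) (i : Fin k.dim) (j : Fin m.dim) :
    ent (ofMatrix A hA hinj) i j = A i j := by
  unfold ent
  change matLin A (Pi.single j 1) i = _
  rw [matLin_apply]
  simp [Pi.single_apply]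

/-- **Fibre product of cones at a real point.** -/
theorem exists_fiber_point {k k' n : ICone} (φ : k ⟶ n) (ψ : k' ⟶ n)
    (y : Fin k.dim → ℝ) (y' : Fin k'.dim → ℝ) (hy : ∀ i, 0 ≤ y i) (hy0 : y ≠ 0)
    (hy' : ∀ i, 0 ≤ y' i) (h : φ.realMap y = ψ.realMap y') :
    ∃ (m : ICone) (α : m ⟶ k) (β : m ⟶ k') (z : Fan.Orth m),
      α ≫ φ = β ≫ ψ ∧ α.realMap z.1 = y ∧ β.realMap z.1 = y' := by
  classical
  let a : Fin n.dim → (Fin k.dim ⊕ Fin k'.dim) → ℤ :=
    fun r => Sum.elim (fun i => ent φ r i) (fun i => - ent ψ r i)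
  let p : (Fin k.dim ⊕ Fin k'.dim) → ℝ := Sum.elim y y'
  have hp0 : ∀ i, 0 ≤ p i := by
    rintro (i | i)
    · exact hy i
    · exact hy' i
  have hsol : IsSolR a p := by
    intro r
    rw [Fintype.sum_sum_type]
    have h1 := congr_fun h r
    rw [realMap_apply, realMap_apply] at h1
    simp only [a, p, Sum.elim_inl, Sum.elim_inr, Int.cast_neg, neg_mul, Finset.sum_neg_distrib]
    rw [h1]
    ring
  obtain ⟨m₀, u, t, hu0, husol, ht, hpt, -, hind⟩ := exists_decomp a _ p rfl hp0 hsol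
  have hm₀ : 0 < m₀ := by
    rcases Nat.eq_zero_or_pos m₀ with h0 | h0
    · exfalso
      subst h0
      apply hy0
      funext i
      have := hpt (Sum.inl i)
      simpa [p] using this
    · exact h0
  obtain ⟨m, rfl⟩ : ∃ m : ICone, (m.dim : ℕ) = m₀ := ⟨⟨⟨m₀, hm₀⟩⟩, rfl⟩
  let A : Fin k.dim → Fin m.dim → ℤ := fun i j => u j (Sum.inl i)
  let B : Fin k'.dim → Fin m.dim → ℤ := fun i j => u j (Sum.inr i)
  -- the key identity
  have hkey : ∀ c : Fin m.dim → ℤ, φ.toLin (matLin A c) = ψ.toLin (matLin B c) := by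
    intro c
    funext r
    rw [toLin_apply, toLin_apply]
    simp only [matLin_apply, A, B, Finset.mul_sum]
    rw [Finset.sum_comm]
    conv_rhs => rw [Finset.sum_comm]
    apply Finset.sum_congr rfl
    intro j _
    have hj := husol j r
    rw [Fintype.sum_sum_type] at hj
    simp only [a, Sum.elim_inl, Sum.elim_inr, neg_mul, Finset.sum_neg_distrib] at hj
    have hj' : ∑ i, ent φ r i * u j (Sum.inl i) = ∑ i, ent ψ r i * u j (Sum.inr i) := by linarith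
    calc ∑ i, ent φ r i * (u j (Sum.inl i) * c j)
        = (∑ i, ent φ r i * u j (Sum.inl i)) * c j := by
          rw [Finset.sum_mul]; apply Finset.sum_congr rfl; intro i _; ring
      _ = (∑ i, ent ψ r i * u j (Sum.inr i)) * c j := by rw [hj']
      _ = ∑ i, ent ψ r i * (u j (Sum.inr i) * c j) := by
          rw [Finset.sum_mul]; apply Finset.sum_congr rfl; intro i _; ring
  have hzero : ∀ c : Fin m.dim → ℤ, matLin A c = 0 → matLin B c = 0 → c = 0 := by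
    intro c hA hB
    funext j
    apply hind c _ j
    rintro (i | i)
    · have := congr_fun hA i
      rw [matLin_apply] at this
      simp only [A, Pi.zero_apply] at this
      rw [← this]
      apply Finset.sum_congr rfl
      intro j _
      ring
    · have := congr_fun hB i
      rw [matLin_apply] at this
      simp only [B, Pi.zero_apply] at this
      rw [← this]
      apply Finset.sum_congr rfl
      intro j _
      ring
  have hAinj : Function.Injective (matLin A) := by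
    rw [← LinearMap.ker_eq_bot, LinearMap.ker_eq_bot']
    intro c hc
    apply hzero c hc
    apply ψ.injective
    rw [← hkey c, hc, map_zero, map_zero]
  have hBinj : Function.Injective (matLin B) := by
    rw [← LinearMap.ker_eq_bot, LinearMap.ker_eq_bot']
    intro c hc
    apply hzero c _ hc
    apply φ.injective
    rw [hkey c, hc, map_zero, map_zero]
  let α : m ⟶ k := ofMatrix A (fun i j => hu0 j _) hAinj
  let β : m ⟶ k' := ofMatrix B (fun i j => hu0 j _) hBinj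
  have ht0 : t ≠ 0 := by
    intro h0
    have := ht ⟨0, hm₀⟩
    change 0 < (t : Fin m.dim → ℝ) ⟨0, hm₀⟩ at this
    rw [h0] at this
    simp at this
  refine ⟨m, α, β, ⟨t, fun j => (ht j).le, ht0⟩, ?_, ?_, ?_⟩
  · apply ICone.Hom.ext
    apply LinearMap.ext
    intro c
    exact hkey c
  · funext i
    rw [realMap_apply]
    have := hpt (Sum.inl i)
    simp only [p, Sum.elim_inl] at this
    rw [this]
    apply Finset.sum_congr rfl
    intro j _
    rw [ent_ofMatrix]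
    ring
  · funext i
    rw [realMap_apply]
    have := hpt (Sum.inr i)
    simp only [p, Sum.elim_inr] at this
    rw [this]
    apply Finset.sum_congr rfl
    intro j _
    rw [ent_ofMatrix]
    ring

/-! ## points of the projective realization -/

lemma mk_eq_of_glue {F : Fan.{u}} {k n : ICone} (φ : k ⟶ n) (ξ : F.obj (op n)) (v : Fan.Orth k)
    (w : Fan.Orth n) (c : ℝ) (hc : 0 < c) (h : w.1 = c • φ.realMap v.1) :
    Fan.P.mk (F.map φ.op ξ) v = Fan.P.mk ξ w :=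
  Quot.sound (Fan.Rel.glue φ ξ v w c hc h)

lemma map_comp_op {F : Fan.{u}} {k m n : ICone} (α : k ⟶ m) (φ : m ⟶ n) (ξ : F.obj (op n)) :
    F.map (α ≫ φ).op ξ = F.map α.op (F.map φ.op ξ) := by
  rw [op_comp, Functor.map_comp_apply]

lemma map_id_op {F : Fan.{u}} {n : ICone} (ξ : F.obj (op n)) :
    F.map (𝟙 n : n ⟶ n).op ξ = ξ := by
  rw [op_id, Functor.map_id_apply]

lemma mk_smul {F : Fan.{u}} {n : ICone} (ξ : F.obj (op n)) (v w : Fan.Orth n) (c : ℝ)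
    (hc : 0 < c) (h : w.1 = c • v.1) : Fan.P.mk ξ v = Fan.P.mk ξ w := by
  have := mk_eq_of_glue (F := F) (𝟙 n) ξ v w c hc (by rw [realMap_id]; exact h)
  rwa [map_id_op] at this

/-- two points of the disjoint union lie in a common sub-cone -/
def Common (F : Fan.{u}) (p q : Fan.Pt F) : Prop :=
  ∃ (k : ICone) (φ₁ : k ⟶ p.1.1) (φ₂ : k ⟶ q.1.1) (y : Fan.Orth k) (c₁ c₂ : ℝ),
    F.map φ₁.op p.1.2 = F.map φ₂.op q.1.2 ∧ 0 < c₁ ∧ 0 < c₂ ∧
      p.2.1 = c₁ • φ₁.realMap y.1 ∧ q.2.1 = c₂ • φ₂.realMap y.1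

lemma Common.refl {F : Fan.{u}} (p : Fan.Pt F) : Common F p p :=
  ⟨p.1.1, 𝟙 _, 𝟙 _, p.2, 1, 1, rfl, one_pos, one_pos, by rw [realMap_id, one_smul],
    by rw [realMap_id, one_smul]⟩

lemma Common.symm {F : Fan.{u}} {p q : Fan.Pt F} (h : Common F p q) : Common F q p := by
  obtain ⟨k, φ₁, φ₂, y, c₁, c₂, e, h1, h2, h3, h4⟩ := h
  exact ⟨k, φ₂, φ₁, y, c₂, c₁, e.symm, h2, h1, h4, h3⟩

lemma Common.of_rel {F : Fan.{u}} {p q : Fan.Pt F} (h : Fan.Rel F p q) : Common F p q := by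
  obtain ⟨φ, ξ, v, w, c, hc, h⟩ := h
  refine ⟨_, 𝟙 _, φ, v, 1, c, ?_, one_pos, hc, ?_, h⟩
  · exact map_id_op _
  · change v.1 = _
    rw [realMap_id, one_smul]

lemma Common.trans {F : Fan.{u}} {p q r : Fan.Pt F} (h : Common F p q) (h' : Common F q r) :
    Common F p r := by
  obtain ⟨k, φ₁, φ₂, y, c₁, c₂, e, hc₁, hc₂, hp, hq⟩ := h
  obtain ⟨k', ψ₁, ψ₂, y', d₁, d₂, e', hd₁, hd₂, hq', hr⟩ := h'
  have hfib : φ₂.realMap y.1 = ψ₁.realMap ((d₁ / c₂) • y'.1) := by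
    rw [realMap_smul, div_eq_inv_mul, mul_smul, ← hq', hq, smul_smul, inv_mul_cancel₀ hc₂.ne',
      one_smul]
  have hy'nn : ∀ i, 0 ≤ ((d₁ / c₂) • y'.1) i := by
    intro i
    rw [Pi.smul_apply, smul_eq_mul]
    exact mul_nonneg (div_pos hd₁ hc₂).le (y'.2.1 i)
  obtain ⟨m, α, β, z, hαβ, hαz, hβz⟩ :=
    exists_fiber_point φ₂ ψ₁ y.1 ((d₁ / c₂) • y'.1) y.2.1 y.2.2 hy'nn hfib
  refine ⟨m, α ≫ φ₁, β ≫ ψ₂, z, c₁, d₂ * (c₂ / d₁), ?_, hc₁, mul_pos hd₂ (div_pos hc₂ hd₁), ?_, ?_⟩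
  · rw [map_comp_op, e, ← map_comp_op, hαβ, map_comp_op, e', ← map_comp_op]
  · rw [realMap_comp, hαz]
    exact hp
  · rw [realMap_comp, hβz, realMap_smul, smul_smul, hr]
    congr 1
    field_simp

theorem common_of_eq {F : Fan.{u}} {p q : Fan.Pt F}
    (h : (Quot.mk (Fan.Rel F) p : Fan.P F) = Quot.mk (Fan.Rel F) q) : Common F p q := by
  have h' := Quot.eqvGen_exact h
  clear h
  induction h' with
  | rel _ _ h => exact Common.of_rel h
  | refl _ => exact Common.refl _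
  | symm _ _ _ ih => exact ih.symm
  | trans _ _ _ _ _ ih1 ih2 => exact ih1.trans ih2

/-- **Common sub-cone lemma.** -/
theorem common_subcone (F : Fan.{u}) {n₁ n₂ : ICone}
    (σ₁ : F.obj (op n₁)) (σ₂ : F.obj (op n₂)) (v₁ : Fan.Orth n₁) (v₂ : Fan.Orth n₂)
    (h : Fan.P.mk σ₁ v₁ = Fan.P.mk σ₂ v₂) :
    ∃ (k : ICone) (φ₁ : k ⟶ n₁) (φ₂ : k ⟶ n₂) (y : Fan.Orth k) (c₁ c₂ : ℝ),
      F.map φ₁.op σ₁ = F.map φ₂.op σ₂ ∧ 0 < c₁ ∧ 0 < c₂ ∧
        v₁.1 = c₁ • φ₁.realMap y.1 ∧ v₂.1 = c₂ • φ₂.realMap y.1 :=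
  common_of_eq (p := ⟨⟨n₁, σ₁⟩, v₁⟩) (q := ⟨⟨n₂, σ₂⟩, v₂⟩) h

lemma eq_of_common {F : Fan.{u}} {p q : Fan.Pt F} (h : Common F p q) :
    (Quot.mk (Fan.Rel F) p : Fan.P F) = Quot.mk (Fan.Rel F) q := by
  obtain ⟨k, φ₁, φ₂, y, c₁, c₂, e, hc₁, hc₂, hp, hq⟩ := h
  obtain ⟨⟨n₁, σ₁⟩, v₁⟩ := p
  obtain ⟨⟨n₂, σ₂⟩, v₂⟩ := q
  have h1 := mk_eq_of_glue (F := F) φ₁ σ₁ y v₁ c₁ hc₁ hp
  have h2 := mk_eq_of_glue (F := F) φ₂ σ₂ y v₂ c₂ hc₂ hq
  change Fan.P.mk σ₁ v₁ = Fan.P.mk σ₂ v₂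
  rw [← h1, ← h2]
  rw [show F.map φ₁.op σ₁ = F.map φ₂.op σ₂ from e]

lemma mk_eq_mk_iff {F : Fan.{u}} {n₁ n₂ : ICone}
    (σ₁ : F.obj (op n₁)) (σ₂ : F.obj (op n₂)) (v₁ : Fan.Orth n₁) (v₂ : Fan.Orth n₂) :
    Fan.P.mk σ₁ v₁ = Fan.P.mk σ₂ v₂ ↔
    ∃ (k : ICone) (φ₁ : k ⟶ n₁) (φ₂ : k ⟶ n₂) (y : Fan.Orth k) (c₁ c₂ : ℝ),
      F.map φ₁.op σ₁ = F.map φ₂.op σ₂ ∧ 0 < c₁ ∧ 0 < c₂ ∧
        v₁.1 = c₁ • φ₁.realMap y.1 ∧ v₂.1 = c₂ • φ₂.realMap y.1 :=
  ⟨common_subcone F σ₁ σ₂ v₁ v₂, fun h => eq_of_common (p := ⟨⟨n₁, σ₁⟩, v₁⟩) (q := ⟨⟨n₂, σ₂⟩, v₂⟩) h⟩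

lemma exists_rep {F : Fan.{u}} (x : Fan.P F) :
    ∃ (n : ICone) (ξ : F.obj (op n)) (v : Fan.Orth n), x = Fan.P.mk ξ v := by
  obtain ⟨⟨⟨n, ξ⟩, v⟩, rfl⟩ := Quot.exists_rep x
  exact ⟨n, ξ, v, rfl⟩

lemma map_mk {F G : Fan.{u}} (f : F ⟶ G) {n : ICone} (ξ : F.obj (op n)) (v : Fan.Orth n) :
    Fan.P.map f (Fan.P.mk ξ v) = Fan.P.mk (f.app _ ξ) v := rfl

lemma app_map_op {F G : Fan.{u}} (f : F ⟶ G) {k n : ICone} (φ : k ⟶ n) (ξ : F.obj (op n)) :
    f.app _ (F.map φ.op ξ) = G.map φ.op (f.app _ ξ) :=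
  NatTrans.naturality_apply f φ.op ξ

lemma mem_range_ι_iff {F : Fan.{u}} (S : Subfunctor F) (x : Fan.P F) :
    x ∈ Set.range (Fan.P.map S.ι) ↔
      ∃ (n : ICone) (ξ : F.obj (op n)) (v : Fan.Orth n), ξ ∈ S.obj (op n) ∧ x = Fan.P.mk ξ v := by
  constructor
  · rintro ⟨y, rfl⟩
    obtain ⟨n, ξ, v, rfl⟩ := exists_rep y
    exact ⟨n, ξ.1, v, ξ.2, rfl⟩
  · rintro ⟨n, ξ, v, hξ, rfl⟩
    exact ⟨Fan.P.mk (F := S.toFunctor) ⟨ξ, hξ⟩ v, rfl⟩

/-! ## fibre products of fans -/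

lemma isPullback_app {F F' G : Fan.{u}} (f : F ⟶ G) (g : F' ⟶ G) (X : IConeᵒᵖ) :
    IsPullback ((Limits.pullback.fst f g).app X) ((Limits.pullback.snd f g).app X)
      (f.app X) (g.app X) :=
  (IsPullback.of_hasPullback f g).map ((evaluation _ _).obj X)

lemma exists_pb {F F' G : Fan.{u}} (f : F ⟶ G) (g : F' ⟶ G) (X : IConeᵒᵖ)
    (a : F.obj X) (b : F'.obj X) (h : f.app X a = g.app X b) :
    ∃ e : (Limits.pullback f g).obj X, (Limits.pullback.fst f g).app X e = a ∧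
      (Limits.pullback.snd f g).app X e = b :=
  Limits.Types.exists_of_isPullback (isPullback_app f g X) a b h

lemma pb_ext {F F' G : Fan.{u}} (f : F ⟶ G) (g : F' ⟶ G) (X : IConeᵒᵖ)
    (e e' : (Limits.pullback f g).obj X)
    (h1 : (Limits.pullback.fst f g).app X e = (Limits.pullback.fst f g).app X e')
    (h2 : (Limits.pullback.snd f g).app X e = (Limits.pullback.snd f g).app X e') : e = e' :=
  Limits.Types.ext_of_isPullback (isPullback_app f g X) h1 h2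

lemma pb_condition {F F' G : Fan.{u}} (f : F ⟶ G) (g : F' ⟶ G) (X : IConeᵒᵖ)
    (e : (Limits.pullback f g).obj X) :
    f.app X ((Limits.pullback.fst f g).app X e) = g.app X ((Limits.pullback.snd f g).app X e) := by
  have := congr_app (Limits.pullback.condition (f := f) (g := g)) X
  exact ConcreteCategory.congr_hom this e

/-- surjectivity of `P (F ×_G F') → P F ×_{P G} P F'` -/
theorem exists_point_pullback {F F' G : Fan.{u}} (f : F ⟶ G) (g : F' ⟶ G)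
    (x : Fan.P F) (x' : Fan.P F') (h : Fan.P.map f x = Fan.P.map g x') :
    ∃ y : Fan.P (Limits.pullback f g),
      Fan.P.map (Limits.pullback.fst f g) y = x ∧ Fan.P.map (Limits.pullback.snd f g) y = x' := by
  obtain ⟨n, σ, v, rfl⟩ := exists_rep x
  obtain ⟨n', σ', v', rfl⟩ := exists_rep x'
  rw [map_mk, map_mk, mk_eq_mk_iff] at h
  obtain ⟨k, φ₁, φ₂, y, c₁, c₂, e, h1, h2, h3, h4⟩ := h
  rw [← app_map_op, ← app_map_op] at e
  obtain ⟨z, hz1, hz2⟩ := exists_pb f g (op k) _ _ e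
  refine ⟨Fan.P.mk z y, ?_, ?_⟩
  · rw [map_mk, hz1]
    exact mk_eq_of_glue φ₁ σ y v c₁ h1 h3
  · rw [map_mk, hz2]
    exact mk_eq_of_glue φ₂ σ' y v' c₂ h2 h4

end Groth.Agent.H96.FanCore
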