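import Groth.Prelude.Def_W4c6instabfans3Fan
import Groth.Agent.H96.FanCore

/-!
# Formal fans: representable fans, bounded fans, quasi-separated fans
-/

set_option autoImplicit false

open CategoryTheory Opposite Instab

universe u

namespace Groth.Agent.H96.FanBdd

open Groth.Agent.H96.FanCore

lemma coneMap_app {F : Fan.{u}} {n k : ICone} (σ : F.obj (op n)) (φ : k ⟶ n) :
    (Fan.coneMap σ).app (op k) (ULift.up φ) = F.map φ.op σ := rfl

lemma yo_map {n k m : ICone} (α : m ⟶ k) (φ : k ⟶ n) :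
    (uliftYoneda.{u}.obj n).map α.op (ULift.up φ) = ULift.up (α ≫ φ) := rfl

/-- points of the realization of a representable fan -/
lemma yo_mk_eq_iff {n k : ICone} (φ : k ⟶ n) (y : Fan.Orth k) (v : Fan.Orth n) :
    Fan.P.mk (F := uliftYoneda.{u}.obj n) (ULift.up φ) y =
        Fan.P.mk (F := uliftYoneda.{u}.obj n) (ULift.up (𝟙 n)) v ↔
      ∃ c : ℝ, 0 < c ∧ v.1 = c • φ.realMap y.1 := by
  constructor
  · intro h
    obtain ⟨m, φ₁, φ₂, y₀, c₁, c₂, e, h1, h2, h3, h4⟩ :=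
      (mk_eq_mk_iff (F := uliftYoneda.{u}.obj n) _ _ _ _).mp h
    rw [yo_map, yo_map] at e
    have e' : φ₁ ≫ φ = φ₂ ≫ 𝟙 n := congrArg ULift.down e
    rw [Category.comp_id] at e'
    refine ⟨c₂ / c₁, div_pos h2 h1, ?_⟩
    rw [h4, ← e', realMap_comp, h3, realMap_smul, smul_smul]
    congr 1
    field_simp
  · rintro ⟨c, hc, h⟩
    have := mk_eq_of_glue (F := uliftYoneda.{u}.obj n) φ (ULift.up (𝟙 n)) y v c hc h
    rw [yo_map, Category.comp_id] at this
    exact this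

lemma map_coneMap_mk {F : Fan.{u}} {n k : ICone} (σ : F.obj (op n)) (φ : k ⟶ n)
    (y : Fan.Orth k) :
    Fan.P.map (Fan.coneMap σ) (Fan.P.mk (F := uliftYoneda.{u}.obj n) (ULift.up φ) y) =
      Fan.P.mk (F.map φ.op σ) y := rfl

lemma map_coneMap_mk_id {F : Fan.{u}} {n : ICone} (σ : F.obj (op n)) (v : Fan.Orth n) :
    Fan.P.map (Fan.coneMap σ) (Fan.P.mk (F := uliftYoneda.{u}.obj n) (ULift.up (𝟙 n)) v) =
      Fan.P.mk σ v := by
  rw [map_coneMap_mk, map_id_op]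

/-- **Pairs of points of two rational simplices with the same image.** -/
theorem pairs_of_quasiSeparated (G : Fan.{u}) (hG : G.IsQuasiSeparated)
    {n n' : ICone} (ξ : G.obj (op n)) (ξ' : G.obj (op n')) :
    ∃ s : Finset (Σ k : ICone, (k ⟶ n) × (k ⟶ n')),
      (∀ e ∈ s, G.map e.2.1.op ξ = G.map e.2.2.op ξ') ∧
      ∀ (v : Fan.Orth n) (w : Fan.Orth n'), Fan.P.mk ξ v = Fan.P.mk ξ' w ↔
        ∃ e ∈ s, ∃ (y : Fan.Orth e.1) (c c' : ℝ), 0 < c ∧ 0 < c' ∧
          v.1 = c • e.2.1.realMap y.1 ∧ w.1 = c' • e.2.2.realMap y.1 := by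
  classical
  obtain ⟨s, hs⟩ := hG n n' ξ ξ'
  let fst := Limits.pullback.fst (Fan.coneMap ξ) (Fan.coneMap ξ')
  let snd := Limits.pullback.snd (Fan.coneMap ξ) (Fan.coneMap ξ')
  let T : (Σ k : ICone, (Limits.pullback (Fan.coneMap ξ) (Fan.coneMap ξ')).obj (op k)) →
      (Σ k : ICone, (k ⟶ n) × (k ⟶ n')) :=
    fun e => ⟨e.1, ((fst.app _ e.2).down, (snd.app _ e.2).down)⟩
  have hcomm : ∀ e ∈ s.image T, G.map e.2.1.op ξ = G.map e.2.2.op ξ' := by
    intro e he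
    obtain ⟨e₀, -, rfl⟩ := Finset.mem_image.mp he
    exact pb_condition (Fan.coneMap ξ) (Fan.coneMap ξ') (op e₀.1) e₀.2
  refine ⟨s.image T, hcomm, ?_⟩
  intro v w
  constructor
  · intro h
    have h' : Fan.P.map (Fan.coneMap ξ) (Fan.P.mk (F := uliftYoneda.{u}.obj n) (ULift.up (𝟙 n)) v) =
        Fan.P.map (Fan.coneMap ξ')
          (Fan.P.mk (F := uliftYoneda.{u}.obj n') (ULift.up (𝟙 n')) w) := by
      rw [map_coneMap_mk_id, map_coneMap_mk_id]
      exact h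
    obtain ⟨z, hz1, hz2⟩ := exists_point_pullback _ _ _ _ h'
    obtain ⟨e, hes, y, rfl⟩ := hs z
    refine ⟨T e, Finset.mem_image_of_mem T hes, y, ?_⟩
    rw [map_mk] at hz1 hz2
    have h1 := (yo_mk_eq_iff (fst.app _ e.2).down y v).mp hz1
    have h2 := (yo_mk_eq_iff (snd.app _ e.2).down y w).mp hz2
    obtain ⟨c, hc, hv⟩ := h1
    obtain ⟨c', hc', hw⟩ := h2
    exact ⟨c, c', hc, hc', hv, hw⟩
  · rintro ⟨e, he, y, c, c', hc, hc', hv, hw⟩
    rw [← mk_eq_of_glue e.2.1 ξ y v c hc hv, ← mk_eq_of_glue e.2.2 ξ' y w c' hc' hw,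
      hcomm e he]

/-- surjectivity onto the topological fibre product, for an arbitrary pullback square of fans -/
theorem exists_point_of_isPullback {P F F' G : Fan.{u}} {fst : P ⟶ F} {snd : P ⟶ F'}
    {f : F ⟶ G} {g : F' ⟶ G} (hpb : IsPullback fst snd f g)
    (x : Fan.P F) (x' : Fan.P F') (h : Fan.P.map f x = Fan.P.map g x') :
    ∃ y : Fan.P P, Fan.P.map fst y = x ∧ Fan.P.map snd y = x' := by
  obtain ⟨n, σ, v, rfl⟩ := exists_rep x
  obtain ⟨n', σ', v', rfl⟩ := exists_rep x'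
  rw [map_mk, map_mk, mk_eq_mk_iff] at h
  obtain ⟨k, φ₁, φ₂, y, c₁, c₂, e, h1, h2, h3, h4⟩ := h
  rw [← app_map_op, ← app_map_op] at e
  obtain ⟨z, hz1, hz2⟩ : ∃ z : P.obj (op k), fst.app (op k) z = F.map φ₁.op σ ∧
      snd.app (op k) z = F'.map φ₂.op σ' := Limits.Types.exists_of_isPullback
    (hpb.map ((evaluation _ _).obj (op k))) _ _ e
  refine ⟨Fan.P.mk z y, ?_, ?_⟩
  · rw [map_mk, hz1]
    exact mk_eq_of_glue φ₁ σ y v c₁ h1 h3
  · rw [map_mk, hz2]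
    exact mk_eq_of_glue φ₂ σ' y v' c₂ h2 h4

/-! ## the orthant map of a cone morphism -/

lemma ent_nonneg {k n : ICone} (φ : k ⟶ n) (r : Fin n.dim) (i : Fin k.dim) : 0 ≤ ent φ r i := by
  unfold ent
  apply φ.nonneg
  intro j
  rw [Pi.single_apply]
  split_ifs <;> simp

lemma realMap_nonneg {k n : ICone} (φ : k ⟶ n) (y : Fin k.dim → ℝ) (hy : ∀ i, 0 ≤ y i)
    (r : Fin n.dim) : 0 ≤ φ.realMap y r := by
  rw [realMap_apply]
  exact Finset.sum_nonneg (fun i _ => mul_nonneg (by exact_mod_cast ent_nonneg φ r i) (hy i))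

lemma realMap_ne_zero {k n : ICone} (φ : k ⟶ n) (y : Fin k.dim → ℝ) (hy : ∀ i, 0 ≤ y i)
    (hy0 : y ≠ 0) : φ.realMap y ≠ 0 := by
  intro h0
  obtain ⟨i, hi⟩ : ∃ i, y i ≠ 0 := by
    by_contra hcon
    push Not at hcon
    exact hy0 (funext hcon)
  have hipos : 0 < y i := lt_of_le_of_ne (hy i) (Ne.symm hi)
  have hcol : ∀ r, ent φ r i = 0 := by
    intro r
    have h1 := congr_fun h0 r
    rw [realMap_apply, Pi.zero_apply] at h1
    have h2 := (Finset.sum_eq_zero_iff_of_nonneg (fun j _ =>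
      mul_nonneg (by exact_mod_cast ent_nonneg φ r j) (hy j))).mp h1 i (Finset.mem_univ i)
    rcases mul_eq_zero.mp h2 with h3 | h3
    · exact_mod_cast h3
    · exact absurd h3 hi
  have h1 : φ.toLin (Pi.single i 1) = 0 := by
    funext r
    exact hcol r
  have h2 : (Pi.single i 1 : Fin k.dim → ℤ) = 0 := by
    apply φ.injective
    rw [h1, map_zero]
  have h3 := congr_fun h2 i
  simp at h3

/-- the map of punctured orthants induced by a cone morphism -/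
noncomputable def orthMap {k n : ICone} (φ : k ⟶ n) (y : Fan.Orth k) : Fan.Orth n :=
  ⟨φ.realMap y.1, realMap_nonneg φ y.1 y.2.1, realMap_ne_zero φ y.1 y.2.1 y.2.2⟩

lemma mk_map_eq_mk_orthMap {F : Fan.{u}} {k n : ICone} (φ : k ⟶ n) (ξ : F.obj (op n))
    (y : Fan.Orth k) : Fan.P.mk (F.map φ.op ξ) y = Fan.P.mk ξ (orthMap φ y) :=
  mk_eq_of_glue φ ξ y (orthMap φ y) 1 one_pos (by rw [one_smul]; rfl)

/-- a representable fan is bounded -/
theorem yo_isBounded (n : ICone) : Fan.IsBounded (uliftYoneda.{u}.obj n) := by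
  refine ⟨{⟨n, ULift.up (𝟙 n)⟩}, ?_⟩
  intro x
  obtain ⟨k, ξ, y, rfl⟩ := exists_rep x
  refine ⟨_, Finset.mem_singleton_self _, orthMap ξ.down y, ?_⟩
  change Fan.P.mk (F := uliftYoneda.{u}.obj n) (ULift.up (𝟙 n)) (orthMap ξ.down y) =
    Fan.P.mk (F := uliftYoneda.{u}.obj n) (ULift.up ξ.down) y
  rw [eq_comm, yo_mk_eq_iff]
  exact ⟨1, one_pos, by rw [one_smul]; rfl⟩

lemma coneMap_comp {F G : Fan.{u}} (f : F ⟶ G) {n : ICone} (ξ : F.obj (op n)) :
    Fan.coneMap ξ ≫ f = Fan.coneMap (f.app _ ξ) :=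
  uliftYonedaEquiv_symm_comp ξ f

/-- the base change of a bounded fan along a map whose restrictions to the covering cones have
bounded base change is bounded -/
theorem isBounded_pullback_of_cover {F G H : Fan.{u}} (f : F ⟶ G) (g : H ⟶ G)
    (s : Finset (Σ n : ICone, F.obj (op n))) (hs : ∀ x : Fan.P F, ∃ e ∈ s, x ∈ Fan.P.cell e.2)
    (hb : ∀ e ∈ s, Fan.IsBounded (Limits.pullback (Fan.coneMap e.2 ≫ f) g)) :
    Fan.IsBounded (Limits.pullback f g) := by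
  classical
  have hb' : ∀ e : (Σ n : ICone, F.obj (op n)),
      ∃ t : Finset (Σ k : ICone, (Limits.pullback (Fan.coneMap e.2 ≫ f) g).obj (op k)),
        e ∈ s → ∀ x : Fan.P (Limits.pullback (Fan.coneMap e.2 ≫ f) g),
          ∃ τ ∈ t, x ∈ Fan.P.cell τ.2 := by
    intro e
    by_cases he : e ∈ s
    · obtain ⟨t, ht⟩ := hb e he
      exact ⟨t, fun _ => ht⟩
    · exact ⟨∅, fun h => absurd h he⟩
  choose t ht using hb'
  let Θ : ∀ e : (Σ n : ICone, F.obj (op n)),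
      Limits.pullback (Fan.coneMap e.2 ≫ f) g ⟶ Limits.pullback f g := fun e =>
    (IsPullback.of_hasPullback f g).lift
      (Limits.pullback.fst (Fan.coneMap e.2 ≫ f) g ≫ Fan.coneMap e.2)
      (Limits.pullback.snd (Fan.coneMap e.2 ≫ f) g)
      (by rw [Category.assoc, (IsPullback.of_hasPullback (Fan.coneMap e.2 ≫ f) g).w])
  have hΘ : ∀ e : (Σ n : ICone, F.obj (op n)),
      IsPullback (Limits.pullback.fst (Fan.coneMap e.2 ≫ f) g) (Θ e) (Fan.coneMap e.2)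
        (Limits.pullback.fst f g) := fun e =>
    IsPullback.of_bot' (IsPullback.of_hasPullback (Fan.coneMap e.2 ≫ f) g)
      (IsPullback.of_hasPullback f g)
  refine ⟨s.biUnion (fun e => (t e).image (fun τ => ⟨τ.1, (Θ e).app _ τ.2⟩)), ?_⟩
  intro z
  obtain ⟨e, hes, v, hv⟩ := hs (Fan.P.map (Limits.pullback.fst f g) z)
  have hx : Fan.P.map (Fan.coneMap e.2)
      (Fan.P.mk (F := uliftYoneda.{u}.obj e.1) (ULift.up (𝟙 e.1)) v) =
      Fan.P.map (Limits.pullback.fst f g) z := by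
    rw [map_coneMap_mk_id]
    exact hv
  obtain ⟨y, -, hy2⟩ := exists_point_of_isPullback (hΘ e) _ _ hx
  obtain ⟨τ, hτ, w, rfl⟩ := ht e hes y
  refine ⟨⟨τ.1, (Θ e).app _ τ.2⟩, ?_, w, ?_⟩
  · rw [Finset.mem_biUnion]
    exact ⟨e, hes, Finset.mem_image_of_mem _ hτ⟩
  · rw [← hy2]
    rfl

end Groth.Agent.H96.FanBdd
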