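import Groth.Prelude.Def_W4c6instabfans3Fan
import Groth.Agent.H96.FanBdd
import Mathlib

/-!
# Formal fans: topology of cone images, density of rational rays
-/

set_option autoImplicit false

open CategoryTheory Opposite Instab

universe u

namespace Groth.Agent.H96.FanTop

open Groth.Agent.H96.ConeCore Groth.Agent.H96.FanCore Groth.Agent.H96.FanBdd

/-- the real matrix action as a linear map -/
noncomputable def realLin {k n : ICone} (φ : k ⟶ n) : (Fin k.dim → ℝ) →ₗ[ℝ] (Fin n.dim → ℝ) where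
  toFun := φ.realMap
  map_add' x y := by
    funext r
    simp only [realMap_apply, Pi.add_apply, mul_add, Finset.sum_add_distrib]
  map_smul' c x := by
    rw [realMap_smul]
    rfl

lemma realLin_apply {k n : ICone} (φ : k ⟶ n) (x : Fin k.dim → ℝ) :
    realLin φ x = φ.realMap x := rfl

/-- a cone morphism is injective on real vectors -/
theorem realMap_eq_zero {k n : ICone} (φ : k ⟶ n) (x : Fin k.dim → ℝ)
    (hx : φ.realMap x = 0) : x = 0 := by
  classical
  let a : Fin n.dim → (Fin k.dim ⊕ Fin k.dim) → ℤ :=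
    fun r => Sum.elim (fun i => ent φ r i) (fun i => - ent φ r i)
  let p : (Fin k.dim ⊕ Fin k.dim) → ℝ := Sum.elim (fun i => max (x i) 0) (fun i => max (- x i) 0)
  have hp0 : ∀ i, 0 ≤ p i := by
    rintro (i | i)
    · exact le_max_right _ _
    · exact le_max_right _ _
  have hsplit : ∀ t : ℝ, max t 0 - max (-t) 0 = t := by
    intro t
    rcases le_total 0 t with h | h
    · rw [max_eq_left h, max_eq_right (by linarith)]; ring
    · rw [max_eq_right h, max_eq_left (by linarith)]; ring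
  have hsol : IsSolR a p := by
    intro r
    rw [Fintype.sum_sum_type]
    have h1 := congr_fun hx r
    rw [realMap_apply, Pi.zero_apply] at h1
    simp only [a, p, Sum.elim_inl, Sum.elim_inr, Int.cast_neg, neg_mul, Finset.sum_neg_distrib]
    rw [← sub_eq_add_neg, ← Finset.sum_sub_distrib]
    refine Eq.trans ?_ h1
    apply Finset.sum_congr rfl
    intro i _
    rw [← mul_sub, hsplit]
  obtain ⟨u, hu0, husol, husupp⟩ := exists_int_sol_full_support a p hp0 hsol
  have heq : φ.toLin (fun i => u (Sum.inl i)) = φ.toLin (fun i => u (Sum.inr i)) := by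
    funext r
    rw [toLin_apply, toLin_apply]
    have hj := husol r
    rw [Fintype.sum_sum_type] at hj
    simp only [a, Sum.elim_inl, Sum.elim_inr, neg_mul, Finset.sum_neg_distrib] at hj
    linarith
  have heq' := φ.injective heq
  funext i
  have hi : u (Sum.inl i) = u (Sum.inr i) := congr_fun heq' i
  by_contra hne
  change x i ≠ 0 at hne
  rcases lt_or_gt_of_ne hne with hneg | hpos
  · have h1 : p (Sum.inr i) ≠ 0 := by
      simp only [p, Sum.elim_inr]
      rw [max_eq_left (by linarith)]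
      linarith
    have h2 : p (Sum.inl i) = 0 := by
      simp only [p, Sum.elim_inl]
      exact max_eq_right hneg.le
    have h3 := (husupp (Sum.inr i)).mpr h1
    have h4 : u (Sum.inl i) = 0 := by
      by_contra h5
      exact (husupp (Sum.inl i)).mp h5 h2
    exact h3 (hi ▸ h4)
  · have h1 : p (Sum.inl i) ≠ 0 := by
      simp only [p, Sum.elim_inl]
      rw [max_eq_left hpos.le]
      exact hpos.ne'
    have h2 : p (Sum.inr i) = 0 := by
      simp only [p, Sum.elim_inr]
      exact max_eq_right (by linarith)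
    have h3 := (husupp (Sum.inl i)).mpr h1
    have h4 : u (Sum.inr i) = 0 := by
      by_contra h5
      exact (husupp (Sum.inr i)).mp h5 h2
    exact h3 (hi.symm ▸ h4)

lemma ker_realLin {k n : ICone} (φ : k ⟶ n) : LinearMap.ker (realLin φ) = ⊥ := by
  rw [LinearMap.ker_eq_bot']
  intro x hx
  exact realMap_eq_zero φ x hx

lemma realMap_injective {k n : ICone} (φ : k ⟶ n) : Function.Injective φ.realMap :=
  LinearMap.ker_eq_bot.mp (ker_realLin φ)

theorem isClosedEmbedding_realMap {k n : ICone} (φ : k ⟶ n) :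
    Topology.IsClosedEmbedding φ.realMap :=
  LinearMap.isClosedEmbedding_of_injective (ker_realLin φ)

lemma isClosed_image_realMap {k n : ICone} (φ : k ⟶ n) {Y : Set (Fin k.dim → ℝ)}
    (hY : IsClosed Y) : IsClosed (φ.realMap '' Y) :=
  (isClosedEmbedding_realMap φ).isClosedMap Y hY

/-! ## rays and rational points -/

lemma fin_one_eq (j : Fin Fan.one.dim) : j = ⟨0, Fan.one.dim.pos⟩ := by
  apply Fin.ext
  have := j.2
  change (j : ℕ) < 1 at this
  change (j : ℕ) = 0
  omega

lemma sum_fin_one {M : Type*} [AddCommMonoid M] (f : Fin Fan.one.dim → M) :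
    ∑ j, f j = f ⟨0, Fan.one.dim.pos⟩ := by
  rw [Finset.sum_eq_single ⟨0, Fan.one.dim.pos⟩]
  · intro j _ hj
    exact absurd (fin_one_eq j) hj
  · intro h
    exact absurd (Finset.mem_univ _) h

/-- the ray through a nonzero nonnegative integer vector -/
def ray {n : ICone} (u : Fin n.dim → ℤ) (hu : ∀ i, 0 ≤ u i) (hu0 : u ≠ 0) : Fan.one ⟶ n :=
  ofMatrix (m := Fan.one) (fun i _ => u i) (fun i _ => hu i) (by
    rw [← LinearMap.ker_eq_bot, LinearMap.ker_eq_bot']
    intro c hc
    obtain ⟨i, hi⟩ : ∃ i, u i ≠ 0 := by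
      by_contra hcon
      push Not at hcon
      exact hu0 (funext hcon)
    have h1 := congr_fun hc i
    rw [matLin_apply, sum_fin_one, Pi.zero_apply] at h1
    funext j
    rw [fin_one_eq j]
    rcases mul_eq_zero.mp h1 with h2 | h2
    · exact absurd h2 hi
    · exact h2)

lemma realMap_ray_ones {n : ICone} (u : Fin n.dim → ℤ) (hu : ∀ i, 0 ≤ u i) (hu0 : u ≠ 0) :
    (ray u hu hu0).realMap (Fan.Orth.ones Fan.one).1 = fun i => (u i : ℝ) := by
  funext r
  rw [realMap_apply, sum_fin_one]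
  unfold ray
  rw [ent_ofMatrix]
  change (u r : ℝ) * 1 = _
  rw [mul_one]

lemma mk_eq_rational {F : Fan.{u}} {n : ICone} (ξ : F.obj (op n)) (u : Fin n.dim → ℤ)
    (hu : ∀ i, 0 ≤ u i) (hu0 : u ≠ 0) (c : ℝ) (hc : 0 < c) (v : Fan.Orth n)
    (hv : v.1 = c • (fun i => (u i : ℝ))) :
    Fan.P.mk ξ v = Fan.P.mk (F.map (ray u hu hu0).op ξ) (Fan.Orth.ones Fan.one) := by
  symm
  apply mk_eq_of_glue (ray u hu hu0) ξ _ v c hc
  rw [realMap_ray_ones]
  exact hv

lemma isRational_mk {F : Fan.{u}} {n : ICone} (ξ : F.obj (op n)) (u : Fin n.dim → ℤ)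
    (hu : ∀ i, 0 ≤ u i) (hu0 : u ≠ 0) (c : ℝ) (hc : 0 < c) (v : Fan.Orth n)
    (hv : v.1 = c • (fun i => (u i : ℝ))) : (Fan.P.mk ξ v).IsRational :=
  ⟨_, mk_eq_rational ξ u hu hu0 c hc v hv⟩

/-- **Density of rational rays**: a closed subset of the punctured orthant containing all rational
points is everything. -/
theorem eq_univ_of_isClosed_of_rational {n : ICone} (V : Set (Fan.Orth n)) (hV : IsClosed V)
    (hrat : ∀ (u : Fin n.dim → ℤ) (_ : ∀ i, 0 ≤ u i) (_ : u ≠ 0) (c : ℝ) (_ : 0 < c)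
      (v : Fan.Orth n), v.1 = c • (fun i => (u i : ℝ)) → v ∈ V) : V = Set.univ := by
  rw [Set.eq_univ_iff_forall]
  intro v
  obtain ⟨i₀, hi₀⟩ : ∃ i, v.1 i ≠ 0 := by
    by_contra hcon
    push Not at hcon
    exact v.2.2 (funext hcon)
  have hi₀pos : 0 < v.1 i₀ := lt_of_le_of_ne (v.2.1 i₀) (Ne.symm hi₀)
  have hjpos : ∀ j : ℕ, (0 : ℝ) < (j : ℝ) + 1 := fun j => by positivity
  let uu : ℕ → Fin n.dim → ℤ := fun j i => ⌈v.1 i * ((j : ℝ) + 1)⌉
  have huu0 : ∀ j i, 0 ≤ uu j i := fun j i =>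
    Int.ceil_nonneg (mul_nonneg (v.2.1 i) (hjpos j).le)
  have huune : ∀ j, uu j ≠ 0 := by
    intro j h0
    have h1 := congr_fun h0 i₀
    have h2 : 0 < uu j i₀ := Int.ceil_pos.mpr (mul_pos hi₀pos (hjpos j))
    rw [h1] at h2
    exact lt_irrefl _ h2
  let q : ℕ → Fan.Orth n := fun j =>
    ⟨fun i => (uu j i : ℝ) / ((j : ℝ) + 1),
      fun i => div_nonneg (by exact_mod_cast huu0 j i) (hjpos j).le, by
      intro h0
      have h1 := congr_fun h0 i₀
      have h2 : 0 < uu j i₀ := Int.ceil_pos.mpr (mul_pos hi₀pos (hjpos j))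
      have h3 : (0 : ℝ) < (uu j i₀ : ℝ) := by exact_mod_cast h2
      have h4 : (0 : ℝ) < (uu j i₀ : ℝ) / ((j : ℝ) + 1) := div_pos h3 (hjpos j)
      simp only [Pi.zero_apply] at h1
      rw [h1] at h4
      exact lt_irrefl _ h4⟩
  have hq : ∀ j, q j ∈ V := by
    intro j
    apply hrat (uu j) (huu0 j) (huune j) (1 / ((j : ℝ) + 1)) (by have := hjpos j; positivity)
    funext i
    simp only [q, Pi.smul_apply, smul_eq_mul]
    ring
  have htend : Filter.Tendsto q Filter.atTop (nhds v) := by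
    refine tendsto_subtype_rng.mpr ?_
    rw [tendsto_pi_nhds]
    intro i
    have hlow : ∀ j : ℕ, v.1 i ≤ (uu j i : ℝ) / ((j : ℝ) + 1) := by
      intro j
      rw [le_div_iff₀ (hjpos j)]
      exact Int.le_ceil _
    have hup : ∀ j : ℕ, (uu j i : ℝ) / ((j : ℝ) + 1) ≤ v.1 i + 1 / ((j : ℝ) + 1) := by
      intro j
      rw [div_le_iff₀ (hjpos j), add_mul, one_div, inv_mul_cancel₀ (hjpos j).ne']
      exact (Int.ceil_lt_add_one _).le
    have hlim : Filter.Tendsto (fun j : ℕ => v.1 i + 1 / ((j : ℝ) + 1)) Filter.atTop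
        (nhds (v.1 i)) := by
      have := (tendsto_one_div_add_atTop_nhds_zero_nat (𝕜 := ℝ)).const_add (v.1 i)
      simpa using this
    exact tendsto_of_tendsto_of_tendsto_of_le_of_le tendsto_const_nhds hlim hlow hup
  exact hV.mem_of_tendsto htend (Filter.Eventually.of_forall hq)

/-! ## closed cone sets -/

lemma continuous_orth_val (n : ICone) : Continuous (fun v : Fan.Orth n => v.1) :=
  continuous_subtype_val

lemma continuous_realMap {k n : ICone} (φ : k ⟶ n) : Continuous φ.realMap :=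
  (isClosedEmbedding_realMap φ).continuous

lemma isClosed_orthant (k : ℕ) : IsClosed {y : Fin k → ℝ | ∀ i, 0 ≤ y i} := by
  have : {y : Fin k → ℝ | ∀ i, 0 ≤ y i} = ⋂ i, {y | 0 ≤ y i} := by
    ext y
    simp
  rw [this]
  exact isClosed_iInter fun i => isClosed_le continuous_const (continuous_apply i)

lemma realMap_zero {k n : ICone} (φ : k ⟶ n) : φ.realMap 0 = 0 := (realLin φ).map_zero

/-- the cone of a cone morphism is closed in the punctured orthant -/
theorem isClosed_coneSet {k n : ICone} (φ : k ⟶ n) :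
    IsClosed {v : Fan.Orth n | ∃ (y : Fan.Orth k) (c : ℝ), 0 < c ∧ v.1 = c • φ.realMap y.1} := by
  have heq : {v : Fan.Orth n | ∃ (y : Fan.Orth k) (c : ℝ), 0 < c ∧ v.1 = c • φ.realMap y.1} =
      (fun v : Fan.Orth n => v.1) ⁻¹' (φ.realMap '' {y | ∀ i, 0 ≤ y i}) := by
    ext v
    simp only [Set.mem_ofPred_eq, Set.mem_preimage, Set.mem_image]
    constructor
    · rintro ⟨y, c, hc, hv⟩
      refine ⟨c • y.1, fun i => ?_, ?_⟩
      · rw [Pi.smul_apply, smul_eq_mul]
        exact mul_nonneg hc.le (y.2.1 i)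
      · rw [realMap_smul, hv]
    · rintro ⟨y, hy, hv⟩
      have hy0 : y ≠ 0 := by
        rintro rfl
        rw [realMap_zero] at hv
        exact v.2.2 hv.symm
      exact ⟨⟨y, hy, hy0⟩, 1, one_pos, by rw [one_smul]; exact hv.symm⟩
  rw [heq]
  exact (isClosed_image_realMap φ (isClosed_orthant _)).preimage (continuous_orth_val n)

lemma exists_pos_smul_of_minors {k : ℕ} (a b : Fin k → ℝ) (ha : ∀ i, 0 ≤ a i) (ha0 : a ≠ 0)
    (hb : ∀ i, 0 ≤ b i) (hb0 : b ≠ 0) (h : ∀ i j, a i * b j = a j * b i) :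
    ∃ t : ℝ, 0 < t ∧ a = t • b := by
  obtain ⟨j₀, hj₀⟩ : ∃ j, b j ≠ 0 := by
    by_contra hcon
    push Not at hcon
    exact hb0 (funext hcon)
  have hbpos : 0 < b j₀ := lt_of_le_of_ne (hb j₀) (Ne.symm hj₀)
  have hai : ∀ i, a i = a j₀ / b j₀ * b i := by
    intro i
    have := h i j₀
    field_simp
    linarith
  have ht0 : 0 ≤ a j₀ / b j₀ := div_nonneg (ha j₀) hbpos.le
  refine ⟨a j₀ / b j₀, lt_of_le_of_ne ht0 ?_, funext hai⟩
  intro h0
  apply ha0
  funext i
  rw [hai i, ← h0, zero_mul]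
  rfl

/-- the set of points of the orthant at which two cone morphisms have proportional values on a
common point is closed -/
theorem isClosed_pairSet {m k : ICone} (α α' : m ⟶ k) :
    IsClosed {z : Fan.Orth k | ∃ (y : Fan.Orth m) (c c' : ℝ), 0 < c ∧ 0 < c' ∧
      z.1 = c • α.realMap y.1 ∧ z.1 = c' • α'.realMap y.1} := by
  let Y : Set (Fin m.dim → ℝ) := {y | (∀ i, 0 ≤ y i) ∧
    ∀ i j, α.realMap y i * α'.realMap y j = α.realMap y j * α'.realMap y i}
  have hY : IsClosed Y := by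
    have : Y = {y | ∀ i, 0 ≤ y i} ∩ ⋂ i, ⋂ j,
        {y | α.realMap y i * α'.realMap y j = α.realMap y j * α'.realMap y i} := by
      ext y
      simp [Y]
    rw [this]
    refine (isClosed_orthant _).inter (isClosed_iInter fun i => isClosed_iInter fun j => ?_)
    have c1 : ∀ i, Continuous (fun y => α.realMap y i) := fun i =>
      (continuous_apply i).comp (continuous_realMap α)
    have c2 : ∀ i, Continuous (fun y => α'.realMap y i) := fun i =>
      (continuous_apply i).comp (continuous_realMap α')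
    exact isClosed_eq ((c1 i).mul (c2 j)) ((c1 j).mul (c2 i))
  have heq : {z : Fan.Orth k | ∃ (y : Fan.Orth m) (c c' : ℝ), 0 < c ∧ 0 < c' ∧
      z.1 = c • α.realMap y.1 ∧ z.1 = c' • α'.realMap y.1} =
      (fun v : Fan.Orth k => v.1) ⁻¹' (α.realMap '' Y) := by
    ext z
    simp only [Set.mem_ofPred_eq, Set.mem_preimage, Set.mem_image]
    constructor
    · rintro ⟨y, c, c', hc, hc', hz, hz'⟩
      have h1 : α.realMap (c • y.1) = z.1 := by rw [realMap_smul, hz]
      have h2 : α'.realMap (c • y.1) = (c / c') • z.1 := by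
        rw [realMap_smul, hz', smul_smul]
        congr 1
        field_simp
      refine ⟨c • y.1, ⟨fun i => ?_, fun i j => ?_⟩, h1⟩
      · rw [Pi.smul_apply, smul_eq_mul]
        exact mul_nonneg hc.le (y.2.1 i)
      · rw [h1, h2]
        simp only [Pi.smul_apply, smul_eq_mul]
        ring
    · rintro ⟨y, ⟨hy, hmin⟩, hz⟩
      have hy0 : y ≠ 0 := by
        rintro rfl
        rw [realMap_zero] at hz
        exact z.2.2 hz.symm
      obtain ⟨t, ht, hab⟩ := exists_pos_smul_of_minors (α.realMap y) (α'.realMap y)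
        (realMap_nonneg α y hy) (realMap_ne_zero α y hy hy0)
        (realMap_nonneg α' y hy) (realMap_ne_zero α' y hy hy0) hmin
      refine ⟨⟨y, hy, hy0⟩, 1, t, one_pos, ht, ?_, ?_⟩
      · rw [one_smul]; exact hz.symm
      · rw [← hab]; exact hz.symm
  rw [heq]
  exact (isClosed_image_realMap α hY).preimage (continuous_orth_val k)

/-! ## bounded maps: description of the image -/

theorem image_description {F G : Fan.{u}} (ψ : F ⟶ G) (hψ : Fan.IsBoundedMap ψ) (n : ICone)
    (ξ : G.obj (op n)) :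
    ∃ s : Finset (Σ k : ICone, k ⟶ n),
      {v : Fan.Orth n | Fan.P.mk ξ v ∈ Set.range (Fan.P.map ψ)} =
        ⋃ e ∈ s, {v : Fan.Orth n | ∃ (y : Fan.Orth e.1) (c : ℝ), 0 < c ∧
          v.1 = c • e.2.realMap y.1} := by
  classical
  obtain ⟨t, ht⟩ := hψ n ξ
  let T : (Σ k : ICone, (Limits.pullback ψ (Fan.coneMap ξ)).obj (op k)) → (Σ k : ICone, k ⟶ n) :=
    fun τ => ⟨τ.1, ((Limits.pullback.snd ψ (Fan.coneMap ξ)).app _ τ.2).down⟩
  refine ⟨t.image T, ?_⟩
  ext v
  simp only [Set.mem_ofPred_eq, Set.mem_iUnion, Set.mem_range, exists_prop]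
  constructor
  · rintro ⟨x, hx⟩
    have h' : Fan.P.map ψ x = Fan.P.map (Fan.coneMap ξ)
        (Fan.P.mk (F := uliftYoneda.{u}.obj n) (ULift.up (𝟙 n)) v) := by
      rw [map_coneMap_mk_id]
      exact hx
    obtain ⟨z, -, hz2⟩ := exists_point_pullback _ _ _ _ h'
    obtain ⟨τ, hτ, w, rfl⟩ := ht z
    refine ⟨T τ, Finset.mem_image_of_mem T hτ, w, ?_⟩
    rw [map_mk] at hz2
    exact (yo_mk_eq_iff _ w v).mp hz2
  · rintro ⟨e, he, w, c, hc, hv⟩
    obtain ⟨τ, hτ, rfl⟩ := Finset.mem_image.mp he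
    refine ⟨Fan.P.mk ((Limits.pullback.fst ψ (Fan.coneMap ξ)).app _ τ.2) w, ?_⟩
    rw [map_mk, pb_condition]
    exact mk_eq_of_glue (T τ).2 ξ w v c hc hv

/-- **A bounded map is surjective iff it hits all rational points.** -/
theorem surjective_iff_rational {F G : Fan.{u}} (ψ : F ⟶ G) (hψ : Fan.IsBoundedMap ψ) :
    Function.Surjective (Fan.P.map ψ) ↔
      ∀ y : Fan.P G, y.IsRational → y ∈ Set.range (Fan.P.map ψ) := by
  constructor
  · intro h y _
    exact h y
  · intro h y
    obtain ⟨n, ξ, v, rfl⟩ := exists_rep y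
    obtain ⟨s, hs⟩ := image_description ψ hψ n ξ
    have hV : IsClosed {v : Fan.Orth n | Fan.P.mk ξ v ∈ Set.range (Fan.P.map ψ)} := by
      rw [hs]
      exact isClosed_biUnion_finset fun e _ => isClosed_coneSet e.2
    have huniv := eq_univ_of_isClosed_of_rational _ hV (by
      intro u hu hu0 c hc v hv
      exact h _ (isRational_mk ξ u hu hu0 c hc v hv))
    have : v ∈ {v : Fan.Orth n | Fan.P.mk ξ v ∈ Set.range (Fan.P.map ψ)} := by
      rw [huniv]
      exact Set.mem_univ v
    exact this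

/-- **Injectivity can be tested on rational points when the source is quasi-separated.** -/
theorem injective_iff_rational {F G : Fan.{u}} (ψ : F ⟶ G) (hF : F.IsQuasiSeparated) :
    Function.Injective (Fan.P.map ψ) ↔
      ∀ x y : Fan.P F, x.IsRational → y.IsRational → Fan.P.map ψ x = Fan.P.map ψ y → x = y := by
  constructor
  · intro h x y _ _ hxy
    exact h hxy
  · intro h x x' hxx'
    obtain ⟨n, σ, v, rfl⟩ := exists_rep x
    obtain ⟨n', σ', v', rfl⟩ := exists_rep x'
    rw [map_mk, map_mk, mk_eq_mk_iff] at hxx'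
    obtain ⟨k, φ₁, φ₂, z, c₁, c₂, e, h1, h2, h3, h4⟩ := hxx'
    rw [← app_map_op, ← app_map_op] at e
    rw [← mk_eq_of_glue φ₁ σ z v c₁ h1 h3, ← mk_eq_of_glue φ₂ σ' z v' c₂ h2 h4]
    obtain ⟨s, -, hs⟩ := pairs_of_quasiSeparated F hF (F.map φ₁.op σ) (F.map φ₂.op σ')
    have hD : IsClosed {z : Fan.Orth k | Fan.P.mk (F.map φ₁.op σ) z = Fan.P.mk (F.map φ₂.op σ') z} := by
      have : {z : Fan.Orth k | Fan.P.mk (F.map φ₁.op σ) z = Fan.P.mk (F.map φ₂.op σ') z} =
          ⋃ e ∈ s, {z : Fan.Orth k | ∃ (y : Fan.Orth e.1) (c c' : ℝ), 0 < c ∧ 0 < c' ∧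
            z.1 = c • e.2.1.realMap y.1 ∧ z.1 = c' • e.2.2.realMap y.1} := by
        ext z
        simp only [Set.mem_ofPred_eq, Set.mem_iUnion, exists_prop]
        exact hs z z
      rw [this]
      exact isClosed_biUnion_finset fun e _ => isClosed_pairSet e.2.1 e.2.2
    have huniv := eq_univ_of_isClosed_of_rational _ hD (by
      intro u hu hu0 c hc w hw
      apply h _ _ (isRational_mk _ u hu hu0 c hc w hw) (isRational_mk _ u hu hu0 c hc w hw)
      rw [map_mk, map_mk, e])
    have : z ∈ {z : Fan.Orth k | Fan.P.mk (F.map φ₁.op σ) z = Fan.P.mk (F.map φ₂.op σ') z} := by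
      rw [huniv]
      exact Set.mem_univ z
    exact this

end Groth.Agent.H96.FanTop
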