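import Groth.Prelude.Def_W4c6instabfans3Fan
import Groth.Agent.H96.FanTop

/-!
# Formal fans: closed subsets of the projective realization
-/

set_option autoImplicit false

open CategoryTheory Opposite Instab

universe u

namespace Groth.Agent.H96.FanClosed

open Groth.Agent.H96.FanCore Groth.Agent.H96.FanBdd Groth.Agent.H96.FanTop

lemma continuous_mk {F : Fan.{u}} {n : ICone} (σ : F.obj (op n)) : Continuous (Fan.P.mk σ) := by
  have h1 : Continuous (fun v : Fan.Orth n => (⟨⟨n, σ⟩, v⟩ : Fan.Pt F)) :=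
    continuous_sigmaMk (σ := fun e : (Σ n : ICone, F.obj (op n)) => Fan.Orth e.1) (i := ⟨n, σ⟩)
  exact continuous_quot_mk.comp h1

/-- closed subsets of `P F` are detected on the punctured orthants of the cones -/
theorem isClosed_iff_cells {F : Fan.{u}} (S : Set (Fan.P F)) :
    IsClosed S ↔ ∀ (n : ICone) (ξ : F.obj (op n)), IsClosed {v : Fan.Orth n | Fan.P.mk ξ v ∈ S} := by
  have h1 : IsClosed S ↔ IsClosed ((Quot.mk (Fan.Rel F)) ⁻¹' (show Set (Quot (Fan.Rel F)) from S)) :=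
    (isQuotientMap_quot_mk (r := Fan.Rel F)).isCoinducing.isClosed_preimage.symm
  have h2 : IsClosed ((Quot.mk (Fan.Rel F)) ⁻¹' (show Set (Quot (Fan.Rel F)) from S)) ↔
      ∀ i : (Σ n : ICone, F.obj (op n)),
        IsClosed (Sigma.mk (β := fun e : (Σ n : ICone, F.obj (op n)) => Fan.Orth e.1) i ⁻¹'
          ((Quot.mk (Fan.Rel F)) ⁻¹' (show Set (Quot (Fan.Rel F)) from S))) :=
    isClosed_sigma_iff
  exact h1.trans (h2.trans ⟨fun h n ξ => h ⟨n, ξ⟩, fun h i => h i.1 i.2⟩)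

lemma continuous_map {F G : Fan.{u}} (f : F ⟶ G) : Continuous (Fan.P.map f) := by
  unfold Fan.P.map
  apply continuous_quot_lift
  apply continuous_quot_mk.comp
  apply continuous_sigma
  rintro ⟨n, ξ⟩
  exact continuous_sigmaMk (σ := fun e : (Σ n : ICone, G.obj (op n)) => Fan.Orth e.1)
    (i := ⟨n, f.app _ ξ⟩)

/-- the cone over the image of a closed scale-invariant subset is closed -/
theorem isClosed_coneImage {k n : ICone} (φ : k ⟶ n) (Y : Set (Fan.Orth k)) (hY : IsClosed Y)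
    (hscale : ∀ w ∈ Y, ∀ (c : ℝ), 0 < c → ∀ w' : Fan.Orth k, w'.1 = c • w.1 → w' ∈ Y) :
    IsClosed {v : Fan.Orth n | ∃ w ∈ Y, ∃ c : ℝ, 0 < c ∧ v.1 = c • φ.realMap w.1} := by
  obtain ⟨C, hC, hCY⟩ := isClosed_induced_iff.mp hY
  have hsub : closure ((fun w : Fan.Orth k => w.1) '' Y) ⊆ {y | ∀ i, 0 ≤ y i} ∩ C := by
    apply closure_minimal _ ((isClosed_orthant _).inter hC)
    rintro _ ⟨w, hw, rfl⟩
    refine ⟨w.2.1, ?_⟩
    rw [← hCY] at hw
    exact hw
  have heq : {v : Fan.Orth n | ∃ w ∈ Y, ∃ c : ℝ, 0 < c ∧ v.1 = c • φ.realMap w.1} =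
      (fun v : Fan.Orth n => v.1) ⁻¹' (φ.realMap '' closure ((fun w : Fan.Orth k => w.1) '' Y)) := by
    ext v
    simp only [Set.mem_ofPred_eq, Set.mem_preimage, Set.mem_image]
    constructor
    · rintro ⟨w, hw, c, hc, hv⟩
      have hnn : ∀ i, 0 ≤ (c • w.1) i := fun i => by
        rw [Pi.smul_apply, smul_eq_mul]; exact mul_nonneg hc.le (w.2.1 i)
      have hne : c • w.1 ≠ 0 := by
        intro h0
        rcases smul_eq_zero.mp h0 with h1 | h1
        · exact hc.ne' h1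
        · exact w.2.2 h1
      refine ⟨c • w.1, subset_closure ⟨⟨c • w.1, hnn, hne⟩, hscale w hw c hc _ rfl, rfl⟩, ?_⟩
      rw [realMap_smul, hv]
    · rintro ⟨y, hy, hv⟩
      have hy' := hsub hy
      have hy0 : y ≠ 0 := by
        rintro rfl
        rw [realMap_zero] at hv
        exact v.2.2 hv.symm
      refine ⟨⟨y, hy'.1, hy0⟩, ?_, 1, one_pos, by rw [one_smul]; exact hv.symm⟩
      rw [← hCY]
      exact hy'.2
  rw [heq]
  exact (isClosed_image_realMap φ isClosed_closure).preimage (continuous_orth_val n)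

lemma isClosed_preimage_mk {F : Fan.{u}} {n : ICone} (σ : F.obj (op n)) (Z : Set (Fan.P F))
    (hZ : IsClosed Z) : IsClosed {w : Fan.Orth n | Fan.P.mk σ w ∈ Z} :=
  hZ.preimage (continuous_mk σ)

/-- a bounded map of fans induces a closed map of projective realizations -/
theorem isClosedMap_of_bounded {F G : Fan.{u}} (ψ : F ⟶ G) (hψ : Fan.IsBoundedMap ψ) :
    IsClosedMap (Fan.P.map ψ) := by
  classical
  intro Z hZ
  rw [isClosed_iff_cells]
  intro n ξ
  obtain ⟨t, ht⟩ := hψ n ξ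
  have heq : {v : Fan.Orth n | Fan.P.mk ξ v ∈ Fan.P.map ψ '' Z} =
      ⋃ τ ∈ t, {v : Fan.Orth n | ∃ w ∈ {w : Fan.Orth τ.1 |
        Fan.P.mk ((Limits.pullback.fst ψ (Fan.coneMap ξ)).app _ τ.2) w ∈ Z}, ∃ c : ℝ, 0 < c ∧
          v.1 = c • ((Limits.pullback.snd ψ (Fan.coneMap ξ)).app _ τ.2).down.realMap w.1} := by
    ext v
    simp only [Set.mem_ofPred_eq, Set.mem_iUnion, Set.mem_image, exists_prop]
    constructor
    · rintro ⟨x, hxZ, hx⟩
      have h' : Fan.P.map ψ x = Fan.P.map (Fan.coneMap ξ)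
          (Fan.P.mk (F := uliftYoneda.{u}.obj n) (ULift.up (𝟙 n)) v) := by
        rw [map_coneMap_mk_id]
        exact hx
      obtain ⟨z, hz1, hz2⟩ := exists_point_pullback _ _ _ _ h'
      obtain ⟨τ, hτ, w, rfl⟩ := ht z
      refine ⟨τ, hτ, w, ?_, ?_⟩
      · rw [map_mk] at hz1
        rw [hz1]
        exact hxZ
      · rw [map_mk] at hz2
        exact (yo_mk_eq_iff _ w v).mp hz2
    · rintro ⟨τ, hτ, w, hwZ, c, hc, hv⟩
      refine ⟨_, hwZ, ?_⟩
      rw [map_mk, pb_condition]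
      exact mk_eq_of_glue _ ξ w v c hc hv
  rw [heq]
  refine isClosed_biUnion_finset fun τ _ => ?_
  apply isClosed_coneImage
  · exact isClosed_preimage_mk _ Z hZ
  · intro w hw c hc w' hw'
    change Fan.P.mk _ w' ∈ Z
    rw [← mk_smul _ w w' c hc hw']
    exact hw

/-- a bounded map of fans has finite fibres on projective realizations -/
theorem finite_fibre_of_bounded {F G : Fan.{u}} (ψ : F ⟶ G) (hψ : Fan.IsBoundedMap ψ)
    (y : Fan.P G) : (Fan.P.map ψ ⁻¹' {y}).Finite := by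
  classical
  obtain ⟨n, ξ, v, rfl⟩ := exists_rep y
  obtain ⟨t, ht⟩ := hψ n ξ
  let A : Set (Fan.P (Limits.pullback ψ (Fan.coneMap ξ))) :=
    {z | Fan.P.map (Limits.pullback.snd ψ (Fan.coneMap ξ)) z =
      Fan.P.mk (F := uliftYoneda.{u}.obj n) (ULift.up (𝟙 n)) v}
  have hA : A.Finite := by
    have hsub : A ⊆ ⋃ τ ∈ t, {z | z ∈ A ∧ z ∈ Fan.P.cell τ.2} := by
      intro z hz
      obtain ⟨τ, hτ, hzτ⟩ := ht z
      simp only [Set.mem_iUnion]
      exact ⟨τ, hτ, hz, hzτ⟩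
    refine Set.Finite.subset (Set.Finite.biUnion t.finite_toSet fun τ _ => ?_) hsub
    apply Set.Subsingleton.finite
    rintro z ⟨hz, w, rfl⟩ z' ⟨hz', w', rfl⟩
    change Fan.P.map _ (Fan.P.mk τ.2 w) = _ at hz
    change Fan.P.map _ (Fan.P.mk τ.2 w') = _ at hz'
    rw [map_mk] at hz hz'
    obtain ⟨c, hc, hv⟩ := (yo_mk_eq_iff _ w v).mp hz
    obtain ⟨c', hc', hv'⟩ := (yo_mk_eq_iff _ w' v).mp hz'
    have h1 : c • w.1 = c' • w'.1 := by
      apply realMap_injective ((Limits.pullback.snd ψ (Fan.coneMap ξ)).app _ τ.2).down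
      rw [realMap_smul, realMap_smul]
      exact hv.symm.trans hv'
    change Fan.P.mk τ.2 w = Fan.P.mk τ.2 w'
    apply mk_smul τ.2 w w' (c / c') (div_pos hc hc')
    have : w'.1 = c'⁻¹ • (c • w.1) := by
      rw [h1, smul_smul, inv_mul_cancel₀ hc'.ne', one_smul]
    rw [this, smul_smul]
    congr 1
    field_simp
  refine Set.Finite.subset (hA.image (Fan.P.map (Limits.pullback.fst ψ (Fan.coneMap ξ)))) ?_
  intro x hx
  have hx' : Fan.P.map ψ x = Fan.P.mk ξ v := hx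
  have h' : Fan.P.map ψ x = Fan.P.map (Fan.coneMap ξ)
      (Fan.P.mk (F := uliftYoneda.{u}.obj n) (ULift.up (𝟙 n)) v) := by
    rw [map_coneMap_mk_id]
    exact hx'
  obtain ⟨z, hz1, hz2⟩ := exists_point_pullback _ _ _ _ h'
  exact ⟨z, hz2, hz1⟩

/-- the orthant map is continuous -/
lemma continuous_orthMap {k n : ICone} (φ : k ⟶ n) : Continuous (orthMap φ) :=
  Continuous.subtype_mk ((continuous_realMap φ).comp (continuous_orth_val k)) _

/-- rational simplices of a quasi-separated fan are closed maps -/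
theorem isClosed_image_mk {F : Fan.{u}} (hF : F.IsQuasiSeparated) {n : ICone} (ξ : F.obj (op n))
    (S : Set (Fan.Orth n)) (hS : IsClosed S)
    (hscale : ∀ v w : Fan.Orth n, v ∈ S → ∀ c : ℝ, 0 < c → w.1 = c • v.1 → w ∈ S) :
    IsClosed (Fan.P.mk ξ '' S) := by
  classical
  rw [isClosed_iff_cells]
  intro n' ξ'
  obtain ⟨s, -, hs⟩ := pairs_of_quasiSeparated F hF ξ' ξ
  have heq : {v : Fan.Orth n' | Fan.P.mk ξ' v ∈ Fan.P.mk ξ '' S} =
      ⋃ e ∈ s, {v : Fan.Orth n' | ∃ y ∈ {y : Fan.Orth e.1 | orthMap e.2.2 y ∈ S}, ∃ c : ℝ, 0 < c ∧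
        v.1 = c • e.2.1.realMap y.1} := by
    ext v
    simp only [Set.mem_ofPred_eq, Set.mem_iUnion, Set.mem_image, exists_prop]
    constructor
    · rintro ⟨w, hwS, hw⟩
      obtain ⟨e, he, y, c, c', hc, hc', hv, hw'⟩ := (hs v w).mp hw.symm
      refine ⟨e, he, y, ?_, c, hc, hv⟩
      apply hscale w _ hwS c'⁻¹ (inv_pos.mpr hc')
      change e.2.2.realMap y.1 = _
      rw [hw', smul_smul, inv_mul_cancel₀ hc'.ne', one_smul]
    · rintro ⟨e, he, y, hyS, c, hc, hv⟩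
      refine ⟨orthMap e.2.2 y, hyS, ?_⟩
      symm
      rw [hs]
      exact ⟨e, he, y, c, 1, hc, one_pos, hv, by rw [one_smul]; rfl⟩
  rw [heq]
  refine isClosed_biUnion_finset fun e _ => ?_
  apply isClosed_coneImage
  · exact hS.preimage (continuous_orthMap e.2.2)
  · intro w hw c hc w' hw'
    apply hscale (orthMap e.2.2 w) _ hw c hc
    change e.2.2.realMap w'.1 = c • e.2.2.realMap w.1
    rw [hw', realMap_smul]

theorem isClosed_iff_inter_cells {F : Fan.{u}} (hF : F.IsQuasiSeparated) (S : Set (Fan.P F)) :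
    IsClosed S ↔ ∀ (n : ICone) (ξ : F.obj (op n)), IsClosed (S ∩ Fan.P.cell ξ) := by
  constructor
  · intro hS n ξ
    apply hS.inter
    have : Fan.P.cell ξ = Fan.P.mk ξ '' Set.univ := by
      rw [Set.image_univ]; rfl
    rw [this]
    exact isClosed_image_mk hF ξ Set.univ isClosed_univ (fun _ _ _ _ _ _ => Set.mem_univ _)
  · intro h
    rw [isClosed_iff_cells]
    intro n ξ
    have : {v : Fan.Orth n | Fan.P.mk ξ v ∈ S} = Fan.P.mk ξ ⁻¹' (S ∩ Fan.P.cell ξ) := by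
      ext v
      simp only [Set.mem_ofPred_eq, Set.mem_preimage, Set.mem_inter_iff]
      exact ⟨fun hv => ⟨hv, v, rfl⟩, fun hv => hv.1⟩
    rw [this]
    exact (h n ξ).preimage (continuous_mk ξ)

end Groth.Agent.H96.FanClosed
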