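import Groth.Prelude.Def_W4c6instabfans3FanCvx
import Groth.Agent.H96.FanTop

/-!
# Formal fans: quasi-concave functions on convex subsets
-/

set_option autoImplicit false

open CategoryTheory Opposite Instab

universe u v

namespace Groth.Agent.H96.FanCvx

open Groth.Agent.H96.FanCore Groth.Agent.H96.FanBdd Groth.Agent.H96.FanTop

lemma continuous_mk {F : Fan.{u}} {n : ICone} (σ : F.obj (op n)) : Continuous (Fan.P.mk σ) := by
  have h1 : Continuous (fun v : Fan.Orth n => (⟨⟨n, σ⟩, v⟩ : Fan.Pt F)) :=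
    continuous_sigmaMk (σ := fun e : (Σ n : ICone, F.obj (op n)) => Fan.Orth e.1) (i := ⟨n, σ⟩)
  exact continuous_quot_mk.comp h1

lemma basis_apply_self (n : ICone) (i : Fin n.dim) : (Fan.Orth.basis n i).1 i = 1 :=
  if_pos rfl

lemma basis_apply_ne (n : ICone) {i j : Fin n.dim} (h : j ≠ i) : (Fan.Orth.basis n i).1 j = 0 :=
  if_neg h

lemma zero_ne_one_two : (0 : Fin Fan.two.dim) ≠ 1 := by
  intro h
  have := congrArg Fin.val h
  exact absurd this (by decide)

/-- the point `e₀ + |t| e₁` of the punctured orthant of `ℝ²` -/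
noncomputable def seg (t : ℝ) : Fan.Orth Fan.two :=
  ⟨fun j => (Fan.Orth.basis Fan.two 0).1 j + |t| * (Fan.Orth.basis Fan.two 1).1 j,
    fun j => add_nonneg ((Fan.Orth.basis Fan.two 0).2.1 j)
      (mul_nonneg (abs_nonneg t) ((Fan.Orth.basis Fan.two 1).2.1 j)), by
    intro h
    have h1 := congr_fun h 0
    simp only [Pi.zero_apply] at h1
    rw [basis_apply_self, basis_apply_ne _ zero_ne_one_two, mul_zero, add_zero] at h1
    exact one_ne_zero h1⟩

lemma seg_zero : seg 0 = Fan.Orth.basis Fan.two 0 := by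
  apply Subtype.ext
  funext j
  change (Fan.Orth.basis Fan.two 0).1 j + |(0:ℝ)| * (Fan.Orth.basis Fan.two 1).1 j = _
  rw [abs_zero, zero_mul, add_zero]

lemma continuous_seg : Continuous seg := by
  refine Continuous.subtype_mk ?_ _
  refine continuous_pi fun j => ?_
  exact continuous_const.add ((continuous_abs).mul continuous_const)

lemma seg_eq (t : ℝ) : (seg t).1 = (1 : ℝ) • (Fan.Orth.basis Fan.two 0).1 +
    |t| • (Fan.Orth.basis Fan.two 1).1 := by
  funext j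
  change (Fan.Orth.basis Fan.two 0).1 j + |t| * (Fan.Orth.basis Fan.two 1).1 j = _
  simp only [Pi.add_apply, Pi.smul_apply, smul_eq_mul, one_mul]

lemma basis_not_prop : ¬ ∃ c : ℝ, (Fan.Orth.basis Fan.two 1).1 = c • (Fan.Orth.basis Fan.two 0).1 := by
  rintro ⟨c, hc⟩
  have h1 := congr_fun hc 1
  rw [Pi.smul_apply, basis_apply_self, basis_apply_ne _ zero_ne_one_two.symm, smul_zero] at h1
  exact one_ne_zero h1

theorem main (F : Fan.{u}) (U : Set (Fan.P F))
    (hU : Fan.IsConvex U) {Γ : Type v} [LinearOrder Γ] (Φ : U → Γ) (hΦ : Fan.IsQuasiConcaveOn U Φ)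
    (hlsc : ∀ c : Γ, IsClosed {x : U | Φ x ≤ c}) :
    (∀ x : U, (x : Fan.P F).IsRational → IsLocalMax Φ x → ∀ y : U, Φ y ≤ Φ x) ∧
    (Fan.IsStrictQuasiConcaveOn U Φ → ∀ x y : U, (x : Fan.P F).IsRational →
      (y : Fan.P F).IsRational → IsLocalMax Φ x → IsLocalMax Φ y → x = y) := by
  obtain ⟨hlc, ⟨S, hS⟩, hjoin⟩ := hU
  have hmem : ∀ p : Fan.P F, p ∈ U ↔ ∃ (n : ICone) (ξ : F.obj (op n)) (v : Fan.Orth n),
      ξ ∈ S.obj (op n) ∧ p = Fan.P.mk ξ v := fun p => by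
    rw [hS]; exact mem_range_ι_iff S p
  have part1 : ∀ x : U, (x : Fan.P F).IsRational → IsLocalMax Φ x → ∀ y : U, Φ y ≤ Φ x := by
    intro x hxrat hxmax y
    by_contra hlt
    rw [not_le] at hlt
    -- Step A: a rational point with larger value
    obtain ⟨y', hy'rat, hy'lt⟩ : ∃ y' : U, (y' : Fan.P F).IsRational ∧ Φ x < Φ y' := by
      obtain ⟨n, σ, v, hσ, hyv⟩ := (hmem y.1).mp y.2
      have hcell : ∀ w : Fan.Orth n, Fan.P.mk σ w ∈ U := by
        intro w
        rw [hmem]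
        exact ⟨n, σ, w, hσ, rfl⟩
      let g : Fan.Orth n → U := fun w => ⟨Fan.P.mk σ w, hcell w⟩
      have hg : Continuous g := (continuous_mk σ).subtype_mk _
      have hW : IsClosed {w : Fan.Orth n | Φ (g w) ≤ Φ x} := (hlsc (Φ x)).preimage hg
      by_contra hcon
      push Not at hcon
      have huniv := eq_univ_of_isClosed_of_rational _ hW (by
        intro u hu hu0 c hc w hw
        exact hcon (g w) (isRational_mk σ u hu hu0 c hc w hw))
      have hv : v ∈ {w : Fan.Orth n | Φ (g w) ≤ Φ x} := by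
        rw [huniv]; exact Set.mem_univ v
      have hgv : g v = y := Subtype.ext hyv.symm
      change Φ (g v) ≤ Φ x at hv
      rw [hgv] at hv
      exact absurd hv (not_le.mpr hlt)
    -- Step B
    have hne : (x : Fan.P F) ≠ y' := by
      intro h
      have : x = y' := Subtype.ext h
      rw [this] at hy'lt
      exact lt_irrefl _ hy'lt
    obtain ⟨τ, hτU, hτ0, hτ1⟩ := hjoin x y' x.2 y'.2 hxrat hy'rat hne
    let h : ℝ → U := fun t => ⟨Fan.P.mk τ (seg t), hτU ⟨seg t, rfl⟩⟩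
    have hcont : Continuous h := ((continuous_mk τ).comp continuous_seg).subtype_mk _
    have h0 : h 0 = x := by
      apply Subtype.ext
      change Fan.P.mk τ (seg 0) = x
      rw [seg_zero, hτ0]
    have hev : ∀ᶠ t in nhds (0 : ℝ), Φ (h t) ≤ Φ x := by
      have : Filter.Tendsto h (nhds 0) (nhds x) := by
        rw [← h0]; exact hcont.continuousAt
      exact this.eventually hxmax
    obtain ⟨ε, hε, hball⟩ := Metric.eventually_nhds_iff.mp hev
    have hε2 : dist (ε / 2) (0 : ℝ) < ε := by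
      rw [Real.dist_eq, sub_zero, abs_of_pos (by linarith)]
      linarith
    have hle := hball hε2
    have hqc := hΦ Fan.two τ (Fan.Orth.basis Fan.two 0) (seg (ε / 2)) (Fan.Orth.basis Fan.two 1)
      (hτU ⟨_, rfl⟩) (hτU ⟨_, rfl⟩) (hτU ⟨_, rfl⟩) basis_not_prop
      ⟨1, |ε / 2|, one_pos, abs_pos.mpr (by linarith), seg_eq _⟩
    have e0 : (⟨Fan.P.mk τ (Fan.Orth.basis Fan.two 0), hτU ⟨_, rfl⟩⟩ : U) = x := Subtype.ext hτ0
    have e1 : (⟨Fan.P.mk τ (Fan.Orth.basis Fan.two 1), hτU ⟨_, rfl⟩⟩ : U) = y' := Subtype.ext hτ1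
    rw [e0, e1] at hqc
    change Φ (h (ε / 2)) ≤ Φ x at hle
    change min (Φ x) (Φ y') ≤ Φ (h (ε / 2)) ∧ (Φ (h (ε / 2)) = min (Φ x) (Φ y') → Φ x = Φ y') at hqc
    rw [min_eq_left hy'lt.le] at hqc
    have := hqc.2 (le_antisymm hle hqc.1)
    rw [this] at hy'lt
    exact lt_irrefl _ hy'lt
  refine ⟨part1, ?_⟩
  intro hstrict x y hxrat hyrat hxmax hymax
  by_contra hne
  have hne' : (x : Fan.P F) ≠ y := fun h => hne (Subtype.ext h)
  have hxy : Φ y ≤ Φ x := part1 x hxrat hxmax y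
  have hyx : Φ x ≤ Φ y := part1 y hyrat hymax x
  obtain ⟨τ, hτU, hτ0, hτ1⟩ := hjoin x y x.2 y.2 hxrat hyrat hne'
  have hqc := hstrict Fan.two τ (Fan.Orth.basis Fan.two 0) (seg 1) (Fan.Orth.basis Fan.two 1)
    (hτU ⟨_, rfl⟩) (hτU ⟨_, rfl⟩) (hτU ⟨_, rfl⟩) basis_not_prop
    ⟨1, |1|, one_pos, by simp, seg_eq _⟩
  have e0 : (⟨Fan.P.mk τ (Fan.Orth.basis Fan.two 0), hτU ⟨_, rfl⟩⟩ : U) = x := Subtype.ext hτ0
  have e1 : (⟨Fan.P.mk τ (Fan.Orth.basis Fan.two 1), hτU ⟨_, rfl⟩⟩ : U) = y := Subtype.ext hτ1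
  rw [e0, e1] at hqc
  have hmax := part1 x hxrat hxmax ⟨Fan.P.mk τ (seg 1), hτU ⟨_, rfl⟩⟩
  rw [min_eq_left hyx] at hqc
  exact absurd hmax (not_le.mpr hqc)

end Groth.Agent.H96.FanCvx
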