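import Groth.Prelude.Def_W4c6instabfans3Fan
import Groth.Agent.H96.FanClosed

/-!
# Formal fans: lifting convergent sequences to a cone
-/

set_option autoImplicit false

open CategoryTheory Opposite Instab

universe u

namespace Groth.Agent.H96.FanSeq

open Groth.Agent.H96.FanCore Groth.Agent.H96.FanBdd Groth.Agent.H96.FanTop
  Groth.Agent.H96.FanClosed

/-- the ray through a point of the orthant is closed -/
lemma isClosed_ray {n : ICone} (v : Fan.Orth n) :
    IsClosed {w : Fan.Orth n | ∃ c : ℝ, 0 < c ∧ w.1 = c • v.1} := by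
  have heq : {w : Fan.Orth n | ∃ c : ℝ, 0 < c ∧ w.1 = c • v.1} =
      ⋂ i, ⋂ j, {w : Fan.Orth n | w.1 i * v.1 j = w.1 j * v.1 i} := by
    ext w
    simp only [Set.mem_ofPred_eq, Set.mem_iInter]
    constructor
    · rintro ⟨c, -, hw⟩ i j
      rw [hw]
      simp only [Pi.smul_apply, smul_eq_mul]
      ring
    · intro h
      exact exists_pos_smul_of_minors w.1 v.1 w.2.1 w.2.2 v.2.1 v.2.2 h
  rw [heq]
  refine isClosed_iInter fun i => isClosed_iInter fun j => ?_
  have c1 : ∀ i, Continuous (fun w : Fan.Orth n => w.1 i) := fun i =>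
    (continuous_apply i).comp (continuous_orth_val n)
  exact isClosed_eq ((c1 i).mul continuous_const) ((c1 j).mul continuous_const)

/-- points of the realization of a quasi-separated fan are closed -/
theorem isClosed_singleton {F : Fan.{u}} (hF : F.IsQuasiSeparated) (p : Fan.P F) :
    IsClosed ({p} : Set (Fan.P F)) := by
  obtain ⟨n, ξ, v, rfl⟩ := exists_rep p
  have : ({Fan.P.mk ξ v} : Set (Fan.P F)) =
      Fan.P.mk ξ '' {w : Fan.Orth n | ∃ c : ℝ, 0 < c ∧ w.1 = c • v.1} := by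
    ext q
    simp only [Set.mem_singleton_iff, Set.mem_image, Set.mem_ofPred_eq]
    constructor
    · rintro rfl
      exact ⟨v, ⟨1, one_pos, by rw [one_smul]⟩, rfl⟩
    · rintro ⟨w, ⟨c, hc, hw⟩, rfl⟩
      exact (mk_smul ξ v w c hc hw).symm
  rw [this]
  apply isClosed_image_mk hF ξ _ (isClosed_ray v)
  rintro w w' ⟨c, hc, hw⟩ d hd hw'
  exact ⟨d * c, mul_pos hd hc, by rw [hw', hw, smul_smul]⟩

lemma t1Space {F : Fan.{u}} (hF : F.IsQuasiSeparated) : T1Space (Fan.P F) :=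
  ⟨fun p => isClosed_singleton hF p⟩

/-! ## normalization -/

lemma sum_pos {n : ICone} (w : Fan.Orth n) : 0 < ∑ i, w.1 i := by
  obtain ⟨i, hi⟩ : ∃ i, w.1 i ≠ 0 := by
    by_contra hcon
    push Not at hcon
    exact w.2.2 (funext hcon)
  have hipos : 0 < w.1 i := lt_of_le_of_ne (w.2.1 i) (Ne.symm hi)
  exact Finset.sum_pos' (fun j _ => w.2.1 j) ⟨i, Finset.mem_univ i, hipos⟩

/-- normalization to coordinate sum one -/
noncomputable def nrm {n : ICone} (w : Fan.Orth n) : Fan.Orth n :=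
  ⟨(∑ i, w.1 i)⁻¹ • w.1, fun i => by
    rw [Pi.smul_apply, smul_eq_mul]
    exact mul_nonneg (inv_pos.mpr (sum_pos w)).le (w.2.1 i), by
    intro h0
    rcases smul_eq_zero.mp h0 with h1 | h1
    · exact (inv_pos.mpr (sum_pos w)).ne' h1
    · exact w.2.2 h1⟩

lemma nrm_val {n : ICone} (w : Fan.Orth n) : (nrm w).1 = (∑ i, w.1 i)⁻¹ • w.1 := rfl

lemma continuous_nrm {n : ICone} : Continuous (nrm (n := n)) := by
  apply Continuous.subtype_mk
  have h1 : Continuous (fun w : Fan.Orth n => ∑ i, w.1 i) :=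
    continuous_finsetSum _ (fun i _ => (continuous_apply i).comp (continuous_orth_val n))
  exact (h1.inv₀ (fun w => (sum_pos w).ne')).smul (continuous_orth_val n)

lemma mk_nrm {F : Fan.{u}} {n : ICone} (ξ : F.obj (op n)) (w : Fan.Orth n) :
    Fan.P.mk ξ (nrm w) = Fan.P.mk ξ w :=
  (mk_smul ξ w (nrm w) _ (inv_pos.mpr (sum_pos w)) rfl).symm

lemma nrm_eq_self {n : ICone} (w : Fan.Orth n) (h : ∑ i, w.1 i = 1) : nrm w = w := by
  apply Subtype.ext
  rw [nrm_val, h, inv_one, one_smul]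

lemma sum_nrm {n : ICone} (w : Fan.Orth n) : ∑ i, (nrm w).1 i = 1 := by
  simp only [nrm_val, Pi.smul_apply, smul_eq_mul]
  rw [← Finset.mul_sum, inv_mul_cancel₀ (sum_pos w).ne']

lemma nrm_smul {n : ICone} (w w' : Fan.Orth n) (c : ℝ) (hc : 0 < c) (h : w'.1 = c • w.1) :
    nrm w' = nrm w := by
  apply Subtype.ext
  rw [nrm_val, nrm_val, h]
  simp only [Pi.smul_apply, smul_eq_mul]
  rw [← Finset.mul_sum, smul_smul]
  congr 1
  have := (sum_pos w).ne'
  field_simp

/-! ## the main theorem -/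

theorem main (F : Fan.{u}) (hF : F.IsQuasiSeparated)
    (x : ℕ → Fan.P F) (x₀ : Fan.P F) (hx : Filter.Tendsto x Filter.atTop (nhds x₀)) :
    ∃ (n : ICone) (σ : F.obj (op n)) (r : ℕ → ℕ) (v : ℕ → Fan.Orth n) (v₀ : Fan.Orth n),
      StrictMono r ∧ (∀ j, Fan.P.mk σ (v j) = x (r j)) ∧ Fan.P.mk σ v₀ = x₀ ∧
        Filter.Tendsto v Filter.atTop (nhds v₀) := by
  classical
  have : T1Space (Fan.P F) := t1Space hF
  by_cases hA : {i | x i = x₀}.Infinite
  · -- Case A: the constant subsequence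
    obtain ⟨n₀, ξ₀, w₀, hw₀⟩ := exists_rep x₀
    have : Infinite {i | x i = x₀} := hA.to_subtype
    refine ⟨n₀, ξ₀, Nat.orderEmbeddingOfSet {i | x i = x₀}, fun _ => w₀, w₀,
      (Nat.orderEmbeddingOfSet _).strictMono, ?_, hw₀.symm, tendsto_const_nhds⟩
    intro j
    have h := Set.mem_range_self (f := Nat.orderEmbeddingOfSet {i | x i = x₀}) j
    rw [Nat.orderEmbeddingOfSet_range] at h
    rw [← hw₀]
    exact h.symm
  · -- Case B
    rw [Set.not_infinite] at hA
    obtain ⟨I, hI⟩ : ∃ I : ℕ, ∀ i, I ≤ i → x i ≠ x₀ := by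
      obtain ⟨I, hI⟩ := hA.bddAbove
      refine ⟨I + 1, fun i hi h => ?_⟩
      have := hI h
      omega
    -- Step 1: a cone containing infinitely many terms
    obtain ⟨n, σ, hJ⟩ : ∃ (n : ICone) (σ : F.obj (op n)),
        {i | I ≤ i ∧ x i ∈ Fan.P.cell σ}.Infinite := by
      by_contra hcon
      push Not at hcon
      have hfin : ∀ (n : ICone) (σ : F.obj (op n)), {i | I ≤ i ∧ x i ∈ Fan.P.cell σ}.Finite :=
        hcon
      let A : Set (Fan.P F) := x '' {i | I ≤ i}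
      have hAclosed : IsClosed A := by
        rw [isClosed_iff_inter_cells hF]
        intro n σ
        apply Set.Finite.isClosed
        refine Set.Finite.subset ((hfin n σ).image x) ?_
        rintro p ⟨⟨i, hi, rfl⟩, hp⟩
        exact ⟨i, ⟨hi, hp⟩, rfl⟩
      have hx₀A : x₀ ∉ A := by
        rintro ⟨i, hi, hxi⟩
        exact hI i hi hxi
      have hev : ∀ᶠ i in Filter.atTop, x i ∈ Aᶜ :=
        hx.eventually (hAclosed.isOpen_compl.mem_nhds hx₀A)
      obtain ⟨i₁, hi₁⟩ := Filter.eventually_atTop.mp hev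
      exact hi₁ (max i₁ I) (le_max_left _ _) ⟨max i₁ I, (le_max_right _ _ : I ≤ max i₁ I), rfl⟩
    -- Step 2: lifts and a convergent subsequence
    have : Infinite {i | I ≤ i ∧ x i ∈ Fan.P.cell σ} := hJ.to_subtype
    let r₀ := Nat.orderEmbeddingOfSet {i | I ≤ i ∧ x i ∈ Fan.P.cell σ}
    have hr₀ : ∀ j, I ≤ r₀ j ∧ x (r₀ j) ∈ Fan.P.cell σ := by
      intro j
      have h := Set.mem_range_self (f := Nat.orderEmbeddingOfSet {i | I ≤ i ∧ x i ∈ Fan.P.cell σ}) j
      rw [Nat.orderEmbeddingOfSet_range] at h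
      exact h
    choose w hw using fun j => (hr₀ j).2
    let u : ℕ → Fan.Orth n := fun j => nrm (w j)
    have hu : ∀ j, Fan.P.mk σ (u j) = x (r₀ j) := fun j => by
      rw [mk_nrm]; exact hw j
    have husimp : ∀ j, (u j).1 ∈ stdSimplex ℝ (Fin n.dim) := fun j =>
      ⟨(u j).2.1, sum_nrm (w j)⟩
    obtain ⟨a, ha, φ, hφ, hconv⟩ := (isCompact_stdSimplex ℝ (Fin n.dim)).tendsto_subseq husimp
    have ha0 : a ≠ 0 := by
      rintro rfl
      have := ha.2
      simp at this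
    let v₀ : Fan.Orth n := ⟨a, ha.1, ha0⟩
    let v : ℕ → Fan.Orth n := fun j => u (φ j)
    have hv : Filter.Tendsto v Filter.atTop (nhds v₀) := tendsto_subtype_rng.mpr hconv
    have hvx : ∀ j, Fan.P.mk σ (v j) = x (r₀ (φ j)) := fun j => hu (φ j)
    have hrmono : StrictMono (fun j => r₀ (φ j)) := r₀.strictMono.comp hφ
    refine ⟨n, σ, fun j => r₀ (φ j), v, v₀, hrmono, hvx, ?_, hv⟩
    -- Step 3: the limit lifts x₀
    have : T2Space (Fan.Orth n) :=
      inferInstanceAs (T2Space {v : Fin n.dim → ℝ // (∀ i, 0 ≤ v i) ∧ v ≠ 0})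
    have hK₀ : IsClosed (insert v₀ (Set.range v)) := hv.isCompact_insert_range.isClosed
    have hCclosed : IsClosed (nrm ⁻¹' (insert v₀ (Set.range v))) := hK₀.preimage continuous_nrm
    have hK' : IsClosed (Fan.P.mk σ '' (nrm ⁻¹' (insert v₀ (Set.range v)))) := by
      apply isClosed_image_mk hF σ _ hCclosed
      intro w₁ w₂ hw₁ c hc hw₂
      rw [Set.mem_preimage, nrm_smul w₁ w₂ c hc hw₂]
      exact hw₁
    have hsub : ∀ j, x (r₀ (φ j)) ∈ Fan.P.mk σ '' (nrm ⁻¹' (insert v₀ (Set.range v))) := by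
      intro j
      refine ⟨v j, ?_, hvx j⟩
      rw [Set.mem_preimage, nrm_eq_self (v j) (sum_nrm (w (φ j)))]
      exact Or.inr ⟨j, rfl⟩
    have hx₀mem : x₀ ∈ Fan.P.mk σ '' (nrm ⁻¹' (insert v₀ (Set.range v))) := by
      by_contra hnot
      have hsubseq : Filter.Tendsto (fun j => x (r₀ (φ j))) Filter.atTop (nhds x₀) :=
        hx.comp hrmono.tendsto_atTop
      have hev := hsubseq.eventually (hK'.isOpen_compl.mem_nhds hnot)
      obtain ⟨j₁, hj₁⟩ := Filter.eventually_atTop.mp hev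
      exact hj₁ j₁ le_rfl (hsub j₁)
    obtain ⟨w', hw'mem, hw'x₀⟩ := hx₀mem
    rcases hw'mem with h | ⟨j, hj⟩
    · rw [← hw'x₀, ← mk_nrm σ w']
      have h' : nrm w' = v₀ := h
      rw [h']
    · exfalso
      apply hI (r₀ (φ j)) (hr₀ (φ j)).1
      rw [← hvx j, ← hw'x₀, ← mk_nrm σ w']
      have hj' : v j = nrm w' := hj
      rw [hj']

end Groth.Agent.H96.FanSeq
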