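import Mathlib

set_option autoImplicit false
universe u

namespace Groth.Agent.H96.FinDual

/-- `ℚ/ℤ` -/
abbrev T : Type := AddCircle (1 : ℚ)

lemma finite_torsionT (n : ℕ) (hn : 0 < n) : {t : T | n • t = 0}.Finite :=
  AddCircle.finite_torsion (1 : ℚ) hn

lemma card_torsionT_le (n : ℕ) (hn : 0 < n) : Nat.card {t : T | n • t = 0} ≤ n := by
  have h := AddCircle.card_torsion_le_of_isSMulRegular (1 : ℚ) n hn.ne'
    (.of_right_eq_zero_of_smul fun _ ↦ by simp [hn.ne'])
  have hfin := finite_torsionT n hn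
  rw [← Set.Finite.cast_ncard_eq hfin] at h
  have : ({t : T | n • t = 0}.ncard : ℕ∞) ≤ (n : ℕ∞) := h
  rw [Nat.cast_le] at this
  rw [Nat.card_coe_set_eq]
  exact this

theorem card_char_le : ∀ (k : ℕ) (A : Type u) [AddCommGroup A] [Finite A], Nat.card A = k →
    Finite (A →+ T) ∧ Nat.card (A →+ T) ≤ Nat.card A := by
  intro k
  induction k using Nat.strong_induction_on with
  | _ k ih =>
  intro A _ _ hk
  classical
  by_cases htriv : Subsingleton A
  · have : Subsingleton (A →+ T) := ⟨fun f g => by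
      ext x
      rw [Subsingleton.elim x 0, map_zero, map_zero]⟩
    refine ⟨inferInstance, ?_⟩
    rw [Nat.card_unique, Nat.card_unique]
  · rw [not_subsingleton_iff_nontrivial] at htriv
    obtain ⟨a, ha⟩ := exists_ne (0 : A)
    set C := AddSubgroup.zmultiples a with hC
    set n := addOrderOf a with hn
    have hnpos : 0 < n := addOrderOf_pos a
    have hcardC : Nat.card C = n := Nat.card_zmultiples a
    have hlag : Nat.card A = Nat.card (A ⧸ C) * Nat.card C :=
      AddSubgroup.card_eq_card_quotient_mul_card_addSubgroup C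
    have hn2 : 2 ≤ n := by
      rcases Nat.lt_or_ge n 2 with h | h
      · exfalso
        have h1 : n = 1 := by omega
        exact ha (AddMonoid.addOrderOf_eq_one_iff.mp h1)
      · exact h
    have hApos : 0 < Nat.card A := Nat.card_pos
    have hQpos : 0 < Nat.card (A ⧸ C) := Nat.card_pos
    have hlt : Nat.card (A ⧸ C) < k := by
      rw [← hk, hlag, hcardC]
      nlinarith
    obtain ⟨hQfin, hQle⟩ := ih _ hlt (A ⧸ C) rfl
    -- the torsion set
    have hTfin : Finite {t : T | n • t = 0} := (finite_torsionT n hnpos).to_subtype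
    -- a section of evaluation at `a`
    let s : T → (A →+ T) := fun t => if h : ∃ c : A →+ T, c a = t then h.choose else 0
    have hs : ∀ c : A →+ T, s (c a) a = c a := by
      intro c
      have h : ∃ c' : A →+ T, c' a = c a := ⟨c, rfl⟩
      show (if h : ∃ c' : A →+ T, c' a = c a then h.choose else 0) a = c a
      rw [dif_pos h]
      exact h.choose_spec
    have hvan : ∀ c : A →+ T, ∀ x ∈ C, (c - s (c a)) x = 0 := by
      intro c x hx
      obtain ⟨m, rfl⟩ := AddSubgroup.mem_zmultiples_iff.mp hx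
      rw [map_zsmul, AddMonoidHom.sub_apply, hs c, sub_self, smul_zero]
    let F : (A →+ T) → {t : T | n • t = 0} × ((A ⧸ C) →+ T) := fun c =>
      (⟨c a, by
        show n • c a = 0
        rw [← map_nsmul, hn, addOrderOf_nsmul_eq_zero, map_zero]⟩,
       QuotientAddGroup.lift C (c - s (c a)) (hvan c))
    have hF : Function.Injective F := by
      intro c c' h
      have h1 : c a = c' a := congrArg (fun z => (z.1 : T)) h
      have h2 : QuotientAddGroup.lift C (c - s (c a)) (hvan c) =
          QuotientAddGroup.lift C (c' - s (c' a)) (hvan c') := congrArg Prod.snd h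
      ext x
      have h3 := DFunLike.congr_fun h2 (QuotientAddGroup.mk x)
      have h4 : (c - s (c a)) x = (c' - s (c' a)) x := h3
      rw [AddMonoidHom.sub_apply, AddMonoidHom.sub_apply, h1] at h4
      exact sub_left_injective h4
    have hfin : Finite (A →+ T) := Finite.of_injective F hF
    refine ⟨hfin, ?_⟩
    calc Nat.card (A →+ T) ≤ Nat.card ({t : T | n • t = 0} × ((A ⧸ C) →+ T)) :=
          Nat.card_le_card_of_injective F hF
      _ = Nat.card {t : T | n • t = 0} * Nat.card ((A ⧸ C) →+ T) := Nat.card_prod _ _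
      _ ≤ n * Nat.card (A ⧸ C) := Nat.mul_le_mul (card_torsionT_le n hnpos) hQle
      _ = Nat.card A := by rw [hlag, hcardC, mul_comm]

theorem eval_surjective (H : Type u) [AddCommGroup H] [Finite H] :
    Function.Surjective (AddMonoidHom.eval : H →+ ((H →+ T) →+ T)) := by
  obtain ⟨hfin1, hle1⟩ := card_char_le _ H rfl
  obtain ⟨hfin2, hle2⟩ := card_char_le _ (H →+ T) rfl
  have hinj : Function.Injective (AddMonoidHom.eval : H →+ ((H →+ T) →+ T)) := by
    rw [injective_iff_map_eq_zero]
    intro h hh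
    apply CharacterModule.eq_zero_of_character_apply
    intro c
    exact DFunLike.congr_fun hh (c : H →+ T)
  exact (hinj.bijective_of_nat_card_le (hle2.trans hle1)).2

/-- from continuity for the weak topology: finitely many characters control `χ` -/
lemma exists_finset_of_continuous (G G' : Type u) [AddCommGroup G] [AddCommGroup G']
    (β : G' →+ (G →+ T)) (χ : G →+ T)
    (hχ : @Continuous G T (⨅ f' : G', TopologicalSpace.induced (fun x : G => β f' x) ⊥) ⊥ χ) :
    ∃ s : Finset G', ∀ g : G, (∀ f' ∈ s, β f' g = 0) → χ g = 0 := by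
  have hd : @DiscreteTopology T ⊥ := @DiscreteTopology.mk T ⊥ rfl
  have hopen : @IsOpen G (⨅ f' : G', TopologicalSpace.induced (fun x : G => β f' x) ⊥)
      (χ ⁻¹' {0}) :=
    @IsOpen.preimage G T (⨅ f' : G', TopologicalSpace.induced (fun x : G => β f' x) ⊥) ⊥ χ hχ {0}
      (@isOpen_discrete T ⊥ hd {0})
  have hmem : χ ⁻¹' {0} ∈ @nhds G (⨅ f' : G', TopologicalSpace.induced (fun x : G => β f' x) ⊥) 0 :=
    @IsOpen.mem_nhds G (⨅ f' : G', TopologicalSpace.induced (fun x : G => β f' x) ⊥) 0 (χ ⁻¹' {0})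
      hopen (by simp)
  rw [nhds_iInf] at hmem
  have hn : ∀ f' : G', @nhds G (TopologicalSpace.induced (fun x : G => β f' x) ⊥) 0 =
      Filter.principal ((fun x : G => β f' x) ⁻¹' {0}) := by
    intro f'
    rw [@nhds_induced T G ⊥ (fun x : G => β f' x) 0, @nhds_discrete T ⊥ hd, Filter.comap_pure,
      map_zero]
  simp only [hn] at hmem
  rw [Filter.mem_iInf_finite] at hmem
  obtain ⟨s, hs⟩ := hmem
  rw [Filter.iInf_principal_finset, Filter.mem_principal] at hs
  refine ⟨s, fun g hg => ?_⟩
  have : g ∈ ⋂ i ∈ s, (fun x : G => β i x) ⁻¹' {0} := by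
    simp only [Set.mem_iInter, Set.mem_preimage, Set.mem_singleton_iff]
    exact hg
  exact hs this

theorem main (G G' : Type u) [AddCommGroup G] [AddCommGroup G'] (hG' : IsAddTorsion G')
    (β : G' →+ (G →+ T)) (χ : G →+ T)
    (hχ : @Continuous G T (⨅ f' : G', TopologicalSpace.induced (fun x : G => β f' x) ⊥) ⊥ χ) :
    ∃ f' : G', β f' = χ := by
  classical
  obtain ⟨s, hs⟩ := exists_finset_of_continuous G G' β χ hχ
  let H : AddSubgroup G' := AddSubgroup.closure (s : Set G')
  have hfg : AddGroup.FG H := (AddGroup.fg_iff_addSubgroup_fg H).mpr ⟨s, rfl⟩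
  have hfin : Finite H := AddCommGroup.finite_of_fg_isAddTorsion H (hG'.addSubgroup H)
  let Φ : G →+ (H →+ T) := (β.comp H.subtype).flip
  have hΦ : ∀ (g : G) (h : H), Φ g h = β h g := fun g h => rfl
  have hker : ∀ g ∈ Φ.ker, χ g = 0 := by
    intro g hg
    apply hs
    intro f' hf'
    have h1 : Φ g = 0 := hg
    have h2 := DFunLike.congr_fun h1 (⟨f', AddSubgroup.subset_closure hf'⟩ : H)
    exact h2
  let χbar : G ⧸ Φ.ker →+ T := QuotientAddGroup.lift Φ.ker χ hker
  let ι : G ⧸ Φ.ker →+ (H →+ T) := QuotientAddGroup.kerLift Φ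
  have hι : Function.Injective ι := QuotientAddGroup.kerLift_injective Φ
  obtain ⟨ψ, hψ⟩ := CharacterModule.dual_surjective_of_injective (R := ℤ) ι.toIntLinearMap hι χbar
  obtain ⟨h, hh⟩ := eval_surjective H (ψ : (H →+ T) →+ T)
  refine ⟨h, ?_⟩
  ext g
  have h1 : χ g = χbar (QuotientAddGroup.mk g) := rfl
  have h2 : χbar (QuotientAddGroup.mk g) = ψ (ι (QuotientAddGroup.mk g)) := by
    rw [← hψ]; rfl
  have h3 : ι (QuotientAddGroup.mk g) = Φ g := rfl
  rw [h1, h2, h3]
  have h4 : ψ (Φ g) = (AddMonoidHom.eval h : (H →+ T) →+ T) (Φ g) := by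
    rw [hh]; rfl
  rw [h4]
  rfl

end Groth.Agent.H96.FinDual
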