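import Mathlib

/-!
# Extensions of a finite field fixed by a power of the Frobenius

For a finite field `k₀` with `q` elements, a field extension `L` and `m ≥ 1`: every element of `L`
satisfies `b ^ q ^ m = b` iff `L` is finite over `k₀` of degree dividing `m`.
-/

set_option autoImplicit false
set_option linter.style.haveILetI false
set_option linter.unusedSectionVars false
set_option linter.unusedVariables false

open Polynomial

namespace Groth.Agent.H96.FinFieldPow

theorem dvd_of_pow_sub_one_dvd (q e m : ℕ) (hq : 2 ≤ q) (he : 1 ≤ e)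
    (h : q ^ e - 1 ∣ q ^ m - 1) : e ∣ m := by
  have h1 := Nat.pow_sub_one_gcd_pow_sub_one q e m
  rw [Nat.gcd_eq_left h] at h1
  have h2 : q ^ e = q ^ Nat.gcd e m := by
    have p1 : 1 ≤ q ^ e := Nat.one_le_pow _ _ (by omega)
    have p2 : 1 ≤ q ^ Nat.gcd e m := Nat.one_le_pow _ _ (by omega)
    omega
  have h3 : e = Nat.gcd e m := Nat.pow_right_injective hq h2
  rw [h3]
  exact Nat.gcd_dvd_right e m

variable (k₀ L : Type*) [Field k₀] [Finite k₀] [Field L] [Algebra k₀ L]

theorem pow_eq_iff (m : ℕ) (hm : 1 ≤ m) :
    (∀ b : L, b ^ (Nat.card k₀ ^ m) = b) ↔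
      Module.Finite k₀ L ∧ Module.finrank k₀ L ∣ m := by
  have := Fintype.ofFinite k₀
  have hq : 2 ≤ Nat.card k₀ := by
    rw [Nat.card_eq_fintype_card]
    exact Fintype.one_lt_card
  constructor
  · intro h
    have hne : (X ^ (Nat.card k₀) ^ m - X : L[X]) ≠ 0 :=
      FiniteField.X_pow_card_pow_sub_X_ne_zero L (by omega) (by omega)
    have hfin : Finite L := by
      have h1 := Polynomial.finite_setOf_isRoot hne
      have h2 : {x | IsRoot (X ^ (Nat.card k₀) ^ m - X : L[X]) x} = Set.univ := by
        ext b
        simp only [Set.mem_setOf_eq, Set.mem_univ, iff_true, IsRoot.def, eval_sub, eval_pow,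
          eval_X, h b, sub_self]
      rw [h2] at h1
      exact Set.finite_univ_iff.mp h1
    have hmf : Module.Finite k₀ L := Module.Finite.of_finite
    refine ⟨hmf, ?_⟩
    have := Fintype.ofFinite L
    have hcard : Fintype.card L = Fintype.card k₀ ^ Module.finrank k₀ L :=
      Module.card_eq_pow_finrank
    have he : 1 ≤ Module.finrank k₀ L := Module.finrank_pos
    classical
    obtain ⟨g, hg⟩ := IsCyclic.exists_generator (α := Lˣ)
    have hord : orderOf g = Fintype.card L - 1 := by
      rw [orderOf_eq_card_of_forall_mem_zpowers hg, Nat.card_eq_fintype_card, Fintype.card_units]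
    have hgpow : g ^ (Nat.card k₀ ^ m - 1) = 1 := by
      apply Units.ext
      rw [Units.val_pow_eq_pow_val, Units.val_one]
      have h1 := h (g : L)
      have h2 : (g : L) ^ (Nat.card k₀ ^ m - 1) * (g : L) = (g : L) := by
        rw [← pow_succ, Nat.sub_add_cancel (Nat.one_le_pow _ _ (by omega))]
        exact h1
      have h3 : (g : L) ≠ 0 := g.ne_zero
      exact mul_right_cancel₀ h3 (h2.trans (one_mul _).symm)
    have hdvd := orderOf_dvd_of_pow_eq_one hgpow
    rw [hord, hcard, ← Nat.card_eq_fintype_card] at hdvd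
    exact dvd_of_pow_sub_one_dvd _ _ _ hq he hdvd
  · rintro ⟨hmf, r, hr⟩ b
    have hfin : Finite L := Module.finite_of_finite k₀
    have := Fintype.ofFinite L
    have hcard : Fintype.card L = Fintype.card k₀ ^ Module.finrank k₀ L :=
      Module.card_eq_pow_finrank
    rw [hr, pow_mul, Nat.card_eq_fintype_card, ← hcard]
    exact FiniteField.pow_card_pow r b

end Groth.Agent.H96.FinFieldPow
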