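import Mathlib

/-!
# Local algebra for the fixed points of a Frobenius endomorphism

* `exists_eq_of_pow_card_eq`: in a local ring receiving a finite field `k`, every solution of
  `b ^ #k = b` is the image of an element of `k`;
* `surjective_of_gen`: the local ring of the fixed-point scheme of the Frobenius is a quotient
  of the field of constants.
-/

set_option autoImplicit false
set_option linter.style.haveILetI false
set_option linter.unusedSectionVars false
set_option linter.unusedVariables false

namespace Groth.Agent.H96.FixAlg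

open Polynomial

theorem prod_X_sub_C (k : Type*) [Field k] [Fintype k] :
    ∏ c : k, (X - C c) = (X ^ Fintype.card k - X : k[X]) := by
  classical
  have hdeg : (X ^ Fintype.card k - X : k[X]).natDegree = Fintype.card k :=
    FiniteField.X_pow_card_sub_X_natDegree_eq k Fintype.one_lt_card
  have hmonic : (X ^ Fintype.card k - X : k[X]).Monic := by
    apply Polynomial.monic_X_pow_sub
    rw [degree_X]
    exact_mod_cast Fintype.one_lt_card
  have hroots := FiniteField.roots_X_pow_card_sub_X k
  have h := Polynomial.prod_multiset_X_sub_C_of_monic_of_roots_card_eq hmonic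
    (by rw [hroots, hdeg]; exact Finset.card_univ)
  rw [hroots] at h
  exact h

theorem exists_eq_of_pow_card_eq {k R : Type*} [Field k] [Fintype k] [CommRing R] [IsLocalRing R]
    (φ : k →+* R) (b : R) (hb : b ^ Fintype.card k = b) : ∃ c, φ c = b := by
  classical
  have h1 : ∏ c : k, (b - φ c) = 0 := by
    have h := congrArg (Polynomial.eval₂ φ b) (prod_X_sub_C k)
    rw [Polynomial.eval₂_finsetProd] at h
    simp only [eval₂_sub, eval₂_X, eval₂_C, eval₂_pow] at h
    rw [h, hb, sub_self]
  by_contra hne
  push Not at hne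
  have hunit : ∀ c c' : k, c ≠ c' → IsUnit (φ c - φ c') := by
    intro c c' hcc
    rw [← map_sub]
    exact (IsUnit.mk0 _ (sub_ne_zero.mpr hcc)).map φ
  by_cases hall : ∀ c : k, IsUnit (b - φ c)
  · have h2 : IsUnit (∏ c : k, (b - φ c)) := by
      rw [IsUnit.prod_univ_iff]
      exact hall
    rw [h1] at h2
    exact not_isUnit_zero h2
  · push Not at hall
    obtain ⟨c₀, hc₀⟩ := hall
    have hothers : ∀ c : k, c ≠ c₀ → IsUnit (b - φ c) := by
      intro c hc
      by_contra hnu
      have h3 : (b - φ c₀) - (b - φ c) ∈ nonunits R :=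
        (IsLocalRing.maximalIdeal R).sub_mem hc₀ hnu
      apply h3
      have : (b - φ c₀) - (b - φ c) = φ c - φ c₀ := by ring
      rw [this]
      exact hunit c c₀ hc
    have h4 : ∏ c : k, (b - φ c) = (b - φ c₀) * ∏ c ∈ Finset.univ.erase c₀, (b - φ c) :=
      (Finset.mul_prod_erase Finset.univ _ (Finset.mem_univ c₀)).symm
    have h5 : IsUnit (∏ c ∈ Finset.univ.erase c₀, (b - φ c)) := by
      rw [IsUnit.prod_iff]
      intro c hc
      exact hothers c (Finset.ne_of_mem_erase hc)
    rw [h4] at h1
    have h6 := (h5.mul_left_eq_zero).mp h1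
    exact hne c₀ (sub_eq_zero.mp h6).symm

/-- The key algebraic lemma. -/
theorem surjective_of_gen {O R K' B k : Type*} [CommRing O] [CommRing R] [IsLocalRing R]
    [Field K'] [CommRing B] [Field k] [Fintype k]
    (g : O →+* R) (hg : Function.Surjective g) (j : K' →+* O) (i : B →+* O) (ψ : k →+* K')
    (hgen : ∀ S : Subring O, (∀ b, i b ∈ S) → (∀ c, j c ∈ S) →
      (∀ s ∈ S, IsUnit s → ∃ s' ∈ S, s * s' = 1) → S = ⊤)
    (hfix : ∀ b : B, g (i b) ^ Fintype.card k = g (i b)) :
    Function.Surjective (g.comp j) := by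
  set S : Subring O := (g.comp j).range.comap g with hS
  have hST : S = ⊤ := by
    apply hgen
    · intro b
      obtain ⟨c, hc⟩ := exists_eq_of_pow_card_eq ((g.comp j).comp ψ) (g (i b)) (hfix b)
      exact ⟨ψ c, hc⟩
    · intro c
      exact ⟨c, rfl⟩
    · intro s hs hu
      obtain ⟨c, hc⟩ := hs
      have hc0 : c ≠ 0 := by
        rintro rfl
        rw [map_zero] at hc
        have := hu.map g
        rw [← hc] at this
        exact not_isUnit_zero this
      obtain ⟨s', hs'⟩ := hu.exists_right_inv
      refine ⟨s', ⟨c⁻¹, ?_⟩, hs'⟩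
      have h1 : g s * g s' = 1 := by rw [← map_mul, hs', map_one]
      have h2 : g s * (g.comp j) c⁻¹ = 1 := by
        rw [← hc, ← map_mul, mul_inv_cancel₀ hc0, map_one]
      have hgu : IsUnit (g s) := hu.map g
      exact (hgu.mul_right_inj).mp (h2.trans h1.symm)
  intro r
  obtain ⟨o, rfl⟩ := hg r
  have : o ∈ S := by rw [hST]; trivial
  exact this

theorem isReduced_of_surjective {K' R : Type*} [Field K'] [CommRing R] [Nontrivial R]
    (φ : K' →+* R) (hφ : Function.Surjective φ) : IsReduced R := by
  refine ⟨fun x hx => ?_⟩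
  obtain ⟨c, rfl⟩ := hφ x
  obtain ⟨n, hn⟩ := hx
  rw [← map_pow] at hn
  have h0 : c ^ n = 0 := φ.injective (by rw [hn, map_zero])
  rw [eq_zero_of_pow_eq_zero h0, map_zero]

end Groth.Agent.H96.FixAlg
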