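import Mathlib
import Groth.Agent.H37.GalPts2

/-!
# Frobenius-like endomorphisms and their fixed field-valued points

`IsFrob Φ Q`: `Φ` is the identity on points and the `Q`-th power on sections.

* `IsFrob.comp`, `IsFrob.iterS`: stability under composition and iteration;
* `IsFrob.residueFieldMap_apply`: the residue field maps are `Q`-th powers;
* `IsFrob.comp_eq_iff`: a field-valued point `t` satisfies `t ≫ Φ = t` iff every element of the
  residue field of its image is fixed by the `Q`-th power.
-/

set_option autoImplicit false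
set_option linter.style.haveILetI false
set_option linter.unusedSectionVars false
set_option linter.unusedVariables false

universe u

open CategoryTheory AlgebraicGeometry

namespace Groth.Agent.H96.FrobPts

variable {X : Scheme.{u}}

/-- `Φ` is the identity on points and the `Q`-th power on sections. -/
structure IsFrob (Φ : X ⟶ X) (Q : ℕ) : Prop where
  base : Φ.base = 𝟙 _
  app : ∀ (U : X.Opens) (h : U ≤ Φ ⁻¹ᵁ U) (s : Γ(X, U)), (Φ.appLE U U h).hom s = s ^ Q

/-- Iterates of an endomorphism. -/
noncomputable def iterS (Φ : X ⟶ X) : ℕ → (X ⟶ X)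
  | 0 => 𝟙 X
  | (m + 1) => Φ ≫ iterS Φ m

namespace IsFrob

variable {Φ Ψ : X ⟶ X} {Q Q' : ℕ}

theorem apply (h : IsFrob Φ Q) (x : X) : Φ x = x := by
  change Φ.base x = x
  rw [h.base]
  rfl

theorem le (h : IsFrob Φ Q) (U : X.Opens) : U ≤ Φ ⁻¹ᵁ U := by
  intro x hx
  change Φ x ∈ U
  rw [h.apply x]
  exact hx

theorem id : IsFrob (𝟙 X) 1 where
  base := rfl
  app U h s := by
    rw [pow_one]
    have h1 : (homOfLE h) = 𝟙 U := Subsingleton.elim _ _
    simp only [Scheme.Hom.appLE, Scheme.Hom.id_app, CommRingCat.hom_comp, RingHom.comp_apply,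
      CommRingCat.hom_id, RingHom.id_apply]
    erw [h1, op_id, X.presheaf.map_id]
    rfl

theorem comp (h : IsFrob Φ Q) (h' : IsFrob Ψ Q') : IsFrob (Φ ≫ Ψ) (Q' * Q) where
  base := by
    rw [Scheme.Hom.comp_base, h.base, h'.base]
    rfl
  app U hU s := by
    have h1 := Scheme.Hom.appLE_comp_appLE Φ Ψ U U U (h'.le U) (h.le U)
    have h2 : (Φ ≫ Ψ).appLE U U hU = Ψ.appLE U U (h'.le U) ≫ Φ.appLE U U (h.le U) := h1.symm
    rw [h2, CommRingCat.hom_comp, RingHom.comp_apply, h'.app, h.app, pow_mul]

theorem iterS (h : IsFrob Φ Q) (m : ℕ) : IsFrob (iterS Φ m) (Q ^ m) := by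
  induction m with
  | zero => rw [pow_zero]; exact IsFrob.id
  | succ m ih =>
    rw [pow_succ]
    exact h.comp ih

/-- Transport of evaluations along an equality of points. -/
theorem residueFieldCongr_evaluation {x y : X} (h : y = x) (W : X.Opens) (hW : y ∈ W)
    (s : Γ(X, W)) :
    (X.residueFieldCongr h).hom.hom ((X.evaluation W y hW).hom s) =
      (X.evaluation W x (h ▸ hW)).hom s := by
  subst h
  simp

/-- The residue field maps of a Frobenius-like endomorphism are `Q`-th powers. -/
theorem residueFieldMap_apply (h : IsFrob Φ Q) (x : X) (b : X.residueField (Φ x)) :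
    (Φ.residueFieldMap x).hom b = ((X.residueFieldCongr (h.apply x)).hom.hom b) ^ Q := by
  obtain ⟨g, rfl⟩ := X.residue_surjective (Φ x) b
  obtain ⟨W, hW, s, rfl⟩ := X.presheaf.exists_germ_eq g
  have hW' : x ∈ W := by rw [← h.apply x]; exact hW
  change (Φ.residueFieldMap x).hom ((X.evaluation W (Φ x) hW).hom s) =
    ((X.residueFieldCongr (h.apply x)).hom.hom ((X.evaluation W (Φ x) hW).hom s)) ^ Q
  rw [residueFieldCongr_evaluation (h.apply x) W hW s, Scheme.evaluation_naturality_apply,
    ← map_pow, ← h.app W (h.le W) s]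
  simp only [Scheme.Hom.appLE, CommRingCat.hom_comp, RingHom.comp_apply]
  unfold Scheme.evaluation
  simp only [CommRingCat.hom_comp, RingHom.comp_apply]
  congr 1
  exact (X.presheaf.germ_res_apply (homOfLE (h.le W)) x hW' (Φ.app W s)).symm

/-- A field-valued point is fixed by `Φ` iff the residue field of its image is fixed by the
`Q`-th power map. -/
theorem comp_eq_iff (h : IsFrob Φ Q) {K : Type u} [Field K] (x : X)
    (ι : X.residueField x ⟶ CommRingCat.of K) :
    (Spec.map ι ≫ X.fromSpecResidueField x) ≫ Φ = Spec.map ι ≫ X.fromSpecResidueField x ↔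
      ∀ b : X.residueField x, b ^ Q = b := by
  have h1 : (Spec.map ι ≫ X.fromSpecResidueField x) ≫ Φ =
      Spec.map (Φ.residueFieldMap x ≫ ι) ≫ X.fromSpecResidueField (Φ x) := by
    rw [Category.assoc, ← Scheme.Hom.SpecMap_residueFieldMap_fromSpecResidueField,
      Spec.map_comp, Category.assoc]
  have h2 : Spec.map ι ≫ X.fromSpecResidueField x =
      Spec.map ((X.residueFieldCongr (h.apply x)).hom ≫ ι) ≫ X.fromSpecResidueField (Φ x) := by
    rw [Spec.map_comp, Category.assoc, Scheme.residueFieldCongr_fromSpecResidueField]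
  rw [h1, h2, cancel_mono]
  constructor
  · intro h3 b
    have h4 := Spec.map_injective h3
    have h5 := congrArg (fun φ : X.residueField (Φ x) ⟶ CommRingCat.of K =>
      φ.hom ((X.residueFieldCongr (h.apply x)).inv.hom b)) h4
    simp only [CommRingCat.hom_comp, RingHom.comp_apply] at h5
    rw [h.residueFieldMap_apply] at h5
    have h6 : (X.residueFieldCongr (h.apply x)).hom.hom
        ((X.residueFieldCongr (h.apply x)).inv.hom b) = b := by
      rw [← RingHom.comp_apply, ← CommRingCat.hom_comp, Iso.inv_hom_id]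
      rfl
    rw [h6] at h5
    exact ι.hom.injective h5
  · intro h3
    congr 1
    ext b
    simp only [CommRingCat.hom_comp, RingHom.comp_apply]
    rw [h.residueFieldMap_apply, h3]

end IsFrob

end Groth.Agent.H96.FrobPts
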