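import Mathlib

/-!
# The local ring of a point of a fibre product is generated by the local rings of its projections

`subring_eq_top`: a subring of `O_{P,t}`, `P = X ×_Z Y` with `Z` affine, which contains the images
of `O_{X, fst t}` and `O_{Y, snd t}` and is closed under inverses of units, is everything.
-/

set_option autoImplicit false
set_option linter.style.haveILetI false
set_option linter.unusedSectionVars false
set_option linter.unusedVariables false

universe u

open CategoryTheory AlgebraicGeometry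

namespace Groth.Agent.H96.StalkGen

/-- A subring of a local ring closed under inverses of units is local, and the inclusion is a
local homomorphism. -/
theorem isLocalRing_subring {R : Type u} [CommRing R] [IsLocalRing R] (S : Subring R)
    (hinv : ∀ s ∈ S, IsUnit s → ∃ s' ∈ S, s * s' = 1) :
    IsLocalRing S ∧ IsLocalHom S.subtype := by
  have hunit : ∀ s : S, IsUnit (s : R) → IsUnit s := by
    intro s hs
    obtain ⟨s', hs', h⟩ := hinv s s.2 hs
    exact IsUnit.of_mul_eq_one ⟨s', hs'⟩ (Subtype.ext h)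
  have hloc : IsLocalHom S.subtype := ⟨fun s hs => hunit s hs⟩
  refine ⟨?_, hloc⟩
  haveI : Nontrivial S := S.subtype.domain_nontrivial
  refine IsLocalRing.of_nonunits_add ?_
  intro a b ha hb
  have ha' : (a : R) ∈ nonunits R := fun h => ha (hunit a h)
  have hb' : (b : R) ∈ nonunits R := fun h => hb (hunit b h)
  have hab := IsLocalRing.nonunits_add ha' hb'
  intro h
  exact hab (h.map S.subtype)

theorem subring_eq_top {P X Y Z : Scheme.{u}} [IsAffine Z] {fst : P ⟶ X} {snd : P ⟶ Y}
    {f : X ⟶ Z} {g : Y ⟶ Z} (hP : IsPullback fst snd f g) (t : P)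
    (S : Subring (P.presheaf.stalk t))
    (h1 : ∀ a, (fst.stalkMap t).hom a ∈ S) (h2 : ∀ b, (snd.stalkMap t).hom b ∈ S)
    (hinv : ∀ s ∈ S, IsUnit s → ∃ s' ∈ S, s * s' = 1) : S = ⊤ := by
  obtain ⟨hlocS, hlocj⟩ := isLocalRing_subring S hinv
  let Sc : CommRingCat.{u} := CommRingCat.of ↥S
  haveI : IsLocalRing Sc := hlocS
  let j : Sc ⟶ P.presheaf.stalk t := CommRingCat.ofHom S.subtype
  haveI : IsLocalHom j.hom := hlocj
  let u : X.presheaf.stalk (fst t) ⟶ Sc :=
    CommRingCat.ofHom ((fst.stalkMap t).hom.codRestrict S h1)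
  let v : Y.presheaf.stalk (snd t) ⟶ Sc :=
    CommRingCat.ofHom ((snd.stalkMap t).hom.codRestrict S h2)
  have huj : u ≫ j = fst.stalkMap t := by
    ext b; rfl
  have hvj : v ≫ j = snd.stalkMap t := by
    ext b; rfl
  let α : Spec Sc ⟶ X := Spec.map u ≫ X.fromSpecStalk (fst t)
  let β : Spec Sc ⟶ Y := Spec.map v ≫ Y.fromSpecStalk (snd t)
  have ha1 : Spec.map j ≫ α = P.fromSpecStalk t ≫ fst := by
    change Spec.map j ≫ Spec.map u ≫ _ = _
    rw [← Spec.map_comp_assoc, huj, Scheme.SpecMap_stalkMap_fromSpecStalk]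
  have ha2 : Spec.map j ≫ β = P.fromSpecStalk t ≫ snd := by
    change Spec.map j ≫ Spec.map v ≫ _ = _
    rw [← Spec.map_comp_assoc, hvj, Scheme.SpecMap_stalkMap_fromSpecStalk]
  clear_value α β
  have hmono : Mono ((Spec.map j).appTop) := by
    have h3 : (Spec.map j).appTop = (Scheme.ΓSpecIso Sc).hom ≫ j ≫
        (Scheme.ΓSpecIso (P.presheaf.stalk t)).inv := by
      rw [← Category.assoc, ← Scheme.ΓSpecIso_naturality, Category.assoc, Iso.hom_inv_id,
        Category.comp_id]
    rw [h3]
    have : Mono j := ConcreteCategory.mono_of_injective j Subtype.val_injective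
    infer_instance
  have hcompat : α ≫ f = β ≫ g := by
    apply ext_of_isAffine
    rw [← cancel_mono (Spec.map j).appTop, ← Scheme.Hom.comp_appTop, ← Scheme.Hom.comp_appTop,
      ← Category.assoc, ← Category.assoc, ha1, ha2, Category.assoc, Category.assoc, hP.w]
  let h : Spec Sc ⟶ P := hP.lift α β hcompat
  have hh : Spec.map j ≫ h = P.fromSpecStalk t := by
    apply hP.hom_ext
    · rw [Category.assoc, hP.lift_fst, ha1]
    · rw [Category.assoc, hP.lift_snd, ha2]
  have hpt : h (IsLocalRing.closedPoint Sc) = t := by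
    have h3 : (Spec.map j ≫ h) (IsLocalRing.closedPoint (P.presheaf.stalk t)) = t := by
      rw [hh]
      exact Scheme.fromSpecStalk_closedPoint
    have h4 : (Spec.map j) (IsLocalRing.closedPoint (P.presheaf.stalk t)) =
        IsLocalRing.closedPoint Sc := IsLocalRing.comap_closedPoint j.hom
    rw [Scheme.Hom.comp_apply, h4] at h3
    exact h3
  obtain ⟨t', ψ, ht', hψ⟩ : ∃ (t' : P) (ψ : P.presheaf.stalk t' ⟶ Sc), t' = t ∧
      h = Spec.map ψ ≫ P.fromSpecStalk t' :=
    ⟨_, Scheme.stalkClosedPointTo h, hpt, (Scheme.Spec_stalkClosedPointTo_fromSpecStalk h).symm⟩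
  subst ht'
  rw [hψ, ← Category.assoc, ← Spec.map_comp] at hh
  have h4 : Spec.map (ψ ≫ j) = 𝟙 _ := by
    rw [← cancel_mono (P.fromSpecStalk t'), hh, Category.id_comp]
  have h5 : ψ ≫ j = 𝟙 _ := by
    apply Spec.map_injective
    rw [h4, Spec.map_id]
  rw [eq_top_iff]
  intro z _
  have h6 := congrArg (fun m : P.presheaf.stalk t' ⟶ P.presheaf.stalk t' => m.hom z) h5
  simp only [CommRingCat.hom_comp, RingHom.comp_apply, CommRingCat.hom_id, RingHom.id_apply] at h6
  rw [← h6]
  exact (ψ.hom z).2

end Groth.Agent.H96.StalkGen
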