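import Mathlib
import Groth.Prelude.Def_FinFr
import Groth.Agent.H96.FrobPts
import Groth.Agent.H96.StalkGen
import Groth.Agent.H96.FixAlg

/-!
# The fixed-point scheme of the Frobenius endomorphism of `X ×_k K` is reduced

Every local ring of the fixed-point scheme is a quotient of (the local ring of) `Spec K`.
-/

set_option autoImplicit false
set_option linter.style.haveILetI false
set_option linter.unusedSectionVars false
set_option linter.unusedVariables false

universe u

open CategoryTheory CategoryTheory.Limits AlgebraicGeometry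

namespace Groth.Agent.H96.FixScheme

open Groth.Agent.H96.FrobPts

/-- The local rings of the spectrum of a field are fields. -/
theorem isField_stalk_Spec (K : Type u) [Field K] (y : (Spec (CommRingCat.of K) : Scheme.{u})) :
    IsField ((Spec (CommRingCat.of K) : Scheme.{u}).presheaf.stalk y) := by
  have hsub : Subsingleton (Spec (CommRingCat.of K) : Scheme.{u}) :=
    (inferInstance : Subsingleton (PrimeSpectrum K))
  have h : y = genericPoint (Spec (CommRingCat.of K) : Scheme.{u}) := Subsingleton.elim _ _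
  rw [h]
  exact Field.toIsField (Scheme.functionField (Spec (CommRingCat.of K)))

/-- The stalk maps of a Frobenius-like endomorphism are `Q`-th powers. -/
theorem IsFrob.stalkMap_germ {X : Scheme.{u}} {Φ : X ⟶ X} {Q : ℕ} (h : IsFrob Φ Q)
    (x : X) (W : X.Opens) (hW : Φ x ∈ W) (hW' : x ∈ W) (s : Γ(X, W)) :
    (Φ.stalkMap x).hom ((X.presheaf.germ W (Φ x) hW).hom s) =
      ((X.presheaf.germ W x hW').hom s) ^ Q := by
  erw [Scheme.Hom.germ_stalkMap_apply]
  rw [← map_pow, ← h.app W (h.le W) s]
  simp only [Scheme.Hom.appLE, CommRingCat.hom_comp, RingHom.comp_apply]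
  exact (X.presheaf.germ_res_apply (homOfLE (h.le W)) x hW' (Φ.app W s)).symm

theorem stalkMap_pow_eq {P X : Scheme.{u}} {Φ : X ⟶ X} {Q : ℕ} (h : IsFrob Φ Q)
    (a c : P ⟶ X) (hac : a ≫ Φ = c) (x : P) (W : X.Opens) (hWa : a x ∈ W) (hWc : c x ∈ W)
    (s : Γ(X, W)) :
    (c.stalkMap x).hom ((X.presheaf.germ W (c x) hWc).hom s) =
      ((a.stalkMap x).hom ((X.presheaf.germ W (a x) hWa).hom s)) ^ Q := by
  subst hac
  rw [Scheme.Hom.stalkMap_comp]
  change (a.stalkMap x).hom ((Φ.stalkMap (a x)).hom ((X.presheaf.germ W (Φ (a x)) hWc).hom s)) = _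
  rw [IsFrob.stalkMap_germ h (a x) W hWc hWa s, map_pow]

/-- If `c ≫ Φ = c` for a Frobenius-like `Φ`, the images of the stalk maps of `c` consist of
solutions of `b ^ Q = b`. -/
theorem stalkMap_pow_self {P X : Scheme.{u}} {Φ : X ⟶ X} {Q : ℕ} (h : IsFrob Φ Q)
    (c : P ⟶ X) (hc : c ≫ Φ = c) (x : P) (r : X.presheaf.stalk (c x)) :
    ((c.stalkMap x).hom r) ^ Q = (c.stalkMap x).hom r := by
  obtain ⟨W, hW, s, rfl⟩ := X.presheaf.exists_germ_eq r
  exact (stalkMap_pow_eq h c c hc x W hW hW s).symm

section Main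

variable {k : Type u} [Field k] [Finite k] (K : Type u) [Field K] [Algebra k K]
  {X : Scheme.{u}} (f : X ⟶ Spec (CommRingCat.of k))
  (FX : X ⟶ X) (hFrob : IsFrob FX (Nat.card k))
  (F : FinFr.ext K f ⟶ FinFr.ext K f)
  (hF1 : F ≫ FinFr.extπ K f = FinFr.extπ K f ≫ FX)
  (hF2 : F ≫ FinFr.extStr K f = FinFr.extStr K f)

/-- The graph morphism `(1, F)`. -/
noncomputable abbrev gr : FinFr.ext K f ⟶ pullback (FinFr.extStr K f) (FinFr.extStr K f) :=
  pullback.lift (𝟙 _) F (by rw [hF2, Category.id_comp])

/-- The diagonal morphism. -/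
noncomputable abbrev dg : FinFr.ext K f ⟶ pullback (FinFr.extStr K f) (FinFr.extStr K f) :=
  pullback.lift (𝟙 _) (𝟙 _) rfl

/-- The fixed-point scheme (unfolded). -/
noncomputable abbrev Fix : Scheme.{u} := pullback (gr K f F hF2) (dg K f)

theorem fix_eq : FinFr.fixScheme (FinFr.extStr K f) F hF2 = Fix K f F hF2 := rfl

/-- The inclusion of the fixed-point scheme. -/
noncomputable abbrev ι : Fix K f F hF2 ⟶ FinFr.ext K f :=
  pullback.fst (gr K f F hF2) (dg K f)

theorem ι_comp : ι K f F hF2 ≫ F = ι K f F hF2 := by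
  have h := pullback.condition (f := gr K f F hF2) (g := dg K f)
  have h1 := congrArg (fun m => m ≫ pullback.fst _ _) h
  have h2 := congrArg (fun m => m ≫ pullback.snd _ _) h
  simp only [Category.assoc, pullback.lift_fst, pullback.lift_snd, Category.comp_id] at h1 h2
  rw [h2, ← h1]

instance : IsImmersion (dg K f) :=
  (inferInstance : IsImmersion (pullback.diagonal (FinFr.extStr K f)))

instance : IsImmersion (ι K f F hF2) := by
  unfold ι
  infer_instance

include hFrob hF1 in
/-- Each local ring of the fixed-point scheme is a quotient of the local ring of `Spec K`. -/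
theorem surjective_stalk (z : Fix K f F hF2) :
    Function.Surjective (((ι K f F hF2).stalkMap z).hom.comp
      ((FinFr.extStr K f).stalkMap (ι K f F hF2 z)).hom) := by
  have := Fintype.ofFinite k
  set w := ι K f F hF2 z with hw
  have hK' := isField_stalk_Spec K (FinFr.extStr K f w)
  letI := hK'.toField
  -- the ring homomorphism from `k`
  let ψ : k →+* (Spec (CommRingCat.of K) : Scheme.{u}).presheaf.stalk (FinFr.extStr K f w) :=
    (((Spec (CommRingCat.of K) : Scheme.{u}).presheaf.germ ⊤ (FinFr.extStr K f w) trivial).hom.comp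
      (Scheme.ΓSpecIso (CommRingCat.of K)).inv.hom).comp (algebraMap k K)
  have hc : (ι K f F hF2 ≫ FinFr.extπ K f) ≫ FX = ι K f F hF2 ≫ FinFr.extπ K f := by
    rw [Category.assoc, ← hF1, ← Category.assoc, ι_comp]
  refine Groth.Agent.H96.FixAlg.surjective_of_gen (k := k)
    ((ι K f F hF2).stalkMap z).hom ((ι K f F hF2).stalkMap_surjective z)
    ((FinFr.extStr K f).stalkMap w).hom ((FinFr.extπ K f).stalkMap w).hom ψ ?_ ?_
  · intro S h1 h2 hinv
    exact Groth.Agent.H96.StalkGen.subring_eq_top
      (IsPullback.of_hasPullback f (FinFr.specι k K)) w S h1 h2 hinv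
  · intro b
    have h3 := stalkMap_pow_self hFrob (ι K f F hF2 ≫ FinFr.extπ K f) hc z b
    rw [Scheme.Hom.stalkMap_comp] at h3
    rw [← Nat.card_eq_fintype_card]
    exact h3

include hFrob hF1 in
theorem isReduced_Fix : IsReduced (Fix K f F hF2) := by
  have : ∀ z : Fix K f F hF2, _root_.IsReduced ((Fix K f F hF2).presheaf.stalk z) := by
    intro z
    have hK' := isField_stalk_Spec K (FinFr.extStr K f (ι K f F hF2 z))
    letI := hK'.toField
    exact Groth.Agent.H96.FixAlg.isReduced_of_surjective _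
      (surjective_stalk K f FX hFrob F hF1 hF2 z)
  exact isReduced_of_isReduced_stalk _

include hFrob hF1 in
theorem isReduced_fixScheme : IsReduced (FinFr.fixScheme (FinFr.extStr K f) F hF2) :=
  isReduced_Fix K f FX hFrob F hF1 hF2

end Main

end Groth.Agent.H96.FixScheme
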