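import Mathlib
import Groth.Agent.H96.FixScheme

/-!
# The fixed-point scheme of the Frobenius endomorphism of `X ×_k K` is finite (for `X` of finite
type over `k`)
-/

set_option autoImplicit false
set_option linter.style.haveILetI false
set_option linter.unusedSectionVars false
set_option linter.unusedVariables false

universe u

open CategoryTheory CategoryTheory.Limits AlgebraicGeometry TopologicalSpace

namespace Groth.Agent.H96.FixFinite

/-- A point whose local ring is a field has no proper generizations. -/
theorem eq_of_specializes_of_isField {Y : Scheme.{u}} (z : Y) (hz : IsField (Y.presheaf.stalk z))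
    (y : Y) (h : y ⤳ z) : y = z := by
  letI := hz.toField
  have hsub : Subsingleton (Spec (Y.presheaf.stalk z) : Scheme.{u}) :=
    (inferInstance : Subsingleton (PrimeSpectrum (Y.presheaf.stalk z)))
  have h1 : y ∈ Set.range (Y.fromSpecStalk z) := by
    rw [Scheme.range_fromSpecStalk]
    exact h
  obtain ⟨p, rfl⟩ := h1
  rw [Subsingleton.elim p (IsLocalRing.closedPoint (Y.presheaf.stalk z))]
  exact Scheme.fromSpecStalk_closedPoint

/-- A scheme with Noetherian underlying space all of whose local rings are fields is finite. -/
theorem finite_of_isField_stalk (Y : Scheme.{u}) [NoetherianSpace Y]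
    (h : ∀ z : Y, IsField (Y.presheaf.stalk z)) : Finite Y := by
  have hfin : (irreducibleComponents Y).Finite := NoetherianSpace.finite_irreducibleComponents
  have hcl : ∀ z : Y, closure ({z} : Set Y) = irreducibleComponent z := by
    intro z
    obtain ⟨η, hη⟩ := QuasiSober.sober (isIrreducible_irreducibleComponent (x := z))
      isClosed_irreducibleComponent
    have h1 : η ⤳ z := by
      rw [specializes_iff_mem_closure, hη.def]
      exact mem_irreducibleComponent
    have h2 := eq_of_specializes_of_isField z (h z) η h1
    have h3 := hη.def
    rw [h2] at h3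
    exact h3
  have hinj : Function.Injective (fun z : Y =>
      (⟨irreducibleComponent z, irreducibleComponent_mem_irreducibleComponents z⟩ :
        irreducibleComponents Y)) := by
    intro z z' hzz
    have h1 : irreducibleComponent z = irreducibleComponent z' := congrArg Subtype.val hzz
    rw [← hcl, ← hcl] at h1
    have hg : IsGenericPoint z (closure ({z'} : Set Y)) := h1
    exact hg.eq (isGenericPoint_closure)
  have := hfin.to_subtype
  exact Finite.of_injective _ hinj

section Main

variable {k : Type u} [Field k] [Finite k] (K : Type u) [Field K] [Algebra k K]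
  {X : Scheme.{u}} (f : X ⟶ Spec (CommRingCat.of k)) [LocallyOfFiniteType f] [QuasiCompact f]
  (FX : X ⟶ X) (hFrob : Groth.Agent.H96.FrobPts.IsFrob FX (Nat.card k))
  (F : FinFr.ext K f ⟶ FinFr.ext K f)
  (hF1 : F ≫ FinFr.extπ K f = FinFr.extπ K f ≫ FX)
  (hF2 : F ≫ FinFr.extStr K f = FinFr.extStr K f)

open Groth.Agent.H96.FixScheme

instance : NoetherianSpace (FinFr.ext K f) := by
  have h1 : IsLocallyNoetherian (FinFr.ext K f) :=
    LocallyOfFiniteType.isLocallyNoetherian (FinFr.extStr K f)
  have h2 : CompactSpace (FinFr.ext K f) :=
    QuasiCompact.compactSpace_of_compactSpace (FinFr.extStr K f)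
  have : IsNoetherian (FinFr.ext K f) := { }
  infer_instance

include hFrob hF1 in
theorem isField_stalk (z : Fix K f F hF2) : IsField ((Fix K f F hF2).presheaf.stalk z) := by
  have hK' := isField_stalk_Spec K (FinFr.extStr K f (ι K f F hF2 z))
  letI := hK'.toField
  have hs := surjective_stalk K f FX hFrob F hF1 hF2 z
  exact (RingEquiv.ofBijective _ ⟨RingHom.injective _, hs⟩).symm.toMulEquiv.isField
    (Field.toIsField _)

include hFrob hF1 in
theorem finite_Fix : Finite (Fix K f F hF2) := by
  have : NoetherianSpace (Fix K f F hF2) :=
    (ι K f F hF2).isEmbedding.isInducing.noetherianSpace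
  exact finite_of_isField_stalk _ (isField_stalk K f FX hFrob F hF1 hF2)

include hFrob hF1 in
theorem finite_fixScheme : Finite (FinFr.fixScheme (FinFr.extStr K f) F hF2) :=
  finite_Fix K f FX hFrob F hF1 hF2

end Main

end Groth.Agent.H96.FixFinite
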