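import Groth.Prelude.Def_LocCohZ

set_option autoImplicit false
universe u

open CategoryTheory CategoryTheory.Limits TopologicalSpace Opposite

namespace Groth.Agent.H96.Flasque

variable {X : TopCat.{u}}

/-- sections over `U`, as a functor to types -/
noncomputable abbrev ev (U : Opens X) : CohTop.Ab X ⥤ Type u :=
  sheafToPresheaf (Opens.grothendieckTopology X) AddCommGrpCat.{u} ⋙
    (evaluation (Opens X)ᵒᵖ AddCommGrpCat.{u}).obj (op U) ⋙ forget AddCommGrpCat.{u}

noncomputable instance (U : Opens X) : PreservesLimitsOfShape ℕᵒᵖ (ev (X := X) U) := by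
  unfold ev
  infer_instance

/-- a family over `ℕᵒᵖ` compatible with the successor maps is a section -/
lemma mem_sections_of_succ (F : ℕᵒᵖ ⥤ Type u) (x : ∀ j : ℕᵒᵖ, F.obj j)
    (hx : ∀ n : ℕ, F.map (homOfLE (Nat.le_succ n)).op (x (op (n + 1))) = x (op n)) :
    x ∈ F.sections := by
  have key : ∀ (k n : ℕ) (h : n ≤ n + k), F.map (homOfLE h).op (x (op (n + k))) = x (op n) := by
    intro k
    induction k with
    | zero =>
      intro n h
      have : (homOfLE h).op = 𝟙 (op n) := Subsingleton.elim _ _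
      rw [this]; simp
    | succ k ih =>
      intro n h
      have e : (homOfLE h).op = (homOfLE (Nat.le_succ (n + k))).op ≫ (homOfLE (Nat.le_add_right n k)).op :=
        Subsingleton.elim _ _
      rw [e, Functor.map_comp_apply]
      exact (congrArg _ (hx (n + k))).trans (ih n _)
  intro j j' f
  obtain ⟨a⟩ := j
  obtain ⟨b⟩ := j'
  have hle : b ≤ a := leOfHom f.unop
  obtain ⟨k, rfl⟩ := Nat.exists_eq_add_of_le hle
  have : f = (homOfLE (Nat.le_add_right b k)).op := Subsingleton.elim _ _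
  rw [this]
  exact key k b _

lemma limit_sections_ext (M : ℕᵒᵖ ⥤ CohTop.Ab X) (U : Opens X) (s t : (limit M).obj.obj (op U))
    (h : ∀ n : ℕ, (limit.π M (op n)).hom.app (op U) s = (limit.π M (op n)).hom.app (op U) t) :
    s = t := by
  have hl := isLimitOfPreserves (ev U) (limit.isLimit M)
  apply (Types.isLimitEquivSections hl).injective
  apply Subtype.ext
  funext j
  obtain ⟨n⟩ := j
  exact h n

lemma limit_sections_exists (M : ℕᵒᵖ ⥤ CohTop.Ab X) (U : Opens X)
    (x : ∀ n : ℕ, (M.obj (op n)).obj.obj (op U))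
    (hx : ∀ n : ℕ, (M.map (homOfLE (Nat.le_succ n)).op).hom.app (op U) (x (n + 1)) = x n) :
    ∃ s : (limit M).obj.obj (op U), ∀ n : ℕ, (limit.π M (op n)).hom.app (op U) s = x n := by
  have hl := isLimitOfPreserves (ev U) (limit.isLimit M)
  have hmem : (fun j : ℕᵒᵖ => (x j.unop : (M ⋙ ev U).obj j)) ∈ (M ⋙ ev U).sections := by
    apply mem_sections_of_succ
    intro n
    exact hx n
  refine ⟨(Types.isLimitEquivSections hl).symm ⟨_, hmem⟩, fun n => ?_⟩
  exact Types.isLimitEquivSections_symm_apply hl ⟨_, hmem⟩ (op n)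

/-- the kernel short complex of an epimorphism is short exact -/
lemma kernel_shortExact {F G : CohTop.Ab X} (f : F ⟶ G) [Epi f] :
    (ShortComplex.mk (kernel.ι f) f (kernel.condition f)).ShortExact where
  exact := ShortComplex.exact_of_f_is_kernel _ (kernelIsKernel f)
  mono_f := by dsimp; infer_instance
  epi_g := by dsimp; infer_instance

lemma surjective_of_epi_of_flasque_kernel {F G : CohTop.Ab X} (f : F ⟶ G) [Epi f]
    [TopCat.Sheaf.IsFlasque (kernel f : CohTop.Ab X)] (U : Opens X) :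
    Function.Surjective (f.hom.app (op U)) := by
  have hS := kernel_shortExact f
  have : TopCat.Sheaf.IsFlasque (ShortComplex.mk (kernel.ι f) f (kernel.condition f)).X₁ := by
    dsimp; infer_instance
  have h := TopCat.Sheaf.IsFlasque.epi_of_shortExact (U := U) hS
  exact (AddCommGrpCat.epi_iff_surjective _).mp h

lemma exists_kernel_section {F G : CohTop.Ab X} (f : F ⟶ G) (U : Opens X)
    (s : F.obj.obj (op U)) (hs : f.hom.app (op U) s = 0) :
    ∃ t : (kernel f : CohTop.Ab X).obj.obj (op U), (kernel.ι f).hom.app (op U) t = s := by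
  have hex : (ShortComplex.mk (kernel.ι f) f (kernel.condition f)).Exact :=
    ShortComplex.exact_of_f_is_kernel _ (kernelIsKernel f)
  have hm : Mono (ShortComplex.mk (kernel.ι f) f (kernel.condition f)).f := by
    dsimp; infer_instance
  exact TopCat.Sheaf.sections_exact_of_left_exact (U := U) hex hm s hs

lemma injective_of_mono {F G : CohTop.Ab X} (f : F ⟶ G) [Mono f] (U : Opens X) :
    Function.Injective (f.hom.app (op U)) := by
  have : Mono ((sheafToPresheaf (Opens.grothendieckTopology X) AddCommGrpCat.{u} ⋙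
    (evaluation (Opens X)ᵒᵖ AddCommGrpCat.{u}).obj (op U)).map f) := inferInstance
  exact (AddCommGrpCat.mono_iff_injective _).mp this

lemma limit_π_succ (M : ℕᵒᵖ ⥤ CohTop.Ab X) (U : Opens X) (n : ℕ) (s : (limit M).obj.obj (op U)) :
    (M.map (homOfLE (Nat.le_succ n)).op).hom.app (op U)
      ((limit.π M (op (n + 1))).hom.app (op U) s) = (limit.π M (op n)).hom.app (op U) s := by
  have h := limit.w M (homOfLE (Nat.le_succ n)).op
  have h2 := congrArg (fun φ : (limit M : CohTop.Ab X) ⟶ M.obj (op n) => φ.hom.app (op U) s) h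
  exact h2

theorem isFlasque_limit (M : ℕᵒᵖ ⥤ CohTop.Ab X)
    (h1 : ∀ n : ℕ, TopCat.Sheaf.IsFlasque (M.obj (op n)))
    (h2 : ∀ n : ℕ, Epi (M.map (homOfLE (Nat.le_succ n)).op))
    (h3 : ∀ n : ℕ, TopCat.Sheaf.IsFlasque
      (kernel (M.map (homOfLE (Nat.le_succ n)).op) : CohTop.Ab X)) :
    TopCat.Sheaf.IsFlasque (limit M : CohTop.Ab X) := by
  constructor
  intro U V i
  rw [AddCommGrpCat.epi_iff_surjective]
  intro s
  obtain ⟨U⟩ := U
  obtain ⟨V⟩ := V
  set sn : ∀ n : ℕ, (M.obj (op n)).obj.obj (op V) :=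
    fun n => (limit.π M (op n)).hom.app (op V) s with hsn_def
  have hsn : ∀ n : ℕ, (M.map (homOfLE (Nat.le_succ n)).op).hom.app (op V) (sn (n + 1)) = sn n :=
    fun n => limit_π_succ M V n s
  have step : ∀ (n : ℕ) (t : (M.obj (op n)).obj.obj (op U)), (M.obj (op n)).obj.map i t = sn n →
      ∃ t' : (M.obj (op (n + 1))).obj.obj (op U), (M.obj (op (n + 1))).obj.map i t' = sn (n + 1) ∧
        (M.map (homOfLE (Nat.le_succ n)).op).hom.app (op U) t' = t := by
    intro n t ht
    have := h2 n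
    have := h3 n
    set f := M.map (homOfLE (Nat.le_succ n)).op with hf
    obtain ⟨a, ha⟩ := surjective_of_epi_of_flasque_kernel f U t
    -- difference on V lies in the kernel
    have hd : f.hom.app (op V) ((M.obj (op (n + 1))).obj.map i a - sn (n + 1)) = 0 := by
      rw [map_sub, hsn n, sub_eq_zero]
      have := NatTrans.naturality_apply f.hom i a
      rw [this, ha, ht]
    obtain ⟨b, hb⟩ := exists_kernel_section f V _ hd
    obtain ⟨c, hc⟩ := (AddCommGrpCat.epi_iff_surjective _).mp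
      ((h3 n).epi i) b
    refine ⟨a - (kernel.ι f).hom.app (op U) c, ?_, ?_⟩
    · rw [map_sub]
      have := NatTrans.naturality_apply (kernel.ι f).hom i c
      rw [← this, hc, hb]
      abel
    · rw [map_sub, ha]
      have hz : f.hom.app (op U) ((kernel.ι f).hom.app (op U) c) = 0 := by
        have h0 := kernel.condition f
        have := congrArg (fun φ : (kernel f : CohTop.Ab X) ⟶ M.obj (op n) => φ.hom.app (op U) c) h0
        exact this
      rw [hz, sub_zero]
  obtain ⟨t0, ht0⟩ := (AddCommGrpCat.epi_iff_surjective _).mp ((h1 0).epi i) (sn 0)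
  let T : ∀ n : ℕ, {t : (M.obj (op n)).obj.obj (op U) // (M.obj (op n)).obj.map i t = sn n} :=
    fun n => Nat.rec ⟨t0, ht0⟩ (fun n p => ⟨(step n p.1 p.2).choose, (step n p.1 p.2).choose_spec.1⟩) n
  have hT : ∀ n : ℕ, (M.map (homOfLE (Nat.le_succ n)).op).hom.app (op U) (T (n + 1)).1 = (T n).1 :=
    fun n => (step n (T n).1 (T n).2).choose_spec.2
  obtain ⟨t, ht⟩ := limit_sections_exists M U (fun n => (T n).1) hT
  refine ⟨t, ?_⟩
  apply limit_sections_ext M V
  intro n
  have := NatTrans.naturality_apply (limit.π M (op n)).hom i t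
  rw [this, ht n]
  exact (T n).2

lemma comp_app_apply {F G H : CohTop.Ab X} (f : F ⟶ G) (g : G ⟶ H) (U : Opens X)
    (x : F.obj.obj (op U)) :
    (f ≫ g).hom.app (op U) x = g.hom.app (op U) (f.hom.app (op U) x) := rfl

lemma epi_of_sections_surjective {F G : CohTop.Ab X} (f : F ⟶ G)
    (h : ∀ U : Opens X, Function.Surjective (f.hom.app (op U))) : Epi f := by
  have : Presheaf.IsLocallySurjective (Opens.grothendieckTopology X) f.hom :=
    Presheaf.isLocallySurjective_of_surjective _ f.hom (fun U => h U.unop)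
  have : Sheaf.IsLocallySurjective f := this
  exact Sheaf.epi_of_isLocallySurjective f

theorem epi_limMap (S : ShortComplex (ℕᵒᵖ ⥤ CohTop.Ab X)) (hS : S.ShortExact)
    (h1 : ∀ n : ℕ, TopCat.Sheaf.IsFlasque (S.X₁.obj (op n)))
    (h2 : ∀ n : ℕ, Epi (S.X₁.map (homOfLE (Nat.le_succ n)).op))
    (h3 : ∀ n : ℕ, TopCat.Sheaf.IsFlasque
      (kernel (S.X₁.map (homOfLE (Nat.le_succ n)).op) : CohTop.Ab X)) :
    Epi (limMap S.g) := by
  apply epi_of_sections_surjective
  intro U s
  -- levelwise short exactness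
  have hSn : ∀ n : ℕ, (S.map ((evaluation ℕᵒᵖ (CohTop.Ab X)).obj (op n))).ShortExact :=
    fun n => hS.map_of_exact _
  have hg : ∀ n : ℕ, Function.Surjective ((S.g.app (op n)).hom.app (op U)) := by
    intro n
    have : TopCat.Sheaf.IsFlasque (S.map ((evaluation ℕᵒᵖ (CohTop.Ab X)).obj (op n))).X₁ := h1 n
    exact (AddCommGrpCat.epi_iff_surjective _).mp
      (TopCat.Sheaf.IsFlasque.epi_of_shortExact (U := U) (hSn n))
  have hex : ∀ (n : ℕ) (d : (S.X₂.obj (op n)).obj.obj (op U)),
      (S.g.app (op n)).hom.app (op U) d = 0 →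
      ∃ b : (S.X₁.obj (op n)).obj.obj (op U), (S.f.app (op n)).hom.app (op U) b = d := by
    intro n d hd
    have hm : Mono (S.map ((evaluation ℕᵒᵖ (CohTop.Ab X)).obj (op n))).f := (hSn n).mono_f
    exact TopCat.Sheaf.sections_exact_of_left_exact (U := U) (hSn n).exact hm d hd
  have hfg : ∀ (n : ℕ) (c : (S.X₁.obj (op n)).obj.obj (op U)),
      (S.g.app (op n)).hom.app (op U) ((S.f.app (op n)).hom.app (op U) c) = 0 := by
    intro n c
    have h0 : S.f.app (op n) ≫ S.g.app (op n) = 0 := by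
      rw [← NatTrans.comp_app, S.zero]; rfl
    exact congrArg (fun φ : S.X₁.obj (op n) ⟶ S.X₃.obj (op n) => φ.hom.app (op U) c) h0
  set sn : ∀ n : ℕ, (S.X₃.obj (op n)).obj.obj (op U) :=
    fun n => (limit.π S.X₃ (op n)).hom.app (op U) s with hsn_def
  have hsn : ∀ n : ℕ, (S.X₃.map (homOfLE (Nat.le_succ n)).op).hom.app (op U) (sn (n + 1)) = sn n :=
    fun n => limit_π_succ S.X₃ U n s
  have step : ∀ (n : ℕ) (t : (S.X₂.obj (op n)).obj.obj (op U)),
      (S.g.app (op n)).hom.app (op U) t = sn n →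
      ∃ t' : (S.X₂.obj (op (n + 1))).obj.obj (op U),
        (S.g.app (op (n + 1))).hom.app (op U) t' = sn (n + 1) ∧
        (S.X₂.map (homOfLE (Nat.le_succ n)).op).hom.app (op U) t' = t := by
    intro n t ht
    have := h2 n
    have := h3 n
    obtain ⟨a, ha⟩ := hg (n + 1) (sn (n + 1))
    have natg : ∀ y : (S.X₂.obj (op (n + 1))).obj.obj (op U),
        (S.g.app (op n)).hom.app (op U)
          ((S.X₂.map (homOfLE (Nat.le_succ n)).op).hom.app (op U) y) =
        (S.X₃.map (homOfLE (Nat.le_succ n)).op).hom.app (op U)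
          ((S.g.app (op (n + 1))).hom.app (op U) y) := by
      intro y
      exact congrArg (fun φ : S.X₂.obj (op (n + 1)) ⟶ S.X₃.obj (op n) => φ.hom.app (op U) y)
        (S.g.naturality (homOfLE (Nat.le_succ n)).op)
    have natf : ∀ y : (S.X₁.obj (op (n + 1))).obj.obj (op U),
        (S.f.app (op n)).hom.app (op U)
          ((S.X₁.map (homOfLE (Nat.le_succ n)).op).hom.app (op U) y) =
        (S.X₂.map (homOfLE (Nat.le_succ n)).op).hom.app (op U)
          ((S.f.app (op (n + 1))).hom.app (op U) y) := by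
      intro y
      exact congrArg (fun φ : S.X₁.obj (op (n + 1)) ⟶ S.X₂.obj (op n) => φ.hom.app (op U) y)
        (S.f.naturality (homOfLE (Nat.le_succ n)).op)
    have hd : (S.g.app (op n)).hom.app (op U)
        ((S.X₂.map (homOfLE (Nat.le_succ n)).op).hom.app (op U) a - t) = 0 := by
      rw [map_sub, natg, ha, hsn n, ht, sub_self]
    obtain ⟨b, hb⟩ := hex n _ hd
    obtain ⟨c, hc⟩ := surjective_of_epi_of_flasque_kernel
      (S.X₁.map (homOfLE (Nat.le_succ n)).op) U b
    refine ⟨a - (S.f.app (op (n + 1))).hom.app (op U) c, ?_, ?_⟩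
    · rw [map_sub, ha, hfg, sub_zero]
    · rw [map_sub, ← natf, hc, hb]
      abel
  obtain ⟨t0, ht0⟩ := hg 0 (sn 0)
  let T : ∀ n : ℕ, {t : (S.X₂.obj (op n)).obj.obj (op U) //
      (S.g.app (op n)).hom.app (op U) t = sn n} :=
    fun n => Nat.rec ⟨t0, ht0⟩
      (fun n p => ⟨(step n p.1 p.2).choose, (step n p.1 p.2).choose_spec.1⟩) n
  have hT : ∀ n : ℕ, (S.X₂.map (homOfLE (Nat.le_succ n)).op).hom.app (op U) (T (n + 1)).1 =
      (T n).1 :=
    fun n => (step n (T n).1 (T n).2).choose_spec.2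
  obtain ⟨t, ht⟩ := limit_sections_exists S.X₂ U (fun n => (T n).1) hT
  refine ⟨t, ?_⟩
  apply limit_sections_ext S.X₃ U
  intro n
  have h := limMap_π (F := S.X₂) (G := S.X₃) S.g (op n)
  have h' := congrArg (fun φ : (limit S.X₂ : CohTop.Ab X) ⟶ S.X₃.obj (op n) => φ.hom.app (op U) t) h
  refine h'.trans ?_
  change (S.g.app (op n)).hom.app (op U) ((limit.π S.X₂ (op n)).hom.app (op U) t) = _
  rw [ht n]
  exact (T n).2

end Groth.Agent.H96.Flasque
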