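import Groth.Agent.H96.Flasque

set_option autoImplicit false
universe u

open CategoryTheory CategoryTheory.Limits TopologicalSpace Opposite

namespace Groth.Agent.H96.Flasque

variable {X Y : TopCat.{u}} {j : Y ⟶ X} (hj : Topology.IsOpenEmbedding j)

/-- `j(j⁻¹ V)` -/
abbrev II (V : Opens X) : Opens X := hj.functor.obj ((Opens.map j).obj V)

lemma II_le (V : Opens X) : II hj V ≤ V := by
  rintro _ ⟨y, hy, rfl⟩
  exact hy

lemma II_II (V : Opens X) : II hj V ≤ II hj (II hj V) := by
  rintro _ ⟨y, hy, rfl⟩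
  exact ⟨y, ⟨y, hy, rfl⟩, rfl⟩

lemma II_mono {V W : Opens X} (h : V ≤ W) : II hj V ≤ II hj W := by
  rintro _ ⟨y, hy, rfl⟩
  exact ⟨y, h hy, rfl⟩

lemma map_injective_of_le (F : CohTop.Ab X) {V W : Opens X} (h1 : V ≤ W) (h2 : W ≤ V) :
    Function.Injective (F.obj.map (homOfLE h1).op) := by
  intro a b hab
  have e : ∀ t : F.obj.obj (op W), F.obj.map (homOfLE h2).op (F.obj.map (homOfLE h1).op t) = t := by
    intro t
    rw [← Functor.map_comp_apply]
    have : (homOfLE h1).op ≫ (homOfLE h2).op = 𝟙 (op W) := Subsingleton.elim _ _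
    rw [this, Functor.map_id_apply]
  rw [← e a, ← e b, hab]

variable (adj : hj.sheafPullback AddCommGrpCat.{u} ⊣ TopCat.Sheaf.pushforward AddCommGrpCat.{u} j)

include adj in
lemma unit_eq_zero_iff (F : CohTop.Ab X) (V : Opens X) (s : F.obj.obj (op V)) :
    (adj.unit.app F).hom.app (op V) s = 0 ↔ F.obj.map (homOfLE (II_le hj V)).op s = 0 := by
  constructor
  · intro h
    -- naturality of the unit along `II V ≤ V`
    have nat := NatTrans.naturality_apply (adj.unit.app F).hom (homOfLE (II_le hj V)).op s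
    rw [h, map_zero] at nat
    -- injectivity from the triangle identity
    have tri := adj.left_triangle_components F
    have tri' := congrArg (fun φ : (hj.sheafPullback AddCommGrpCat.{u}).obj F ⟶
        (hj.sheafPullback AddCommGrpCat.{u}).obj F =>
        φ.hom.app (op ((Opens.map j).obj V)) (F.obj.map (homOfLE (II_le hj V)).op s)) tri
    have e1 : ((hj.sheafPullback AddCommGrpCat.{u}).map (adj.unit.app F)).hom.app
        (op ((Opens.map j).obj V)) (F.obj.map (homOfLE (II_le hj V)).op s) = 0 := nat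
    change (adj.counit.app _).hom.app (op ((Opens.map j).obj V))
      (((hj.sheafPullback AddCommGrpCat.{u}).map (adj.unit.app F)).hom.app
        (op ((Opens.map j).obj V)) (F.obj.map (homOfLE (II_le hj V)).op s)) =
      F.obj.map (homOfLE (II_le hj V)).op s at tri'
    rw [e1, map_zero] at tri'
    exact tri'.symm
  · intro h
    have nat : (adj.unit.app F).hom.app (op (II hj V)) (F.obj.map (homOfLE (II_le hj V)).op s) =
        F.obj.map (homOfLE (II_mono hj (II_le hj V))).op ((adj.unit.app F).hom.app (op V) s) :=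
      NatTrans.naturality_apply (adj.unit.app F).hom (homOfLE (II_le hj V)).op s
    rw [h, map_zero] at nat
    -- the restriction map of `j_* R F` from `V` to `II V` is injective
    have inj := map_injective_of_le F (II_mono hj (II_le hj V)) (II_II hj V)
    apply inj
    exact nat.symm.trans (map_zero _).symm

omit adj in
lemma unit0_eq_zero_iff (F : CohTop.Ab X) (V : Opens X) (s : F.obj.obj (op V)) :
    ((TopCat.Sheaf.pullbackPushforwardAdjunction AddCommGrpCat.{u} j).unit.app F).hom.app (op V) s = 0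
      ↔ F.obj.map (homOfLE (II_le hj V)).op s = 0 := by
  set adj0 := TopCat.Sheaf.pullbackPushforwardAdjunction AddCommGrpCat.{u} j
  set e := hj.sheafPullbackIso AddCommGrpCat.{u}
  rw [← unit_eq_zero_iff hj (adj0.ofNatIsoLeft e) F V s]
  have hu : (adj0.ofNatIsoLeft e).unit.app F =
      adj0.unit.app F ≫ (TopCat.Sheaf.pushforward AddCommGrpCat.{u} j).map (e.hom.app F) := rfl
  have hu2 : ((adj0.ofNatIsoLeft e).unit.app F).hom.app (op V) s =
      ((TopCat.Sheaf.pushforward AddCommGrpCat.{u} j).map (e.hom.app F)).hom.app (op V)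
        ((adj0.unit.app F).hom.app (op V) s) :=
    congrArg (fun φ : F ⟶ (TopCat.Sheaf.pushforward AddCommGrpCat.{u} j).obj
      ((hj.sheafPullback AddCommGrpCat.{u}).obj F) => φ.hom.app (op V) s) hu
  have hiso : IsIso ((TopCat.Sheaf.pushforward AddCommGrpCat.{u} j).map (e.hom.app F)) :=
    ((TopCat.Sheaf.pushforward AddCommGrpCat.{u} j).mapIso (e.app F)).isIso_hom
  have hmono : Mono ((TopCat.Sheaf.pushforward AddCommGrpCat.{u} j).map (e.hom.app F)) :=
    @IsIso.mono_of_iso _ _ _ _ _ hiso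
  have inj := @injective_of_mono _ _ _
    ((TopCat.Sheaf.pushforward AddCommGrpCat.{u} j).map (e.hom.app F)) hmono V
  constructor
  · intro h
    refine hu2.trans ?_
    exact (congrArg _ h).trans (map_zero _)
  · intro h
    apply inj
    exact (hu2.symm.trans h).trans (map_zero _).symm

omit hj in
lemma glue_two (F : CohTop.Ab X) (V W T : Opens X) (hV : V ≤ T) (hW : W ≤ T) (hT : T ≤ V ⊔ W)
    (a : F.obj.obj (op V)) (b : F.obj.obj (op W))
    (hab : F.obj.map (homOfLE (inf_le_left : V ⊓ W ≤ V)).op a =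
      F.obj.map (homOfLE (inf_le_right : V ⊓ W ≤ W)).op b) :
    ∃ c : F.obj.obj (op T), F.obj.map (homOfLE hV).op c = a ∧ F.obj.map (homOfLE hW).op c = b := by
  let Uf : Bool → Opens X := fun i => cond i V W
  let sf : ∀ i : Bool, F.obj.obj (op (Uf i)) := fun i => match i with
    | true => a
    | false => b
  have hc : TopCat.Presheaf.IsCompatible F.obj Uf sf := by
    intro i k
    cases i <;> cases k
    · rfl
    · have h2 := congrArg (F.obj.map (homOfLE (le_of_eq (inf_comm W V))).op) hab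
      rw [← Functor.map_comp_apply, ← Functor.map_comp_apply] at h2
      exact h2.symm
    · exact hab
    · rfl
  have hle : ∀ i : Bool, Uf i ≤ T := by
    intro i
    cases i
    · exact hW
    · exact hV
  have hcov : T ≤ iSup Uf := by
    refine hT.trans (sup_le ?_ ?_)
    · exact le_iSup Uf true
    · exact le_iSup Uf false
  obtain ⟨c, hc1, -⟩ := TopCat.Sheaf.existsUnique_gluing' (F := F) Uf T (fun i => homOfLE (hle i))
    hcov sf hc
  exact ⟨c, hc1 true, hc1 false⟩

omit hj in
theorem kernel_isFlasque {X : TopCat.{u}} (A : CohTop.Ab X) [TopCat.Sheaf.IsFlasque A]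
    {B : CohTop.Ab X} (η0 : A ⟶ B) (I : Opens X → Opens X) (hI : ∀ V, I V ≤ V)
    (hIle : ∀ V W : Opens X, W ≤ V → W ⊓ I V ≤ I W)
    (hker : ∀ (V : Opens X) (s : A.obj.obj (op V)),
      η0.hom.app (op V) s = 0 ↔ A.obj.map (homOfLE (hI V)).op s = 0) :
    TopCat.Sheaf.IsFlasque (kernel η0 : CohTop.Ab X) := by
  constructor
  intro V' W' i
  rw [AddCommGrpCat.epi_iff_surjective]
  intro t
  obtain ⟨V⟩ := V'
  obtain ⟨W⟩ := W'
  have hWV : W ≤ V := leOfHom i.unop
  have hi : i = (homOfLE hWV).op := Subsingleton.elim _ _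
  set t₀ : A.obj.obj (op W) := (kernel.ι η0).hom.app (op W) t with ht₀
  have h0 : η0.hom.app (op W) t₀ = 0 :=
    congrArg (fun φ : (kernel η0 : CohTop.Ab X) ⟶ _ => φ.hom.app (op W) t) (kernel.condition η0)
  have h1 : A.obj.map (homOfLE (hI W)).op t₀ = 0 := (hker W t₀).mp h0
  -- glue `t₀` on `W` with `0` on `I V`
  have hle : W ⊓ I V ≤ I W := hIle V W hWV
  have hcomp : A.obj.map (homOfLE (inf_le_left : W ⊓ I V ≤ W)).op t₀ =
      A.obj.map (homOfLE (inf_le_right : W ⊓ I V ≤ I V)).op 0 := by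
    rw [map_zero]
    have e : (homOfLE (inf_le_left : W ⊓ I V ≤ W)).op =
        (homOfLE (hI W)).op ≫ (homOfLE hle).op := Subsingleton.elim _ _
    rw [e, Functor.map_comp_apply, h1, map_zero]
  have hT : W ⊔ I V ≤ V := sup_le hWV (hI V)
  obtain ⟨c, hc1, hc2⟩ := glue_two A W (I V) (W ⊔ I V) le_sup_left le_sup_right le_rfl
    t₀ 0 hcomp
  obtain ⟨s, hs⟩ := (AddCommGrpCat.epi_iff_surjective _).mp
    (TopCat.Presheaf.IsFlasque.epi (F := A.obj) (homOfLE hT).op) c
  have hs0 : η0.hom.app (op V) s = 0 := by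
    rw [hker V s]
    have e : (homOfLE (hI V)).op =
        (homOfLE hT).op ≫ (homOfLE (le_sup_right : I V ≤ W ⊔ I V)).op :=
      Subsingleton.elim _ _
    rw [e, Functor.map_comp_apply, hs, hc2]
  obtain ⟨k, hk⟩ := exists_kernel_section η0 V s hs0
  refine ⟨k, ?_⟩
  apply injective_of_mono (kernel.ι η0) W
  have nat := NatTrans.naturality_apply (kernel.ι η0).hom i k
  refine nat.trans ?_
  rw [hk, hi]
  have e : (homOfLE hWV).op =
      (homOfLE hT).op ≫ (homOfLE (le_sup_left : W ≤ W ⊔ I V)).op :=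
    Subsingleton.elim _ _
  rw [e, Functor.map_comp_apply, hs, hc1]

omit hj in
theorem sectSupp_isFlasque {X : TopCat.{u}} (A : CohTop.Ab X) [TopCat.Sheaf.IsFlasque A]
    (U : Opens X) : TopCat.Sheaf.IsFlasque (CohCx.sectSupp U A) := by
  have hj : Topology.IsOpenEmbedding (CohCx.incl U) := U.isOpenEmbedding
  refine kernel_isFlasque A _ (II hj) (II_le hj) ?_ (fun V s => unit0_eq_zero_iff hj A V s)
  rintro V W hWV x ⟨hxW, ⟨y, hy, rfl⟩⟩
  exact ⟨y, hxW, rfl⟩

end Groth.Agent.H96.Flasque
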