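import Mathlib
import Groth.Agent.H37.GalPts2

/-!
# Rational points and closed points over an algebraically closed field

For `g : Y ⟶ Spec k` locally of finite type, `k` algebraically closed: sections of `g` are the
same as closed points of `Y`.
-/

set_option autoImplicit false
set_option linter.style.haveILetI false
set_option linter.unusedSectionVars false
set_option linter.unusedVariables false

universe u

open CategoryTheory AlgebraicGeometry

namespace Groth.Agent.H96.KPoints

variable {k : Type u} [Field k] {Y : Scheme.{u}} (g : Y ⟶ Spec (CommRingCat.of k))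

theorem SpecMap_algebraMap_self :
    Spec.map (CommRingCat.ofHom (algebraMap k k)) = 𝟙 (Spec (CommRingCat.of k)) := by
  have : CommRingCat.ofHom (algebraMap k k) = 𝟙 (CommRingCat.of k) := rfl
  rw [this, Spec.map_id]

/-- The image of a rational point is a closed point. -/
theorem isClosed_of_section [LocallyOfFiniteType g] (s : Spec (CommRingCat.of k) ⟶ Y)
    (hs : s ≫ g = 𝟙 _) : IsClosed ({s (IsLocalRing.closedPoint k)} : Set Y) :=
  Groth.Agent.H37.isClosed_of_point g k s (by rw [hs, SpecMap_algebraMap_self])

/-- Over an algebraically closed field every closed point is rational. -/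
theorem exists_section_of_isClosed [IsAlgClosed k] [LocallyOfFiniteType g] (w : Y)
    (hw : IsClosed ({w} : Set Y)) :
    ∃ s : Spec (CommRingCat.of k) ⟶ Y, s ≫ g = 𝟙 _ ∧ s (IsLocalRing.closedPoint k) = w := by
  obtain ⟨s, hs, hsw⟩ := Groth.Agent.H37.exists_point_of_isClosed g k w hw
  rw [SpecMap_algebraMap_self] at hs
  exact ⟨s, hs, hsw⟩

/-- A rational point is determined by its image. -/
theorem section_ext (s s' : Spec (CommRingCat.of k) ⟶ Y) (hs : s ≫ g = 𝟙 _) (hs' : s' ≫ g = 𝟙 _)
    (h : s (IsLocalRing.closedPoint k) = s' (IsLocalRing.closedPoint k)) : s = s' := by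
  obtain ⟨x, ι, hx, rfl⟩ := Groth.Agent.H37.exists_rep_of_point s
  obtain ⟨x', ι', hx', rfl⟩ := Groth.Agent.H37.exists_rep_of_point s'
  have hxx : x = x' := by rw [hx, hx']; exact h
  subst hxx
  have h1 := Groth.Agent.H37.resStr_comp_of_over g x ι (by rw [hs, SpecMap_algebraMap_self])
  have h2 := Groth.Agent.H37.resStr_comp_of_over g x ι' (by rw [hs', SpecMap_algebraMap_self])
  congr 2
  ext b
  have e1 : ∀ c : k, ι.hom ((Groth.Agent.H37.resStr g x).hom c) = c := fun c =>
    congrArg (fun φ : CommRingCat.of k ⟶ CommRingCat.of k => φ.hom c) h1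
  have e2 : ∀ c : k, ι'.hom ((Groth.Agent.H37.resStr g x).hom c) = c := fun c =>
    congrArg (fun φ : CommRingCat.of k ⟶ CommRingCat.of k => φ.hom c) h2
  have hinj : Function.Injective ι.hom := ι.hom.injective
  have e3 : (Groth.Agent.H37.resStr g x).hom (ι.hom b) = b := hinj (e1 _)
  calc ι.hom b = ι'.hom ((Groth.Agent.H37.resStr g x).hom (ι.hom b)) := (e2 _).symm
    _ = ι'.hom b := by rw [e3]

end Groth.Agent.H96.KPoints
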