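import Mathlib
import Groth.Prelude.Def_WeilCoh
import Groth.Agent.H96.WeilLefschetz

/-!
# The Frobenius endomorphism of a variety defined over a finite field: geometry

Setting: `X` of finite type over a finite field `k₀`, `FX` its `q`-Frobenius (identity on points,
`q`-th power on sections), `Xb = X ×_{k₀} k` an object of `Var k`, `F` the induced endomorphism.

* `frob_comp_struct`: `FX ≫ f = f`;
* `isPullback_frob`: `F` is the base change of `FX`;
* `surjective_frob`, `frob_gen`: `F` is surjective and fixes the generic point.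
-/

set_option autoImplicit false
set_option linter.style.haveILetI false
set_option linter.unusedSectionVars false
set_option linter.unusedVariables false

universe u v w

open CategoryTheory AlgebraicGeometry WeilCoh

namespace Groth.Agent.H96.WeilFrob

open Groth.Agent.H96.WeilPt Groth.Agent.H96.WeilDim Groth.Agent.H96.WeilGraph
  Groth.Agent.H96.WeilUnit

section Geometry

variable {k₀ : Type u} [Field k₀] [Finite k₀] {k : Type u} [Field k] [Algebra k₀ k]
  {X : Scheme.{u}} (f : X ⟶ Spec (CommRingCat.of k₀))
  (FX : X ⟶ X) (hFb : FX.base = 𝟙 _) (hle : ∀ U : X.Opens, U ≤ FX ⁻¹ᵁ U)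
  (hFapp : ∀ (U : X.Opens) (s : Γ(X, U)), (FX.appLE U U (hle U)).hom s = s ^ Nat.card k₀)

include hFb in
theorem frob_apply (x : X) : FX x = x := by
  change FX.base x = x
  rw [hFb]
  rfl

include hle hFapp in
theorem frob_appTop (s : Γ(X, ⊤)) : FX.appTop.hom s = s ^ Nat.card k₀ := by
  have h := hFapp ⊤ s
  rw [← h]
  simp [Scheme.Hom.appLE]

include hle hFapp in
theorem frob_comp_struct : FX ≫ f = f := by
  apply ext_of_isAffine
  rw [Scheme.Hom.comp_appTop]
  ext c
  rw [CommRingCat.hom_comp, RingHom.comp_apply, frob_appTop FX hle hFapp, ← map_pow]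
  congr 1
  apply (ConcreteCategory.bijective_of_isIso (Scheme.ΓSpecIso (CommRingCat.of k₀)).hom).1
  rw [map_pow]
  have := Fintype.ofFinite k₀
  rw [Nat.card_eq_fintype_card]
  exact FiniteField.pow_card _

variable (Xb : Var k) (π : Xb.obj.left ⟶ X)
  (hπ : IsPullback π Xb.obj.hom f (Spec.map (CommRingCat.ofHom (algebraMap k₀ k))))
  (F : Xb ⟶ Xb) (hF : sm F ≫ π = π ≫ FX)

include hle hFapp hπ hF in
/-- `F` is the base change of `FX` along `π`. -/
theorem isPullback_frob : IsPullback (sm F) π π FX := by
  have hw : sm F ≫ Xb.obj.hom = Xb.obj.hom := Over.w F.hom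
  have hs := frob_comp_struct f FX hle hFapp
  refine IsPullback.of_right (h₁₂ := Xb.obj.hom) (h₂₂ := f) (v₁₃ := Spec.map
    (CommRingCat.ofHom (algebraMap k₀ k))) ?_ hF hπ.flip
  rw [hw, hs]
  exact hπ.flip

include hFb hle hFapp hπ hF in
theorem surjective_frob : Surjective (sm F) := by
  have hsurj : Surjective FX := ⟨fun x => ⟨x, frob_apply FX hFb x⟩⟩
  exact MorphismProperty.of_isPullback (P := @Surjective)
    (isPullback_frob f FX hle hFapp Xb π hπ F hF).flip hsurj

include hFb hle hFapp hπ hF in
/-- `F` fixes the generic point. -/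
theorem frob_gen : sm F (gen Xb) = gen Xb := by
  have hsurj := surjective_frob f FX hFb hle hFapp Xb π hπ F hF
  have := irreducibleSpace Xb
  have h1 : IsGenericPoint (sm F (gen Xb)) (⊤ : Set Xb.obj.left) := by
    rw [isGenericPoint_def]
    apply top_unique
    intro y _
    obtain ⟨x, rfl⟩ := hsurj.surj y
    have hx : x ∈ closure ({gen Xb} : Set Xb.obj.left) := by
      rw [closure_gen]; exact Set.mem_univ _
    have := image_closure_subset_closure_image (sm F).continuous ⟨x, hx, rfl⟩
    rwa [Set.image_singleton] at this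
  exact h1.eq (genericPoint_spec Xb.obj.left)

end Geometry

end Groth.Agent.H96.WeilFrob
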