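import Mathlib
import Groth.Prelude.Def_WeilCoh
import Groth.Prelude.Def_W4c1zetahwZeta
import Groth.Agent.H96.WeilFrob
import Groth.Agent.H96.KPoints
import Groth.Agent.H96.FrobPts
import Groth.Agent.H96.FinFieldPow

/-!
# Fixed points of the powers of the Frobenius endomorphism: the criterion

Setting of the Weil conjectures: `X` of finite type over the finite field `k₀` (`q` elements), `FX`
its `q`-Frobenius, `Xb = X ×_{k₀} k` a variety over the algebraically closed field `k`, `F` the
induced endomorphism.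

* `fixed_iff`: a closed point `w` of `Xb` is fixed by `F ^ m` iff every element `b` of the residue
  field of its image in `X` satisfies `b ^ q ^ m = b`.
-/

set_option autoImplicit false
set_option linter.style.haveILetI false
set_option linter.unusedSectionVars false
set_option linter.unusedVariables false

universe u v w

open CategoryTheory AlgebraicGeometry WeilCoh

namespace Groth.Agent.H96.FrobCount

open Groth.Agent.H96.WeilPt Groth.Agent.H96.WeilDim Groth.Agent.H96.WeilGraph
  Groth.Agent.H96.FrobPts Groth.Agent.H96.KPoints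

variable {k₀ : Type u} [Field k₀] [Finite k₀] {k : Type u} [Field k] [IsAlgClosed k]
  [Algebra k₀ k]
  {X : Scheme.{u}} (f : X ⟶ Spec (CommRingCat.of k₀))
  (FX : X ⟶ X) (hFb : FX.base = 𝟙 _) (hle : ∀ U : X.Opens, U ≤ FX ⁻¹ᵁ U)
  (hFapp : ∀ (U : X.Opens) (s : Γ(X, U)), (FX.appLE U U (hle U)).hom s = s ^ Nat.card k₀)
  (Xb : Var k) (π : Xb.obj.left ⟶ X)
  (hπ : IsPullback π Xb.obj.hom f (Spec.map (CommRingCat.ofHom (algebraMap k₀ k))))
  (F : Xb ⟶ Xb) (hF : sm F ≫ π = π ≫ FX)

include hFb hle hFapp in
theorem isFrob_FX : IsFrob FX (Nat.card k₀) := ⟨hFb, fun U h s => hFapp U s⟩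

include hF in
theorem iter_comp_pi (m : ℕ) : sm (iter F m) ≫ π = π ≫ iterS FX m := by
  induction m with
  | zero =>
    change 𝟙 _ ≫ π = π ≫ 𝟙 _
    rw [Category.id_comp, Category.comp_id]
  | succ m ih =>
    change (sm F ≫ sm (iter F m)) ≫ π = π ≫ FX ≫ iterS FX m
    rw [Category.assoc, ih, ← Category.assoc, hF, Category.assoc]

theorem iter_comp_hom (m : ℕ) : sm (iter F m) ≫ Xb.obj.hom = Xb.obj.hom := Over.w (iter F m).hom

include hFb hle hFapp hπ hF in
/-- A closed point of `Xb` is fixed by `F ^ m` iff the residue field of its image in `X` is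
fixed by the `q ^ m`-th power map. -/
theorem fixed_iff (m : ℕ) (w : Xb.obj.left) (hw : IsClosed ({w} : Set Xb.obj.left)) :
    sm (iter F m) w = w ↔ ∀ b : X.residueField (π w), b ^ (Nat.card k₀ ^ m) = b := by
  have := isProper_hom Xb
  obtain ⟨s, hs, hsw⟩ := exists_section_of_isClosed Xb.obj.hom w hw
  have hfrob := (isFrob_FX FX hFb hle hFapp).iterS m
  have hcp := iter_comp_pi FX Xb π F hF m
  have hch := iter_comp_hom Xb F m
  obtain ⟨x, ι, hx, ht⟩ := Groth.Agent.H37.exists_rep_of_point (s ≫ π)
  have hxw : x = π w := by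
    rw [hx, Scheme.Hom.comp_apply, hsw]
  subst hxw
  have key := hfrob.comp_eq_iff (π w) ι
  rw [← ht] at key
  rw [← key]
  constructor
  · intro hfix
    have h1 : s ≫ sm (iter F m) = s := by
      refine section_ext Xb.obj.hom _ _ ?_ hs ?_
      · rw [Category.assoc, hch, hs]
      · rw [Scheme.Hom.comp_apply, hsw, hfix]
    rw [Category.assoc, ← hcp, ← Category.assoc, h1]
  · intro h1
    have h2 : s ≫ sm (iter F m) = s := by
      apply hπ.hom_ext
      · rw [Category.assoc, hcp, ← Category.assoc, h1]
      · rw [Category.assoc, hch]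
    have h3 := congrArg (fun t : Spec (CommRingCat.of k) ⟶ Xb.obj.left =>
      t (IsLocalRing.closedPoint k)) h2
    simp only [Scheme.Hom.comp_apply, hsw] at h3
    exact h3

end Groth.Agent.H96.FrobCount
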