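import Mathlib
import Groth.Prelude.Def_WeilCoh
import Groth.Prelude.Def_W4c1zetahwZeta
import Groth.Agent.H96.FrobCount

/-!
# Fixed points of the powers of the Frobenius endomorphism: closed points and degrees

* `finite_iff_isClosed`: a point of a scheme locally of finite type over a field is closed iff its
  residue field is finite over the base field;
* `finrank_resStr`: the degree of the residue field over the base field is the residue degree;
* `pow_iff`: every element of `κ(x)` is fixed by the `q ^ m`-th power iff `x` is closed of degree
  dividing `m`.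
-/

set_option autoImplicit false
set_option linter.style.haveILetI false
set_option linter.unusedSectionVars false
set_option linter.unusedVariables false

universe u v w

open CategoryTheory AlgebraicGeometry WeilCoh

namespace Groth.Agent.H96.FrobCount

open Groth.Agent.H37

section ResStr

variable {k₀ : Type u} [Field k₀] {X : Scheme.{u}} (f : X ⟶ Spec (CommRingCat.of k₀))

theorem isClosed_of_finite [LocallyOfFiniteType f] (x : X)
    (h : letI := (resStr f x).hom.toAlgebra
      Module.Finite k₀ (X.residueField x)) : IsClosed ({x} : Set X) := by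
  letI := (resStr f x).hom.toAlgebra
  have : Algebra.IsAlgebraic k₀ (X.residueField x) := Algebra.IsAlgebraic.of_finite _ _
  have h1 := isClosed_of_point f (X.residueField x) (X.fromSpecResidueField x) (by
    rw [← SpecMap_resStr]
    rfl)
  rwa [Scheme.fromSpecResidueField_apply] at h1

theorem finite_of_isClosed [LocallyOfFiniteType f] (x : X) (hx : IsClosed ({x} : Set X)) :
    letI := (resStr f x).hom.toAlgebra
    Module.Finite k₀ (X.residueField x) := by
  haveI : JacobsonSpace ↥X := LocallyOfFiniteType.jacobsonSpace f
  haveI : LocallyOfFiniteType (X.fromSpecResidueField x) :=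
    isClosed_singleton_iff_locallyOfFiniteType.mp hx
  have h1 : LocallyOfFiniteType (Spec.map (resStr f x)) := by
    rw [SpecMap_resStr]; infer_instance
  have h2 : (resStr f x).hom.FiniteType :=
    (HasRingHomProperty.Spec_iff (P := @LocallyOfFiniteType)).mp h1
  letI : Algebra k₀ (X.residueField x) := (resStr f x).hom.toAlgebra
  haveI : Algebra.FiniteType k₀ (X.residueField x) := h2
  exact finite_of_finite_type_of_isJacobsonRing _ _

/-- The structure map `k₀ → κ(f x)` is bijective. -/
theorem bijective_base (x : X) :
    Function.Bijective ((CommRingCat.ofHom (algebraMap (CommRingCat.of k₀)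
      (f x).asIdeal.ResidueField) ≫
      (Scheme.Spec.residueFieldIso (CommRingCat.of k₀) (f x)).inv).hom) := by
  rw [CommRingCat.hom_comp, RingHom.coe_comp]
  refine Function.Bijective.comp
    (ConcreteCategory.bijective_of_isIso
      (Scheme.Spec.residueFieldIso (CommRingCat.of k₀) (f x)).inv) ?_
  rw [CommRingCat.hom_ofHom]
  haveI : (f x).asIdeal.IsMaximal := by
    have : (f x).asIdeal = ⊥ := by
      have := (f x).isPrime
      exact (Ideal.eq_bot_or_top (f x).asIdeal).resolve_right this.ne_top
    rw [this]
    exact Ideal.bot_isMaximal
  exact ⟨(algebraMap k₀ (f x).asIdeal.ResidueField).injective,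
    Ideal.algebraMap_residueField_surjective _⟩

theorem finrank_resStr (x : X) :
    (letI := (resStr f x).hom.toAlgebra
     Module.finrank k₀ (X.residueField x)) = EGA4loc.residueDegree f x := by
  unfold EGA4loc.residueDegree
  letI := (resStr f x).hom.toAlgebra
  letI := (f.residueFieldMap x).hom.toAlgebra
  refine Algebra.finrank_eq_of_equiv_equiv (RingEquiv.ofBijective _ (bijective_base f x))
    (RingEquiv.refl _) ?_
  ext c
  have h1 := congrArg (fun φ : CommRingCat.of k₀ ⟶ X.residueField x => φ.hom c) (resStr_eq f x)
  simp only [CommRingCat.hom_comp, RingHom.comp_apply] at h1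
  exact h1.symm

end ResStr

section Pow

variable {k₀ : Type u} [Field k₀] [Finite k₀] {X : Scheme.{u}}
  (f : X ⟶ Spec (CommRingCat.of k₀)) [LocallyOfFiniteType f]

/-- Every element of `κ(x)` is fixed by the `q ^ m`-th power iff `x` is a closed point of degree
dividing `m`. -/
theorem pow_iff (x : X) (m : ℕ) (hm : 1 ≤ m) :
    (∀ b : X.residueField x, b ^ (Nat.card k₀ ^ m) = b) ↔
      IsClosed ({x} : Set X) ∧ EGA4loc.residueDegree f x ∣ m := by
  letI := (resStr f x).hom.toAlgebra
  rw [Groth.Agent.H96.FinFieldPow.pow_eq_iff k₀ (X.residueField x) m hm, ← finrank_resStr f x]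
  constructor
  · rintro ⟨h1, h2⟩
    exact ⟨isClosed_of_finite f x h1, h2⟩
  · rintro ⟨h1, h2⟩
    exact ⟨finite_of_isClosed f x h1, h2⟩

end Pow

end Groth.Agent.H96.FrobCount
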