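import Mathlib
import Groth.Prelude.Def_WeilCoh
import Groth.Prelude.Def_W4c1zetahwZeta
import Groth.Agent.H96.FrobCount2

/-!
# Closed points of the base change to an algebraically closed field over a closed point

* `card_fibre`: over a closed point `x` of `X` (of finite type over the finite field `k₀`) there are
  exactly `[κ(x) : k₀]` closed points of `X ×_{k₀} k`.
-/

set_option autoImplicit false
set_option linter.style.haveILetI false
set_option linter.unusedSectionVars false
set_option linter.unusedVariables false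

universe u v w

open CategoryTheory AlgebraicGeometry WeilCoh

namespace Groth.Agent.H96.FrobCount

open Groth.Agent.H37 Groth.Agent.H96.KPoints Groth.Agent.H96.WeilDim

section Fibre

variable {k₀ : Type u} [Field k₀] [Finite k₀] {k : Type u} [Field k] [IsAlgClosed k]
  [Algebra k₀ k]
  {X : Scheme.{u}} (f : X ⟶ Spec (CommRingCat.of k₀)) [LocallyOfFiniteType f]
  (Xb : Var k) (π : Xb.obj.left ⟶ X)
  (hπ : IsPullback π Xb.obj.hom f (Spec.map (CommRingCat.ofHom (algebraMap k₀ k))))

/-- The `k`-point of `X` attached to an embedding of a residue field. -/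
noncomputable def ptOf (x : X)
    (ι : letI := (resStr f x).hom.toAlgebra
      X.residueField x →ₐ[k₀] k) : Spec (CommRingCat.of k) ⟶ X :=
  Spec.map (CommRingCat.ofHom (RingHomClass.toRingHom ι)) ≫ X.fromSpecResidueField x

theorem ptOf_comp (x : X)
    (ι : letI := (resStr f x).hom.toAlgebra
      X.residueField x →ₐ[k₀] k) :
    ptOf f x ι ≫ f = Spec.map (CommRingCat.ofHom (algebraMap k₀ k)) := by
  letI := (resStr f x).hom.toAlgebra
  unfold ptOf
  rw [Category.assoc, ← SpecMap_resStr, ← Spec.map_comp]
  congr 1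
  ext c
  exact ι.commutes c

theorem ptOf_apply (x : X)
    (ι : letI := (resStr f x).hom.toAlgebra
      X.residueField x →ₐ[k₀] k) :
    ptOf f x ι (IsLocalRing.closedPoint k) = x := by
  unfold ptOf
  exact Scheme.fromSpecResidueField_apply x _

include hπ in
theorem card_fibre (x : X) (hx : IsClosed ({x} : Set X)) :
    Nat.card {w : Xb.obj.left // IsClosed ({w} : Set Xb.obj.left) ∧ π w = x} =
      EGA4loc.residueDegree f x := by
  have := isProper_hom Xb
  letI := (resStr f x).hom.toAlgebra
  haveI hfin : Module.Finite k₀ (X.residueField x) := finite_of_isClosed f x hx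
  haveI : Algebra.IsAlgebraic k₀ (X.residueField x) := Algebra.IsAlgebraic.of_finite _ _
  haveI : Algebra.IsSeparable k₀ (X.residueField x) :=
    Algebra.IsAlgebraic.isSeparable_of_perfectField
  rw [← finrank_resStr f x, ← AlgHom.natCard_of_splits k₀ (X.residueField x) k
    (fun _ => IsAlgClosed.splits _)]
  symm
  -- the sections
  let sec : (X.residueField x →ₐ[k₀] k) → (Spec (CommRingCat.of k) ⟶ Xb.obj.left) := fun ι =>
    hπ.lift (ptOf f x ι) (𝟙 _) (by rw [ptOf_comp, Category.id_comp])
  have hsec1 : ∀ ι, sec ι ≫ π = ptOf f x ι := fun ι => hπ.lift_fst _ _ _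
  have hsec2 : ∀ ι, sec ι ≫ Xb.obj.hom = 𝟙 _ := fun ι => hπ.lift_snd _ _ _
  let Ψ : (X.residueField x →ₐ[k₀] k) →
      {w : Xb.obj.left // IsClosed ({w} : Set Xb.obj.left) ∧ π w = x} := fun ι =>
    ⟨sec ι (IsLocalRing.closedPoint k), isClosed_of_section Xb.obj.hom _ (hsec2 ι), by
      rw [← Scheme.Hom.comp_apply, hsec1, ptOf_apply]⟩
  refine Nat.card_congr (Equiv.ofBijective Ψ ⟨?_, ?_⟩)
  · intro ι ι' h
    have h1 : sec ι (IsLocalRing.closedPoint k) = sec ι' (IsLocalRing.closedPoint k) :=
      congrArg Subtype.val h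
    have h2 : sec ι = sec ι' := section_ext Xb.obj.hom _ _ (hsec2 ι) (hsec2 ι') h1
    have h3 : ptOf f x ι = ptOf f x ι' := by rw [← hsec1, ← hsec1, h2]
    unfold ptOf at h3
    rw [cancel_mono] at h3
    have h4 := Spec.map_injective h3
    ext b
    exact congrArg (fun φ : X.residueField x ⟶ CommRingCat.of k => φ.hom b) h4
  · rintro ⟨w, hwc, hwx⟩
    obtain ⟨s, hs, hsw⟩ := exists_section_of_isClosed Xb.obj.hom w hwc
    obtain ⟨x', ι₀, hx', ht⟩ := exists_rep_of_point (s ≫ π)
    have hxx : x' = x := by
      rw [hx', Scheme.Hom.comp_apply, hsw, hwx]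
    subst hxx
    have hover : (Spec.map ι₀ ≫ X.fromSpecResidueField x') ≫ f =
        Spec.map (CommRingCat.ofHom (algebraMap k₀ k)) := by
      rw [← ht, Category.assoc, hπ.w, ← Category.assoc, hs, Category.id_comp]
    have h1 := resStr_comp_of_over f x' ι₀ hover
    let ι : X.residueField x' →ₐ[k₀] k :=
      { ι₀.hom with
        commutes' := fun c =>
          congrArg (fun φ : CommRingCat.of k₀ ⟶ CommRingCat.of k => φ.hom c) h1 }
    refine ⟨ι, Subtype.ext ?_⟩
    change sec ι (IsLocalRing.closedPoint k) = w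
    have h2 : sec ι = s := by
      apply hπ.hom_ext
      · rw [hsec1, ht]
        rfl
      · rw [hsec2, hs]
    rw [h2, hsw]

end Fibre

end Groth.Agent.H96.FrobCount
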