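import Mathlib
import Groth.Prelude.Def_WeilCoh
import Groth.Prelude.Def_W4c1zetahwZeta
import Groth.Agent.H96.FrobCount3
import Groth.Agent.H65.PtCount8

/-!
# Finiteness of the set of closed points of given degree

For `X` of finite type over a finite field there are finitely many closed points of each degree.
-/

set_option autoImplicit false
set_option linter.style.haveILetI false
set_option linter.unusedSectionVars false
set_option linter.unusedVariables false

universe u v w

open CategoryTheory AlgebraicGeometry WeilCoh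

namespace Groth.Agent.H96.FrobCount

open Groth.Agent.H37 Groth.Agent.H96.KPoints Groth.Agent.H65.PtCount

section Affine

theorem SpecMap_evaluation_fromSpec {X : Scheme.{u}} {U : X.Opens} (hU : IsAffineOpen U) (x : X)
    (hx : x ∈ U) :
    Spec.map (X.evaluation U x hx) ≫ hU.fromSpec = X.fromSpecResidueField x := by
  unfold Scheme.evaluation Scheme.fromSpecResidueField
  rw [Spec.map_comp, Category.assoc, ← hU.fromSpecStalk_eq_fromSpecStalk hx]
  rfl

/-- Ring homomorphisms out of a finitely generated algebra, with values in the roots of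
`T ^ Q - T`, form a finite set. -/
theorem finite_homs {k₀ A k : Type*} [Field k₀] [CommRing A] [Field k] (α : k₀ →+* A)
    (hα : α.FiniteType) (β : k₀ →+* k) (Q : ℕ) (hQ : 2 ≤ Q) :
    Finite {φ : A →+* k // φ.comp α = β ∧ ∀ a, φ a ^ Q = φ a} := by
  classical
  letI : Algebra k₀ A := α.toAlgebra
  letI : Algebra k₀ k := β.toAlgebra
  have hft : Algebra.FiniteType k₀ A := hα
  obtain ⟨G, hG⟩ := hft.out
  have hne : (Polynomial.X ^ Q - Polynomial.X : Polynomial k) ≠ 0 :=
    FiniteField.X_pow_card_sub_X_ne_zero k (by omega)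
  have hR : Finite {c : k // c ^ Q = c} := by
    have h1 := Polynomial.finite_setOf_isRoot hne
    have h2 : {c : k | Polynomial.IsRoot (Polynomial.X ^ Q - Polynomial.X : Polynomial k) c} =
        {c : k | c ^ Q = c} := by
      ext c
      simp [Polynomial.IsRoot.def, sub_eq_zero]
    rw [h2] at h1
    exact h1.to_subtype
  let Θ : {φ : A →+* k // φ.comp α = β ∧ ∀ a, φ a ^ Q = φ a} → (G → {c : k // c ^ Q = c}) :=
    fun φ g => ⟨φ.1 g.1, φ.2.2 g.1⟩
  refine Finite.of_injective Θ ?_
  intro φ ψ h
  apply Subtype.ext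
  let φ' : A →ₐ[k₀] k := { φ.1 with commutes' := fun c => RingHom.congr_fun φ.2.1 c }
  let ψ' : A →ₐ[k₀] k := { ψ.1 with commutes' := fun c => RingHom.congr_fun ψ.2.1 c }
  have hφψ : φ' = ψ' := by
    apply AlgHom.ext_of_adjoin_eq_top hG
    intro g hg
    have := congrFun h ⟨g, hg⟩
    exact congrArg Subtype.val this
  ext a
  exact congrArg (fun θ : A →ₐ[k₀] k => θ a) hφψ

end Affine

section Fin

variable {k₀ : Type u} [Field k₀] [Finite k₀] (k : Type u) [Field k] [IsAlgClosed k]
  [Algebra k₀ k]
  {X : Scheme.{u}} (f : X ⟶ Spec (CommRingCat.of k₀)) [LocallyOfFiniteType f] [QuasiCompact f]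

include k in
/-- Finitely many closed points of given degree. -/
theorem finite_degree_eq (e : ℕ) (he : 1 ≤ e) :
    Finite {x : X // IsClosed ({x} : Set X) ∧ EGA4loc.residueDegree f x = e} := by
  classical
  have := Fintype.ofFinite k₀
  have hq : 2 ≤ Nat.card k₀ := by
    rw [Nat.card_eq_fintype_card]
    exact Fintype.one_lt_card
  have hQ : 2 ≤ Nat.card k₀ ^ e :=
    le_trans hq (Nat.le_self_pow (by omega) _)
  -- a finite affine cover
  have hcpt : CompactSpace X := QuasiCompact.compactSpace_of_compactSpace f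
  obtain ⟨s0, hs0, hcov0⟩ := isCompact_and_isOpen_iff_finite_and_eq_biUnion_affineOpens.mp
    ⟨(isCompact_univ : IsCompact (Set.univ : Set X)), isOpen_univ⟩
  have hcov : ∀ x : X, ∃ U : s0, x ∈ U.1.1 := by
    intro x
    have hx : x ∈ ⋃ i ∈ s0, (i : Set X) := by rw [← hcov0]; trivial
    simp only [Set.mem_iUnion] at hx
    obtain ⟨U, hU, hxU⟩ := hx
    exact ⟨⟨U, hU⟩, hxU⟩
  have : Finite s0 := hs0.to_subtype
  -- the target
  let Tgt : s0 → Type u := fun U =>
    {φ : Γ(X, U.1.1) →+* k // φ.comp (strMap f U.1.1).hom = algebraMap k₀ k ∧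
      ∀ a, φ a ^ (Nat.card k₀ ^ e) = φ a}
  have hTgt : ∀ U, Finite (Tgt U) := by
    intro U
    have hft : (strMap f U.1.1).hom.FiniteType := by
      have h1 := HasRingHomProperty.appLE (P := @LocallyOfFiniteType) f inferInstance
        ⟨⊤, isAffineOpen_top _⟩ U.1 le_top
      rw [strMap, CommRingCat.hom_comp]
      refine h1.comp (RingHom.FiniteType.of_surjective _ ?_)
      exact (ConcreteCategory.bijective_of_isIso
        (Scheme.ΓSpecIso (CommRingCat.of k₀)).inv).surjective
    exact finite_homs _ hft _ _ hQ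
  -- decoding
  let dec : (Σ U, Tgt U) → X := fun p =>
    (Spec.map (CommRingCat.ofHom p.2.1) ≫ p.1.1.2.fromSpec) (IsLocalRing.closedPoint k)
  -- encoding
  have henc : ∀ x : {x : X // IsClosed ({x} : Set X) ∧ EGA4loc.residueDegree f x = e},
      ∃ p : Σ U, Tgt U, dec p = x.1 := by
    rintro ⟨x, hxc, hxe⟩
    obtain ⟨U, hxU⟩ := hcov x
    letI := (resStr f x).hom.toAlgebra
    haveI hfin : Module.Finite k₀ (X.residueField x) := finite_of_isClosed f x hxc
    haveI : Algebra.IsAlgebraic k₀ (X.residueField x) := Algebra.IsAlgebraic.of_finite _ _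
    let ι : X.residueField x →ₐ[k₀] k := IsAlgClosed.lift
    have hpow : ∀ b : X.residueField x, b ^ (Nat.card k₀ ^ e) = b :=
      (pow_iff f x e he).mpr ⟨hxc, by rw [hxe]⟩
    have hpt : Spec.map (CommRingCat.ofHom
        ((RingHomClass.toRingHom ι).comp (X.evaluation U.1.1 x hxU).hom)) ≫ U.1.2.fromSpec =
        ptOf f x ι := by
      unfold ptOf
      rw [← SpecMap_evaluation_fromSpec U.1.2 x hxU, ← Category.assoc, ← Spec.map_comp]
      rfl
    refine ⟨⟨U, ⟨(RingHomClass.toRingHom ι).comp (X.evaluation U.1.1 x hxU).hom, ?_, ?_⟩⟩, ?_⟩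
    · have h1 : (Spec.map (CommRingCat.ofHom
          ((RingHomClass.toRingHom ι).comp (X.evaluation U.1.1 x hxU).hom)) ≫
          U.1.2.fromSpec) ≫ f = Spec.map (CommRingCat.ofHom (algebraMap k₀ k)) := by
        rw [hpt, ptOf_comp]
      rw [Category.assoc, fromSpec_comp, ← Spec.map_comp] at h1
      have h2 := Spec.map_injective h1
      exact congrArg CommRingCat.Hom.hom h2
    · intro a
      rw [RingHom.comp_apply, ← map_pow, hpow]
    · change (Spec.map (CommRingCat.ofHom
        ((RingHomClass.toRingHom ι).comp (X.evaluation U.1.1 x hxU).hom)) ≫ U.1.2.fromSpec)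
        (IsLocalRing.closedPoint k) = x
      rw [hpt, ptOf_apply]
  choose enc henc' using henc
  refine Finite.of_injective enc ?_
  intro x y hxy
  apply Subtype.ext
  rw [← henc' x, ← henc' y, hxy]

end Fin

end Groth.Agent.H96.FrobCount
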