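import Mathlib
import Groth.Prelude.Def_WeilCoh
import Groth.Prelude.Def_W4c1zetahwZeta
import Groth.Agent.H96.FrobCount4

/-!
# The number of fixed points of the powers of the Frobenius endomorphism

* `card_fixed`: the number of closed points of `Xb = X ×_{k₀} k` fixed by `F ^ m` is
  `N_m = ∑_{e ∣ m} e · #{closed points of X of degree e}`; `finite_fixed`: this set is finite.
-/

set_option autoImplicit false
set_option linter.style.haveILetI false
set_option linter.unusedSectionVars false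
set_option linter.unusedVariables false

universe u v w

open CategoryTheory AlgebraicGeometry WeilCoh

namespace Groth.Agent.H96.FrobCount

open Groth.Agent.H96.WeilGraph

variable {k₀ : Type u} [Field k₀] [Finite k₀] {k : Type u} [Field k] [IsAlgClosed k]
  [Algebra k₀ k]
  {X : Scheme.{u}} (f : X ⟶ Spec (CommRingCat.of k₀)) [LocallyOfFiniteType f] [QuasiCompact f]
  (FX : X ⟶ X) (hFb : FX.base = 𝟙 _) (hle : ∀ U : X.Opens, U ≤ FX ⁻¹ᵁ U)
  (hFapp : ∀ (U : X.Opens) (s : Γ(X, U)), (FX.appLE U U (hle U)).hom s = s ^ Nat.card k₀)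
  (Xb : Var k) (π : Xb.obj.left ⟶ X)
  (hπ : IsPullback π Xb.obj.hom f (Spec.map (CommRingCat.ofHom (algebraMap k₀ k))))
  (F : Xb ⟶ Xb) (hF : sm F ≫ π = π ≫ FX)

include hFb hle hFapp hπ hF in
/-- A closed point is fixed by `F ^ m` iff its image in `X` is closed of degree dividing `m`. -/
theorem fixed_iff_degree (m : ℕ) (hm : 1 ≤ m) (w : Xb.obj.left)
    (hw : IsClosed ({w} : Set Xb.obj.left)) :
    sm (iter F m) w = w ↔
      IsClosed ({π w} : Set X) ∧ EGA4loc.residueDegree f (π w) ∣ m := by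
  rw [fixed_iff f FX hFb hle hFapp Xb π hπ F hF m w hw, pow_iff f (π w) m hm]

/-- The fibres of the closed points of `Xb` over the closed points of `X`. -/
abbrev Fib (x : X) : Type u := {w : Xb.obj.left // IsClosed ({w} : Set Xb.obj.left) ∧ π w = x}

/-- The closed points of given degree. -/
abbrev Deg (e : ℕ) : Type u := {x : X // IsClosed ({x} : Set X) ∧ EGA4loc.residueDegree f x = e}

include hFb hle hFapp hπ hF in
/-- The fixed points, fibred over the degrees and the closed points of `X`. -/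
noncomputable def fixedEquiv (m : ℕ) (hm : 1 ≤ m) :
    {w : Xb.obj.left // IsClosed ({w} : Set Xb.obj.left) ∧ sm (iter F m) w = w} ≃
      Σ e : {e // e ∈ m.divisors}, Σ x : Deg f e.1, Fib Xb π x.1 where
  toFun w :=
    have h := (fixed_iff_degree f FX hFb hle hFapp Xb π hπ F hF m hm w.1 w.2.1).mp w.2.2
    ⟨⟨EGA4loc.residueDegree f (π w.1), Nat.mem_divisors.mpr ⟨h.2, by omega⟩⟩,
      ⟨⟨π w.1, h.1, rfl⟩, ⟨w.1, w.2.1, rfl⟩⟩⟩
  invFun p :=
    ⟨p.2.2.1, p.2.2.2.1, (fixed_iff_degree f FX hFb hle hFapp Xb π hπ F hF m hm p.2.2.1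
      p.2.2.2.1).mpr (by
        rw [p.2.2.2.2]
        exact ⟨p.2.1.2.1, by rw [p.2.1.2.2]; exact (Nat.mem_divisors.mp p.1.2).1⟩)⟩
  left_inv w := rfl
  right_inv := by
    rintro ⟨⟨e, he⟩, ⟨x, hxc, hxe⟩, ⟨w, hwc, hwx⟩⟩
    change π w = x at hwx
    subst hwx
    change EGA4loc.residueDegree f (π w) = e at hxe
    subst hxe
    rfl

include hFb hle hFapp hπ hF in
theorem card_fixed (m : ℕ) (hm : 1 ≤ m) :
    Finite {w : Xb.obj.left // IsClosed ({w} : Set Xb.obj.left) ∧ sm (iter F m) w = w} ∧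
    Nat.card {w : Xb.obj.left // IsClosed ({w} : Set Xb.obj.left) ∧ sm (iter F m) w = w} =
      Zeta.nPts f m := by
  classical
  have hfib : ∀ (e : {e // e ∈ m.divisors}) (x : Deg f e.1),
      Nat.card (Fib Xb π x.1) = e.1 := by
    intro e x
    rw [card_fibre f Xb π hπ x.1 x.2.1, x.2.2]
  have hpos : ∀ e : {e // e ∈ m.divisors}, 1 ≤ e.1 := fun e =>
    Nat.pos_of_mem_divisors e.2
  have hfibfin : ∀ (e : {e // e ∈ m.divisors}) (x : Deg f e.1), Finite (Fib Xb π x.1) := by
    intro e x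
    apply Nat.finite_of_card_ne_zero
    rw [hfib e x]
    have := hpos e
    omega
  have hdegfin : ∀ e : {e // e ∈ m.divisors}, Finite (Deg f e.1) := fun e =>
    finite_degree_eq k f e.1 (hpos e)
  have hsigfin : ∀ e : {e // e ∈ m.divisors}, Finite (Σ x : Deg f e.1, Fib Xb π x.1) := fun e =>
    inferInstance
  have hE := fixedEquiv f FX hFb hle hFapp Xb π hπ F hF m hm
  refine ⟨Finite.of_equiv _ hE.symm, ?_⟩
  rw [Nat.card_congr hE, Nat.card_sigma]
  unfold Zeta.nPts Zeta.degCount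
  rw [← Finset.sum_coe_sort m.divisors (fun e => e * Nat.card (Deg f e))]
  refine Finset.sum_congr rfl fun e _ => ?_
  have := Fintype.ofFinite (Deg f e.1)
  rw [Nat.card_sigma, Finset.sum_congr rfl (fun x _ => hfib e x), Finset.sum_const,
    Finset.card_univ, smul_eq_mul, mul_comm, Nat.card_eq_fintype_card]

end Groth.Agent.H96.FrobCount
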