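import Mathlib

/-!
# The subring `k + 𝔪²` of the local ring at a rational point

For `g : Y ⟶ B` and `w : Y`: `sq g w` is the subring of `O_{Y,w}` of elements congruent modulo
`𝔪_w ^ 2` to an element coming from `O_{B, g w}`.
-/

set_option autoImplicit false
set_option linter.style.haveILetI false
set_option linter.unusedSectionVars false
set_option linter.unusedVariables false

universe u

open CategoryTheory AlgebraicGeometry IsLocalRing

namespace Groth.Agent.H96.RatPtRing

variable {Y B : Scheme.{u}} (g : Y ⟶ B) (w : Y)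

/-- Elements of `O_{Y,w}` congruent modulo `𝔪_w ^ 2` to an element of `O_{B, g w}`. -/
def sq : Subring (Y.presheaf.stalk w) where
  carrier := {y | ∃ c : B.presheaf.stalk (g w),
    y - (g.stalkMap w).hom c ∈ (maximalIdeal (Y.presheaf.stalk w)) ^ 2}
  mul_mem' := by
    rintro a b ⟨c, hc⟩ ⟨c', hc'⟩
    refine ⟨c * c', ?_⟩
    have : a * b - (g.stalkMap w).hom (c * c') =
        (a - (g.stalkMap w).hom c) * b + (g.stalkMap w).hom c * (b - (g.stalkMap w).hom c') := by
      rw [map_mul]; ring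
    rw [this]
    exact Ideal.add_mem _ (Ideal.mul_mem_right _ _ hc) (Ideal.mul_mem_left _ _ hc')
  one_mem' := ⟨1, by rw [map_one, sub_self]; exact Ideal.zero_mem _⟩
  add_mem' := by
    rintro a b ⟨c, hc⟩ ⟨c', hc'⟩
    refine ⟨c + c', ?_⟩
    have : a + b - (g.stalkMap w).hom (c + c') =
        (a - (g.stalkMap w).hom c) + (b - (g.stalkMap w).hom c') := by
      rw [map_add]; ring
    rw [this]
    exact Ideal.add_mem _ hc hc'
  zero_mem' := ⟨0, by rw [map_zero, sub_self]; exact Ideal.zero_mem _⟩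
  neg_mem' := by
    rintro a ⟨c, hc⟩
    refine ⟨-c, ?_⟩
    have : -a - (g.stalkMap w).hom (-c) = -(a - (g.stalkMap w).hom c) := by
      rw [map_neg]; ring
    rw [this]
    exact Ideal.neg_mem_iff _ |>.mpr hc

theorem mem_sq_iff (y : Y.presheaf.stalk w) :
    y ∈ sq g w ↔ ∃ c : B.presheaf.stalk (g w),
      y - (g.stalkMap w).hom c ∈ (maximalIdeal (Y.presheaf.stalk w)) ^ 2 := Iff.rfl

theorem stalkMap_mem_sq (c : B.presheaf.stalk (g w)) : (g.stalkMap w).hom c ∈ sq g w :=
  ⟨c, by rw [sub_self]; exact Ideal.zero_mem _⟩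

/-- If the residue field extension is trivial, every element is congruent modulo `𝔪_w` to an
element coming from the base. -/
theorem exists_sub_mem_maximalIdeal
    (hsurj : Function.Surjective (g.residueFieldMap w).hom) (y : Y.presheaf.stalk w) :
    ∃ c : B.presheaf.stalk (g w),
      y - (g.stalkMap w).hom c ∈ maximalIdeal (Y.presheaf.stalk w) := by
  obtain ⟨cbar, hcbar⟩ := hsurj ((Y.residue w).hom y)
  obtain ⟨c, rfl⟩ := B.residue_surjective (g w) cbar
  refine ⟨c, ?_⟩
  have h1 := congrArg (fun φ : B.presheaf.stalk (g w) ⟶ Y.residueField w => φ.hom c)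
    (Scheme.residue_residueFieldMap g w)
  simp only [CommRingCat.hom_comp, RingHom.comp_apply] at h1
  have h2 : (Y.residue w).hom (y - (g.stalkMap w).hom c) = 0 := by
    rw [map_sub, ← h1]
    exact sub_eq_zero.mpr hcbar.symm
  exact (IsLocalRing.residue_eq_zero_iff _).mp h2

/-- `Q`-th powers lie in `sq`, in characteristic `p` with `Q = p ^ j ≥ 2`. -/
theorem pow_mem_sq (hsurj : Function.Surjective (g.residueFieldMap w).hom)
    (p j : ℕ) [ExpChar (Y.presheaf.stalk w) p] (hj : 2 ≤ p ^ j) (y : Y.presheaf.stalk w) :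
    y ^ p ^ j ∈ sq g w := by
  obtain ⟨c, hc⟩ := exists_sub_mem_maximalIdeal g w hsurj y
  refine ⟨c ^ p ^ j, ?_⟩
  have h1 : y ^ p ^ j = (g.stalkMap w).hom (c ^ p ^ j) + (y - (g.stalkMap w).hom c) ^ p ^ j := by
    rw [map_pow, ← add_pow_expChar_pow, add_sub_cancel]
  rw [h1, add_sub_cancel_left]
  have h2 : p ^ j = 2 + (p ^ j - 2) := by omega
  rw [h2, pow_add]
  exact Ideal.mul_mem_right _ _ (Ideal.pow_mem_pow hc 2)

/-- `sq` is closed under inverses of units, when the local ring of the base is a field. -/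
theorem inv_mem_sq (hfield : IsField (B.presheaf.stalk (g w))) (y u : Y.presheaf.stalk w)
    (hy : y ∈ sq g w) (hyu : y * u = 1) : u ∈ sq g w := by
  obtain ⟨c, hc⟩ := hy
  have hle : (maximalIdeal (Y.presheaf.stalk w)) ^ 2 ≤ maximalIdeal (Y.presheaf.stalk w) :=
    Ideal.pow_le_self two_ne_zero
  have hc0 : c ≠ 0 := by
    rintro rfl
    rw [map_zero, sub_zero] at hc
    have : y ∈ maximalIdeal (Y.presheaf.stalk w) := hle hc
    exact this (IsUnit.of_mul_eq_one u hyu)
  obtain ⟨c', hcc'⟩ := hfield.mul_inv_cancel hc0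
  refine ⟨c', ?_⟩
  have h1 : u - (g.stalkMap w).hom c' =
      -(u * (g.stalkMap w).hom c' * (y - (g.stalkMap w).hom c)) := by
    have h2 : (g.stalkMap w).hom c' * (g.stalkMap w).hom c = 1 := by
      rw [← map_mul, mul_comm, hcc', map_one]
    have h3 : u * (g.stalkMap w).hom c' * (y - (g.stalkMap w).hom c) =
        (y * u) * (g.stalkMap w).hom c' - u * ((g.stalkMap w).hom c' * (g.stalkMap w).hom c) := by
      ring
    rw [h3, hyu, h2]
    ring
  rw [h1]
  exact Ideal.neg_mem_iff _ |>.mpr (Ideal.mul_mem_left _ _ hc)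

/-- A non-unit of `sq` lies in `𝔪_w ^ 2`, when the local ring of the base is a field. -/
theorem mem_sq_of_mem_maximalIdeal (hfield : IsField (B.presheaf.stalk (g w)))
    (y : Y.presheaf.stalk w) (hy : y ∈ sq g w) (hym : y ∈ maximalIdeal (Y.presheaf.stalk w)) :
    y ∈ (maximalIdeal (Y.presheaf.stalk w)) ^ 2 := by
  obtain ⟨c, hc⟩ := hy
  have hle : (maximalIdeal (Y.presheaf.stalk w)) ^ 2 ≤ maximalIdeal (Y.presheaf.stalk w) :=
    Ideal.pow_le_self two_ne_zero
  by_cases hc0 : c = 0
  · subst hc0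
    rwa [map_zero, sub_zero] at hc
  · exfalso
    obtain ⟨c', hcc'⟩ := hfield.mul_inv_cancel hc0
    have h1 : (g.stalkMap w).hom c ∈ maximalIdeal (Y.presheaf.stalk w) := by
      have : (g.stalkMap w).hom c = y - (y - (g.stalkMap w).hom c) := by ring
      rw [this]
      exact Ideal.sub_mem _ hym (hle hc)
    have h2 : IsUnit ((g.stalkMap w).hom c) :=
      (IsUnit.of_mul_eq_one c' hcc').map (g.stalkMap w).hom
    exact h1 h2

end Groth.Agent.H96.RatPtRing
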