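import Mathlib
import Groth.Prelude.Def_WeilCoh
import Groth.Agent.H96.FrobCount5
import Groth.Agent.H96.StalkGen
import Groth.Agent.H96.RatPtRing
import Groth.Agent.H96.WeilClosedPt

/-!
# The differential of the Frobenius endomorphism vanishes

* `stalkMap_iter_mem_sq`: at a closed point `w`, the map induced by `F ^ m` on local rings sends
  the maximal ideal of `O_{F^m w}` into the square of the maximal ideal of `O_w`.
-/

set_option autoImplicit false
set_option linter.style.haveILetI false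
set_option linter.unusedSectionVars false
set_option linter.unusedVariables false

universe u v w

open CategoryTheory AlgebraicGeometry WeilCoh IsLocalRing

namespace Groth.Agent.H96.FrobTrans

open Groth.Agent.H96.WeilPt Groth.Agent.H96.WeilDim Groth.Agent.H96.WeilGraph
  Groth.Agent.H96.FrobPts Groth.Agent.H96.KPoints Groth.Agent.H96.FrobCount
  Groth.Agent.H96.RatPtRing

section Chase

theorem exists_tri_stalk {P Q R : Scheme.{u}} (a : P ⟶ Q) (b : Q ⟶ R) (c : P ⟶ R)
    (h : a ≫ b = c) (x : P) (r : R.presheaf.stalk (c x)) :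
    ∃ r' : R.presheaf.stalk (b (a x)),
      (a.stalkMap x).hom ((b.stalkMap (a x)).hom r') = (c.stalkMap x).hom r := by
  subst h
  refine ⟨r, ?_⟩
  rw [Scheme.Hom.stalkMap_comp]
  rfl

theorem exists_tri_stalk' {P Q R : Scheme.{u}} (a : P ⟶ Q) (b : Q ⟶ R) (c : P ⟶ R)
    (h : a ≫ b = c) (x : P) (r' : R.presheaf.stalk (b (a x))) :
    ∃ r : R.presheaf.stalk (c x),
      (a.stalkMap x).hom ((b.stalkMap (a x)).hom r') = (c.stalkMap x).hom r := by
  subst h
  refine ⟨r', ?_⟩
  rw [Scheme.Hom.stalkMap_comp]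
  rfl

theorem exists_sq_stalk {P Q Q' R : Scheme.{u}} (a : P ⟶ Q) (b : Q ⟶ R) (c : P ⟶ Q')
    (d : Q' ⟶ R) (h : a ≫ b = c ≫ d) (x : P) (r : R.presheaf.stalk (b (a x))) :
    ∃ r' : R.presheaf.stalk (d (c x)),
      (a.stalkMap x).hom ((b.stalkMap (a x)).hom r) =
        (c.stalkMap x).hom ((d.stalkMap (c x)).hom r') := by
  obtain ⟨r1, h1⟩ := exists_tri_stalk' a b (c ≫ d) h x r
  obtain ⟨r2, h2⟩ := exists_tri_stalk c d (c ≫ d) rfl x r1
  exact ⟨r2, h1.trans h2.symm⟩

/-- The stalk maps of a Frobenius-like endomorphism are `Q`-th powers. -/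
theorem IsFrob.exists_stalkMap_eq_pow {X : Scheme.{u}} {Φ : X ⟶ X} {Q : ℕ} (h : IsFrob Φ Q)
    (x : X) (r : X.presheaf.stalk (Φ x)) :
    ∃ r' : X.presheaf.stalk x, (Φ.stalkMap x).hom r = r' ^ Q := by
  obtain ⟨W, hW, s, rfl⟩ := X.presheaf.exists_germ_eq r
  have hW' : x ∈ W := by rw [← h.apply x]; exact hW
  refine ⟨(X.presheaf.germ W x hW').hom s, ?_⟩
  erw [Scheme.Hom.germ_stalkMap_apply]
  rw [← map_pow, ← h.app W (h.le W) s]
  simp only [Scheme.Hom.appLE, CommRingCat.hom_comp, RingHom.comp_apply]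
  exact (X.presheaf.germ_res_apply (homOfLE (h.le W)) x hW' (Φ.app W s)).symm

end Chase

section Main

variable {k₀ : Type u} [Field k₀] [Finite k₀] {k : Type u} [Field k] [IsAlgClosed k]
  [Algebra k₀ k]
  {X : Scheme.{u}} (f : X ⟶ Spec (CommRingCat.of k₀))
  (FX : X ⟶ X) (hFb : FX.base = 𝟙 _) (hle : ∀ U : X.Opens, U ≤ FX ⁻¹ᵁ U)
  (hFapp : ∀ (U : X.Opens) (s : Γ(X, U)), (FX.appLE U U (hle U)).hom s = s ^ Nat.card k₀)
  (Xb : Var k) (π : Xb.obj.left ⟶ X)
  (hπ : IsPullback π Xb.obj.hom f (Spec.map (CommRingCat.ofHom (algebraMap k₀ k))))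
  (F : Xb ⟶ Xb) (hF : sm F ≫ π = π ≫ FX)

/-- The local rings of `Spec k` are fields. -/
theorem isField_stalk_Spec (y : (Spec (CommRingCat.of k) : Scheme.{u})) :
    IsField ((Spec (CommRingCat.of k) : Scheme.{u}).presheaf.stalk y) :=
  Groth.Agent.H96.WeilUnit.isField_stalk_pt (k := k) y

/-- The residue field of a closed point is the base field. -/
theorem surjective_residueFieldMap_hom (w : Xb.obj.left)
    (hw : IsClosed ({w} : Set Xb.obj.left)) :
    Function.Surjective (Xb.obj.hom.residueFieldMap w).hom := by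
  have h1 := Groth.Agent.H96.WeilClosedPt.residueDegree_hom_of_isClosed Xb w hw
  unfold Scheme.Hom.residueDegree at h1
  letI := (Xb.obj.hom.residueFieldMap w).hom.toAlgebra
  have h2 := Subalgebra.bot_eq_top_of_finrank_eq_one h1
  exact Algebra.surjective_algebraMap_iff.mpr h2.symm

include hFb hle hFapp hπ hF in
/-- `(F ^ m)^♯` maps everything into `k + 𝔪_w ^ 2`. -/
theorem stalkMap_iter_mem_sq (m : ℕ) (hm : 1 ≤ m) (w : Xb.obj.left)
    (hw : IsClosed ({w} : Set Xb.obj.left)) (r : Xb.obj.left.presheaf.stalk (sm (iter F m) w)) :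
    ((sm (iter F m)).stalkMap w).hom r ∈ sq Xb.obj.hom w := by
  -- characteristic
  have := Fintype.ofFinite k₀
  obtain ⟨p, hp⟩ := CharP.exists k₀
  have hprime : Fact p.Prime := ⟨CharP.char_is_prime k₀ p⟩
  obtain ⟨e, -, he⟩ := FiniteField.card k₀ p
  have hq : Nat.card k₀ = p ^ (e : ℕ) := by rw [Nat.card_eq_fintype_card, he]
  have hQ : Nat.card k₀ ^ m = p ^ ((e : ℕ) * m) := by rw [hq, pow_mul]
  have hQ2 : 2 ≤ p ^ ((e : ℕ) * m) := by
    have h1 : 2 ≤ p := hprime.out.two_le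
    have h2 : 1 ≤ (e : ℕ) * m := Nat.one_le_iff_ne_zero.mpr (Nat.mul_ne_zero e.pos.ne' (by omega))
    calc 2 ≤ p := h1
      _ = p ^ 1 := (pow_one p).symm
      _ ≤ p ^ ((e : ℕ) * m) := Nat.pow_le_pow_right (by omega) h2
  haveI : ExpChar k₀ p := ExpChar.prime hprime.out
  let ρ : k₀ →+* Xb.obj.left.presheaf.stalk w :=
    (Xb.obj.left.presheaf.germ ⊤ w trivial).hom.comp
      (((π ≫ f).appTop).hom.comp (Scheme.ΓSpecIso (CommRingCat.of k₀)).inv.hom)
  haveI : ExpChar (Xb.obj.left.presheaf.stalk w) p := expChar_of_injective_ringHom ρ.injective p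
  -- the data
  have hsurj := surjective_residueFieldMap_hom Xb w hw
  have hfield := isField_stalk_Spec (k := k) (Xb.obj.hom w)
  have hfrob := (isFrob_FX FX hFb hle hFapp).iterS m
  have hcp := iter_comp_pi FX Xb π F hF m
  have hch := iter_comp_hom Xb F m
  -- the subring
  let S : Subring (Xb.obj.left.presheaf.stalk (sm (iter F m) w)) :=
    (sq Xb.obj.hom w).comap ((sm (iter F m)).stalkMap w).hom
  have hS : S = ⊤ := by
    refine Groth.Agent.H96.StalkGen.subring_eq_top hπ (sm (iter F m) w) S ?_ ?_ ?_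
    · intro a
      change ((sm (iter F m)).stalkMap w).hom ((π.stalkMap (sm (iter F m) w)).hom a) ∈
        sq Xb.obj.hom w
      obtain ⟨a', ha'⟩ := exists_sq_stalk (sm (iter F m)) π π (iterS FX m) hcp w a
      obtain ⟨a'', ha''⟩ := IsFrob.exists_stalkMap_eq_pow hfrob (π w) a'
      rw [ha', ha'', map_pow, hQ]
      exact pow_mem_sq Xb.obj.hom w hsurj p _ hQ2 _
    · intro c
      change ((sm (iter F m)).stalkMap w).hom ((Xb.obj.hom.stalkMap (sm (iter F m) w)).hom c) ∈
        sq Xb.obj.hom w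
      obtain ⟨c', hc'⟩ := exists_tri_stalk' (sm (iter F m)) Xb.obj.hom Xb.obj.hom hch w c
      rw [hc']
      exact stalkMap_mem_sq Xb.obj.hom w c'
    · intro s hs hsu
      obtain ⟨u, rfl⟩ := hsu
      refine ⟨((u⁻¹ : (Xb.obj.left.presheaf.stalk (sm (iter F m) w))ˣ) : _), ?_, u.mul_inv⟩
      change ((sm (iter F m)).stalkMap w).hom _ ∈ sq Xb.obj.hom w
      refine inv_mem_sq Xb.obj.hom w hfield _ _ hs ?_
      rw [← map_mul, u.mul_inv, map_one]
  have : r ∈ S := by rw [hS]; exact Subring.mem_top r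
  exact this

include hFb hle hFapp hπ hF in
/-- The differential of `F ^ m` vanishes: `(F ^ m)^♯ 𝔪 ⊆ 𝔪_w ^ 2`. -/
theorem stalkMap_iter_mem_sq_maximalIdeal (m : ℕ) (hm : 1 ≤ m) (w : Xb.obj.left)
    (hw : IsClosed ({w} : Set Xb.obj.left)) (r : Xb.obj.left.presheaf.stalk (sm (iter F m) w))
    (hr : r ∈ maximalIdeal (Xb.obj.left.presheaf.stalk (sm (iter F m) w))) :
    ((sm (iter F m)).stalkMap w).hom r ∈
      (maximalIdeal (Xb.obj.left.presheaf.stalk w)) ^ 2 := by
  have h1 := stalkMap_iter_mem_sq f FX hFb hle hFapp Xb π hπ F hF m hm w hw r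
  refine mem_sq_of_mem_maximalIdeal Xb.obj.hom w (isField_stalk_Spec (k := k) _) _ h1 ?_
  have hloc : IsLocalHom ((sm (iter F m)).stalkMap w).hom := inferInstance
  intro hu
  exact hr (hloc.map_nonunit r hu)

end Main

end Groth.Agent.H96.FrobTrans
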