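import Mathlib
import Groth.Prelude.Def_WeilCoh
import Groth.Agent.H96.FrobTrans

/-!
# Transversality of a graph and the diagonal at a fixed point with vanishing differential

`P = X × X` with projections `p`, `q`, `j` the graph of `G` (`j ≫ p = 𝟙`, `j ≫ q = G`), `d` the
diagonal, `δ` the generic point of the diagonal, `w` a point with `j w = d w`.

* `sub_mem_map`: `g - G^♯ g` lies in the image in `O_w` of the prime ideal of the diagonal;
* `preimMult_eq_one`: if `G^♯ 𝔪 ⊆ 𝔪_w ^ 2` then the multiplicity of `j⁻¹ Δ` at `w` is one.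
-/

set_option autoImplicit false
set_option linter.style.haveILetI false
set_option linter.unusedSectionVars false
set_option linter.unusedVariables false

universe u v w

open CategoryTheory AlgebraicGeometry WeilCoh IsLocalRing

namespace Groth.Agent.H96.FrobMult

open Groth.Agent.H96.WeilPt Groth.Agent.H96.WeilDim Groth.Agent.H96.WeilGraph

section Germ

theorem germ_app_comp {A B C : Scheme.{u}} (a : A ⟶ B) (b : B ⟶ C) (c : A ⟶ C)
    (h : a ≫ b = c) (x : A) (U : C.Opens) (hx : c x ∈ U) (s : Γ(C, U)) :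
    (A.presheaf.germ (a ⁻¹ᵁ (b ⁻¹ᵁ U)) x (by subst h; exact hx)).hom
        ((a.app (b ⁻¹ᵁ U)).hom ((b.app U).hom s)) =
      (A.presheaf.germ (c ⁻¹ᵁ U) x hx).hom ((c.app U).hom s) := by
  subst h
  rfl

theorem germ_app_comp_id {A B : Scheme.{u}} (a : A ⟶ B) (b : B ⟶ A)
    (h : a ≫ b = 𝟙 A) (x : A) (U : A.Opens) (hx : x ∈ U) (s : Γ(A, U)) :
    (A.presheaf.germ (a ⁻¹ᵁ (b ⁻¹ᵁ U)) x (by
        change (a ≫ b) x ∈ U
        rw [h]; exact hx)).hom
        ((a.app (b ⁻¹ᵁ U)).hom ((b.app U).hom s)) =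
      (A.presheaf.germ U x hx).hom s := by
  rw [germ_app_comp a b (𝟙 A) h x U hx s]
  rfl

/-- The specialization map on a germ is the evaluation. -/
theorem specMap_germ {A : Scheme.{u}} (z ξ : A) (h : ξ ⤳ z) (V : A.Opens) (hz : z ∈ V)
    (t : Γ(A, V)) :
    Cyc.specMap z ξ h ((A.presheaf.germ V z hz).hom t) =
      (A.evaluation V ξ (h.mem_open V.isOpen hz)).hom t := by
  unfold Cyc.specMap Scheme.evaluation
  simp only [CommRingCat.hom_comp, RingHom.comp_apply]
  congr 1
  exact congrArg (fun φ : Γ(A, V) ⟶ A.presheaf.stalk ξ => φ.hom t)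
    (A.presheaf.germ_stalkSpecializes hz h)

end Germ

section Nakayama

theorem eq_maximalIdeal_of_le {S : Type*} [CommRing S] [IsLocalRing S] [IsNoetherianRing S]
    (I : Ideal S) (h1 : I ≤ maximalIdeal S)
    (h2 : ∀ g ∈ maximalIdeal S, ∃ h ∈ I, g - h ∈ maximalIdeal S ^ 2) : I = maximalIdeal S := by
  apply le_antisymm h1
  apply Submodule.le_of_le_smul_of_le_jacobson_bot (I := maximalIdeal S)
    (IsNoetherian.noetherian _) (maximalIdeal_le_jacobson _)
  intro g hg
  obtain ⟨h, hh, hgh⟩ := h2 g hg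
  rw [smul_eq_mul, ← pow_two]
  have : g = h + (g - h) := by ring
  rw [this]
  exact Submodule.add_mem_sup hh hgh

theorem length_quot_maximalIdeal (S : Type u) [CommRing S] [IsLocalRing S] (I : Ideal S)
    (hI : I = maximalIdeal S) : Module.length S (S ⧸ I) = 1 := by
  subst hI
  rw [Module.length_eq_one_iff]
  exact isSimpleModule_iff_quot_maximal.mpr ⟨maximalIdeal S, inferInstance, ⟨LinearEquiv.refl _ _⟩⟩

end Nakayama

section Mult

variable {k : Type u} [Field k] {Xb Pb : Var k} (p q : Pb ⟶ Xb) (G : Xb ⟶ Xb) (j d : Xb ⟶ Pb)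
  (hjp : j ≫ p = 𝟙 Xb) (hjq : j ≫ q = G) (hdp : d ≫ p = 𝟙 Xb) (hdq : d ≫ q = 𝟙 Xb)

include hjp hjq hdp hdq in
/-- `g - G^♯ g` lies in the image of the ideal of the diagonal. -/
theorem sub_mem_map (w : Xb.obj.left) (hjd : sm j w = sm d w)
    (hspec : sm d (gen Xb) ⤳ sm j w) (U : Xb.obj.left.Opens) (hw : w ∈ U)
    (hGw : sm G w ∈ U) (s : Γ(Xb.obj.left, U)) :
    (Xb.obj.left.presheaf.germ U w hw).hom s -
        ((sm G).stalkMap w).hom ((Xb.obj.left.presheaf.germ U (sm G w) hGw).hom s) ∈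
      Ideal.map ((sm j).stalkMap w).hom
        (RingHom.ker (Cyc.specMap (sm j w) (sm d (gen Xb)) hspec)) := by
  have hjp' : sm j ≫ sm p = 𝟙 Xb.obj.left := by rw [← sm_comp, hjp]; rfl
  have hjq' : sm j ≫ sm q = sm G := by rw [← sm_comp, hjq]
  have hdp' : sm d ≫ sm p = 𝟙 Xb.obj.left := by rw [← sm_comp, hdp]; rfl
  have hdq' : sm d ≫ sm q = 𝟙 Xb.obj.left := by rw [← sm_comp, hdq]; rfl
  have hpz : sm j w ∈ (sm p) ⁻¹ᵁ U := by
    change (sm j ≫ sm p) w ∈ U
    rw [hjp']; exact hw
  have hqz : sm j w ∈ (sm q) ⁻¹ᵁ U := by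
    change (sm j ≫ sm q) w ∈ U
    rw [hjq']; exact hGw
  -- the element of the ideal of the diagonal
  set u : Pb.obj.left.presheaf.stalk (sm j w) :=
    (Pb.obj.left.presheaf.germ ((sm p) ⁻¹ᵁ U) (sm j w) hpz).hom ((sm p).app U s) -
      (Pb.obj.left.presheaf.germ ((sm q) ⁻¹ᵁ U) (sm j w) hqz).hom ((sm q).app U s) with hu
  have hgenU : gen Xb ∈ U := (gen_specializes Xb w).mem_open U.isOpen hw
  have hu_mem : u ∈ RingHom.ker (Cyc.specMap (sm j w) (sm d (gen Xb)) hspec) := by
    rw [RingHom.mem_ker, hu, map_sub, specMap_germ, specMap_germ, sub_eq_zero]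
    apply ((sm d).residueFieldMap (gen Xb)).hom.injective
    rw [Scheme.evaluation_naturality_apply, Scheme.evaluation_naturality_apply]
    unfold Scheme.evaluation
    simp only [CommRingCat.hom_comp, RingHom.comp_apply]
    congr 1
    rw [germ_app_comp_id (sm d) (sm p) hdp' (gen Xb) U hgenU s,
      germ_app_comp_id (sm d) (sm q) hdq' (gen Xb) U hgenU s]
  have himg : ((sm j).stalkMap w).hom u =
      (Xb.obj.left.presheaf.germ U w hw).hom s -
        ((sm G).stalkMap w).hom ((Xb.obj.left.presheaf.germ U (sm G w) hGw).hom s) := by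
    rw [hu, map_sub]
    erw [Scheme.Hom.germ_stalkMap_apply, Scheme.Hom.germ_stalkMap_apply,
      Scheme.Hom.germ_stalkMap_apply]
    rw [germ_app_comp_id (sm j) (sm p) hjp' w U hw s,
      germ_app_comp (sm j) (sm q) (sm G) hjq' w U hGw s]
  rw [← himg]
  exact Ideal.mem_map_of_mem _ hu_mem

include hjp hjq hdp hdq in
/-- Multiplicity one at a fixed point where the differential vanishes. -/
theorem preimMult_eq_one [IsLocallyNoetherian Xb.obj.left] (w : Xb.obj.left)
    (hjd : sm j w = sm d w)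
    (h : sm j w ∈ closure ({sm d (gen Xb)} : Set Pb.obj.left))
    (hsq : ∀ r ∈ maximalIdeal (Xb.obj.left.presheaf.stalk (sm G w)),
      ((sm G).stalkMap w).hom r ∈ (maximalIdeal (Xb.obj.left.presheaf.stalk w)) ^ 2) :
    preimMult (sm j) (sm d (gen Xb)) w h = 1 := by
  have hGw : sm G w = w := by
    have h1 : (sm j ≫ sm q) w = (sm d ≫ sm q) w := by
      rw [Scheme.Hom.comp_apply, Scheme.Hom.comp_apply, hjd]
    rw [← sm_comp, ← sm_comp, hjq, hdq] at h1
    exact h1
  unfold preimMult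
  have hspec := specializes_iff_mem_closure.mpr h
  set I := Ideal.map ((sm j).stalkMap w).hom
    (RingHom.ker (Cyc.specMap (sm j w) (sm d (gen Xb)) hspec)) with hI
  have hImax : I = maximalIdeal (Xb.obj.left.presheaf.stalk w) := by
    refine eq_maximalIdeal_of_le I ?_ ?_
    · rw [hI, Ideal.map_le_iff_le_comap]
      intro a ha
      rw [Ideal.mem_comap]
      have ha' : a ∈ maximalIdeal (Pb.obj.left.presheaf.stalk (sm j w)) :=
        IsLocalRing.le_maximalIdeal (RingHom.ker_ne_top _) ha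
      intro hunit
      have hloc : IsLocalHom ((sm j).stalkMap w).hom := inferInstance
      exact ha' (hloc.map_nonunit a hunit)
    · intro g hg
      obtain ⟨U, hwU, s, rfl⟩ := Xb.obj.left.presheaf.exists_germ_eq g
      have hGwU : sm G w ∈ U := by rw [hGw]; exact hwU
      refine ⟨_, sub_mem_map p q G j d hjp hjq hdp hdq w hjd hspec U hwU hGwU s, ?_⟩
      rw [sub_sub_cancel]
      apply hsq
      -- the germ at `G w` is a non-unit
      intro hunit
      apply hg
      have h1 : sm G w ∈ Xb.obj.left.basicOpen s :=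
        (Scheme.mem_basicOpen _ _ _ hGwU).mpr hunit
      rw [hGw] at h1
      exact (Scheme.mem_basicOpen _ _ _ hwU).mp h1
  rw [length_quot_maximalIdeal _ I hImax]
  rfl

end Mult

end Groth.Agent.H96.FrobMult
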