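import Mathlib
import Groth.Prelude.Def_WeilCoh
import Groth.Agent.H96.FrobMult
import Groth.Agent.H96.WeilLefschetz

/-!
# The fixed point formula for an endomorphism with finitely many, transversal fixed points

`P = X × X`, `j` the graph of `G`, `d` the diagonal. If `G` has finitely many closed fixed points
and its differential vanishes at each of them, then
`tr_P (cl Γ_G · cl Δ) = #{closed fixed points of G}`.
-/

set_option autoImplicit false
set_option linter.style.haveILetI false
set_option linter.unusedSectionVars false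
set_option linter.unusedVariables false

universe u v w

open CategoryTheory AlgebraicGeometry WeilCoh IsLocalRing

namespace Groth.Agent.H96.FrobFixed

open Groth.Agent.H96.WeilPt Groth.Agent.H96.WeilDim Groth.Agent.H96.WeilGraph
  Groth.Agent.H96.KPoints Groth.Agent.H96.WeilUnit

variable {k : Type u} [Field k] [IsAlgClosed k] {Xb Pb : Var k} (p q : Pb ⟶ Xb)
  (hP : IsProd p q) (G : Xb ⟶ Xb) (j d : Xb ⟶ Pb)
  (hjp : j ≫ p = 𝟙 Xb) (hjq : j ≫ q = G) (hdp : d ≫ p = 𝟙 Xb) (hdq : d ≫ q = 𝟙 Xb)

include hdp in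
/-- The closure of the generic point of the diagonal is the diagonal. -/
theorem closure_diag :
    closure ({sm d (gen Xb)} : Set Pb.obj.left) = Set.range (sm d) := by
  have hci : IsClosedImmersion (sm d) := isClosedImmersion_of_section p d hdp
  have h1 := (sm d).isClosedEmbedding.closure_image_eq ({gen Xb} : Set Xb.obj.left)
  rw [Set.image_singleton, closure_gen, Set.image_univ] at h1
  exact h1

include hjp hdp in
theorem mem_preimage_iff (w : Xb.obj.left) :
    sm j w ∈ closure ({sm d (gen Xb)} : Set Pb.obj.left) ↔ sm j w = sm d w := by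
  rw [closure_diag p d hdp]
  constructor
  · rintro ⟨w', hw'⟩
    have h1 : (sm d ≫ sm p) w' = (sm j ≫ sm p) w := by
      rw [Scheme.Hom.comp_apply, Scheme.Hom.comp_apply, hw']
    rw [← sm_comp, ← sm_comp, hdp, hjp] at h1
    have h2 : w' = w := h1
    rw [← hw', h2]
  · intro h
    exact ⟨w, h.symm⟩

include hjq hdq in
theorem fixed_of_eq (w : Xb.obj.left) (h : sm j w = sm d w) : sm G w = w := by
  have h1 : (sm j ≫ sm q) w = (sm d ≫ sm q) w := by
    rw [Scheme.Hom.comp_apply, Scheme.Hom.comp_apply, h]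
  rw [← sm_comp, ← sm_comp, hjq, hdq] at h1
  exact h1

include hP hjp hjq hdp hdq in
/-- At a closed fixed point the graph meets the diagonal. -/
theorem eq_of_fixed (w : Xb.obj.left) (hw : IsClosed ({w} : Set Xb.obj.left))
    (hfix : sm G w = w) : sm j w = sm d w := by
  have := isProper_hom Xb
  obtain ⟨s, hs, hsw⟩ := exists_section_of_isClosed Xb.obj.hom w hw
  have hG : sm G ≫ Xb.obj.hom = Xb.obj.hom := Over.w G.hom
  have h1 : s ≫ sm G = s := by
    refine section_ext Xb.obj.hom _ _ ?_ hs ?_
    · rw [Category.assoc, hG, hs]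
    · rw [Scheme.Hom.comp_apply, hsw, hfix]
  have h2 : s ≫ sm j = s ≫ sm d := by
    apply hP.hom_ext
    · rw [Category.assoc, Category.assoc, ← sm_comp, ← sm_comp, hjp, hdp]
    · rw [Category.assoc, Category.assoc, ← sm_comp, ← sm_comp, hjq, hdq, h1]
      exact (Category.comp_id s).symm
  have h3 := congrArg (fun t : Spec (CommRingCat.of k) ⟶ Pb.obj.left =>
    t (IsLocalRing.closedPoint k)) h2
  simp only [Scheme.Hom.comp_apply, hsw] at h3
  exact h3

include hjp hjq hdp hdq in
/-- Points where the graph meets the diagonal are closed, if there are finitely many closed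
fixed points. -/
theorem isClosed_of_eq
    (hfin : Finite {w : Xb.obj.left // IsClosed ({w} : Set Xb.obj.left) ∧ sm G w = w})
    (w : Xb.obj.left) (h : sm j w = sm d w) : IsClosed ({w} : Set Xb.obj.left) := by
  have := isProper_hom Xb
  haveI : JacobsonSpace ↥Xb.obj.left := LocallyOfFiniteType.jacobsonSpace Xb.obj.hom
  have hci : IsClosedImmersion (sm d) := isClosedImmersion_of_section p d hdp
  -- the coincidence set is closed
  have hEcl : IsClosed {x : Xb.obj.left | sm j x = sm d x} := by
    have h1 : {x : Xb.obj.left | sm j x = sm d x} = (sm j) ⁻¹' (Set.range (sm d)) := by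
      ext x
      rw [Set.mem_setOf_eq, Set.mem_preimage, ← closure_diag p d hdp,
        mem_preimage_iff p j d hjp hdp]
    rw [h1]
    exact (sm d).isClosedEmbedding.isClosed_range.preimage (sm j).continuous
  set Z := closure ({w} : Set Xb.obj.left) with hZ
  have hZE : Z ⊆ {x : Xb.obj.left | sm j x = sm d x} :=
    closure_minimal (Set.singleton_subset_iff.mpr h) hEcl
  -- finitely many closed points in `Z`
  have hZfin : (Z ∩ closedPoints Xb.obj.left).Finite := by
    have h1 : (Z ∩ closedPoints Xb.obj.left) ⊆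
        Subtype.val '' (Set.univ : Set {w : Xb.obj.left //
          IsClosed ({w} : Set Xb.obj.left) ∧ sm G w = w}) := by
      rintro x ⟨hxZ, hxc⟩
      exact ⟨⟨x, (mem_closedPoints_iff).mp hxc, fixed_of_eq q G j d hjq hdq x (hZE hxZ)⟩,
        Set.mem_univ _, rfl⟩
    exact (Set.finite_univ.image _).subset h1
  have hZcl : IsClosed (Z ∩ closedPoints Xb.obj.left) := by
    have h1 : Z ∩ closedPoints Xb.obj.left = ⋃ x ∈ (Z ∩ closedPoints Xb.obj.left), {x} := by
      ext x; simp
    rw [h1]
    exact hZfin.isClosed_biUnion fun x hx => (mem_closedPoints_iff).mp hx.2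
  have h2 := closure_inter_closedPoints (X := Xb.obj.left) (isClosed_closure : IsClosed Z)
  rw [hZcl.closure_eq] at h2
  have hw : w ∈ Z ∩ closedPoints Xb.obj.left := by
    rw [h2]; exact subset_closure rfl
  exact (mem_closedPoints_iff).mp hw.2

include hP hjp hjq hdp hdq in
/-- The component points of the inverse image of the diagonal are the closed fixed points. -/
theorem isCompPt_iff
    (hfin : Finite {w : Xb.obj.left // IsClosed ({w} : Set Xb.obj.left) ∧ sm G w = w})
    (w : Xb.obj.left) :
    IsCompPt ((sm j) ⁻¹' closure ({sm d (gen Xb)} : Set Pb.obj.left)) w ↔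
      IsClosed ({w} : Set Xb.obj.left) ∧ sm G w = w := by
  constructor
  · rintro ⟨hw, -⟩
    have h1 := (mem_preimage_iff p j d hjp hdp w).mp hw
    exact ⟨isClosed_of_eq p q G j d hjp hjq hdp hdq hfin w h1,
      fixed_of_eq q G j d hjq hdq w h1⟩
  · rintro ⟨hwc, hfix⟩
    refine ⟨(mem_preimage_iff p j d hjp hdp w).mpr
      (eq_of_fixed p q hP G j d hjp hjq hdp hdq w hwc hfix), ?_⟩
    intro w' hw' hspec
    have h1 := (mem_preimage_iff p j d hjp hdp w').mp hw'
    have hc' := isClosed_of_eq p q G j d hjp hjq hdp hdq hfin w' h1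
    have h2 : w ∈ closure ({w'} : Set Xb.obj.left) := specializes_iff_mem_closure.mp hspec
    rw [hc'.closure_eq] at h2
    exact h2.symm

variable {K : Type v} [Field K] (T : TheoryOn.{u, v, w} k (IsVar k) K)

include hP hjp hjq hdp hdq in
/-- The fixed point formula. -/
theorem tr_cl_graph_mul_cl_diag
    (hfin : Finite {w : Xb.obj.left // IsClosed ({w} : Set Xb.obj.left) ∧ sm G w = w})
    (hsq : ∀ w : Xb.obj.left, IsClosed ({w} : Set Xb.obj.left) → sm G w = w →
      ∀ r ∈ maximalIdeal (Xb.obj.left.presheaf.stalk (sm G w)),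
        ((sm G).stalkMap w).hom r ∈ (maximalIdeal (Xb.obj.left.presheaf.stalk w)) ^ 2) :
    T.tr Pb (T.cl Pb (sm j (gen Xb)) * T.cl Pb (sm d (gen Xb))) =
      (Nat.card {w : Xb.obj.left // IsClosed ({w} : Set Xb.obj.left) ∧ sm G w = w} : K) := by
  classical
  have := isProper_hom Xb
  haveI : IsLocallyNoetherian Xb.obj.left := LocallyOfFiniteType.isLocallyNoetherian Xb.obj.hom
  have hcld : T.cl Pb (sm d (gen Xb)) ∈ T.gr Pb (2 * (dim Xb.obj.left : ℤ)) :=
    cl_graph_mem T p q hP d hdq
  rw [tr_cl_graph_mul T p j hjp 1 (by rw [cl_gen_eq_one, one_smul]) _ hcld, one_mul]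
  -- the pull-back formula
  have hci : IsClosedImmersion (sm d) := isClosedImmersion_of_section p d hdp
  have hpd : pdim Pb.obj.left (sm d (gen Xb)) = dim Xb.obj.left := by
    rw [pdim_eq_of_isClosedEmbedding (sm d) (sm d).isClosedEmbedding (gen Xb), pdim_gen]
  have hdimP := dim_prod T p q hP
  have hpull := T.cl_pull j (sm d (gen Xb)) ?_ (Or.inr ?_)
  · rw [hpull]
    have hequiv : {w : Xb.obj.left //
        IsCompPt ((sm j) ⁻¹' closure ({sm d (gen Xb)} : Set Pb.obj.left)) w} ≃
        {w : Xb.obj.left // IsClosed ({w} : Set Xb.obj.left) ∧ sm G w = w} :=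
      Equiv.subtypeEquivRight (isCompPt_iff p q hP G j d hjp hjq hdp hdq hfin)
    haveI : Finite {w : Xb.obj.left //
        IsCompPt ((sm j) ⁻¹' closure ({sm d (gen Xb)} : Set Pb.obj.left)) w} :=
      Finite.of_equiv _ hequiv.symm
    have := Fintype.ofFinite {w : Xb.obj.left //
        IsCompPt ((sm j) ⁻¹' closure ({sm d (gen Xb)} : Set Pb.obj.left)) w}
    rw [finsum_eq_sum_of_fintype, map_sum, ← Nat.card_congr hequiv, Nat.card_eq_fintype_card,
      ← Finset.card_univ, Finset.card_eq_sum_ones, Nat.cast_sum]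
    refine Finset.sum_congr rfl fun w _ => ?_
    have hw := (isCompPt_iff p q hP G j d hjp hjq hdp hdq hfin w.1).mp w.2
    have hjd := (mem_preimage_iff p j d hjp hdp w.1).mp w.2.1
    rw [Groth.Agent.H96.FrobMult.preimMult_eq_one p q G j d hjp hjq hdp hdq w.1 hjd w.2.1
      (hsq w.1 hw.1 hw.2), Nat.cast_one, one_smul,
      Groth.Agent.H96.WeilClosedPt.tr_cl_of_isClosed T Xb w.1 hw.1]
  · intro w hw
    have hw' := (isCompPt_iff p q hP G j d hjp hjq hdp hdq hfin w).mp hw
    rw [Groth.Agent.H96.WeilClosedPt.pdim_of_isClosed _ w hw'.1, hpd, hdimP]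
    push_cast
    ring
  · intro w hw
    have hw' := (isCompPt_iff p q hP G j d hjp hjq hdp hdq hfin w).mp hw
    have hjd := (mem_preimage_iff p j d hjp hdp w).mp hw.1
    exact Groth.Agent.H96.FrobMult.preimMult_eq_one p q G j d hjp hjq hdp hdq w hjd hw.1
      (hsq w hw'.1 hw'.2)

end Groth.Agent.H96.FrobFixed
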