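import Mathlib
import Groth.Prelude.Def_WeilCoh
import Groth.Prelude.Def_W4c1zetahwZeta
import Groth.Agent.H96.FrobFixed

/-!
# The number of points as an alternating sum of traces of powers of the Frobenius

`nPts_eq_alt_trace`: `N_m = ∑_i (-1)^i trace ((F^*)^m | H^i)` for `m ≥ 1`.
-/

set_option autoImplicit false
set_option linter.style.haveILetI false
set_option linter.unusedSectionVars false
set_option linter.unusedVariables false

universe u v w

open CategoryTheory AlgebraicGeometry WeilCoh IsLocalRing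

namespace Groth.Agent.H96.FrobLefschetz

open Groth.Agent.H96.WeilPt Groth.Agent.H96.WeilDim Groth.Agent.H96.WeilGraph

section PullPow

variable {k : Type u} [Field k] {K : Type v} [Field K]
  (T : TheoryOn.{u, v, w} k (IsVar k) K)

theorem pullDeg_iter {X : Var k} (F : X ⟶ X) (i : ℤ) (m : ℕ) :
    T.pullDeg (iter F m) i = (T.pullDeg F i) ^ m := by
  ext b
  rw [pullDeg_pow_coe T F i b m]
  rfl

end PullPow

variable {k₀ : Type u} [Field k₀] [Finite k₀] {k : Type u} [Field k] [IsAlgClosed k]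
  [Algebra k₀ k]
  {X : Scheme.{u}} (f : X ⟶ Spec (CommRingCat.of k₀)) [LocallyOfFiniteType f] [QuasiCompact f]
  (FX : X ⟶ X) (hFb : FX.base = 𝟙 _) (hle : ∀ U : X.Opens, U ≤ FX ⁻¹ᵁ U)
  (hFapp : ∀ (U : X.Opens) (s : Γ(X, U)), (FX.appLE U U (hle U)).hom s = s ^ Nat.card k₀)
  (Xb : Var k) (π : Xb.obj.left ⟶ X)
  (hπ : IsPullback π Xb.obj.hom f (Spec.map (CommRingCat.ofHom (algebraMap k₀ k))))
  (F : Xb ⟶ Xb) (hF : sm F ≫ π = π ≫ FX)
  (Pb : Var k) (p q : Pb ⟶ Xb) (hP : IsProd p q)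
  {K : Type v} [Field K] (T : TheoryOn.{u, v, w} k (IsVar k) K)

include hFb hle hFapp hπ hF hP in
/-- The Lefschetz fixed point formula for the powers of the Frobenius endomorphism. -/
theorem nPts_eq_alt_trace (m : ℕ) (hm : 1 ≤ m) :
    (Zeta.nPts f m : K) = ∑ i ∈ Finset.range (2 * dim Xb.obj.left + 1),
      (-1 : K) ^ i * LinearMap.trace K ↥(T.gr Xb (i : ℤ)) ((T.pullDeg F (i : ℤ)) ^ m) := by
  obtain ⟨j, hjp, hjq⟩ := exists_lift p q hP (𝟙 Xb) (iter F m)
  obtain ⟨d, hdp, hdq⟩ := exists_lift p q hP (𝟙 Xb) (𝟙 Xb)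
  have hcard := Groth.Agent.H96.FrobCount.card_fixed f FX hFb hle hFapp Xb π hπ F hF m hm
  have h1 := Groth.Agent.H96.FrobFixed.tr_cl_graph_mul_cl_diag p q hP (iter F m) j d hjp hjq
    hdp hdq T hcard.1 (fun w hw _ r hr =>
      Groth.Agent.H96.FrobTrans.stalkMap_iter_mem_sq_maximalIdeal f FX hFb hle hFapp Xb π hπ F hF
        m hm w hw r hr)
  have h2 := Groth.Agent.H96.WeilLefschetz.lefschetz T p q hP (iter F m) j d hjp hjq hdp hdq
  rw [← hcard.2, ← h1, h2]
  refine Finset.sum_congr rfl fun i _ => ?_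
  rw [pullDeg_iter]

end Groth.Agent.H96.FrobLefschetz
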