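import Groth.Agent.H82.OrbitCot
import Groth.Agent.H82.FreeQuot
import Groth.Agent.H93.OrbitClosure
import Mathlib.RingTheory.HopfAlgebra.Convolution

/-!
# Rational points of an affine group acting on an affine scheme, Hopf form (helper96)

`GLin.actPt` is an action of the convolution group `WithConv (A →ₐ[k] k)`:
`actPt_one`, `actPt_mul`, `orbitHom_actPt`, `exists_actPt_eq_of_actPt_eq`.
Over an algebraically closed field: `exists_actPt_eq_of_mem_range` (a rational point in the image
of the orbit map is a translate), `exists_pt_over` (rational points of the quotient lift, linearly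
reductive case), `same_orbit` (two closed orbits over the same point of the quotient coincide).
-/

set_option autoImplicit false
set_option linter.unusedSectionVars false
set_option linter.unusedVariables false
universe u
open TensorProduct

namespace Groth.Agent.H96.GLinPts

variable {k : Type u} [Field k] {A : Type u} [CommRing A] [HopfAlgebra k A]
variable {R : Type u} [CommRing R] [Algebra k R] [HopfRep.Comod k A R] [GLin.IsCoactAlg k A R]

theorem actPt_apply (g : A →ₐ[k] k) (x : R →ₐ[k] k) (f : R) :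
    GLin.actPt k g x f = g (GLin.orbitHom k A x f) := rfl

theorem orbitHom_apply (x : R →ₐ[k] k) (f : R) :
    GLin.orbitHom k A x f = Algebra.TensorProduct.lid k A
      (Algebra.TensorProduct.map x (AlgHom.id k A) (HopfRep.Comod.coact (k := k) (A := A) f)) := rfl

theorem actPt_one (x : R →ₐ[k] k) :
    GLin.actPt k ((1 : WithConv (A →ₐ[k] k)).ofConv) x = x := by
  ext f
  rw [actPt_apply]
  show algebraMap k k (Coalgebra.counit (GLin.orbitHom k A x f)) = x f
  rw [Groth.Agent.H93.orbitHom_eq_theta, Groth.Agent.H59.Orbit.counit_theta]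
  rfl

/-- the orbit map of a translated point -/
theorem orbitHom_actPt (g : A →ₐ[k] k) (x : R →ₐ[k] k) (f : R) :
    GLin.orbitHom k A (GLin.actPt k g x) f =
      Algebra.TensorProduct.lid k A (Algebra.TensorProduct.map g (AlgHom.id k A)
        (Coalgebra.comul (R := k) (GLin.orbitHom k A x f))) := by
  rw [Groth.Agent.H82.OrbitCot.comul_orbitHom, orbitHom_apply]
  generalize HopfRep.Comod.coact (k := k) (A := A) f = t
  induction t using TensorProduct.induction_on with
  | zero => simp
  | add s t hs ht => simp only [map_add, hs, ht]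
  | tmul r a =>
    simp [actPt_apply]

theorem actPt_mul (g h : WithConv (A →ₐ[k] k)) (x : R →ₐ[k] k) :
    GLin.actPt k (g * h).ofConv x = GLin.actPt k h.ofConv (GLin.actPt k g.ofConv x) := by
  ext f
  rw [actPt_apply, actPt_apply, orbitHom_actPt]
  rw [AlgHom.convMul_def]
  show (Algebra.TensorProduct.lmul' k) ((Algebra.TensorProduct.map g.ofConv h.ofConv)
    (Coalgebra.comul (R := k) (GLin.orbitHom k A x f))) = _
  generalize Coalgebra.comul (R := k) (GLin.orbitHom k A x f) = s
  induction s using TensorProduct.induction_on with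
  | zero => simp
  | add s t hs ht => simp only [map_add, hs, ht]
  | tmul a b => simp


/-- two points with comparable kernels are equal -/
theorem algHom_eq_of_ker_le {S : Type*} [CommRing S] [Algebra k S] (u v : S →ₐ[k] k)
    (h : RingHom.ker u ≤ RingHom.ker v) : u = v := by
  ext f
  have h1 : f - algebraMap k S (u f) ∈ RingHom.ker u := by
    rw [RingHom.mem_ker, map_sub, AlgHom.commutes, sub_eq_zero]
    rfl
  have h2 := h h1
  rw [RingHom.mem_ker, map_sub, AlgHom.commutes, sub_eq_zero] at h2
  exact h2.symm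

/-- same orbit from equality after translation -/
theorem exists_actPt_eq_of_actPt_eq (g g' : A →ₐ[k] k) (x x' : R →ₐ[k] k)
    (h : GLin.actPt k g x = GLin.actPt k g' x') : ∃ g'' : A →ₐ[k] k, x' = GLin.actPt k g'' x := by
  refine ⟨(WithConv.toConv g * (WithConv.toConv g')⁻¹).ofConv, ?_⟩
  rw [actPt_mul]
  show x' = GLin.actPt k (WithConv.toConv g')⁻¹.ofConv (GLin.actPt k g x)
  rw [h]
  have := actPt_mul (WithConv.toConv g') (WithConv.toConv g')⁻¹ x'
  rw [mul_inv_cancel, actPt_one] at this
  exact this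

section Pts
variable [IsAlgClosed k] [Algebra.FiniteType k A]

theorem exists_actPt_eq_of_mem_range (x z : R →ₐ[k] k)
    (hz : (⟨RingHom.ker z, RingHom.ker_isPrime z⟩ : PrimeSpectrum R) ∈
      Set.range (PrimeSpectrum.comap (GLin.orbitHom k A x).toRingHom)) :
    ∃ g : A →ₐ[k] k, GLin.actPt k g x = z := by
  obtain ⟨𝔭, h𝔭⟩ := hz
  obtain ⟨N, hN, hle⟩ := Ideal.exists_le_maximal 𝔭.asIdeal 𝔭.isPrime.ne_top
  obtain ⟨g, hg⟩ := Groth.Agent.H82.FreeQuot.exists_pt_of_isMaximal (k := k) N hN
  refine ⟨g, (algHom_eq_of_ker_le z _ ?_).symm⟩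
  intro f hf
  have h1 : f ∈ (PrimeSpectrum.comap (GLin.orbitHom k A x).toRingHom 𝔭).asIdeal := by
    rw [h𝔭]; exact hf
  have h2 : GLin.orbitHom k A x f ∈ 𝔭.asIdeal := h1
  have h3 : GLin.orbitHom k A x f ∈ RingHom.ker g := by rw [hg]; exact hle h2
  exact h3



variable [Algebra.FiniteType k R]

theorem exists_pt_over (hG : HopfRep.IsLinearlyReductive k A)
    (y : GLin.invariants k A R →ₐ[k] k) :
    ∃ x : R →ₐ[k] k, x.comp (GLin.invariants k A R).val = y := by
  set m : Ideal (GLin.invariants k A R) := RingHom.ker y with hm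
  set K : Ideal R := m.map (GLin.invariants k A R).val with hK
  have hKtop : K ≠ ⊤ := by
    intro h
    have h1 : ((1 : GLin.invariants k A R) : R) ∈ K := by rw [h]; trivial
    have h2 := Groth.Agent.H82.OrbitCot.mem_of_mem_map_val hG m 1 h1
    rw [hm, RingHom.mem_ker, map_one] at h2
    exact one_ne_zero h2
  obtain ⟨M, hM, hle⟩ := Ideal.exists_le_maximal K hKtop
  obtain ⟨x, hx⟩ := Groth.Agent.H82.FreeQuot.exists_pt_of_isMaximal (k := k) M hM
  refine ⟨x, (algHom_eq_of_ker_le y _ ?_).symm⟩
  intro a ha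
  rw [RingHom.mem_ker]
  show x (a : R) = 0
  have : (a : R) ∈ RingHom.ker x := by
    rw [hx]
    exact hle (Ideal.mem_map_of_mem _ ha)
  exact this

theorem same_orbit (hG : HopfRep.IsLinearlyReductive k A)
    (y : GLin.invariants k A R →ₐ[k] k) (x x' : R →ₐ[k] k)
    (hcx : GLin.IsClosedOrbit k A x) (hcx' : GLin.IsClosedOrbit k A x')
    (hx : x.comp (GLin.invariants k A R).val = y) (hx' : x'.comp (GLin.invariants k A R).val = y) :
    ∃ g : A →ₐ[k] k, x' = GLin.actPt k g x := by
  set I : Ideal R := RingHom.ker (GLin.orbitHom k A x) with hI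
  set I' : Ideal R := RingHom.ker (GLin.orbitHom k A x') with hI'
  obtain ⟨E, hE1, hE2, hE3, hE4⟩ := Groth.Agent.H93.exists_reynolds (k := k) (A := A) (R := R) hG
  have hsup : I ⊔ I' ≠ ⊤ := by
    intro h
    have h1 : (1 : R) ∈ I ⊔ I' := by rw [h]; trivial
    obtain ⟨a, ha, a', ha', haa⟩ := Submodule.mem_sup.mp h1
    have hEa : E a ∈ I := hE4 (I.restrictScalars k)
      (Groth.Agent.H82.OrbitCot.isSubcomod_ker_orbitHom x) a ha
    have hEa' : E a' ∈ I' := hE4 (I'.restrictScalars k)
      (Groth.Agent.H82.OrbitCot.isSubcomod_ker_orbitHom x') a' ha'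
    have h2 : x (E a) = 0 := Groth.Agent.H93.apply_eq_zero_of_mem_ker_orbitHom x _ hEa
    have h2' : x' (E a') = 0 := Groth.Agent.H93.apply_eq_zero_of_mem_ker_orbitHom x' _ hEa'
    have h3 : y ⟨E a, hE1 a⟩ = 0 := by rw [← hx]; exact h2
    have h3' : y ⟨E a', hE1 a'⟩ = 0 := by rw [← hx']; exact h2'
    have h4 : (⟨E a, hE1 a⟩ + ⟨E a', hE1 a'⟩ : GLin.invariants k A R) = 1 := by
      apply Subtype.ext
      show E a + E a' = 1
      rw [← map_add, haa]
      exact hE2 1 (Subalgebra.one_mem _)
    have h5 := congr_arg y h4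
    rw [map_add, h3, h3', add_zero, map_one] at h5
    exact zero_ne_one h5
  obtain ⟨M, hM, hle⟩ := Ideal.exists_le_maximal (I ⊔ I') hsup
  obtain ⟨z, hz⟩ := Groth.Agent.H82.FreeQuot.exists_pt_of_isMaximal (k := k) M hM
  have key : ∀ (w : R →ₐ[k] k), GLin.IsClosedOrbit k A w →
      RingHom.ker (GLin.orbitHom k A w) ≤ M →
      (⟨RingHom.ker z, RingHom.ker_isPrime z⟩ : PrimeSpectrum R) ∈
        Set.range (PrimeSpectrum.comap (GLin.orbitHom k A w).toRingHom) := by
    intro w hw hwM
    have hcl := PrimeSpectrum.closure_range_comap (GLin.orbitHom k A w).toRingHom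
    rw [IsClosed.closure_eq hw] at hcl
    rw [hcl, PrimeSpectrum.mem_zeroLocus]
    intro f hf
    show f ∈ RingHom.ker z
    rw [hz]
    exact hwM hf
  obtain ⟨g, hg⟩ := exists_actPt_eq_of_mem_range x z (key x hcx (le_sup_left.trans hle))
  obtain ⟨g', hg'⟩ := exists_actPt_eq_of_mem_range x' z (key x' hcx' (le_sup_right.trans hle))
  exact exists_actPt_eq_of_actPt_eq g g' x x' (hg.trans hg'.symm)

end Pts


end Groth.Agent.H96.GLinPts
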