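import Mathlib
import Groth.Prelude.Def_W4c2ratsingkovacsGH
import Groth.Agent.H19.GradedAvoid

/-!
# Geometric height in graded rings

Primes of `A_(f)` versus homogeneous primes of `A` not containing `f` (through Mathlib's
`ProjIsoSpecTopComponent`), Krull's bound for the geometric height of an ideal generated by
homogeneous elements, and the inductive construction of homogeneous elements `z₁, …, z_h` in a
homogeneous ideal `J` of uniform geometric height `h` such that `(z₁, …, z_j)` has geometric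
height `j` for every `j`.
-/

set_option autoImplicit false
set_option linter.style.haveILetI false
set_option linter.unusedSectionVars false
set_option linter.unusedVariables false

universe u v
open W4c2ratsingkovacs AlgebraicGeometry

namespace Groth.Agent.H96.GeomHeight

variable {R : Type u} {A : Type v} [CommRing R] [CommRing A] [Algebra R A]
  (𝒜 : ℕ → Submodule R A) [GradedRing 𝒜]
variable {f : A} {m : ℕ} (f_deg : f ∈ 𝒜 m) (hm : 0 < m)

/-- The homogeneous prime of `A` attached to a prime of `A_(f)`. -/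
noncomputable def phi (P : PrimeSpectrum (HomogeneousLocalization.Away 𝒜 f)) : Ideal A :=
  ProjIsoSpecTopComponent.FromSpec.carrier.asIdeal f_deg hm P

lemma phi_isPrime (P : PrimeSpectrum (HomogeneousLocalization.Away 𝒜 f)) :
    (phi 𝒜 f_deg hm P).IsPrime :=
  ProjIsoSpecTopComponent.FromSpec.carrier.asIdeal.prime f_deg hm P

lemma phi_isHomogeneous (P : PrimeSpectrum (HomogeneousLocalization.Away 𝒜 f)) :
    (phi 𝒜 f_deg hm P).IsHomogeneous 𝒜 :=
  ProjIsoSpecTopComponent.FromSpec.carrier.asIdeal.homogeneous f_deg hm P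

lemma not_mem_phi (P : PrimeSpectrum (HomogeneousLocalization.Away 𝒜 f)) :
    f ∉ phi 𝒜 f_deg hm P :=
  ProjIsoSpecTopComponent.FromSpec.carrier.denom_notMem f_deg hm P

lemma phi_mono {P P' : PrimeSpectrum (HomogeneousLocalization.Away 𝒜 f)} (h : P ≤ P') :
    phi 𝒜 f_deg hm P ≤ phi 𝒜 f_deg hm P' := by
  intro a ha i
  exact h (ha i)

/-- `locIdeal` of the attached prime gives back the prime. -/
lemma locIdeal_phi (P : PrimeSpectrum (HomogeneousLocalization.Away 𝒜 f)) :
    locIdeal 𝒜 (phi 𝒜 f_deg hm P) f = P.asIdeal := by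
  have h := ProjIsoSpecTopComponent.toSpec_fromSpec 𝒜 f_deg hm P
  exact congrArg PrimeSpectrum.asIdeal h

lemma locIdeal_mono {J J' : Ideal A} (h : J ≤ J') : locIdeal 𝒜 J f ≤ locIdeal 𝒜 J' f :=
  Ideal.comap_mono (Ideal.map_mono h)

lemma locIdeal_isPrime (p : Ideal A) (hp : p.IsPrime) (hfp : f ∉ p) :
    (locIdeal 𝒜 p f).IsPrime := by
  refine Ideal.IsPrime.comap _ (hK := ?_)
  exact IsLocalization.isPrime_of_isPrime_disjoint (Submonoid.powers f) _ _ hp
    ((Ideal.disjoint_powers_iff_notMem_of_isPrime _).mpr hfp)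

include f_deg hm in
lemma not_irrelevant_le (p : Ideal A) (hfp : f ∉ p) :
    ¬ (HomogeneousIdeal.irrelevant 𝒜).toIdeal ≤ p := fun h =>
  hfp (h (DirectSum.decompose_of_mem_ne 𝒜 f_deg hm.ne'))

/-- The attached prime of `locIdeal p f` is `p`, for `p` a homogeneous prime not containing `f`. -/
lemma phi_locIdeal (p : Ideal A) (hp : p.IsPrime) (hph : p.IsHomogeneous 𝒜) (hfp : f ∉ p) :
    phi 𝒜 f_deg hm ⟨locIdeal 𝒜 p f, locIdeal_isPrime 𝒜 p hp hfp⟩ = p := by
  let x : ProjectiveSpectrum 𝒜 := ⟨⟨p, hph⟩, hp, not_irrelevant_le 𝒜 f_deg hm p hfp⟩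
  have hx : x ∈ ProjectiveSpectrum.basicOpen 𝒜 f := hfp
  have h := ProjIsoSpecTopComponent.fromSpec_toSpec 𝒜 f_deg hm ⟨x, hx⟩
  have h2 := congrArg (fun y => y.1.asHomogeneousIdeal.toIdeal) h
  exact h2

/-- A homogeneous ideal whose homogeneous localization lies in `P` lies in the attached prime. -/
lemma le_phi_of_locIdeal_le (J : Ideal A) (hJ : J.IsHomogeneous 𝒜)
    (P : PrimeSpectrum (HomogeneousLocalization.Away 𝒜 f)) (h : locIdeal 𝒜 J f ≤ P.asIdeal) :
    J ≤ phi 𝒜 f_deg hm P := by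
  intro a ha i
  apply h
  change algebraMap (HomogeneousLocalization.Away 𝒜 f) (Localization.Away f) _ ∈
    J.map (algebraMap A (Localization.Away f))
  rw [HomogeneousLocalization.algebraMap_apply, HomogeneousLocalization.val_mk,
    Localization.mk_eq_mk', IsLocalization.mk'_eq_mul_mk'_one]
  apply Ideal.mul_mem_right
  apply Ideal.mem_map_of_mem
  exact Ideal.pow_mem_of_mem _ (hJ i ha) m hm

/-- The homogeneous localization of `J` at `f` is proper when `f` is not in the radical. -/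
lemma locIdeal_ne_top (J : Ideal A) (hf : f ∉ J.radical) : locIdeal 𝒜 J f ≠ ⊤ := by
  intro h
  have h1 : (1 : HomogeneousLocalization.Away 𝒜 f) ∈ locIdeal 𝒜 J f := h ▸ Submodule.mem_top
  have h2 : algebraMap (HomogeneousLocalization.Away 𝒜 f) (Localization.Away f) 1 ∈
      J.map (algebraMap A (Localization.Away f)) := h1
  rw [map_one, ← Ideal.eq_top_iff_one] at h2
  have h3 := (IsLocalization.map_algebraMap_ne_top_iff_disjoint (Submonoid.powers f)
    (Localization.Away f) J).not.mp (by simpa using h2)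
  rw [Set.not_disjoint_iff] at h3
  obtain ⟨x, ⟨k, rfl⟩, hx⟩ := h3
  exact hf ⟨k, hx⟩

/-- Minimal primes over a homogeneous ideal are homogeneous. -/
lemma isHomogeneous_of_mem_minimalPrimes (I : Ideal A) (hI : I.IsHomogeneous 𝒜) (p : Ideal A)
    (hp : p ∈ I.minimalPrimes) : p.IsHomogeneous 𝒜 := by
  have hpp : p.IsPrime := hp.1.1
  have h1 : (p.homogeneousCore 𝒜).toIdeal.IsPrime := hpp.homogeneousCore
  have h2 : I ≤ (p.homogeneousCore 𝒜).toIdeal := by
    rw [← hI.toIdeal_homogeneousCore_eq_self]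
    exact Ideal.homogeneousCore_mono 𝒜 hp.1.2
  have h3 : (p.homogeneousCore 𝒜).toIdeal ≤ p := Ideal.toIdeal_homogeneousCore_le 𝒜 p
  have h4 : p ≤ (p.homogeneousCore 𝒜).toIdeal := hp.2 ⟨h1, h2⟩ h3
  have h5 : (p.homogeneousCore 𝒜).toIdeal = p := le_antisymm h3 h4
  rw [← h5]
  exact (p.homogeneousCore 𝒜).isHomogeneous

lemma ofList_isHomogeneous (zs : List A) (hz : ∀ z ∈ zs, SetLike.IsHomogeneousElem 𝒜 z) :
    (Ideal.ofList zs).IsHomogeneous 𝒜 :=
  Ideal.homogeneous_span 𝒜 _ hz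

lemma height_le_length_of_mem_minimalPrimes (zs : List A) (p : Ideal A)
    (hp : p ∈ (Ideal.ofList zs).minimalPrimes) [IsNoetherianRing A] :
    p.height ≤ zs.length := by
  classical
  have h1 : Ideal.ofList zs = Ideal.span (zs.toFinset : Set A) := by
    unfold Ideal.ofList
    congr 1
    ext x
    simp
  rw [h1] at hp
  refine (Ideal.height_le_card_of_mem_minimalPrimes_span_finset hp).trans ?_
  exact_mod_cast List.toFinset_card_le zs

/-- The attached prime, as a map of prime spectra. -/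
noncomputable def phiSpec (P : PrimeSpectrum (HomogeneousLocalization.Away 𝒜 f)) :
    PrimeSpectrum A := ⟨phi 𝒜 f_deg hm P, phi_isPrime 𝒜 f_deg hm P⟩

lemma phiSpec_strictMono : StrictMono (phiSpec 𝒜 f_deg hm) := by
  intro P P' h
  refine lt_of_le_of_ne (phi_mono 𝒜 f_deg hm h.le) ?_
  intro e
  have e' : phi 𝒜 f_deg hm P = phi 𝒜 f_deg hm P' := congrArg PrimeSpectrum.asIdeal e
  have h1 := locIdeal_phi 𝒜 f_deg hm P
  have h2 := locIdeal_phi 𝒜 f_deg hm P'
  rw [e'] at h1
  exact h.ne (PrimeSpectrum.ext (h1.symm.trans h2))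

/-- The height of a prime of `A_(f)` is at most the height of the attached prime of `A`. -/
lemma height_le_height_phi (P : PrimeSpectrum (HomogeneousLocalization.Away 𝒜 f)) :
    P.asIdeal.height ≤ (phi 𝒜 f_deg hm P).height := by
  have h1 := PrimeSpectrum.height_eq_orderHeight P
  have h2 := PrimeSpectrum.height_eq_orderHeight (phiSpec 𝒜 f_deg hm P)
  have h3 : (phiSpec 𝒜 f_deg hm P).asIdeal = phi 𝒜 f_deg hm P := rfl
  rw [h1, ← h3, h2]
  exact Order.height_le_height_apply_of_strictMono _ (phiSpec_strictMono 𝒜 f_deg hm) P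

include f_deg hm in
/-- **Krull bound** for the geometric height: a prime of `A_(f)` minimal over the homogeneous
localization of an ideal generated by `n` homogeneous elements has height at most `n`. -/
theorem height_le_of_mem_minimalPrimes [IsNoetherianRing A] (zs : List A)
    (hz : ∀ z ∈ zs, SetLike.IsHomogeneousElem 𝒜 z)
    (P : Ideal (HomogeneousLocalization.Away 𝒜 f))
    (hP : P ∈ (locIdeal 𝒜 (Ideal.ofList zs) f).minimalPrimes) :
    P.height ≤ zs.length := by
  have hPp : P.IsPrime := hP.1.1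
  set P' : PrimeSpectrum (HomogeneousLocalization.Away 𝒜 f) := ⟨P, hPp⟩ with hP'
  have hhom := ofList_isHomogeneous 𝒜 zs hz
  have h1 : Ideal.ofList zs ≤ phi 𝒜 f_deg hm P' :=
    le_phi_of_locIdeal_le 𝒜 f_deg hm _ hhom P' hP.1.2
  have hmin : phi 𝒜 f_deg hm P' ∈ (Ideal.ofList zs).minimalPrimes := by
    refine ⟨⟨phi_isPrime 𝒜 f_deg hm P', h1⟩, ?_⟩
    rintro p' ⟨hp', hzp'⟩ hle
    -- homogeneous core of p'
    have hc1 : (p'.homogeneousCore 𝒜).toIdeal.IsPrime := hp'.homogeneousCore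
    have hc2 : Ideal.ofList zs ≤ (p'.homogeneousCore 𝒜).toIdeal := by
      rw [← hhom.toIdeal_homogeneousCore_eq_self]
      exact Ideal.homogeneousCore_mono 𝒜 hzp'
    have hc3 : (p'.homogeneousCore 𝒜).toIdeal ≤ p' := Ideal.toIdeal_homogeneousCore_le 𝒜 p'
    have hc4 : f ∉ (p'.homogeneousCore 𝒜).toIdeal := fun hf =>
      not_mem_phi 𝒜 f_deg hm P' (hle (hc3 hf))
    have hc5 : locIdeal 𝒜 (p'.homogeneousCore 𝒜).toIdeal f ≤ P := by
      have := locIdeal_mono 𝒜 (f := f) (hc3.trans hle)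
      rwa [locIdeal_phi] at this
    have hc6 : P ≤ locIdeal 𝒜 (p'.homogeneousCore 𝒜).toIdeal f :=
      hP.2 ⟨locIdeal_isPrime 𝒜 _ hc1 hc4, locIdeal_mono 𝒜 hc2⟩ hc5
    have hc7 : P' = ⟨locIdeal 𝒜 (p'.homogeneousCore 𝒜).toIdeal f,
        locIdeal_isPrime 𝒜 _ hc1 hc4⟩ := PrimeSpectrum.ext (le_antisymm hc6 hc5)
    have hc8 := phi_locIdeal 𝒜 f_deg hm _ hc1 (p'.homogeneousCore 𝒜).isHomogeneous hc4
    rw [← hc7] at hc8
    rw [hc8]
    exact hc3
  exact (height_le_height_phi 𝒜 f_deg hm P').trans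
    (height_le_length_of_mem_minimalPrimes zs _ hmin)

/-- A homogeneous ideal not contained in a prime `p` that does not contain the irrelevant ideal
has a homogeneous element of positive degree outside `p`. -/
lemma exists_homogeneous_pos (J : Ideal A) (hJ : J.IsHomogeneous 𝒜) (p : Ideal A) (hp : p.IsPrime)
    (hJp : ¬ J ≤ p) (hirr : ¬ (HomogeneousIdeal.irrelevant 𝒜).toIdeal ≤ p) :
    ∃ d : ℕ, 0 < d ∧ ∃ x ∈ 𝒜 d, x ∈ J ∧ x ∉ p := by
  classical
  -- a homogeneous element of `J` outside `p`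
  obtain ⟨a, haJ, hap⟩ := Set.not_subset.mp hJp
  have h1 : ∃ i, (DirectSum.decompose 𝒜 a i : A) ∉ p := by
    by_contra hcon
    push Not at hcon
    apply hap
    rw [← DirectSum.sum_support_decompose 𝒜 a]
    exact Ideal.sum_mem _ fun i _ => hcon i
  obtain ⟨i, hi⟩ := h1
  -- a homogeneous element of positive degree outside `p`
  obtain ⟨b, hbirr, hbp⟩ := Set.not_subset.mp hirr
  have h2 : ∃ k, (DirectSum.decompose 𝒜 b k : A) ∉ p := by
    by_contra hcon
    push Not at hcon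
    apply hbp
    rw [← DirectSum.sum_support_decompose 𝒜 b]
    exact Ideal.sum_mem _ fun k _ => hcon k
  obtain ⟨k, hk⟩ := h2
  have hk0 : k ≠ 0 := by
    rintro rfl
    apply hk
    have : (DirectSum.decompose 𝒜 b 0 : A) = 0 := hbirr
    rw [this]
    exact zero_mem _
  refine ⟨i + k, by omega, (DirectSum.decompose 𝒜 a i : A) * (DirectSum.decompose 𝒜 b k : A),
    SetLike.GradedMul.mul_mem (SetLike.coe_mem _) (SetLike.coe_mem _),
    Ideal.mul_mem_right _ _ (hJ i haJ), ?_⟩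
  intro hmem
  rcases hp.mem_or_mem hmem with h | h
  · exact hi h
  · exact hk h

section Main

variable [IsNoetherianRing A] (J : Ideal A) (hJ : J.IsHomogeneous 𝒜) (h : ℕ)
  (hJh : HasUniformGeomHeight 𝒜 J h) (Pset : Finset (Ideal A))
  (hP : ∀ q ∈ Pset, q.IsPrime ∧ ¬ J ≤ q ∧ ¬ (HomogeneousIdeal.irrelevant 𝒜).toIdeal ≤ q)

/-- The lower bound invariant. -/
def LB (zs : List A) : Prop :=
  ∀ (f : A) (n : ℕ), 0 < n → f ∈ 𝒜 n → f ∉ J.radical →
    (zs.length : ℕ∞) ≤ (locIdeal 𝒜 (Ideal.ofList zs) f).height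

include hJ hJh hP in
/-- The inductive step. -/
theorem step (zs : List A) (hz : ∀ z ∈ zs, SetLike.IsHomogeneousElem 𝒜 z)
    (hLB : LB 𝒜 J zs) (hlen : zs.length < h) :
    ∃ z : A, ((∃ n : ℕ, 0 < n ∧ z ∈ 𝒜 n) ∧ z ∈ J ∧ ∀ q ∈ Pset, z ∉ q) ∧ LB 𝒜 J (zs ++ [z]) := by
  classical
  have hfin : {p ∈ (Ideal.ofList zs).minimalPrimes |
      ¬ J ≤ p ∧ ¬ (HomogeneousIdeal.irrelevant 𝒜).toIdeal ≤ p}.Finite :=
    (Ideal.finite_minimalPrimes_of_isNoetherianRing A (Ideal.ofList zs)).subset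
      (Set.sep_subset _ _)
  have hS : ∀ p ∈ Pset ∪ hfin.toFinset,
      p.IsPrime ∧ ¬ J ≤ p ∧ ¬ (HomogeneousIdeal.irrelevant 𝒜).toIdeal ≤ p := by
    intro p hp
    rcases Finset.mem_union.mp hp with hp | hp
    · exact hP p hp
    · have := (Set.Finite.mem_toFinset hfin).mp hp
      exact ⟨this.1.1.1, this.2⟩
  obtain ⟨d, hd, z, hzd, hzJ, hzS⟩ :=
    Groth.Agent.H19.GradedAvoid.exists_homogeneous_not_mem 𝒜 J (Pset ∪ hfin.toFinset)
      (fun p hp => (hS p hp).1)
      (fun p hp => exists_homogeneous_pos 𝒜 J hJ p (hS p hp).1 (hS p hp).2.1 (hS p hp).2.2)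
  refine ⟨z, ⟨⟨d, hd, hzd⟩, hzJ, fun q hq => hzS q (Finset.mem_union_left _ hq)⟩, ?_⟩
  intro f n hn hf hfJ
  have hz' : ∀ y ∈ zs ++ [z], SetLike.IsHomogeneousElem 𝒜 y := by
    intro y hy
    rcases List.mem_append.mp hy with hy | hy
    · exact hz y hy
    · rw [List.mem_singleton.mp hy]
      exact ⟨d, hzd⟩
  rw [Ideal.height_eq_inf_minimalPrimes]
  refine le_iInf₂ fun P hPmin => ?_
  have hPp : P.IsPrime := hPmin.1.1
  set P' : PrimeSpectrum (HomogeneousLocalization.Away 𝒜 f) := ⟨P, hPp⟩ with hP'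
  have hpprime : (phi 𝒜 hf hn P').IsPrime := phi_isPrime 𝒜 hf hn P'
  have hzsp : Ideal.ofList (zs ++ [z]) ≤ phi 𝒜 hf hn P' :=
    le_phi_of_locIdeal_le 𝒜 hf hn _ (ofList_isHomogeneous 𝒜 _ hz') P' hPmin.1.2
  have hlen' : ((zs ++ [z]).length : ℕ∞) = (zs.length : ℕ∞) + 1 := by
    rw [List.length_append, List.length_singleton]
    push_cast
    rfl
  rw [hlen']
  by_cases hJp : J ≤ phi 𝒜 hf hn P'
  · have h1 : locIdeal 𝒜 J f ≤ P := by
      have := locIdeal_mono 𝒜 (f := f) hJp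
      rwa [locIdeal_phi] at this
    have h2 : (locIdeal 𝒜 J f).height = h := hJh f n hn hf hfJ
    have h3 : (locIdeal 𝒜 J f).height ≤ P.height := Ideal.height_mono h1
    rw [h2] at h3
    refine le_trans ?_ h3
    exact_mod_cast hlen
  · have h1 : Ideal.ofList zs ≤ phi 𝒜 hf hn P' := by
      refine le_trans (Ideal.span_mono ?_) hzsp
      intro y hy
      exact List.mem_append_left _ hy
    obtain ⟨p', hp'min, hp'le⟩ := Ideal.exists_minimalPrimes_le h1
    have hp'prime : p'.IsPrime := hp'min.1.1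
    have hp'hom : p'.IsHomogeneous 𝒜 :=
      isHomogeneous_of_mem_minimalPrimes 𝒜 _ (ofList_isHomogeneous 𝒜 _ hz) p' hp'min
    have hfp' : f ∉ p' := fun hfp => not_mem_phi 𝒜 hf hn P' (hp'le hfp)
    have hJp' : ¬ J ≤ p' := fun hle => hJp (hle.trans hp'le)
    have hirr' : ¬ (HomogeneousIdeal.irrelevant 𝒜).toIdeal ≤ p' :=
      not_irrelevant_le 𝒜 hf hn p' hfp'
    have hzp' : z ∉ p' := by
      apply hzS p'
      apply Finset.mem_union_right
      exact (Set.Finite.mem_toFinset hfin).mpr ⟨hp'min, hJp', hirr'⟩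
    have hzp : z ∈ phi 𝒜 hf hn P' :=
      hzsp (Ideal.subset_span (List.mem_append_right _ (List.mem_singleton_self z)))
    have hQprime : (locIdeal 𝒜 p' f).IsPrime := locIdeal_isPrime 𝒜 p' hp'prime hfp'
    have hQle : locIdeal 𝒜 p' f ≤ P := by
      have := locIdeal_mono 𝒜 (f := f) hp'le
      rwa [locIdeal_phi] at this
    have hQne : locIdeal 𝒜 p' f ≠ P := by
      intro e
      have e1 := phi_locIdeal 𝒜 hf hn p' hp'prime hp'hom hfp'
      have e2 : (⟨locIdeal 𝒜 p' f, hQprime⟩ : PrimeSpectrum _) = P' := PrimeSpectrum.ext e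
      rw [e2] at e1
      exact hzp' (e1 ▸ hzp)
    have hlt : locIdeal 𝒜 p' f < P := lt_of_le_of_ne hQle hQne
    have h2 := Ideal.height_add_one_le_of_lt_of_isPrime hlt
    have h3 : (zs.length : ℕ∞) ≤ (locIdeal 𝒜 p' f).height :=
      (hLB f n hn hf hfJ).trans (Ideal.height_mono (locIdeal_mono 𝒜 hp'min.1.2))
    exact (add_le_add_left h3 1).trans h2

include hJ hJh hP in
/-- The inductive construction. -/
theorem exists_list (k : ℕ) (hk : k ≤ h) :
    ∃ zs : List A, zs.length = k ∧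
      (∀ z ∈ zs, (∃ n : ℕ, 0 < n ∧ z ∈ 𝒜 n) ∧ z ∈ J ∧ ∀ q ∈ Pset, z ∉ q) ∧
      ∀ j : ℕ, j ≤ k → LB 𝒜 J (zs.take j) := by
  induction k with
  | zero =>
    refine ⟨[], rfl, by simp, fun j _ f n _ _ _ => ?_⟩
    simp
  | succ k ih =>
    obtain ⟨zs, hlen, hgood, hLB⟩ := ih (by omega)
    have hLBk : LB 𝒜 J zs := by
      have := hLB k le_rfl
      rwa [← hlen, List.take_length] at this
    obtain ⟨z, hz, hLB'⟩ := step 𝒜 J hJ h hJh Pset hP zs
      (fun y hy => let ⟨n, _, hn⟩ := (hgood y hy).1; ⟨n, hn⟩) hLBk (by omega)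
    refine ⟨zs ++ [z], by simp [hlen], ?_, ?_⟩
    · intro y hy
      rcases List.mem_append.mp hy with hy | hy
      · exact hgood y hy
      · rw [List.mem_singleton.mp hy]
        exact hz
    · intro j hj
      rcases Nat.lt_or_ge j (k + 1) with hlt | hge
      · have hjk : j ≤ k := by omega
        rw [List.take_append_of_le_length (by omega)]
        exact hLB j hjk
      · have : j = k + 1 := by omega
        subst this
        have hl : (zs ++ [z]).length = k + 1 := by simp [hlen]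
        rw [← hl, List.take_length]
        exact hLB'

include hJ hJh hP in
/-- **Main theorem**: homogeneous elements of positive degree in `J`, avoiding finitely many
primes, generating ideals of the expected geometric heights. -/
theorem main :
    ∃ zs : List A, zs.length = h ∧
      (∀ z ∈ zs, (∃ n : ℕ, 0 < n ∧ z ∈ 𝒜 n) ∧ z ∈ J ∧ ∀ q ∈ Pset, z ∉ q) ∧
      ∀ (f : A) (n : ℕ), 0 < n → f ∈ 𝒜 n → f ∉ J.radical →
        ∀ j : ℕ, 1 ≤ j → j ≤ h → geomHeight 𝒜 (Ideal.ofList (zs.take j)) f = j := by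
  obtain ⟨zs, hlen, hgood, hLB⟩ := exists_list 𝒜 J hJ h hJh Pset hP h le_rfl
  refine ⟨zs, hlen, hgood, fun f n hn hf hfJ j hj1 hjh => ?_⟩
  have hlj : (zs.take j).length = j := by
    rw [List.length_take, hlen]
    omega
  have hzj : ∀ z ∈ zs.take j, SetLike.IsHomogeneousElem 𝒜 z := fun y hy =>
    let ⟨n, _, hn⟩ := (hgood y (List.mem_of_mem_take hy)).1; ⟨n, hn⟩
  apply le_antisymm
  · have hle : Ideal.ofList (zs.take j) ≤ J := by
      rw [Ideal.ofList, Ideal.span_le]
      intro y hy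
      exact (hgood y (List.mem_of_mem_take hy)).2.1
    have hne : locIdeal 𝒜 (Ideal.ofList (zs.take j)) f ≠ ⊤ :=
      ne_top_of_le_ne_top (locIdeal_ne_top 𝒜 J hfJ) (locIdeal_mono 𝒜 hle)
    obtain ⟨P, hPmin⟩ := Ideal.nonempty_minimalPrimes hne
    have h1 : (locIdeal 𝒜 (Ideal.ofList (zs.take j)) f).height ≤ P.height := by
      rw [Ideal.height_eq_inf_minimalPrimes]
      exact iInf₂_le P hPmin
    have h2 := height_le_of_mem_minimalPrimes 𝒜 hf hn (zs.take j) hzj P hPmin
    rw [hlj] at h2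
    exact h1.trans h2
  · have := hLB j hjh f n hn hf hfJ
    rwa [hlj] at this

end Main

end Groth.Agent.H96.GeomHeight
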