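import Groth.Agent.H96.GmWeights
import Mathlib.RingTheory.Spectrum.Prime.Topology
import Mathlib.RingTheory.IntegralClosure.Algebra.Basic
import Mathlib.FieldTheory.IsAlgClosed.Basic

/-!
# Diagonal actions of the multiplicative group on affine space: closed orbits and finite stabilisers
-/

set_option autoImplicit false
set_option linter.unusedSectionVars false
universe u

open TensorProduct LaurentPolynomial

namespace Groth.Agent.H96.GmStable

noncomputable section

lemma isIntegralElem_of_pow {R S : Type*} [CommRing R] [CommRing S] (f : R →+* S) {x : S} {n : ℕ}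
    (hn : 0 < n) (hx : f.IsIntegralElem (x ^ n)) : f.IsIntegralElem x := by
  letI := f.toAlgebra
  exact IsIntegral.of_pow (R := R) hn hx

variable {k : Type u} [Field k]

/-- Integrality criterion for a map into the Laurent polynomial ring. -/
lemma isIntegral_of_T_mem {R : Type*} [CommRing R] [Algebra k R] (φ : R →ₐ[k] k[T;T⁻¹])
    (a b : ℕ) (ha : 0 < a) (hb : 0 < b)
    (hTa : (T (a : ℤ) : k[T;T⁻¹]) ∈ φ.range) (hTb : (T (-(b : ℤ)) : k[T;T⁻¹]) ∈ φ.range) :
    φ.toRingHom.IsIntegral := by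
  have h1 : φ.toRingHom.IsIntegralElem (T 1 : k[T;T⁻¹]) := by
    apply isIntegralElem_of_pow _ ha
    rw [T_pow, mul_one]
    obtain ⟨y, hy⟩ := hTa
    rw [← hy]
    exact φ.toRingHom.isIntegralElem_map
  have h2 : φ.toRingHom.IsIntegralElem (T (-1) : k[T;T⁻¹]) := by
    apply isIntegralElem_of_pow _ hb
    rw [T_pow, mul_neg, mul_one]
    obtain ⟨y, hy⟩ := hTb
    rw [← hy]
    exact φ.toRingHom.isIntegralElem_map
  have hpow : ∀ {x : k[T;T⁻¹]}, φ.toRingHom.IsIntegralElem x → ∀ n : ℕ, φ.toRingHom.IsIntegralElem (x ^ n) := by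
    intro x hx n
    induction n with
    | zero => rw [pow_zero]; exact φ.toRingHom.isIntegralElem_one
    | succ n ih => rw [pow_succ]; exact ih.mul _ hx
  intro p
  induction p using LaurentPolynomial.induction_on' with
  | add p q hp hq => exact RingHom.IsIntegralElem.add _ hp hq
  | C_mul_T n c =>
    have hC : φ.toRingHom.IsIntegralElem (C c : k[T;T⁻¹]) := by
      have : (C c : k[T;T⁻¹]) = φ.toRingHom (algebraMap k R c) := by
        simp [LaurentPolynomial.algebraMap_apply]
      rw [this]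
      exact φ.toRingHom.isIntegralElem_map
    refine hC.mul _ ?_
    rcases Int.eq_nat_or_neg n with ⟨m, rfl | rfl⟩
    · have := hpow h1 m
      rwa [T_pow, mul_one] at this
    · have := hpow h2 m
      rwa [T_pow, mul_neg, mul_one] at this

/-- If `T n - 1` is in the ideal (`n > 0`), the quotient of the Laurent polynomial ring is finite. -/
lemma finite_quotient_of_T_sub_one_mem (I : Ideal k[T;T⁻¹]) (n : ℕ) (hn : 0 < n)
    (hI : (T (n : ℤ) - 1 : k[T;T⁻¹]) ∈ I) : Module.Finite k (k[T;T⁻¹] ⧸ I) := by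
  classical
  have hTn : Ideal.Quotient.mk I (T (n : ℤ)) = 1 := by
    rw [← sub_eq_zero, ← map_one (Ideal.Quotient.mk I), ← map_sub]
    exact Ideal.Quotient.eq_zero_iff_mem.mpr hI
  have hq : ∀ q : ℤ, Ideal.Quotient.mk I (T ((n : ℤ) * q)) = 1 := by
    have hnat : ∀ q : ℕ, Ideal.Quotient.mk I (T ((n : ℤ) * q)) = 1 := by
      intro q
      rw [mul_comm, ← T_pow, map_pow, hTn, one_pow]
    intro q
    rcases Int.eq_nat_or_neg q with ⟨m, rfl | rfl⟩
    · exact hnat m
    · have h1 : (T ((n : ℤ) * -(m : ℤ)) : k[T;T⁻¹]) * T ((n : ℤ) * m) = 1 := by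
        rw [← T_add, mul_neg, neg_add_cancel, T_zero]
      have h2 := congrArg (Ideal.Quotient.mk I) h1
      rwa [map_mul, hnat m, mul_one, map_one] at h2
  have hn' : (n : ℤ) ≠ 0 := by exact_mod_cast hn.ne'
  refine ⟨⟨(Finset.range n).image (fun s : ℕ => Ideal.Quotient.mk I (T (s : ℤ))), ?_⟩⟩
  rw [eq_top_iff]
  rintro x -
  obtain ⟨p, rfl⟩ := Ideal.Quotient.mk_surjective x
  induction p using LaurentPolynomial.induction_on' with
  | add p q hp hq => rw [map_add]; exact Submodule.add_mem _ hp hq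
  | C_mul_T m c =>
    have h1 : (C c * T m : k[T;T⁻¹]) = c • T m := by
      rw [Algebra.smul_def]; rfl
    have h2 : (T m : k[T;T⁻¹]) = T (m % n) * T ((n : ℤ) * (m / n)) := by
      rw [← T_add, Int.emod_add_mul_ediv]
    have h3 : Ideal.Quotient.mk I (T m) = Ideal.Quotient.mk I (T ((m % n).toNat : ℤ)) := by
      rw [h2, map_mul, hq, mul_one, Int.toNat_of_nonneg (Int.emod_nonneg _ hn')]
    rw [h1]
    have h4 : Ideal.Quotient.mk I (c • T m) = c • Ideal.Quotient.mk I (T m) := rfl
    rw [h4, h3]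
    apply Submodule.smul_mem
    apply Submodule.subset_span
    rw [Finset.coe_image]
    refine ⟨(m % n).toNat, ?_, rfl⟩
    rw [Finset.coe_range, Set.mem_Iio]
    have := Int.emod_lt_of_pos m (by exact_mod_cast hn : (0 : ℤ) < n)
    omega

/-- The Laurent polynomial ring is not finite over `k`. -/
lemma not_finite_laurent : ¬ Module.Finite k k[T;T⁻¹] := by
  intro h
  haveI : Module.Finite k (ℤ →₀ k) :=
    Module.Finite.equiv (AddMonoidAlgebra.coeffLinearEquiv (S := k) (M := ℤ) k)
  haveI := Module.Finite.finite_basis (Finsupp.basisSingleOne (R := k) (ι := ℤ))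
  exact not_finite ℤ

/-- Non-closedness criterion. -/
lemma not_isClosed_range_comap {R : Type*} [CommRing R] [Algebra k R] (φ : R →ₐ[k] k[T;T⁻¹])
    (h : R →ₐ[k] Polynomial k) (j : Polynomial k →ₐ[k] k[T;T⁻¹]) (hj : Function.Injective j)
    (hφ : φ = j.comp h) (f : R) (hf : IsUnit (φ f)) (hf0 : (h f).eval 0 = 0) :
    ¬ IsClosed (Set.range (PrimeSpectrum.comap φ.toRingHom)) := by
  intro hcl
  let ψ : R →+* k := (Polynomial.evalRingHom (0 : k)).comp h.toRingHom
  let q : PrimeSpectrum R := ⟨RingHom.ker ψ, RingHom.ker_isPrime ψ⟩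
  have hq : q ∈ closure (Set.range (PrimeSpectrum.comap φ.toRingHom)) := by
    rw [PrimeSpectrum.closure_range_comap, PrimeSpectrum.mem_zeroLocus]
    intro g hg
    have hg' : φ g = 0 := hg
    rw [hφ, AlgHom.comp_apply, ← map_zero j] at hg'
    have hg2 : h g = 0 := hj hg'
    change ψ g = 0
    change Polynomial.eval 0 (h g) = 0
    rw [hg2, Polynomial.eval_zero]
  rw [hcl.closure_eq] at hq
  obtain ⟨P, hP⟩ := hq
  have hfq : f ∈ q.asIdeal := by
    change ψ f = 0
    exact hf0
  rw [← hP] at hfq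
  have hfP : φ f ∈ P.asIdeal := hfq
  exact P.isPrime.ne_top (Ideal.eq_top_of_isUnit_mem _ hfP hf)

end

end Groth.Agent.H96.GmStable
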