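import Groth.Prelude.Def_GLin
import Groth.Prelude.Def_HopfRep
import Mathlib.RingTheory.HopfAlgebra.MonoidAlgebra
import Mathlib.Algebra.Polynomial.Laurent
import Mathlib.RingTheory.MvPolynomial.Homogeneous

/-!
# Diagonal actions of the multiplicative group on affine space: weights of monomials
-/

set_option autoImplicit false
set_option linter.unusedSectionVars false
universe u

open TensorProduct LaurentPolynomial

namespace Groth.Agent.H96.GmWeights

noncomputable section

variable {k : Type u} [Field k] {ι : Type u} [Fintype ι]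

/-- weight of a monomial -/
def wt (r : ι → ℤ) (m : ι →₀ ℕ) : ℤ := ∑ i, (m i : ℤ) * r i

lemma wt_zero (r : ι → ℤ) : wt r 0 = 0 := by simp [wt]

lemma wt_add (r : ι → ℤ) (m m' : ι →₀ ℕ) : wt r (m + m') = wt r m + wt r m' := by
  simp [wt, add_mul, Finset.sum_add_distrib]

lemma wt_single [DecidableEq ι] (r : ι → ℤ) (i : ι) (e : ℕ) : wt r (Finsupp.single i e) = e * r i := by
  unfold wt
  rw [Finset.sum_eq_single i]
  · simp
  · intro b _ hb
    simp [Finsupp.single_eq_of_ne hb]
  · intro h; exact absurd (Finset.mem_univ _) h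

lemma T_injective : Function.Injective (T : ℤ → k[T;T⁻¹]) := by
  intro a b h
  have h1 := congrArg (fun x : k[T;T⁻¹] => x.coeff b) h
  simp only [T_apply] at h1
  by_contra hab
  simp [hab] at h1

variable [HopfRep.Comod k k[T;T⁻¹] (MvPolynomial ι k)] [GLin.IsCoactAlg k k[T;T⁻¹] (MvPolynomial ι k)]
variable (r : ι → ℤ)
  (hr : ∀ i : ι, HopfRep.Comod.coact (k := k) (A := k[T;T⁻¹]) (MvPolynomial.X i : MvPolynomial ι k) =
      (MvPolynomial.X i : MvPolynomial ι k) ⊗ₜ[k] (T (r i) : k[T;T⁻¹]))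

include hr

lemma coact_monomial (m : ι →₀ ℕ) (c : k) :
    HopfRep.Comod.coact (k := k) (A := k[T;T⁻¹]) (MvPolynomial.monomial m c : MvPolynomial ι k) =
      (MvPolynomial.monomial m c : MvPolynomial ι k) ⊗ₜ[k] (T (wt r m) : k[T;T⁻¹]) := by
  classical
  induction m using Finsupp.induction generalizing c with
  | zero =>
    have h1 : (MvPolynomial.monomial (0 : ι →₀ ℕ) c : MvPolynomial ι k) = c • 1 := by
      rw [MvPolynomial.smul_eq_C_mul, mul_one]; rfl
    rw [h1, map_smul, GLin.IsCoactAlg.coact_one (k := k) (A := k[T;T⁻¹]) (R := MvPolynomial ι k),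
      wt_zero, T_zero, Algebra.TensorProduct.one_def, smul_tmul']
  | single_add i e m hi he ih =>
    rw [add_comm, MvPolynomial.monomial_add_single, GLin.IsCoactAlg.coact_mul, ih,
      ← GLin.coactAlgHom_apply, map_pow, GLin.coactAlgHom_apply, hr, Algebra.TensorProduct.tmul_pow,
      Algebra.TensorProduct.tmul_mul_tmul, T_pow, ← T_add, wt_add, wt_single]

/-- the coefficient extraction functional `p ⊗ t ↦ coeff m p • t` -/
def ext (m : ι →₀ ℕ) : MvPolynomial ι k ⊗[k] k[T;T⁻¹] →ₗ[k] k[T;T⁻¹] :=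
  (TensorProduct.lid k _).toLinearMap ∘ₗ LinearMap.rTensor _ (MvPolynomial.lcoeff k m)

omit hr in
@[simp] lemma ext_tmul (m : ι →₀ ℕ) (p : MvPolynomial ι k) (t : k[T;T⁻¹]) :
    ext m (p ⊗ₜ[k] t) = MvPolynomial.coeff m p • t := by
  simp [ext]

lemma coact_eq_sum (f : MvPolynomial ι k) :
    HopfRep.Comod.coact (k := k) (A := k[T;T⁻¹]) f =
      ∑ m ∈ f.support, (MvPolynomial.monomial m (MvPolynomial.coeff m f) : MvPolynomial ι k) ⊗ₜ[k]
        (T (wt r m) : k[T;T⁻¹]) := by
  conv_lhs => rw [← MvPolynomial.support_sum_monomial_coeff f, map_sum]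
  exact Finset.sum_congr rfl (fun m _ => coact_monomial r hr m _)

lemma wt_eq_zero_of_mem_invariants (f : MvPolynomial ι k)
    (hf : f ∈ GLin.invariants k k[T;T⁻¹] (MvPolynomial ι k)) (m : ι →₀ ℕ)
    (hm : MvPolynomial.coeff m f ≠ 0) : wt r m = 0 := by
  classical
  have h1 : HopfRep.Comod.coact (k := k) (A := k[T;T⁻¹]) f = f ⊗ₜ[k] (1 : k[T;T⁻¹]) := hf
  rw [coact_eq_sum r hr f] at h1
  have h2 := congrArg (ext m) h1
  simp only [map_sum, ext_tmul, MvPolynomial.coeff_monomial] at h2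
  rw [Finset.sum_eq_single m] at h2
  · simp only [if_true] at h2
    have h3 : (T (wt r m) : k[T;T⁻¹]) = 1 := by
      have := congrArg (fun x => (MvPolynomial.coeff m f)⁻¹ • x) h2
      simpa [smul_smul, inv_mul_cancel₀ hm] using this
    rw [← T_zero] at h3
    exact T_injective h3
  · intro b _ hb
    simp [hb]
  · intro h
    exact absurd (MvPolynomial.mem_support_iff.mpr hm) h

lemma monomial_mem_invariants (m : ι →₀ ℕ) (hm : wt r m = 0) (c : k) :
    (MvPolynomial.monomial m c : MvPolynomial ι k) ∈ GLin.invariants k k[T;T⁻¹] (MvPolynomial ι k) := by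
  change HopfRep.Comod.coact (k := k) (A := k[T;T⁻¹]) _ = _ ⊗ₜ[k] (1 : k[T;T⁻¹])
  rw [coact_monomial r hr, hm, T_zero]

end

end Groth.Agent.H96.GmWeights
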