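import Mathlib

/-!
# Power series with nonnegative integer coefficients: supports of sums and products
-/

set_option autoImplicit false
set_option linter.style.haveILetI false
set_option linter.unusedSectionVars false
set_option linter.unusedVariables false

open MvPowerSeries Finset

namespace Groth.Agent.H96.PosSeries

variable {τ : Type*}

/-- All coefficients are nonnegative. -/
def NN (f : MvPowerSeries τ ℤ) : Prop := ∀ m, 0 ≤ coeff m f

theorem NN.zero : NN (0 : MvPowerSeries τ ℤ) := fun m => by simp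

theorem NN.one : NN (1 : MvPowerSeries τ ℤ) := fun m => by
  classical
  rw [coeff_one]
  split_ifs <;> simp

theorem NN.add {f g : MvPowerSeries τ ℤ} (hf : NN f) (hg : NN g) : NN (f + g) := fun m => by
  rw [map_add]
  exact add_nonneg (hf m) (hg m)

theorem NN.mul {f g : MvPowerSeries τ ℤ} (hf : NN f) (hg : NN g) : NN (f * g) := fun m => by
  classical
  rw [coeff_mul]
  exact Finset.sum_nonneg fun p _ => mul_nonneg (hf _) (hg _)

theorem NN.sum {ι : Type*} (s : Finset ι) (f : ι → MvPowerSeries τ ℤ) (h : ∀ i ∈ s, NN (f i)) :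
    NN (∑ i ∈ s, f i) := fun m => by
  rw [map_sum]
  exact Finset.sum_nonneg fun i hi => h i hi m

theorem NN.prod {ι : Type*} (s : Finset ι) (f : ι → MvPowerSeries τ ℤ) (h : ∀ i ∈ s, NN (f i)) :
    NN (∏ i ∈ s, f i) := by
  classical
  induction s using Finset.induction_on with
  | empty => simpa using NN.one
  | insert a s ha ih =>
    rw [Finset.prod_insert ha]
    exact (h a (mem_insert_self a s)).mul (ih fun i hi => h i (mem_insert_of_mem hi))

theorem NN.pow {f : MvPowerSeries τ ℤ} (hf : NN f) (j : ℕ) : NN (f ^ j) := by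
  induction j with
  | zero => simpa using NN.one
  | succ j ih => rw [pow_succ]; exact ih.mul hf

theorem NN.monomial (n : τ →₀ ℕ) (c : ℤ) (hc : 0 ≤ c) : NN (monomial n c) := fun m => by
  classical
  rw [coeff_monomial]
  split_ifs <;> simp [hc]

theorem pos_add_iff {f g : MvPowerSeries τ ℤ} (hf : NN f) (hg : NN g) (m : τ →₀ ℕ) :
    0 < coeff m (f + g) ↔ 0 < coeff m f ∨ 0 < coeff m g := by
  rw [map_add]
  have h1 := hf m
  have h2 := hg m
  constructor
  · intro h
    by_contra hc
    push Not at hc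
    omega
  · rintro (h | h) <;> omega

theorem pos_mul_iff {f g : MvPowerSeries τ ℤ} (hf : NN f) (hg : NN g) (m : τ →₀ ℕ) :
    0 < coeff m (f * g) ↔ ∃ a b, a + b = m ∧ 0 < coeff a f ∧ 0 < coeff b g := by
  classical
  rw [coeff_mul, Finset.sum_pos_iff_of_nonneg (fun p _ => mul_nonneg (hf _) (hg _))]
  constructor
  · rintro ⟨p, hp, h⟩
    refine ⟨p.1, p.2, mem_antidiagonal.mp hp, ?_⟩
    have h1 := hf p.1
    have h2 := hg p.2
    constructor
    · by_contra hc
      have : coeff p.1 f = 0 := by omega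
      rw [this, zero_mul] at h
      exact lt_irrefl _ h
    · by_contra hc
      have : coeff p.2 g = 0 := by omega
      rw [this, mul_zero] at h
      exact lt_irrefl _ h
  · rintro ⟨a, b, hab, ha, hb⟩
    exact ⟨(a, b), mem_antidiagonal.mpr hab, mul_pos ha hb⟩

theorem pos_sum_iff {ι : Type*} (s : Finset ι) (f : ι → MvPowerSeries τ ℤ)
    (h : ∀ i ∈ s, NN (f i)) (m : τ →₀ ℕ) :
    0 < coeff m (∑ i ∈ s, f i) ↔ ∃ i ∈ s, 0 < coeff m (f i) := by
  rw [map_sum, Finset.sum_pos_iff_of_nonneg (fun i hi => h i hi m)]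

theorem pos_one_iff (m : τ →₀ ℕ) : 0 < coeff m (1 : MvPowerSeries τ ℤ) ↔ m = 0 := by
  classical
  rw [coeff_one]
  split_ifs with h <;> simp [h]

theorem pos_prod_iff {ι : Type*} [DecidableEq ι] (s : Finset ι) (f : ι → MvPowerSeries τ ℤ)
    (h : ∀ i ∈ s, NN (f i)) (m : τ →₀ ℕ) :
    0 < coeff m (∏ i ∈ s, f i) ↔
      ∃ a : ι → (τ →₀ ℕ), ∑ i ∈ s, a i = m ∧ ∀ i ∈ s, 0 < coeff (a i) (f i) := by
  induction s using Finset.induction_on generalizing m with
  | empty =>
    rw [Finset.prod_empty, pos_one_iff]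
    constructor
    · rintro rfl
      exact ⟨fun _ => 0, by simp, by simp⟩
    · rintro ⟨a, ha, -⟩
      rw [← ha, Finset.sum_empty]
  | insert i₀ s hi₀ ih =>
    have hs : ∀ i ∈ s, NN (f i) := fun i hi => h i (mem_insert_of_mem hi)
    rw [Finset.prod_insert hi₀, pos_mul_iff (h i₀ (mem_insert_self _ _)) (NN.prod s f hs)]
    constructor
    · rintro ⟨a, b, hab, ha, hb⟩
      obtain ⟨c, hc1, hc2⟩ := (ih hs b).mp hb
      refine ⟨Function.update c i₀ a, ?_, ?_⟩
      · rw [Finset.sum_insert hi₀, Function.update_self]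
        have : ∑ i ∈ s, Function.update c i₀ a i = ∑ i ∈ s, c i := by
          refine Finset.sum_congr rfl fun i hi => ?_
          rw [Function.update_of_ne]
          rintro rfl
          exact hi₀ hi
        rw [this, hc1, hab]
      · intro i hi
        rcases mem_insert.mp hi with rfl | hi'
        · rwa [Function.update_self]
        · rw [Function.update_of_ne]
          · exact hc2 i hi'
          · rintro rfl
            exact hi₀ hi'
    · rintro ⟨c, hc1, hc2⟩
      rw [Finset.sum_insert hi₀] at hc1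
      exact ⟨c i₀, ∑ i ∈ s, c i, hc1, hc2 i₀ (mem_insert_self _ _),
        (ih hs _).mpr ⟨c, rfl, fun i hi => hc2 i (mem_insert_of_mem hi)⟩⟩

end Groth.Agent.H96.PosSeries
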