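import Mathlib
import Groth.Agent.H96.PosSeries

/-!
# The Hodge series of complete intersections: supports

Explicit description of the supports of the series `Pser b`, `Nser b`, `((1+y)(1+z))^j` and of the
solution `Hs` of `(1 - Pser b) * Hs = Nser b`.
-/

set_option autoImplicit false
set_option linter.style.haveILetI false
set_option linter.unusedSectionVars false
set_option linter.unusedVariables false

open MvPowerSeries Finset

namespace Groth.Agent.H96.HodgeSeries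

open Groth.Agent.H96.PosSeries

/-- The exponent `y^p z^q`. -/
noncomputable def idx (p q : ℕ) : Fin 2 →₀ ℕ := Finsupp.single 0 p + Finsupp.single 1 q

@[simp] theorem idx_zero (p q : ℕ) : idx p q 0 = p := by simp [idx]

@[simp] theorem idx_one (p q : ℕ) : idx p q 1 = q := by simp [idx]

theorem ext2 {m m' : Fin 2 →₀ ℕ} (h0 : m 0 = m' 0) (h1 : m 1 = m' 1) : m = m' := by
  ext i
  fin_cases i
  · exact h0
  · exact h1

theorem eq_idx (m : Fin 2 →₀ ℕ) : m = idx (m 0) (m 1) := ext2 (by simp) (by simp)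

theorem idx_add (p q p' q' : ℕ) : idx p q + idx p' q' = idx (p + p') (q + q') :=
  ext2 (by simp) (by simp)

theorem idx_eq_iff (m : Fin 2 →₀ ℕ) (p q : ℕ) : m = idx p q ↔ m 0 = p ∧ m 1 = q := by
  constructor
  · rintro rfl
    simp
  · rintro ⟨h0, h1⟩
    exact ext2 (by simp [h0]) (by simp [h1])

/-- The ring of power series in `y`, `z`. -/
abbrev R := MvPowerSeries (Fin 2) ℤ

/-- A term `c y^u z^v`. -/
noncomputable def term (c u v : ℕ) : R := (c : R) * (X 0) ^ u * (X 1) ^ v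

theorem term_eq (c u v : ℕ) : term c u v = monomial (idx u v) (c : ℤ) := by
  unfold term
  rw [X_pow_eq, X_pow_eq, mul_assoc, monomial_mul_monomial, mul_one]
  have : (c : R) = C (c : ℤ) := by simp
  rw [this]
  ext m
  rw [coeff_C_mul]
  classical
  rw [coeff_monomial, coeff_monomial]
  unfold idx
  split_ifs <;> simp

theorem nn_term (c u v : ℕ) : NN (term c u v) := by
  rw [term_eq]
  exact NN.monomial _ _ (by positivity)

theorem pos_term_iff (c u v : ℕ) (m : Fin 2 →₀ ℕ) :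
    0 < coeff m (term c u v) ↔ (m 0 = u ∧ m 1 = v) ∧ 0 < c := by
  classical
  rw [term_eq, coeff_monomial]
  split_ifs with h
  · rw [idx_eq_iff] at h
    simp [h]
  · rw [idx_eq_iff] at h
    simp [h]

/-- The series `P_b`. -/
noncomputable def Pser (b : ℕ) : R :=
  ∑ u ∈ Finset.range (b + 1), ∑ v ∈ Finset.range (b + 1),
    if 1 ≤ u ∧ 1 ≤ v ∧ u + v ≤ b then (b.choose (u + v) : R) * (X 0) ^ u * (X 1) ^ v else 0

/-- The series `N_b`. -/
noncomputable def Nser (b : ℕ) : R :=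
  ∑ u ∈ Finset.range b, ∑ v ∈ Finset.range b,
    if u + v + 1 ≤ b - 1 then ((b - 1).choose (u + v + 1) : R) * (X 0) ^ u * (X 1) ^ v else 0

theorem Pser_eq (b : ℕ) : Pser b = ∑ u ∈ Finset.range (b + 1), ∑ v ∈ Finset.range (b + 1),
    if 1 ≤ u ∧ 1 ≤ v ∧ u + v ≤ b then term (b.choose (u + v)) u v else 0 := rfl

theorem Nser_eq (b : ℕ) : Nser b = ∑ u ∈ Finset.range b, ∑ v ∈ Finset.range b,
    if u + v + 1 ≤ b - 1 then term ((b - 1).choose (u + v + 1)) u v else 0 := rfl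

theorem nn_ite (c : Prop) [Decidable c] (f : R) (hf : NN f) : NN (if c then f else 0) := by
  split_ifs
  · exact hf
  · exact NN.zero

theorem nn_Pser (b : ℕ) : NN (Pser b) :=
  NN.sum _ _ fun u _ => NN.sum _ _ fun v _ => nn_ite _ _ (nn_term _ u v)

theorem nn_Nser (b : ℕ) : NN (Nser b) :=
  NN.sum _ _ fun u _ => NN.sum _ _ fun v _ => nn_ite _ _ (nn_term _ u v)

theorem pos_Pser_iff (b : ℕ) (m : Fin 2 →₀ ℕ) :
    0 < coeff m (Pser b) ↔ 1 ≤ m 0 ∧ 1 ≤ m 1 ∧ m 0 + m 1 ≤ b := by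
  rw [Pser_eq]
  rw [pos_sum_iff _ _ (fun u _ => NN.sum _ _ fun v _ => nn_ite _ _ (nn_term _ u v))]
  constructor
  · rintro ⟨u, -, hu⟩
    rw [pos_sum_iff _ _ (fun v _ => nn_ite _ _ (nn_term _ u v))] at hu
    obtain ⟨v, -, hv⟩ := hu
    split_ifs at hv with hc
    · have := (pos_term_iff _ u v m).mp hv
      omega
    · simp at hv
  · rintro ⟨h0, h1, hb⟩
    refine ⟨m 0, Finset.mem_range.mpr (by omega), ?_⟩
    rw [pos_sum_iff _ _ (fun v _ => nn_ite _ _ (nn_term _ (m 0) v))]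
    refine ⟨m 1, Finset.mem_range.mpr (by omega), ?_⟩
    rw [if_pos ⟨h0, h1, hb⟩]
    exact (pos_term_iff _ _ _ m).mpr ⟨⟨rfl, rfl⟩, Nat.choose_pos hb⟩

theorem pos_Nser_iff (b : ℕ) (m : Fin 2 →₀ ℕ) :
    0 < coeff m (Nser b) ↔ m 0 + m 1 + 2 ≤ b := by
  rw [Nser_eq]
  rw [pos_sum_iff _ _ (fun u _ => NN.sum _ _ fun v _ => nn_ite _ _ (nn_term _ u v))]
  constructor
  · rintro ⟨u, -, hu⟩
    rw [pos_sum_iff _ _ (fun v _ => nn_ite _ _ (nn_term _ u v))] at hu
    obtain ⟨v, -, hv⟩ := hu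
    split_ifs at hv with hc
    · have := (pos_term_iff _ u v m).mp hv
      omega
    · simp at hv
  · intro hb
    refine ⟨m 0, Finset.mem_range.mpr (by omega), ?_⟩
    rw [pos_sum_iff _ _ (fun v _ => nn_ite _ _ (nn_term _ (m 0) v))]
    refine ⟨m 1, Finset.mem_range.mpr (by omega), ?_⟩
    have hc : m 0 + m 1 + 1 ≤ b - 1 := by omega
    rw [if_pos hc]
    exact (pos_term_iff _ _ _ m).mpr ⟨⟨rfl, rfl⟩, Nat.choose_pos hc⟩

/-- The series `(1 + y)(1 + z)`. -/
noncomputable def E : R := (1 + X 0) * (1 + X 1)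

theorem X_eq_term0 : (X 0 : R) = term 1 1 0 := by
  unfold term
  simp

theorem X_eq_term1 : (X 1 : R) = term 1 0 1 := by
  unfold term
  simp

theorem nn_E : NN E :=
  (NN.one.add (X_eq_term0 ▸ nn_term 1 1 0)).mul (NN.one.add (X_eq_term1 ▸ nn_term 1 0 1))

theorem pos_E_iff (m : Fin 2 →₀ ℕ) : 0 < coeff m E ↔ m 0 ≤ 1 ∧ m 1 ≤ 1 := by
  unfold E
  have h0 : NN (1 + X 0 : R) := NN.one.add (X_eq_term0 ▸ nn_term 1 1 0)
  have h1 : NN (1 + X 1 : R) := NN.one.add (X_eq_term1 ▸ nn_term 1 0 1)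
  rw [pos_mul_iff h0 h1]
  constructor
  · rintro ⟨a, b, hab, ha, hb⟩
    rw [pos_add_iff NN.one (X_eq_term0 ▸ nn_term 1 1 0), pos_one_iff, X_eq_term0,
      pos_term_iff] at ha
    rw [pos_add_iff NN.one (X_eq_term1 ▸ nn_term 1 0 1), pos_one_iff, X_eq_term1,
      pos_term_iff] at hb
    subst hab
    simp only [Finsupp.add_apply]
    rcases ha with rfl | ⟨⟨ha0, ha1⟩, -⟩ <;> rcases hb with rfl | ⟨⟨hb0, hb1⟩, -⟩ <;>
      simp_all
  · rintro ⟨h0', h1'⟩
    refine ⟨idx (m 0) 0, idx 0 (m 1), ?_, ?_, ?_⟩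
    · rw [idx_add]
      simpa using (eq_idx m).symm
    · rw [pos_add_iff NN.one (X_eq_term0 ▸ nn_term 1 1 0), pos_one_iff, X_eq_term0, pos_term_iff]
      rcases Nat.le_one_iff_eq_zero_or_eq_one.mp h0' with h | h
      · left
        exact ext2 (by simp [h]) (by simp)
      · right
        simp [h]
    · rw [pos_add_iff NN.one (X_eq_term1 ▸ nn_term 1 0 1), pos_one_iff, X_eq_term1, pos_term_iff]
      rcases Nat.le_one_iff_eq_zero_or_eq_one.mp h1' with h | h
      · left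
        exact ext2 (by simp) (by simp [h])
      · right
        simp [h]

theorem pos_E_pow_iff (j : ℕ) (m : Fin 2 →₀ ℕ) : 0 < coeff m (E ^ j) ↔ m 0 ≤ j ∧ m 1 ≤ j := by
  induction j generalizing m with
  | zero =>
    rw [pow_zero, pos_one_iff]
    constructor
    · rintro rfl
      simp
    · rintro ⟨h0, h1⟩
      exact ext2 (by simpa using h0) (by simpa using h1)
  | succ j ih =>
    rw [pow_succ, pos_mul_iff (nn_E.pow j) nn_E]
    constructor
    · rintro ⟨a, b, hab, ha, hb⟩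
      rw [ih] at ha
      rw [pos_E_iff] at hb
      subst hab
      simp only [Finsupp.add_apply]
      omega
    · rintro ⟨h0, h1⟩
      refine ⟨idx (min (m 0) j) (min (m 1) j), idx (m 0 - min (m 0) j) (m 1 - min (m 1) j),
        ?_, ?_, ?_⟩
      · rw [idx_add]
        refine (ext2 ?_ ?_).trans (eq_idx m).symm <;> simp
      · rw [ih]
        simp
      · rw [pos_E_iff]
        simp only [idx_zero, idx_one]
        omega

end Groth.Agent.H96.HodgeSeries
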