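import Mathlib
import Groth.Agent.H96.HodgeSeries

/-!
# The support of the hypersurface Hodge series
-/

set_option autoImplicit false
set_option linter.style.haveILetI false
set_option linter.unusedSectionVars false
set_option linter.unusedVariables false

open MvPowerSeries Finset

namespace Groth.Agent.H96.HodgeSeries

open Groth.Agent.H96.PosSeries

/-- The support of the series `N_b / (1 - P_b)`. -/
inductive InH (b : ℕ) : (Fin 2 →₀ ℕ) → Prop
  | base (m : Fin 2 →₀ ℕ) (h : m 0 + m 1 + 2 ≤ b) : InH b m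
  | step (a c : Fin 2 →₀ ℕ) (h0 : 1 ≤ a 0) (h1 : 1 ≤ a 1) (hb : a 0 + a 1 ≤ b) (hc : InH b c) :
      InH b (a + c)

theorem InH.bound {b : ℕ} {m : Fin 2 →₀ ℕ} (h : InH b m) (A : ℕ) (hA : b ≤ A) :
    m 0 + m 1 + 2 ≤ b + A * m 0 := by
  induction h with
  | base m h => omega
  | step a c h0 h1 hb hc ih =>
    simp only [Finsupp.add_apply]
    have h2 : A * (a 0 + c 0) = A * a 0 + A * c 0 := by ring
    have h3 : A ≤ A * a 0 := Nat.le_mul_of_pos_right A h0
    omega

theorem InH.two_le {b : ℕ} {m : Fin 2 →₀ ℕ} (h : InH b m) : 2 ≤ b := by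
  induction h with
  | base m h => omega
  | step a c h0 h1 hb hc ih => exact ih

theorem InH.of_numbers (b : ℕ) (hb : 2 ≤ b) (v0 : ℕ) (hv0 : v0 + 2 ≤ b) (p : ℕ) :
    ∀ V : ℕ, p ≤ V → V ≤ p * (b - 1) → InH b (idx p (v0 + V)) := by
  induction p with
  | zero =>
    intro V h1 h2
    have hV : V = 0 := by omega
    subst hV
    exact InH.base _ (by simp; omega)
  | succ p ih =>
    intro V h1 h2
    have h3 : (p + 1) * (b - 1) = p * (b - 1) + (b - 1) := by ring
    by_cases hcase : b - 1 ≤ V - p
    · -- use the generator (1, b - 1)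
      have h4 := ih (V - (b - 1)) (by omega) (by omega)
      have h5 : idx (p + 1) (v0 + V) = idx 1 (b - 1) + idx p (v0 + (V - (b - 1))) := by
        rw [idx_add]
        exact ext2 (by simp; omega) (by simp; omega)
      rw [h5]
      exact InH.step _ _ (by simp) (by simp; omega) (by simp; omega) h4
    · -- use the generator (1, V - p)
      have h6 : p ≤ p * (b - 1) := Nat.le_mul_of_pos_right p (by omega)
      have h4 := ih p le_rfl h6
      have h5 : idx (p + 1) (v0 + V) = idx 1 (V - p) + idx p (v0 + p) := by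
        rw [idx_add]
        exact ext2 (by simp; omega) (by simp; omega)
      rw [h5]
      exact InH.step _ _ (by simp) (by simp; omega) (by simp; omega) h4

/-- The coefficients of the solution of `(1 - P_b) H = N_b` are nonnegative and its support is
`InH b`. -/
theorem hs_spec (b : ℕ) (Hs : R) (h : (1 - Pser b) * Hs = Nser b) :
    ∀ n : ℕ, ∀ m : Fin 2 →₀ ℕ, m 0 + m 1 = n →
      0 ≤ coeff m Hs ∧ (0 < coeff m Hs ↔ InH b m) := by
  classical
  have hrec : Hs = Nser b + Pser b * Hs := by
    rw [sub_mul, one_mul, sub_eq_iff_eq_add] at h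
    exact h
  intro n
  induction n using Nat.strong_induction_on with
  | _ n ih =>
    intro m hm
    have hcoef : coeff m Hs = coeff m (Nser b) +
        ∑ p ∈ antidiagonal m, coeff p.1 (Pser b) * coeff p.2 Hs := by
      conv_lhs => rw [hrec]
      rw [map_add, coeff_mul]
    -- the terms of the sum
    have hterm : ∀ p ∈ antidiagonal m, 0 ≤ coeff p.1 (Pser b) * coeff p.2 Hs ∧
        (0 < coeff p.1 (Pser b) * coeff p.2 Hs ↔
          (1 ≤ p.1 0 ∧ 1 ≤ p.1 1 ∧ p.1 0 + p.1 1 ≤ b) ∧ InH b p.2) := by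
      intro p hp
      have hpm : p.1 + p.2 = m := mem_antidiagonal.mp hp
      have hP0 := nn_Pser b p.1
      by_cases hP : 0 < coeff p.1 (Pser b)
      · have hP' := (pos_Pser_iff b p.1).mp hP
        have hdeg : p.2 0 + p.2 1 < n := by
          have e0 : m 0 = p.1 0 + p.2 0 := by rw [← hpm]; rfl
          have e1 : m 1 = p.1 1 + p.2 1 := by rw [← hpm]; rfl
          omega
        obtain ⟨i1, i2⟩ := ih _ hdeg p.2 rfl
        refine ⟨mul_nonneg hP0 i1, ?_⟩
        constructor
        · intro hpos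
          refine ⟨hP', i2.mp ?_⟩
          exact (mul_pos_iff_of_pos_left hP).mp hpos
        · rintro ⟨-, hin⟩
          exact mul_pos hP (i2.mpr hin)
      · have hz : coeff p.1 (Pser b) = 0 := le_antisymm (not_lt.mp hP) hP0
        rw [hz, zero_mul]
        refine ⟨le_rfl, ?_⟩
        constructor
        · intro hlt
          exact absurd hlt (lt_irrefl _)
        · rintro ⟨hP', -⟩
          exact absurd ((pos_Pser_iff b p.1).mpr hP') hP
    have hsum_nn : 0 ≤ ∑ p ∈ antidiagonal m, coeff p.1 (Pser b) * coeff p.2 Hs :=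
      Finset.sum_nonneg fun p hp => (hterm p hp).1
    have hN := nn_Nser b m
    refine ⟨by rw [hcoef]; exact add_nonneg hN hsum_nn, ?_⟩
    rw [hcoef]
    constructor
    · intro hpos
      by_cases hNpos : 0 < coeff m (Nser b)
      · exact InH.base m ((pos_Nser_iff b m).mp hNpos)
      · have hNz : coeff m (Nser b) = 0 := le_antisymm (not_lt.mp hNpos) hN
        rw [hNz, zero_add, Finset.sum_pos_iff_of_nonneg (fun p hp => (hterm p hp).1)] at hpos
        obtain ⟨p, hp, hpp⟩ := hpos
        obtain ⟨⟨h0, h1, hb⟩, hin⟩ := ((hterm p hp).2).mp hpp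
        have hpm : p.1 + p.2 = m := mem_antidiagonal.mp hp
        rw [← hpm]
        exact InH.step _ _ h0 h1 hb hin
    · intro hin
      cases hin with
      | base _ hb =>
        have := (pos_Nser_iff b m).mpr hb
        omega
      | step a c h0 h1 hb hc =>
        have hp : (a, c) ∈ antidiagonal (a + c) := mem_antidiagonal.mpr rfl
        have hpos : 0 < ∑ p ∈ antidiagonal (a + c), coeff p.1 (Pser b) * coeff p.2 Hs := by
          rw [Finset.sum_pos_iff_of_nonneg (fun p hp => (hterm p hp).1)]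
          exact ⟨(a, c), hp, ((hterm (a, c) hp).2).mpr ⟨⟨h0, h1, hb⟩, hc⟩⟩
        omega

theorem nn_Hs (b : ℕ) (Hs : R) (h : (1 - Pser b) * Hs = Nser b) : NN Hs :=
  fun m => (hs_spec b Hs h _ m rfl).1

theorem pos_Hs_iff (b : ℕ) (Hs : R) (h : (1 - Pser b) * Hs = Nser b) (m : Fin 2 →₀ ℕ) :
    0 < coeff m Hs ↔ InH b m :=
  (hs_spec b Hs h _ m rfl).2

end Groth.Agent.H96.HodgeSeries
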