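import Mathlib
import Groth.Agent.H96.HodgeSeries2

/-!
# The nonvanishing criterion for the Hodge series of complete intersections
-/

set_option autoImplicit false
set_option linter.style.haveILetI false
set_option linter.unusedSectionVars false
set_option linter.unusedVariables false

open MvPowerSeries Finset

namespace Groth.Agent.H96.HodgeSeries

open Groth.Agent.H96.PosSeries

theorem distribute {ι : Type*} [DecidableEq ι] (s : Finset ι) (κ : ι → ℕ) :
    ∀ ρ : ℕ, ρ ≤ ∑ i ∈ s, κ i → ∃ x : ι → ℕ, (∀ i ∈ s, x i ≤ κ i) ∧ ∑ i ∈ s, x i = ρ := by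
  induction s using Finset.induction_on with
  | empty =>
    intro ρ h
    refine ⟨fun _ => 0, by simp, ?_⟩
    simp at h
    simp [h]
  | insert i₀ s hi₀ ih =>
    intro ρ h
    rw [Finset.sum_insert hi₀] at h
    obtain ⟨x, hx1, hx2⟩ := ih (ρ - min ρ (κ i₀)) (by omega)
    refine ⟨Function.update x i₀ (min ρ (κ i₀)), ?_, ?_⟩
    · intro i hi
      rcases mem_insert.mp hi with rfl | hi'
      · rw [Function.update_self]
        exact min_le_right _ _
      · rw [Function.update_of_ne]
        · exact hx1 i hi'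
        · rintro rfl
          exact hi₀ hi'
    · rw [Finset.sum_insert hi₀, Function.update_self]
      have : ∑ i ∈ s, Function.update x i₀ (min ρ (κ i₀)) i = ∑ i ∈ s, x i := by
        refine Finset.sum_congr rfl fun i hi => ?_
        rw [Function.update_of_ne]
        rintro rfl
        exact hi₀ hi
      rw [this, hx2]
      omega

section Main

variable (d : ℕ) (a : Fin d → ℕ) (ha : ∀ i, 1 ≤ a i) (Hs : Fin d → R)
  (hHs : ∀ i, (1 - Pser (a i)) * Hs i = Nser (a i))

/-- The series `H`. -/
noncomputable def Hser : R :=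
  ∑ P ∈ (Finset.univ : Finset (Fin d)).powerset with P.Nonempty,
    E ^ (P.card - 1) * ∏ i ∈ P, Hs i

include hHs in
theorem nn_termP (P : Finset (Fin d)) : NN (E ^ (P.card - 1) * ∏ i ∈ P, Hs i) :=
  (nn_E.pow _).mul (NN.prod _ _ fun i _ => nn_Hs (a i) (Hs i) (hHs i))

include hHs in
theorem nn_Hser : NN (Hser d Hs) :=
  NN.sum _ _ fun P _ => nn_termP d a Hs hHs P

include ha hHs in
theorem pos_Hser_imp (p q : ℕ) (h : 0 < coeff (idx p q) (Hser d Hs)) :
    p + q + d < p * Finset.univ.sup a + ∑ i, a i := by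
  classical
  unfold Hser at h
  rw [pos_sum_iff _ _ (fun P _ => nn_termP d a Hs hHs P)] at h
  obtain ⟨P, hP, hpos⟩ := h
  have hPne : P.Nonempty := (Finset.mem_filter.mp hP).2
  rw [pos_mul_iff (nn_E.pow _) (NN.prod _ _ fun i _ => nn_Hs (a i) (Hs i) (hHs i))] at hpos
  obtain ⟨e, r, her, he, hr⟩ := hpos
  rw [pos_E_pow_iff] at he
  rw [pos_prod_iff _ _ (fun i _ => nn_Hs (a i) (Hs i) (hHs i))] at hr
  obtain ⟨c, hc1, hc2⟩ := hr
  set A := Finset.univ.sup a with hA
  have hle : ∀ i, a i ≤ A := fun i => Finset.le_sup (f := a) (Finset.mem_univ i)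
  have hb : ∀ i ∈ P, c i 0 + c i 1 + 2 ≤ a i + A * c i 0 := fun i hi =>
    ((pos_Hs_iff (a i) (Hs i) (hHs i) (c i)).mp (hc2 i hi)).bound A (hle i)
  have hsum := Finset.sum_le_sum hb
  rw [Finset.sum_add_distrib, Finset.sum_add_distrib, Finset.sum_add_distrib, Finset.sum_const,
    ← Finset.mul_sum, smul_eq_mul] at hsum
  have hp : p = e 0 + ∑ i ∈ P, c i 0 := by
    have := congrArg (fun m : Fin 2 →₀ ℕ => m 0) her
    simp only [Finsupp.add_apply, idx_zero] at this
    rw [← this, ← hc1, Finsupp.finsetSum_apply]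
  have hq : q = e 1 + ∑ i ∈ P, c i 1 := by
    have := congrArg (fun m : Fin 2 →₀ ℕ => m 1) her
    simp only [Finsupp.add_apply, idx_one] at this
    rw [← this, ← hc1, Finsupp.finsetSum_apply]
  have hcard : 1 ≤ P.card := Finset.card_pos.mpr hPne
  have hA1 : 1 ≤ A := by
    obtain ⟨i, hi⟩ := hPne
    exact (ha i).trans (hle i)
  have hall : ∑ i ∈ P, a i + (d - P.card) ≤ ∑ i, a i := by
    have h1 : ∑ i, a i = ∑ i ∈ P, a i + ∑ i ∈ Finset.univ \ P, a i := by
      rw [← Finset.sum_union (Finset.disjoint_sdiff)]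
      congr 1
      exact (Finset.union_sdiff_of_subset (Finset.subset_univ P)).symm
    have h2 : (Finset.univ \ P).card ≤ ∑ i ∈ Finset.univ \ P, a i := by
      rw [Finset.card_eq_sum_ones]
      exact Finset.sum_le_sum fun i _ => ha i
    have h3 : (Finset.univ \ P).card = d - P.card := by
      rw [Finset.card_sdiff_of_subset (Finset.subset_univ P), Finset.card_univ, Fintype.card_fin]
    omega
  have hPd : P.card ≤ d := by
    have := Finset.card_le_univ P
    rwa [Fintype.card_fin] at this
  set S0 := ∑ i ∈ P, c i 0 with hS0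
  set S1 := ∑ i ∈ P, c i 1 with hS1
  have h4 : e 0 ≤ e 0 * A := Nat.le_mul_of_pos_right _ hA1
  have h5 : p * A = e 0 * A + A * S0 := by rw [hp]; ring
  rw [h5]
  omega

include ha hHs in
theorem pos_Hser_of (p q : ℕ) (hpq : p ≤ q)
    (h : p + q + d < p * Finset.univ.sup a + ∑ i, a i) :
    0 < coeff (idx p q) (Hser d Hs) := by
  classical
  rcases Nat.eq_zero_or_pos d with rfl | hd
  · simp at h
  haveI : Nonempty (Fin d) := Fin.pos_iff_nonempty.mp hd
  obtain ⟨i₀, -, hi₀⟩ := Finset.exists_mem_eq_sup Finset.univ Finset.univ_nonempty a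
  set A := Finset.univ.sup a with hA
  have hle : ∀ i, a i ≤ A := fun i => Finset.le_sup (f := a) (Finset.mem_univ i)
  set P : Finset (Fin d) := Finset.univ.filter (fun i => 2 ≤ a i) with hPdef
  have hsplit : ∑ i, a i = ∑ i ∈ P, a i + (d - P.card) := by
    have h1 : ∑ i, a i = ∑ i ∈ P, a i + ∑ i ∈ Finset.univ.filter (fun i => ¬ 2 ≤ a i), a i :=
      (Finset.sum_filter_add_sum_filter_not Finset.univ (fun i => 2 ≤ a i) a).symm
    have h2 : ∑ i ∈ Finset.univ.filter (fun i => ¬ 2 ≤ a i), a i =
        (Finset.univ.filter (fun i => ¬ 2 ≤ a i)).card := by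
      rw [Finset.card_eq_sum_ones]
      refine Finset.sum_congr rfl fun i hi => ?_
      have := (Finset.mem_filter.mp hi).2
      have := ha i
      omega
    have h3 : P.card + (Finset.univ.filter (fun i => ¬ 2 ≤ a i)).card = d := by
      have := Finset.card_filter_add_card_filter_not (s := (Finset.univ : Finset (Fin d)))
        (fun i => 2 ≤ a i)
      rw [Finset.card_univ, Fintype.card_fin] at this
      exact this
    omega
  have hPd : P.card ≤ d := by
    have := Finset.card_le_univ P
    rwa [Fintype.card_fin] at this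
  -- `A ≥ 2`
  have hA2 : 2 ≤ A := by
    by_contra hlt
    have hA1 : A ≤ 1 := by omega
    have hPe : P = ∅ := by
      rw [Finset.eq_empty_iff_forall_notMem]
      intro i hi
      have := (Finset.mem_filter.mp hi).2
      have := hle i
      omega
    rw [hPe] at hsplit
    simp only [Finset.sum_empty, Finset.card_empty, zero_add, Nat.sub_zero] at hsplit
    have : p * A ≤ p := by
      calc p * A ≤ p * 1 := Nat.mul_le_mul_left p hA1
        _ = p := mul_one p
    omega
  have hi₀P : i₀ ∈ P := Finset.mem_filter.mpr ⟨Finset.mem_univ _, by rw [← hi₀]; exact hA2⟩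
  have hcard : 1 ≤ P.card := Finset.card_pos.mpr ⟨i₀, hi₀P⟩
  -- the capacities
  set κ : Fin d → ℕ := fun i => a i - 2 with hκ
  have hPa : ∑ i ∈ P, a i = ∑ i ∈ P, κ i + 2 * P.card := by
    have : ∀ i ∈ P, a i = κ i + 2 := fun i hi => by
      have := (Finset.mem_filter.mp hi).2
      simp only [hκ]
      omega
    rw [Finset.sum_congr rfl this, Finset.sum_add_distrib, Finset.sum_const, smul_eq_mul, mul_comm]
  set C := ∑ i ∈ P, κ i with hC
  obtain ⟨A', hA'⟩ : ∃ A', A = A' + 2 := ⟨A - 2, by omega⟩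
  have hpA : p * A = p * (A - 1) + p := by
    rw [hA']
    have : A' + 2 - 1 = A' + 1 := by omega
    rw [this]
    ring
  have hq_le : q + 1 ≤ p * (A - 1) + C + P.card := by omega
  have hpV : p ≤ p * (A - 1) := Nat.le_mul_of_pos_right p (by omega)
  set V := min q (p * (A - 1)) with hV
  have hV1 : p ≤ V := le_min hpq hpV
  have hV2 : V ≤ p * (A - 1) := min_le_right _ _
  have hV3 : V ≤ q := min_le_left _ _
  set ρ := q - V with hρ
  set e1 := min ρ (P.card - 1) with he1
  have hρ' : ρ - e1 ≤ C := by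
    rcases le_total q (p * (A - 1)) with hc | hc
    · have : V = q := min_eq_left hc
      omega
    · have : V = p * (A - 1) := min_eq_right hc
      omega
  obtain ⟨x, hx1, hx2⟩ := distribute P κ (ρ - e1) hρ'
  -- the decomposition
  let c : Fin d → (Fin 2 →₀ ℕ) := fun i => if i = i₀ then idx p (x i₀ + V) else idx 0 (x i)
  unfold Hser
  rw [pos_sum_iff _ _ (fun P _ => nn_termP d a Hs hHs P)]
  refine ⟨P, Finset.mem_filter.mpr ⟨Finset.mem_powerset.mpr (Finset.subset_univ P), ⟨i₀, hi₀P⟩⟩, ?_⟩
  rw [pos_mul_iff (nn_E.pow _) (NN.prod _ _ fun i _ => nn_Hs (a i) (Hs i) (hHs i))]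
  refine ⟨idx 0 e1, ∑ i ∈ P, c i, ?_, ?_, ?_⟩
  · -- the sum is `idx p q`
    refine ext2 ?_ ?_
    · simp only [Finsupp.add_apply, idx_zero, Finsupp.finsetSum_apply, zero_add]
      rw [Finset.sum_eq_single_of_mem i₀ hi₀P]
      · simp [c]
      · intro i _ hne
        simp [c, hne]
    · simp only [Finsupp.add_apply, idx_one, Finsupp.finsetSum_apply]
      have h1 : ∀ i ∈ P, (c i) 1 = x i + if i = i₀ then V else 0 := by
        intro i _
        by_cases hi : i = i₀
        · subst hi
          simp [c]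
        · simp [c, hi]
      rw [Finset.sum_congr rfl h1, Finset.sum_add_distrib, hx2, Finset.sum_ite_eq' P i₀,
        if_pos hi₀P]
      have : e1 ≤ ρ := min_le_left _ _
      omega
  · rw [pos_E_pow_iff]
    simp only [idx_zero, idx_one]
    exact ⟨Nat.zero_le _, min_le_right _ _⟩
  · rw [pos_prod_iff _ _ (fun i _ => nn_Hs (a i) (Hs i) (hHs i))]
    refine ⟨c, rfl, ?_⟩
    intro i hi
    rw [pos_Hs_iff (a i) (Hs i) (hHs i)]
    by_cases hii : i = i₀
    · subst hii
      simp only [c, if_pos rfl]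
      have hxi := hx1 i hi
      simp only [hκ] at hxi
      rw [hi₀] at hV2 hA2
      exact InH.of_numbers (a i) hA2 (x i) (by omega) p V hV1 hV2
    · simp only [c, if_neg hii]
      have hxi := hx1 i hi
      simp only [hκ] at hxi
      have := (Finset.mem_filter.mp hi).2
      exact InH.base _ (by simp; omega)

include ha hHs in
/-- The nonvanishing criterion. -/
theorem main (p q : ℕ) (hpq : p ≤ q) :
    coeff (idx p q) (Hser d Hs) ≠ 0 ↔ p + q + d < p * Finset.univ.sup a + ∑ i, a i := by
  have hnn := nn_Hser d a Hs hHs (idx p q)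
  constructor
  · intro hne
    exact pos_Hser_imp d a ha Hs hHs p q (lt_of_le_of_ne hnn (Ne.symm hne))
  · intro h
    exact (pos_Hser_of d a ha Hs hHs p q hpq h).ne'

end Main

end Groth.Agent.H96.HodgeSeries
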