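import Mathlib
import Groth.Agent.H96.HodgeSeries3

/-!
# The Hodge level of complete intersections
-/

set_option autoImplicit false
set_option linter.style.haveILetI false
set_option linter.unusedSectionVars false
set_option linter.unusedVariables false

open MvPowerSeries Finset

namespace Groth.Agent.H96.HodgeSeries

theorem level_iff (d : ℕ) (a : Fin d → ℕ) (i₀ : Fin d) (n l : ℕ) (hl : l < n)
    (hpar : l % 2 = n % 2) :
    (∀ p q : ℕ, p + q = n → p ≤ q → l < q - p → p * a i₀ + ∑ i, a i ≤ p + q + d) ↔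
      2 * (∑ i ∈ Finset.univ.erase i₀, ((a i : ℤ) - 1)) + ((a i₀ : ℤ) - 2) * ((n : ℤ) - l) ≤
        2 * ((l : ℤ) + 1) := by
  have hsum : ∑ i ∈ Finset.univ.erase i₀, ((a i : ℤ) - 1) =
      ((∑ i, a i : ℕ) : ℤ) - d - ((a i₀ : ℤ) - 1) := by
    have h1 := Finset.add_sum_erase Finset.univ (fun i => (a i : ℤ) - 1) (Finset.mem_univ i₀)
    have h2 : ∑ i, ((a i : ℤ) - 1) = ((∑ i, a i : ℕ) : ℤ) - d := by
      rw [Finset.sum_sub_distrib]
      simp
    linarith
  rw [hsum]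
  set S := ∑ i, a i with hS
  set A := a i₀ with hA
  constructor
  · intro h
    obtain ⟨p, hp⟩ : ∃ p, n = l + 2 + 2 * p := ⟨(n - l - 2) / 2, by omega⟩
    have h1 := h p (n - p) (by omega) (by omega) (by omega)
    have h2 : ((p * A + S : ℕ) : ℤ) ≤ ((p + (n - p) + d : ℕ) : ℤ) := by exact_mod_cast h1
    have h3 : p + (n - p) = n := by omega
    rw [h3] at h2
    push_cast at h2
    have h4 : (n : ℤ) = l + 2 + 2 * p := by exact_mod_cast hp
    rw [h4]
    rw [h4] at h2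
    nlinarith
  · intro h p q hpq hle hlt
    have h1 : 2 * p + l + 2 ≤ n := by omega
    have h2 : (2 * (p : ℤ)) ≤ (n : ℤ) - l - 2 := by
      have : ((2 * p + l + 2 : ℕ) : ℤ) ≤ (n : ℤ) := by exact_mod_cast h1
      push_cast at this
      linarith
    have h3 : (2 * (p : ℤ)) * (A : ℤ) ≤ ((n : ℤ) - l - 2) * (A : ℤ) :=
      mul_le_mul_of_nonneg_right h2 (Int.natCast_nonneg A)
    have h4 : ((p * A + S : ℕ) : ℤ) ≤ ((p + q + d : ℕ) : ℤ) := by
      have hn : ((p + q : ℕ) : ℤ) = n := by exact_mod_cast hpq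
      push_cast
      push_cast at hn
      nlinarith
    exact_mod_cast h4

section Main

variable (d : ℕ) (a : Fin d → ℕ) (ha : ∀ i, 1 ≤ a i) (i₀ : Fin d) (hi₀ : ∀ i, a i ≤ a i₀)
  (Hs : Fin d → R) (hHs : ∀ i, (1 - Pser (a i)) * Hs i = Nser (a i))

include ha hi₀ hHs in
theorem level (n l : ℕ) (hl : l < n) (hpar : l % 2 = n % 2) :
    (∀ p q : ℕ, p + q = n → p ≤ q → l < q - p → coeff (idx p q) (Hser d Hs) = 0) ↔
      2 * (∑ i ∈ Finset.univ.erase i₀, ((a i : ℤ) - 1)) + ((a i₀ : ℤ) - 2) * ((n : ℤ) - l) ≤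
        2 * ((l : ℤ) + 1) := by
  have hA : Finset.univ.sup a = a i₀ :=
    le_antisymm (Finset.sup_le fun i _ => hi₀ i) (Finset.le_sup (f := a) (Finset.mem_univ i₀))
  have key : ∀ p q : ℕ, p ≤ q →
      (coeff (idx p q) (Hser d Hs) = 0 ↔ p * a i₀ + ∑ i, a i ≤ p + q + d) := by
    intro p q hpq
    have := main d a ha Hs hHs p q hpq
    rw [hA] at this
    rw [← not_lt, ← this, not_not]
  rw [← level_iff d a i₀ n l hl hpar]
  constructor
  · intro h p q h1 h2 h3
    exact (key p q h2).mp (h p q h1 h2 h3)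
  · intro h p q h1 h2 h3
    exact (key p q h2).mpr (h p q h1 h2 h3)

end Main

end Groth.Agent.H96.HodgeSeries
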