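import Mathlib
import Groth.Prelude.Def_W4c1tameactTame
import Groth.Agent.H93.ReynoldsAlg
import Groth.Agent.H89.ComplFinite

/-!
# Invariants of a finite Hopf module over a linearly reductive group: adic separatedness
and completeness (helper96)

`k` a field, `H` a commutative Hopf algebra with a total integral `α`, `A` a Noetherian `k`-algebra
with a coaction, `m` a stable maximal ideal, `A^G` local Noetherian complete, `M` a finite
`(A, H)`-Hopf module. Then `M^G` is `m`-adically separated and complete.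
-/

set_option autoImplicit false
set_option linter.style.haveILetI false
set_option linter.unusedSectionVars false
set_option linter.unusedVariables false

universe u v w w'
open TensorProduct

namespace Groth.Agent.H96.InvComplete

open Groth.Agent.H93 IsLocalRing

section Basic

variable {k : Type u} [Field k] {H : Type v} [CommRing H] [HopfAlgebra k H]
variable {A : Type w} [CommRing A] [Algebra k A] [HopfRep.Comod k H A] [GLin.IsCoactAlg k H A]
variable {M : Type w'} [AddCommGroup M] [Module k M] [Module A M] [IsScalarTower k A M]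
  [HopfRep.Comod k H M] [TameAct.IsHopfMod k H A M]

theorem slice_hmSMul_tmul_one (ψ : H →ₗ[k] k) (t : A ⊗[k] H) (z : M) :
    slice M ψ (TameAct.hmSMul k H A M t (z ⊗ₜ[k] (1 : H))) = slice A ψ t • z := by
  induction t using TensorProduct.induction_on with
  | zero => simp
  | add x y hx hy => simp only [map_add, LinearMap.add_apply, hx, hy, add_smul]
  | tmul a h =>
    rw [TameAct.hmSMul_tmul, mul_one, slice_tmul, slice_tmul, smul_assoc]

/-- The Reynolds identity for Hopf modules: `E_M (a • z) = E_A a • z` for invariant `z`. -/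
theorem reyn_smul_of_mem_fixedPts (α : H →ₗ[k] k) (a : A) (z : M)
    (hz : z ∈ HopfRep.fixedPts k H M) : reyn M α (a • z) = reyn A α a • z := by
  have hz' : HopfRep.Comod.coact (k := k) (A := H) z = z ⊗ₜ[k] (1 : H) := hz
  change slice M (reynFun k H α) (HopfRep.Comod.coact (k := k) (A := H) (a • z)) =
    slice A (reynFun k H α) (HopfRep.Comod.coact (k := k) (A := H) a) • z
  rw [TameAct.IsHopfMod.coact_smul, hz', slice_hmSMul_tmul_one]

theorem smul_mem_fixedPts (f : A) (hf : f ∈ GLin.invariants k H A) (z : M)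
    (hz : z ∈ HopfRep.fixedPts k H M) : f • z ∈ HopfRep.fixedPts k H M := by
  have hz' : HopfRep.Comod.coact (k := k) (A := H) z = z ⊗ₜ[k] (1 : H) := hz
  have hf' : HopfRep.Comod.coact (k := k) (A := H) f = f ⊗ₜ[k] (1 : H) := hf
  change HopfRep.Comod.coact (k := k) (A := H) (f • z) = (f • z) ⊗ₜ[k] (1 : H)
  rw [TameAct.IsHopfMod.coact_smul, hz', hf', TameAct.hmSMul_tmul, mul_one]

end Basic

section Main

variable (k : Type u) [Field k] (H : Type v) [CommRing H] [HopfAlgebra k H]
variable (A : Type w) [CommRing A] [Algebra k A] [HopfRep.Comod k H A] [GLin.IsCoactAlg k H A]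
variable (M : Type w') [AddCommGroup M] [Module k M] [Module A M] [IsScalarTower k A M]
  [HopfRep.Comod k H M] [TameAct.IsHopfMod k H A M]

/-- The invariants of `M` as a module over the ring of invariants of `A`. -/
def fixedSub : Submodule ↥(GLin.invariants k H A) M where
  carrier := {z | z ∈ HopfRep.fixedPts k H M}
  add_mem' := fun {a b} ha hb => (HopfRep.fixedPts k H M).add_mem ha hb
  zero_mem' := (HopfRep.fixedPts k H M).zero_mem
  smul_mem' := fun f z hz => smul_mem_fixedPts (f : A) f.2 z hz

variable {k H A M}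

theorem mem_fixedSub {z : M} : z ∈ fixedSub k H A M ↔ z ∈ HopfRep.fixedPts k H M := by
  change z ∈ {z | z ∈ HopfRep.fixedPts k H M} ↔ _
  rfl

variable (α : H →ₗ[k] k)
  (hα : @Hoch.IsComodHom k _ H _ _ _ H _ _ _ k _ _ (HopfRep.Comod.trivial k H k) α)
  (h1 : α 1 = 1)

/-- Reynolds operator of `A` with values in the invariants. -/
noncomputable def EA (a : A) : ↥(GLin.invariants k H A) := ⟨reyn A α a, reyn_mem_fixedPts α hα a⟩

include hα h1 in
theorem reyn_smul' (a : A) (z : M) (hz : z ∈ HopfRep.fixedPts k H M) :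
    reyn M α (a • z) = EA α hα a • z := reyn_smul_of_mem_fixedPts α a z hz

include hα h1 in
theorem fixedSub_fg [IsNoetherianRing A] [Module.Finite A M] : (fixedSub k H A M).FG := by
  classical
  have hfg : (Submodule.span A (HopfRep.fixedPts k H M : Set M)).FG := IsNoetherian.noetherian _
  obtain ⟨S, hS, hspan⟩ := (Submodule.fg_span_iff_fg_span_finset_subset _).mp hfg
  refine ⟨S, le_antisymm (Submodule.span_le.mpr hS) ?_⟩
  intro z hz
  have hz' : z ∈ Submodule.span A (S : Set M) := hspan ▸ Submodule.subset_span hz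
  obtain ⟨c, -, hc⟩ := Submodule.mem_span_finset.mp hz'
  have hzE : z = ∑ s ∈ S, EA α hα (c s) • s := by
    have h2 : reyn M α z = z := reyn_of_mem_fixedPts α h1 z hz
    rw [← h2, ← hc, map_sum]
    exact Finset.sum_congr rfl fun s hs => reyn_smul' α hα h1 (c s) s (hS hs)
  rw [hzE]
  exact Submodule.sum_mem _ fun s hs => Submodule.smul_mem _ _ (Submodule.subset_span hs)

omit [HopfRep.Comod k H A] [GLin.IsCoactAlg k H A] [HopfRep.Comod k H M] [TameAct.IsHopfMod k H A M]
  [Module k M] [IsScalarTower k A M] [Algebra k A] in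
/-- Krull's intersection theorem modulo a submodule. -/
theorem exists_sub_smul_mem [IsNoetherianRing A] [Module.Finite A M] (m : Ideal A)
    (Q : Submodule A M) (x : M)
    (hx : ∀ l : ℕ, x ∈ (m ^ l • ⊤ : Submodule A M) ⊔ Q) : ∃ r ∈ m, x - r • x ∈ Q := by
  have h : Q.mkQ x ∈ (⨅ i : ℕ, m ^ i • ⊤ : Submodule A (M ⧸ Q)) := by
    rw [Submodule.mem_iInf]
    intro l
    obtain ⟨y, hy, q, hq, rfl⟩ := Submodule.mem_sup.mp (hx l)
    have h0 : Q.mkQ q = 0 := by simpa using hq
    rw [map_add, h0, add_zero]
    have h2 : (m ^ l • ⊤ : Submodule A (M ⧸ Q)) = Submodule.map Q.mkQ (m ^ l • ⊤) := by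
      rw [Submodule.map_smul'', Submodule.map_top, Submodule.range_mkQ]
    rw [h2]
    exact Submodule.mem_map_of_mem hy
  obtain ⟨r, hr⟩ := (Ideal.mem_iInf_smul_pow_eq_bot_iff m (Q.mkQ x)).mp h
  refine ⟨r, r.2, ?_⟩
  rw [← Submodule.Quotient.mk_eq_zero Q, Submodule.Quotient.mk_sub, Submodule.Quotient.mk_smul]
  exact sub_eq_zero.mpr hr.symm

variable (m : Ideal A) [m.IsMaximal]
  (hm : HopfRep.IsSubcomod (k := k) (A := H) (m.restrictScalars k))

include hm in
theorem reyn_mem_of_mem {a : A} (ha : a ∈ m) : reyn A α a ∈ m :=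
  dualAct_mem_of_isSubcomod hm _ ha

include hα hm in
/-- `E_A r` for `r ∈ m` lies in the maximal ideal of the invariant ring. -/
theorem EA_mem_maximalIdeal [IsLocalRing ↥(GLin.invariants k H A)] {r : A} (hr : r ∈ m) :
    EA α hα r ∈ maximalIdeal ↥(GLin.invariants k H A) := by
  rw [IsLocalRing.mem_maximalIdeal, mem_nonunits_iff]
  intro hu
  have hu' : IsUnit ((EA α hα r : ↥(GLin.invariants k H A)) : A) :=
    hu.map (GLin.invariants k H A).val
  exact (Ideal.IsMaximal.ne_top ‹m.IsMaximal›)
    (Ideal.eq_top_of_isUnit_mem _ (reyn_mem_of_mem α m hm hr) hu')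

include hα h1 hm in
/-- The maximal ideal of the invariant ring lies in `m`. -/
theorem coe_mem_of_mem_maximalIdeal [IsLocalRing ↥(GLin.invariants k H A)]
    (f : ↥(GLin.invariants k H A)) (hf : f ∈ maximalIdeal ↥(GLin.invariants k H A)) :
    (f : A) ∈ m := by
  by_contra hfm
  obtain ⟨a, i, hi, hai⟩ := Ideal.IsMaximal.exists_inv ‹m.IsMaximal› hfm
  -- apply the Reynolds operator
  have h2 : (f : A) * reyn A α a + reyn A α i = 1 := by
    have h3 : reyn A α (a * (f : A) + i) = 1 := by
      rw [hai]
      exact reyn_of_mem_fixedPts α h1 (1 : A) (GLin.invariants k H A).one_mem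
    rw [map_add, mul_comm, reyn_mul_of_mem_invariants α (f : A) f.2 a] at h3
    exact h3
  have hu : IsUnit (1 - f * EA α hα a) :=
    IsLocalRing.isUnit_one_sub_self_of_mem_nonunits _
      ((IsLocalRing.mem_maximalIdeal _).mp (Ideal.mul_mem_right _ _ hf))
  have hu' : IsUnit (((1 - f * EA α hα a : ↥(GLin.invariants k H A))) : A) :=
    hu.map (GLin.invariants k H A).val
  have h4 : (((1 - f * EA α hα a : ↥(GLin.invariants k H A))) : A) = reyn A α i := by
    have : (((1 - f * EA α hα a : ↥(GLin.invariants k H A))) : A) =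
        1 - (f : A) * reyn A α a := rfl
    rw [this, ← h2]; ring
  rw [h4] at hu'
  exact (Ideal.IsMaximal.ne_top ‹m.IsMaximal›)
    (Ideal.eq_top_of_isUnit_mem _ (reyn_mem_of_mem α m hm hi) hu')

include hα h1 in
/-- The Reynolds operator maps the `A`-span of an `A^G`-submodule of invariants into it. -/
theorem reyn_mem_of_mem_span (K : Submodule ↥(GLin.invariants k H A) M)
    (hK : K ≤ fixedSub k H A M) {q : M} (hq : q ∈ Submodule.span A (K : Set M)) :
    reyn M α q ∈ K := by
  have key : ∀ a : A, reyn M α (a • q) ∈ K := by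
    induction hq using Submodule.span_induction with
    | mem x hx =>
      intro a
      rw [reyn_smul' α hα h1 a x (hK hx)]
      exact K.smul_mem _ hx
    | zero => intro a; simp
    | add x y _ _ hx hy =>
      intro a
      rw [smul_add, map_add]
      exact K.add_mem (hx a) (hy a)
    | smul b x _ hx =>
      intro a
      rw [smul_smul]
      exact hx (a * b)
  simpa using key 1

include hα h1 hm in
/-- Generalised separatedness: an invariant lying in `m^l M + A·K` for all `l` lies in `K`. -/
theorem mem_of_forall_mem_sup [IsNoetherianRing A] [Module.Finite A M]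
    [IsLocalRing ↥(GLin.invariants k H A)]
    (K : Submodule ↥(GLin.invariants k H A) M) (hK : K ≤ fixedSub k H A M) (x : M)
    (hx : x ∈ HopfRep.fixedPts k H M)
    (hx' : ∀ l : ℕ, x ∈ (m ^ l • ⊤ : Submodule A M) ⊔ Submodule.span A (K : Set M)) :
    x ∈ K := by
  obtain ⟨r, hr, hrx⟩ := exists_sub_smul_mem m _ x hx'
  have h2 := reyn_mem_of_mem_span α hα h1 K hK hrx
  rw [map_sub, reyn_of_mem_fixedPts α h1 x hx, reyn_smul' α hα h1 r x hx] at h2
  have hu : IsUnit (1 - EA α hα r) :=
    IsLocalRing.isUnit_one_sub_self_of_mem_nonunits _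
      ((IsLocalRing.mem_maximalIdeal _).mp (EA_mem_maximalIdeal α hα m hm hr))
  have h3 : (1 - EA α hα r) • x ∈ K := by
    rw [sub_smul, one_smul]; exact h2
  obtain ⟨u, hu'⟩ := hu
  have h4 : x = (↑u⁻¹ : ↥(GLin.invariants k H A)) • ((1 - EA α hα r) • x) := by
    rw [← hu', smul_smul, Units.inv_mul, one_smul]
  rw [h4]
  exact K.smul_mem _ h3

include hα h1 hm in
/-- Part (i): an invariant in `⋂ m^n M` is zero. -/
theorem eq_zero_of_forall_mem [IsNoetherianRing A] [Module.Finite A M]
    [IsLocalRing ↥(GLin.invariants k H A)] (x : M) (hx : x ∈ HopfRep.fixedPts k H M)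
    (hx' : ∀ l : ℕ, x ∈ (m ^ l • ⊤ : Submodule A M)) : x = 0 := by
  have := mem_of_forall_mem_sup α hα h1 m hm ⊥ bot_le x hx (fun l => Submodule.mem_sup_left (hx' l))
  simpa using this

include hα h1 hm in
/-- `n^i M^G ⊆ m^i M`. -/
theorem coe_mem_pow_smul_top [IsLocalRing ↥(GLin.invariants k H A)] (i : ℕ)
    (z : ↥(fixedSub k H A M))
    (hz : z ∈ ((maximalIdeal ↥(GLin.invariants k H A)) ^ i • ⊤ :
      Submodule ↥(GLin.invariants k H A) ↥(fixedSub k H A M))) :
    (z : M) ∈ (m ^ i • ⊤ : Submodule A M) := by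
  have hpow : ∀ r : ↥(GLin.invariants k H A), r ∈ (maximalIdeal ↥(GLin.invariants k H A)) ^ i →
      (r : A) ∈ m ^ i := by
    intro r hr
    have hle : Ideal.map (algebraMap ↥(GLin.invariants k H A) A)
        (maximalIdeal ↥(GLin.invariants k H A)) ≤ m := by
      rw [Ideal.map_le_iff_le_comap]
      intro f hf
      exact coe_mem_of_mem_maximalIdeal α hα h1 m hm f hf
    have h2 : algebraMap ↥(GLin.invariants k H A) A r ∈
        Ideal.map (algebraMap ↥(GLin.invariants k H A) A)
          ((maximalIdeal ↥(GLin.invariants k H A)) ^ i) := Ideal.mem_map_of_mem _ hr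
    rw [Ideal.map_pow] at h2
    exact Ideal.pow_right_mono hle i h2
  refine Submodule.smul_induction_on hz ?_ ?_
  · intro r hr y _
    have : ((r • y : ↥(fixedSub k H A M)) : M) = (r : A) • (y : M) := rfl
    rw [this]
    exact Submodule.smul_mem_smul (hpow r hr) Submodule.mem_top
  · intro x y hx hy
    rw [Submodule.coe_add]
    exact Submodule.add_mem _ hx hy

omit [Field k] [CommRing H] [HopfAlgebra k H] [CommRing A] [Algebra k A] [HopfRep.Comod k H A]
  [GLin.IsCoactAlg k H A] [AddCommGroup M] [Module k M] [Module A M] [IsScalarTower k A M]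
  [HopfRep.Comod k H M] [TameAct.IsHopfMod k H A M] [m.IsMaximal] in
/-- `N ⧸ n^j N` is Artinian for a finite module over a Noetherian local ring. -/
theorem isArtinian_quotient_pow_smul_top (R : Type*) [CommRing R] [IsLocalRing R]
    [IsNoetherianRing R] (N : Type*) [AddCommGroup N] [Module R N] [Module.Finite R N] (j : ℕ) :
    IsArtinian R (N ⧸ ((maximalIdeal R) ^ j • ⊤ : Submodule R N)) := by
  rcases Nat.eq_zero_or_pos j with rfl | hj
  · have : Subsingleton (N ⧸ ((maximalIdeal R) ^ 0 • ⊤ : Submodule R N)) := by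
      rw [pow_zero, Ideal.one_eq_top, Submodule.top_smul]
      exact Submodule.Quotient.subsingleton_iff.2 rfl
    infer_instance
  · have hp : maximalIdeal R ∈ (maximalIdeal R ^ j).minimalPrimes := by
      refine ⟨⟨inferInstance, Ideal.pow_le_self hj.ne'⟩, ?_⟩
      rintro q ⟨hq, hjq⟩ -
      exact hq.le_of_pow_le hjq
    have := IsLocalRing.quotient_artinian_of_mem_minimalPrimes_of_isLocalRing _ hp
    have : Module.Finite (R ⧸ maximalIdeal R ^ j)
        (N ⧸ ((maximalIdeal R) ^ j • ⊤ : Submodule R N)) :=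
      Module.Finite.of_restrictScalars_finite R _ _
    have : IsArtinian (R ⧸ maximalIdeal R ^ j)
        (N ⧸ ((maximalIdeal R) ^ j • ⊤ : Submodule R N)) := inferInstance
    exact isArtinian_of_surjective_algebraMap
      (Ideal.Quotient.mk_surjective (I := maximalIdeal R ^ j))

include hα h1 hm in
/-- Comparison of topologies: `m^l M ∩ M^G ⊆ n^j M^G` for `l` large. -/
theorem exists_pow_le [IsNoetherianRing A] [Module.Finite A M]
    [IsLocalRing ↥(GLin.invariants k H A)] [IsNoetherianRing ↥(GLin.invariants k H A)] (j : ℕ) :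
    ∃ l : ℕ, ∀ z : ↥(fixedSub k H A M), (z : M) ∈ (m ^ l • ⊤ : Submodule A M) →
      z ∈ ((maximalIdeal ↥(GLin.invariants k H A)) ^ j • ⊤ :
        Submodule ↥(GLin.invariants k H A) ↥(fixedSub k H A M)) := by
  have hfin : Module.Finite ↥(GLin.invariants k H A) ↥(fixedSub k H A M) :=
    Module.Finite.iff_fg.mpr (fixedSub_fg α hα h1)
  let ι : ↥(fixedSub k H A M) →ₗ[↥(GLin.invariants k H A)] M := (fixedSub k H A M).subtype
  let K' : Submodule ↥(GLin.invariants k H A) ↥(fixedSub k H A M) :=
    (maximalIdeal ↥(GLin.invariants k H A)) ^ j • ⊤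
  let K : Submodule ↥(GLin.invariants k H A) M := K'.map ι
  have hK : K ≤ fixedSub k H A M := by
    rintro _ ⟨y, -, rfl⟩
    exact y.2
  let C : ℕ → Submodule ↥(GLin.invariants k H A) ↥(fixedSub k H A M) := fun l =>
    Submodule.comap ι (((m ^ l • ⊤ : Submodule A M) ⊔
      Submodule.span A (K : Set M)).restrictScalars ↥(GLin.invariants k H A))
  have hCanti : Antitone C := by
    intro a b hab
    apply Submodule.comap_mono
    intro x hx
    have hle : ((m ^ b • ⊤ : Submodule A M) ⊔ Submodule.span A (K : Set M)) ≤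
        ((m ^ a • ⊤ : Submodule A M) ⊔ Submodule.span A (K : Set M)) :=
      sup_le_sup_right (Submodule.smul_mono_left (Ideal.pow_le_pow_right hab)) _
    exact hle hx
  have hKC : ∀ l, K' ≤ C l := by
    intro l z hz
    refine Submodule.mem_comap.mpr ?_
    rw [Submodule.restrictScalars_mem]
    exact Submodule.mem_sup_right (Submodule.subset_span ⟨z, hz, rfl⟩)
  have hArt := isArtinian_quotient_pow_smul_top ↥(GLin.invariants k H A) ↥(fixedSub k H A M) j
  let f : ℕ →o (Submodule ↥(GLin.invariants k H A) (↥(fixedSub k H A M) ⧸ K'))ᵒᵈ :=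
    { toFun := fun l => OrderDual.toDual (Submodule.map K'.mkQ (C l))
      monotone' := fun a b hab => Submodule.map_mono (hCanti hab) }
  obtain ⟨l0, hl0⟩ := IsArtinian.monotone_stabilizes f
  refine ⟨l0, fun z hz => ?_⟩
  have hz0 : z ∈ C l0 := by
    refine Submodule.mem_comap.mpr ?_
    rw [Submodule.restrictScalars_mem]
    exact Submodule.mem_sup_left hz
  have hzl : ∀ l, z ∈ C l := by
    intro l
    rcases le_total l l0 with h | h
    · exact hCanti h hz0
    · have h1' : Submodule.map K'.mkQ (C l0) = Submodule.map K'.mkQ (C l) := hl0 l h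
      have h2 := congrArg (Submodule.comap K'.mkQ) h1'
      rw [Submodule.comap_map_mkQ, Submodule.comap_map_mkQ, sup_eq_right.mpr (hKC l0),
        sup_eq_right.mpr (hKC l)] at h2
      rw [← h2]; exact hz0
  have hzK : (z : M) ∈ K :=
    mem_of_forall_mem_sup α hα h1 m hm K hK z z.2 (fun l => hzl l)
  obtain ⟨y, hy, hyz⟩ := hzK
  have : y = z := Subtype.ext hyz
  rw [← this]; exact hy

include hα h1 hm in
/-- Part (ii): `m`-adic Cauchy sequences of invariants converge to an invariant. -/
theorem exists_limit [IsNoetherianRing A] [Module.Finite A M]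
    [IsLocalRing ↥(GLin.invariants k H A)] [IsNoetherianRing ↥(GLin.invariants k H A)]
    [IsAdicComplete (maximalIdeal ↥(GLin.invariants k H A)) ↥(GLin.invariants k H A)]
    (x : ℕ → M) (hx : ∀ n, x n ∈ HopfRep.fixedPts k H M)
    (hx' : ∀ n, x (n + 1) - x n ∈ (m ^ n • ⊤ : Submodule A M)) :
    ∃ y ∈ HopfRep.fixedPts k H M, ∀ n, y - x n ∈ (m ^ n • ⊤ : Submodule A M) := by
  have hfin : Module.Finite ↥(GLin.invariants k H A) ↥(fixedSub k H A M) :=
    Module.Finite.iff_fg.mpr (fixedSub_fg α hα h1)
  have hcompl : IsAdicComplete (maximalIdeal ↥(GLin.invariants k H A)) ↥(fixedSub k H A M) :=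
    Groth.Agent.H89.isAdicComplete_of_finite_noeth _ _
  have htel : ∀ a d, x (a + d) - x a ∈ (m ^ a • ⊤ : Submodule A M) := by
    intro a d
    induction d with
    | zero => simp
    | succ d ih =>
      have h2 : x (a + (d + 1)) - x a = (x (a + d + 1) - x (a + d)) + (x (a + d) - x a) := by
        rw [← add_assoc]; abel
      rw [h2]
      exact Submodule.add_mem _ (Submodule.smul_mono_left
        (Ideal.pow_le_pow_right (Nat.le_add_right a d)) (hx' (a + d))) ih
  choose l hl using exists_pow_le (M := M) α hα h1 m hm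
  let L : ℕ → ℕ := fun j => (Finset.range (j + 1)).sup l + j
  have hLmono : Monotone L := by
    intro a b hab
    exact add_le_add (Finset.sup_mono (Finset.range_mono (by omega))) hab
  have hLl : ∀ j, l j ≤ L j := fun j =>
    le_trans (Finset.le_sup (f := l) (Finset.mem_range.mpr (Nat.lt_succ_self j)))
      (Nat.le_add_right _ _)
  have hLj : ∀ j, j ≤ L j := fun j => Nat.le_add_left _ _
  let f : ℕ → ↥(fixedSub k H A M) := fun j => ⟨x (L j), hx _⟩
  have hf : ∀ {a b}, a ≤ b → f a ≡ f b [SMOD ((maximalIdeal ↥(GLin.invariants k H A)) ^ a • ⊤ :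
      Submodule ↥(GLin.invariants k H A) ↥(fixedSub k H A M))] := by
    intro a b hab
    rw [SModEq.sub_mem]
    apply hl a
    obtain ⟨d, hd⟩ := Nat.exists_eq_add_of_le (hLmono hab)
    have h2 : ((f a - f b : ↥(fixedSub k H A M)) : M) = -(x (L a + d) - x (L a)) := by
      simp [f, hd]
    rw [h2]
    exact Submodule.neg_mem _ (Submodule.smul_mono_left (Ideal.pow_le_pow_right (hLl a))
      (htel (L a) d))
  obtain ⟨y, hy⟩ := IsPrecomplete.prec (I := maximalIdeal ↥(GLin.invariants k H A))
    (M := ↥(fixedSub k H A M)) inferInstance hf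
  refine ⟨y, y.2, fun i => ?_⟩
  have h3 : (y : M) - x i = ((y - f i : ↥(fixedSub k H A M)) : M) + (x (L i) - x i) := by
    simp [f]
  rw [h3]
  refine Submodule.add_mem _ ?_ ?_
  · apply coe_mem_pow_smul_top α hα h1 m hm i
    have h5 := hy i
    rw [SModEq.sub_mem] at h5
    have h4 : y - f i = -(f i - y) := by abel
    rw [h4]
    exact Submodule.neg_mem _ h5
  · obtain ⟨d, hd⟩ := Nat.exists_eq_add_of_le (hLj i)
    rw [hd]
    exact htel i d

end Main

end Groth.Agent.H96.InvComplete
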