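import Mathlib
import Groth.Agent.H57.RegLiftArt
import Groth.Agent.H23.RegSmooth

/-!
# Regularity at a closed point is detected by curvilinear jets

`k` an infinite field, `A` a local `k`-algebra essentially of finite type with residue field `k`.
If every jet `A → k[X]/(X^l)` lifts to `k[X]/(X^(l+1))`, then `A` is regular (tangent cone argument).
-/

set_option autoImplicit false
set_option linter.style.haveILetI false
set_option linter.unusedSectionVars false
set_option linter.unusedVariables false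
universe u

namespace Groth.Agent.H96.JetsReg

open Polynomial IsLocalRing
open Groth.Agent.H57.RegLiftArt

section Trunc

variable (k : Type u) [Field k]

/-- the truncated polynomial ring `k[X]/(X^l)`. -/
abbrev B (l : ℕ) : Type u := k[X] ⧸ Ideal.span {(X : k[X]) ^ l}

/-- the reduction maps between truncated polynomial rings. -/
noncomputable def red {a b : ℕ} (h : b ≤ a) : B k a →ₐ[k] B k b :=
  Ideal.Quotient.factorₐ k (Ideal.span_singleton_le_span_singleton.mpr (pow_dvd_pow (X : k[X]) h))

variable {k}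

theorem red_mk {a b : ℕ} (h : b ≤ a) (p : k[X]) :
    red k h (Ideal.Quotient.mk _ p) = Ideal.Quotient.mk _ p := rfl

theorem red_comp {a b c : ℕ} (h1 : b ≤ a) (h2 : c ≤ b) :
    (red k h2).comp (red k h1) = red k (h2.trans h1) := by
  apply AlgHom.ext
  intro y
  obtain ⟨p, rfl⟩ := Ideal.Quotient.mk_surjective y
  rfl

theorem red_surjective {a b : ℕ} (h : b ≤ a) : Function.Surjective (red k h) := by
  intro y
  obtain ⟨p, rfl⟩ := Ideal.Quotient.mk_surjective y
  exact ⟨Ideal.Quotient.mk _ p, rfl⟩

theorem mk_eq_zero_iff (l : ℕ) (p : k[X]) :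
    (Ideal.Quotient.mk (Ideal.span {(X : k[X]) ^ l}) p) = 0 ↔ (X : k[X]) ^ l ∣ p := by
  rw [Ideal.Quotient.eq_zero_iff_mem, Ideal.mem_span_singleton]

theorem nontrivial_B {l : ℕ} (hl : 1 ≤ l) : Nontrivial (B k l) := by
  apply Ideal.Quotient.nontrivial_iff.2
  intro h
  rw [Ideal.eq_top_iff_one, Ideal.mem_span_singleton] at h
  have h1 : (X : k[X]) ∣ 1 := (dvd_pow_self X (by omega)).trans h
  exact Polynomial.not_isUnit_X (isUnit_of_dvd_one h1)

theorem ker_red_isNilpotent {a b : ℕ} (h : b ≤ a) (hb : 1 ≤ b) :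
    IsNilpotent (RingHom.ker (red k h).toRingHom) := by
  refine ⟨a, ?_⟩
  rw [Ideal.zero_eq_bot, eq_bot_iff]
  have hle : RingHom.ker (red k h).toRingHom ≤
      Ideal.span {Ideal.Quotient.mk (Ideal.span {(X : k[X]) ^ a}) X} := by
    intro y hy
    obtain ⟨p, rfl⟩ := Ideal.Quotient.mk_surjective y
    rw [RingHom.mem_ker] at hy
    change red k h (Ideal.Quotient.mk _ p) = 0 at hy
    rw [red_mk, mk_eq_zero_iff] at hy
    obtain ⟨q, rfl⟩ := (dvd_pow_self X (by omega : b ≠ 0)).trans hy
    rw [map_mul]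
    exact Ideal.mul_mem_right _ _ (Ideal.subset_span rfl)
  refine (Ideal.pow_right_mono hle a).trans ?_
  rw [Ideal.span_singleton_pow, Ideal.span_le, Set.singleton_subset_iff, ← map_pow]
  have : Ideal.Quotient.mk (Ideal.span {(X : k[X]) ^ a}) (X ^ a) = 0 :=
    (mk_eq_zero_iff a _).2 dvd_rfl
  rw [this]
  exact Ideal.zero_mem _

end Trunc

section Local

variable {k : Type u} [Field k]

/-- an algebra map from a local `k`-algebra to a truncated polynomial ring sends the maximal
ideal into the ideal generated by `X`. -/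
theorem exists_map_eq_mk_X_mul {P : Type u} [CommRing P] [IsLocalRing P] [Algebra k P]
    {l : ℕ} (hl : 1 ≤ l) (h : P →ₐ[k] B k l) {p : P} (hp : p ∈ maximalIdeal P) :
    ∃ q : k[X], h p = Ideal.Quotient.mk _ (X * q) := by
  haveI := nontrivial_B (k := k) hl
  obtain ⟨q, hq⟩ := Ideal.Quotient.mk_surjective (h p)
  refine ⟨q.divX, ?_⟩
  by_cases hc : q.coeff 0 = 0
  · rw [← hq]
    congr 1
    conv_lhs => rw [← Polynomial.divX_mul_X_add q, hc, map_zero, add_zero, mul_comm]
  · exfalso
    set c := q.coeff 0 with hcdef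
    have hunit : IsUnit (p - algebraMap k P c) := by
      by_contra hnu
      have h1 : p - algebraMap k P c ∈ maximalIdeal P := hnu
      have h2 : algebraMap k P c ∈ maximalIdeal P := by
        have := Ideal.sub_mem _ hp h1
        rwa [sub_sub_cancel] at this
      exact h2 ((isUnit_iff_ne_zero.2 hc).map (algebraMap k P))
    have h3 : h (p - algebraMap k P c) = Ideal.Quotient.mk _ (X * q.divX) := by
      rw [map_sub, AlgHom.commutes, ← hq]
      have : algebraMap k (B k l) c = Ideal.Quotient.mk _ (C c) := rfl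
      rw [this, ← map_sub]
      congr 1
      conv_lhs => rw [← Polynomial.divX_mul_X_add q]
      rw [← hcdef]
      ring
    have h4 : (h (p - algebraMap k P c)) ^ l = 0 := by
      rw [h3, ← map_pow, mk_eq_zero_iff, mul_pow]
      exact Dvd.intro _ rfl
    have h5 := (hunit.map h).pow l
    rw [h4] at h5
    exact not_isUnit_zero h5

theorem aeval_mul_of_isHomogeneous {R : Type*} [CommRing R] [Algebra k R] {d j : ℕ}
    {G : MvPolynomial (Fin d) k} (hG : G.IsHomogeneous j) (c : R) (w : Fin d → R) :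
    MvPolynomial.aeval (fun i => c * w i) G = c ^ j * MvPolynomial.aeval w G := by
  rw [MvPolynomial.aeval_def, MvPolynomial.eval₂_eq, MvPolynomial.aeval_def,
    MvPolynomial.eval₂_eq, Finset.mul_sum]
  refine Finset.sum_congr rfl fun e he => ?_
  have hdeg : j = ∑ i ∈ e.support, e i := hG.degree_eq_sum_deg_support he
  simp_rw [mul_pow, Finset.prod_mul_distrib, Finset.prod_pow_eq_pow_sum, ← hdeg]
  ring

theorem aeval_X_mul_eq_sum {d : ℕ} (F : MvPolynomial (Fin d) k) (w : Fin d → k[X]) :
    MvPolynomial.aeval (fun i => X * w i) F =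
      ∑ j ∈ Finset.range (F.totalDegree + 1),
        X ^ j * MvPolynomial.aeval w (MvPolynomial.homogeneousComponent j F) := by
  conv_lhs => rw [← MvPolynomial.sum_homogeneousComponent F, map_sum]
  refine Finset.sum_congr rfl fun j _ => ?_
  exact aeval_mul_of_isHomogeneous (MvPolynomial.homogeneousComponent_isHomogeneous j F) X w

theorem constantCoeff_aeval {d : ℕ} (G : MvPolynomial (Fin d) k) (w : Fin d → k[X]) :
    (MvPolynomial.aeval w G).coeff 0 = MvPolynomial.eval (fun i => (w i).coeff 0) G := by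
  have h1 : (MvPolynomial.aeval w G).coeff 0 = Polynomial.constantCoeff (MvPolynomial.aeval w G) :=
    rfl
  rw [h1, MvPolynomial.aeval_def, MvPolynomial.eval₂_comp_left]
  have h2 : (Polynomial.constantCoeff : k[X] →+* k).comp (algebraMap k k[X]) = RingHom.id k := by
    ext c
    simp
  rw [h2]
  rfl

/-- the key computation with the tangent cone. -/
theorem eval_eq_zero_of_mk_aeval_eq_zero {d n : ℕ} (F : MvPolynomial (Fin d) k)
    (hF : ∀ j < n, MvPolynomial.homogeneousComponent j F = 0) (v : Fin d → k) (u : Fin d → k[X])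
    (h : Ideal.Quotient.mk (Ideal.span {(X : k[X]) ^ (n + 1)})
      (MvPolynomial.aeval (fun i => X * (C (v i) + X * u i)) F) = 0) :
    MvPolynomial.eval v (MvPolynomial.homogeneousComponent n F) = 0 := by
  classical
  rw [mk_eq_zero_iff, aeval_X_mul_eq_sum] at h
  set w : Fin d → k[X] := fun i => C (v i) + X * u i with hw
  have hdvd : (X : k[X]) ^ (n + 1) ∣
      X ^ n * MvPolynomial.aeval w (MvPolynomial.homogeneousComponent n F) := by
    by_cases hn : n ∈ Finset.range (F.totalDegree + 1)
    · rw [← Finset.add_sum_erase _ _ hn] at h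
      refine (dvd_add_left ?_).1 h
      refine Finset.dvd_sum fun j hj => ?_
      have hjn : j ≠ n := (Finset.mem_erase.1 hj).1
      rcases lt_or_gt_of_ne hjn with hlt | hgt
      · rw [hF j hlt, map_zero, mul_zero]
        exact dvd_zero _
      · exact Dvd.dvd.mul_right (pow_dvd_pow X (by omega)) _
    · have : MvPolynomial.homogeneousComponent n F = 0 := by
        apply MvPolynomial.homogeneousComponent_eq_zero
        rw [Finset.mem_range] at hn
        omega
      rw [this, map_zero, mul_zero]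
      exact dvd_zero _
  rw [pow_succ] at hdvd
  have hX : (X : k[X]) ∣ MvPolynomial.aeval w (MvPolynomial.homogeneousComponent n F) :=
    (mul_dvd_mul_iff_left (pow_ne_zero n Polynomial.X_ne_zero)).1 hdvd
  rw [Polynomial.X_dvd_iff, constantCoeff_aeval] at hX
  have hwv : (fun i => (w i).coeff 0) = v := by
    funext i
    simp [hw]
  rw [hwv] at hX
  exact hX

end Local

section RegularMaps


variable {k : Type u} [Field k] {P : Type u} [CommRing P] [IsLocalRing P] [Algebra k P]

/-- algebra maps out of a regular local `k`-algebra with residue field `k` into an algebra with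
a nilpotent ideal, with prescribed values (in the ideal) on a regular system of parameters. -/
theorem exists_algHom_of_nilpotent {d : ℕ} (x : Fin d → P) (hk : ResK k P)
    (hx : Ideal.span (Set.range x) = maximalIdeal P) (hqr : CAlgX.IsQuasiRegular x)
    {B' : Type u} [CommRing B'] [Algebra k B'] (𝔫 : Ideal B') (M : ℕ) (hM : 𝔫 ^ M = ⊥)
    (b : Fin d → B') (hb : ∀ i, b i ∈ 𝔫) :
    ∃ g : P →ₐ[k] B', ∀ i, g (x i) = b i := by
  classical
  let φ : MvPolynomial (Fin d) k →ₐ[k] B' := MvPolynomial.aeval b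
  let θ : MvPolynomial (Fin d) k →ₐ[k] P := MvPolynomial.aeval x
  have hkey : ∀ F : MvPolynomial (Fin d) k, θ F ∈ maximalIdeal P ^ M → φ F = 0 := by
    intro F hF
    have h0 := homogeneousComponent_eq_zero_of_aeval_mem x hx hqr M F hF
    have hsum : φ F = ∑ i ∈ Finset.range (F.totalDegree + 1),
        φ (MvPolynomial.homogeneousComponent i F) := by
      rw [← map_sum, MvPolynomial.sum_homogeneousComponent]
    rw [hsum]
    refine Finset.sum_eq_zero fun i _ => ?_
    by_cases hi : i < M
    · rw [h0 i hi, map_zero]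
    · have h1 : φ (MvPolynomial.homogeneousComponent i F) ∈ 𝔫 ^ i :=
        aeval_mem_pow b _ hb (MvPolynomial.homogeneousComponent_isHomogeneous i F)
      have h2 := Ideal.pow_le_pow_right (not_lt.1 hi) h1
      rwa [hM, Ideal.mem_bot] at h2
  let θM : MvPolynomial (Fin d) k →ₐ[k] P ⧸ maximalIdeal P ^ M :=
    (Ideal.Quotient.mkₐ k (maximalIdeal P ^ M)).comp θ
  have hθM : Function.Surjective θM := by
    intro q
    obtain ⟨a, rfl⟩ := Ideal.Quotient.mk_surjective q
    obtain ⟨F, hF⟩ := exists_aeval_sub_mem x hk hx M a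
    refine ⟨F, ?_⟩
    change Ideal.Quotient.mk _ (θ F) = Ideal.Quotient.mk _ a
    rw [Ideal.Quotient.eq]
    have := (Ideal.neg_mem_iff _).2 hF
    rwa [neg_sub] at this
  have hker : RingHom.ker θM.toRingHom ≤ RingHom.ker φ.toRingHom := by
    intro F hF
    rw [RingHom.mem_ker] at hF ⊢
    apply hkey
    exact Ideal.Quotient.eq_zero_iff_mem.1 hF
  let g : P →ₐ[k] B' :=
    (AlgHom.liftOfSurjective θM hθM φ hker).comp (Ideal.Quotient.mkₐ k (maximalIdeal P ^ M))
  refine ⟨g, fun i => ?_⟩
  have e1 : Ideal.Quotient.mkₐ k (maximalIdeal P ^ M) (x i) = θM (MvPolynomial.X i) := by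
    change Ideal.Quotient.mk _ (x i) = Ideal.Quotient.mk _ (MvPolynomial.aeval x (MvPolynomial.X i))
    rw [MvPolynomial.aeval_X]
  change (AlgHom.liftOfSurjective θM hθM φ hker) (Ideal.Quotient.mkₐ k _ (x i)) = b i
  rw [e1, AlgHom.liftOfSurjective_apply]
  exact MvPolynomial.aeval_X b i

end RegularMaps

section Main

variable (k : Type u) [Field k]

/-- every curvilinear jet lifts one step. -/
def JetProp (A : Type u) [CommRing A] [Algebra k A] : Prop :=
  ∀ l : ℕ, 1 ≤ l → ∀ φ : A →ₐ[k] B k l,
    ∃ ψ : A →ₐ[k] B k (l + 1), (red k (Nat.le_succ l)).comp ψ = φ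

variable {k}

theorem exists_params (P : Type u) [CommRing P] [IsRegularLocalRing P] :
    ∃ (d : ℕ) (x : Fin d → P), Ideal.span (Set.range x) = maximalIdeal P ∧
      CAlgX.IsQuasiRegular x := by
  classical
  obtain ⟨d, hd, -⟩ := Lead.RLR.exists_ringKrullDim_eq P
  have hsf : (maximalIdeal P).spanFinrank = d := by
    have := Lead.RLR.ringKrullDim_eq_spanFinrank P
    rw [hd] at this
    exact_mod_cast this.symm
  obtain ⟨s, hs1, hs2⟩ := Submodule.FG.exists_span_finset_card_eq_spanFinrank
    ((isNoetherianRing_iff_ideal_fg P).1 inferInstance (maximalIdeal P))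
  obtain ⟨x, hxr⟩ := Lead.RLR.exists_fin_range_eq s d (hs1.trans hsf)
  have hx : Ideal.span (Set.range x) = maximalIdeal P := by rw [hxr]; exact hs2
  have hreg := Lead.RLR.isRegular_ofFn P d hd x hx
  exact ⟨d, x, hx, Groth.Agent.H19.QReg.isQuasiRegular_of_isWeaklyRegular x
    hreg.toIsWeaklyRegular⟩

theorem exists_jet_lift {A : Type u} [CommRing A] [Algebra k A] (hJ : JetProp k A)
    (t : A →ₐ[k] B k 2) : ∀ (l : ℕ) (hl : 2 ≤ l), ∃ ψ : A →ₐ[k] B k l, (red k hl).comp ψ = t := by
  intro l hl
  induction l, hl using Nat.le_induction with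
  | base =>
    refine ⟨t, ?_⟩
    apply AlgHom.ext
    intro a
    obtain ⟨q, hq⟩ := Ideal.Quotient.mk_surjective (t a)
    change red k (le_refl 2) (t a) = t a
    rw [← hq, red_mk]
  | succ l hl ih =>
    obtain ⟨ψ, hψ⟩ := ih
    obtain ⟨ψ', hψ'⟩ := hJ l (by omega) ψ
    refine ⟨ψ', ?_⟩
    rw [← red_comp (Nat.le_succ l) hl, AlgHom.comp_assoc, hψ', hψ]

theorem span_mk_X_pow (l : ℕ) :
    (Ideal.span {Ideal.Quotient.mk (Ideal.span {(X : k[X]) ^ l}) X}) ^ l = ⊥ := by
  rw [Ideal.span_singleton_pow, ← map_pow, (mk_eq_zero_iff l _).2 dvd_rfl,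
    Ideal.span_singleton_eq_bot]

variable {P A : Type u} [CommRing P] [IsLocalRing P] [Algebra k P] [CommRing A] [Algebra k A]

/-- an algebra map from a local algebra to `k[X]/(X^l)` kills the `l`-th power of the maximal
ideal. -/
theorem map_eq_zero_of_mem_pow {l : ℕ} (hl : 1 ≤ l) (h : P →ₐ[k] B k l) {p : P}
    (hp : p ∈ maximalIdeal P ^ l) : h p = 0 := by
  have h1 : (maximalIdeal P).map h ≤
      Ideal.span {Ideal.Quotient.mk (Ideal.span {(X : k[X]) ^ l}) X} := by
    rw [Ideal.map_le_iff_le_comap]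
    intro a ha
    obtain ⟨q, hq⟩ := exists_map_eq_mk_X_mul hl h ha
    rw [Ideal.mem_comap, hq, map_mul]
    exact Ideal.mul_mem_right _ _ (Ideal.subset_span rfl)
  have h2 : h p ∈ (maximalIdeal P ^ l).map h := Ideal.mem_map_of_mem _ hp
  rw [Ideal.map_pow] at h2
  have h3 := Ideal.pow_right_mono h1 l h2
  rwa [span_mk_X_pow, Ideal.mem_bot] at h3

/-- jets of `A = P/I` with prescribed tangent vector. -/
theorem exists_jet {d : ℕ} (x : Fin d → P) (hk : ResK k P)
    (hx : Ideal.span (Set.range x) = maximalIdeal P) (hqr : CAlgX.IsQuasiRegular x)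
    (π : P →ₐ[k] A) (hπ : Function.Surjective π)
    (hI : RingHom.ker π ≤ maximalIdeal P ^ 2) (hJ : JetProp k A) (v : Fin d → k)
    (n : ℕ) (hn : 1 ≤ n) :
    ∃ h : P →ₐ[k] B k (n + 1), (∀ p ∈ RingHom.ker π, h p = 0) ∧
      ∀ i, ∃ u : k[X], h (x i) = Ideal.Quotient.mk _ (X * (C (v i) + X * u)) := by
  obtain ⟨t₀, ht₀⟩ := exists_algHom_of_nilpotent (k := k) x hk hx hqr
    (Ideal.span {Ideal.Quotient.mk (Ideal.span {(X : k[X]) ^ 2}) X}) 2 (span_mk_X_pow 2)
    (fun i => Ideal.Quotient.mk _ (C (v i) * X))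
    (fun i => by
      rw [map_mul]
      exact Ideal.mul_mem_left _ _ (Ideal.subset_span rfl))
  have hker : RingHom.ker π.toRingHom ≤ RingHom.ker t₀.toRingHom := by
    intro p hp
    rw [RingHom.mem_ker]
    exact map_eq_zero_of_mem_pow (by norm_num) t₀ (hI hp)
  let t : A →ₐ[k] B k 2 := AlgHom.liftOfSurjective π hπ t₀ hker
  obtain ⟨ψ, hψ⟩ := exists_jet_lift hJ t (n + 1) (by omega)
  refine ⟨ψ.comp π, fun p hp => ?_, fun i => ?_⟩
  · change ψ (π p) = 0
    rw [(RingHom.mem_ker).1 hp, map_zero]
  · obtain ⟨q, hq⟩ := Ideal.Quotient.mk_surjective (ψ (π (x i)))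
    have h1 : red k (by omega : 2 ≤ n + 1) (ψ (π (x i))) = t (π (x i)) :=
      DFunLike.congr_fun hψ (π (x i))
    have h2 : t (π (x i)) = t₀ (x i) := AlgHom.liftOfSurjective_apply π hπ t₀ hker (x i)
    rw [← hq, red_mk, h2, ht₀, Ideal.Quotient.eq, Ideal.mem_span_singleton] at h1
    obtain ⟨u, hu⟩ := h1
    refine ⟨u, ?_⟩
    change ψ (π (x i)) = _
    rw [← hq]
    congr 1
    have : q = C (v i) * X + X ^ 2 * u := by rw [← hu]; ring
    rw [this]
    ring

/-- Key step: if `A = P/I` has the jet lifting property and `I ≤ 𝔪ⁿ` with `n ≥ 2` then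
`I ≤ 𝔪ⁿ⁺¹`. -/
theorem ker_le_pow_succ [Infinite k] {d : ℕ} (x : Fin d → P) (hk : ResK k P)
    (hx : Ideal.span (Set.range x) = maximalIdeal P) (hqr : CAlgX.IsQuasiRegular x)
    (π : P →ₐ[k] A) (hπ : Function.Surjective π) (hJ : JetProp k A) (n : ℕ) (hn : 2 ≤ n)
    (hI : RingHom.ker π ≤ maximalIdeal P ^ n) : RingHom.ker π ≤ maximalIdeal P ^ (n + 1) := by
  classical
  have hI2 : RingHom.ker π ≤ maximalIdeal P ^ 2 := hI.trans (Ideal.pow_le_pow_right hn)
  have hxm : ∀ i, x i ∈ maximalIdeal P := fun i => by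
    rw [← hx]; exact Ideal.subset_span ⟨i, rfl⟩
  intro f hf
  have hfn : f ∈ maximalIdeal P ^ n := hI hf
  obtain ⟨F, hF⟩ := exists_aeval_sub_mem_succ x hk hx n f hfn
  have hFn : MvPolynomial.aeval x F ∈ maximalIdeal P ^ n := by
    have : MvPolynomial.aeval x F = f - (f - MvPolynomial.aeval x F) := by ring
    rw [this]
    exact Ideal.sub_mem _ hfn (Ideal.pow_le_pow_right (Nat.le_succ n) hF)
  have h0 := homogeneousComponent_eq_zero_of_aeval_mem x hx hqr n F hFn
  have hcomp : MvPolynomial.homogeneousComponent n F = 0 := by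
    apply MvPolynomial.funext
    intro v
    rw [map_zero]
    obtain ⟨h, hh0, hhx⟩ := exists_jet x hk hx hqr π hπ hI2 hJ v n (by omega)
    choose u hu using hhx
    have e1 : h (MvPolynomial.aeval x F) = 0 := by
      have : MvPolynomial.aeval x F = f - (f - MvPolynomial.aeval x F) := by ring
      rw [this, map_sub, hh0 f hf, map_eq_zero_of_mem_pow (by omega) h hF, sub_zero]
    have e2 : h (MvPolynomial.aeval x F) = Ideal.Quotient.mk (Ideal.span {(X : k[X]) ^ (n + 1)})
        (MvPolynomial.aeval (fun i => X * (C (v i) + X * u i)) F) := by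
      have a1 : h (MvPolynomial.aeval x F) = MvPolynomial.aeval (fun i => h (x i)) F :=
        MvPolynomial.comp_aeval_apply x h F
      have a2 : (Ideal.Quotient.mkₐ k (Ideal.span {(X : k[X]) ^ (n + 1)}))
          (MvPolynomial.aeval (fun i => X * (C (v i) + X * u i)) F) =
          MvPolynomial.aeval (fun i => (Ideal.Quotient.mkₐ k (Ideal.span {(X : k[X]) ^ (n + 1)}))
            (X * (C (v i) + X * u i))) F :=
        MvPolynomial.comp_aeval_apply _ _ F
      rw [a1]
      change _ = (Ideal.Quotient.mkₐ k (Ideal.span {(X : k[X]) ^ (n + 1)})) _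
      rw [a2]
      have a3 : (fun i => h (x i)) = fun i =>
          (Ideal.Quotient.mkₐ k (Ideal.span {(X : k[X]) ^ (n + 1)})) (X * (C (v i) + X * u i)) := by
        funext i
        exact hu i
      rw [a3]
    rw [e2] at e1
    exact eval_eq_zero_of_mk_aeval_eq_zero F h0 v u e1
  -- all components of degree `≤ n` vanish
  have hFn1 : MvPolynomial.aeval x F ∈ maximalIdeal P ^ (n + 1) := by
    rw [← MvPolynomial.sum_homogeneousComponent F, map_sum]
    refine Ideal.sum_mem _ fun j _ => ?_
    by_cases hj : j < n + 1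
    · have : MvPolynomial.homogeneousComponent j F = 0 := by
        rcases Nat.lt_succ_iff_lt_or_eq.1 hj with hlt | rfl
        · exact h0 j hlt
        · exact hcomp
      rw [this, map_zero]
      exact Ideal.zero_mem _
    · exact Ideal.pow_le_pow_right (not_lt.1 hj)
        (aeval_mem_pow x _ hxm (MvPolynomial.homogeneousComponent_isHomogeneous j F))
  have : f = (f - MvPolynomial.aeval x F) + MvPolynomial.aeval x F := by ring
  rw [this]
  exact Ideal.add_mem _ hF hFn1

/-- If `A = P/I` has the jet lifting property and `I ≤ 𝔪²` then `I = 0`. -/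
theorem ker_eq_bot [Infinite k] [IsNoetherianRing P] {d : ℕ} (x : Fin d → P) (hk : ResK k P)
    (hx : Ideal.span (Set.range x) = maximalIdeal P) (hqr : CAlgX.IsQuasiRegular x)
    (π : P →ₐ[k] A) (hπ : Function.Surjective π) (hJ : JetProp k A)
    (hI : RingHom.ker π ≤ maximalIdeal P ^ 2) : RingHom.ker π = ⊥ := by
  have hall : ∀ n : ℕ, RingHom.ker π ≤ maximalIdeal P ^ (n + 2) := by
    intro n
    induction n with
    | zero => exact hI
    | succ n ih => exact ker_le_pow_succ x hk hx hqr π hπ hJ (n + 2) (by omega) ih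
  rw [eq_bot_iff, ← Ideal.iInf_pow_eq_bot_of_isLocalRing (maximalIdeal P)
    (maximalIdeal.isMaximal P).ne_top]
  refine le_iInf fun n => ?_
  exact (hall n).trans (Ideal.pow_le_pow_right (by omega))

end Main

section Converse

variable {k : Type u} [Field k] [Infinite k]

theorem regular_of_surjective_aux {A : Type u} [CommRing A] [Algebra k A] [Nontrivial A]
    (hJ : JetProp k A) :
    ∀ (d : ℕ) (P : Type u) [CommRing P] [IsRegularLocalRing P] [Algebra k P],
      ResK k P → (maximalIdeal P).spanFinrank = d → ∀ π : P →ₐ[k] A, Function.Surjective π →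
      IsRegularLocalRing A := by
  intro d
  induction d with
  | zero =>
    intro P _ _ _ hk hd π hπ
    have hkertop : RingHom.ker π ≠ ⊤ := RingHom.ker_ne_top _
    by_cases h2 : RingHom.ker π ≤ maximalIdeal P ^ 2
    · obtain ⟨d', x, hx, hqr⟩ := exists_params P
      have hbot := ker_eq_bot x hk hx hqr π hπ hJ h2
      have hinj : Function.Injective π := (RingHom.injective_iff_ker_eq_bot _).2 hbot
      exact IsRegularLocalRing.of_ringEquiv (RingEquiv.ofBijective π ⟨hinj, hπ⟩)
    · exfalso
      obtain ⟨x, hxk, hx2⟩ := SetLike.not_le_iff_exists.1 h2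
      have hxm : x ∈ maximalIdeal P := IsLocalRing.le_maximalIdeal hkertop hxk
      obtain ⟨t, ht, -⟩ := Lead.RLR.exists_finset_span_insert P x hxm hx2
      omega
  | succ d ih =>
    intro P _ _ _ hk hd π hπ
    have hkertop : RingHom.ker π ≠ ⊤ := RingHom.ker_ne_top _
    by_cases h2 : RingHom.ker π ≤ maximalIdeal P ^ 2
    · obtain ⟨d', x, hx, hqr⟩ := exists_params P
      have hbot := ker_eq_bot x hk hx hqr π hπ hJ h2
      have hinj : Function.Injective π := (RingHom.injective_iff_ker_eq_bot _).2 hbot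
      exact IsRegularLocalRing.of_ringEquiv (RingEquiv.ofBijective π ⟨hinj, hπ⟩)
    · obtain ⟨x, hxk, hx2⟩ := SetLike.not_le_iff_exists.1 h2
      have hxm : x ∈ maximalIdeal P := IsLocalRing.le_maximalIdeal hkertop hxk
      obtain ⟨t, ht, hspan⟩ := Lead.RLR.exists_finset_span_insert P x hxm hx2
      obtain ⟨hreg, hdim, -⟩ := Lead.RLR.quotient_regular P x t hspan ht.le
      haveI := hreg
      have hd' : (maximalIdeal (P ⧸ Ideal.span {x})).spanFinrank = d := by
        have e1 := Lead.RLR.ringKrullDim_eq_spanFinrank (P ⧸ Ideal.span {x})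
        have e2 := Lead.RLR.ringKrullDim_eq_spanFinrank P
        rw [e1, e2, hd] at hdim
        have : (maximalIdeal (P ⧸ Ideal.span {x})).spanFinrank + 1 = d + 1 := by
          exact_mod_cast hdim
        omega
      have hle : Ideal.span {x} ≤ RingHom.ker π := (Ideal.span_singleton_le_iff_mem _).2 hxk
      let π' : P ⧸ Ideal.span {x} →ₐ[k] A :=
        Ideal.Quotient.liftₐ (Ideal.span {x}) π (fun a ha => (RingHom.mem_ker).1 (hle ha))
      have hπ' : Function.Surjective π' := by
        intro a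
        obtain ⟨p, rfl⟩ := hπ a
        exact ⟨Ideal.Quotient.mk _ p, rfl⟩
      exact ih (P ⧸ Ideal.span {x}) (resK_quotient hk _) hd' π' hπ'

/-- a local `k`-algebra essentially of finite type with residue field `k` all of whose curvilinear
jets lift is regular. -/
theorem regular_of_jetProp {A : Type u} [CommRing A] [IsLocalRing A] [Algebra k A]
    [Algebra.EssFiniteType k A]
    (hres : Function.Surjective (algebraMap k (IsLocalRing.ResidueField A)))
    (hJ : JetProp k A) : IsRegularLocalRing A := by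
  have hbij : Function.Bijective (Algebra.ofId k (IsLocalRing.ResidueField A)) :=
    ⟨(algebraMap k (IsLocalRing.ResidueField A)).injective, hres⟩
  let e : k ≃ₐ[k] IsLocalRing.ResidueField A := AlgEquiv.ofBijective _ hbij
  let res : A →ₐ[k] k :=
    (e.symm : IsLocalRing.ResidueField A →ₐ[k] k).comp
      (IsScalarTower.toAlgHom k A (IsLocalRing.ResidueField A))
  obtain ⟨P, _, _, hreg, π, hπ, -⟩ := Groth.Agent.H61.exists_regular_presentation res
  haveI := hreg
  have hkP : ResK k P := by
    intro p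
    refine ⟨res (π p), ?_⟩
    rw [IsLocalRing.mem_maximalIdeal, mem_nonunits_iff]
    intro hu
    have h1 : res (π (p - algebraMap k P (res (π p)))) = 0 := by
      rw [map_sub, map_sub, AlgHom.commutes, AlgHom.commutes]
      simp
    have h2 := (hu.map π).map res
    rw [h1] at h2
    exact not_isUnit_zero h2
  exact regular_of_surjective_aux hJ _ P hkP rfl π hπ

end Converse

end Groth.Agent.H96.JetsReg
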