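import Mathlib
import Groth.Prelude.Def_CAlg
import Groth.Agent.H15.CDivNormal
import Groth.Agent.H14.D15.DepthFlat

/-!
# Kollár's tetrachotomy for Noetherian local rings (helper96)

A Noetherian local ring of depth ≤ 1 which is neither Artinian nor a discrete valuation ring admits
a finite, non-bijective ring map `R → R'` with kernel and cokernel of finite length and
`depth_R R' ≥ 1`:  `R ⧸ Γ_m(R)` in depth zero and `End_R(m)` in depth one.
-/

set_option autoImplicit false
set_option linter.style.haveILetI false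
set_option linter.unusedSectionVars false
set_option linter.unusedVariables false

universe u

namespace Groth.Agent.H96.KollarTetra

open IsLocalRing

section EndRing

variable {R : Type u} [CommRing R] (I : Ideal R) (x : R) (hx : x ∈ I) (hreg : IsSMulRegular R x)

theorem end_key (φ : Module.End R I) (a b : I) :
    (a : R) * ((φ b : I) : R) = (b : R) * ((φ a : I) : R) := by
  have h1 : (a : R) • b = (b : R) • a := Subtype.ext (by simp [mul_comm])
  have h2 := congrArg (fun t => ((φ t : I) : R)) h1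
  simpa using h2

include hx hreg in
theorem end_mul_comm (φ ψ : Module.End R I) : φ * ψ = ψ * φ := by
  ext a
  apply hreg
  apply hreg
  change x • x • ((φ (ψ a) : I) : R) = x • x • ((ψ (φ a) : I) : R)
  have k1 := end_key I φ ⟨x, hx⟩ (ψ a)
  have k2 := end_key I ψ ⟨x, hx⟩ a
  have k3 := end_key I ψ ⟨x, hx⟩ (φ a)
  have k4 := end_key I φ ⟨x, hx⟩ a
  simp only [smul_eq_mul] at *
  linear_combination x * k1 + ((φ ⟨x, hx⟩ : I) : R) * k2 - x * k3 - ((ψ ⟨x, hx⟩ : I) : R) * k4

/-- The endomorphism ring of an ideal containing a nonzerodivisor is commutative. -/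
@[reducible] noncomputable def endCommRing : CommRing (Module.End R I) :=
  { (inferInstance : Ring (Module.End R I)) with mul_comm := end_mul_comm I x hx hreg }

/-- evaluation at `x` -/
noncomputable def evalX : Module.End R I →ₗ[R] I :=
  LinearMap.applyₗ (⟨x, hx⟩ : I)

include hx in
theorem evalX_apply (φ : Module.End R I) : evalX I x hx φ = φ ⟨x, hx⟩ := rfl

include hx hreg in
theorem evalX_injective : Function.Injective (evalX I x hx) := by
  rw [← LinearMap.ker_eq_bot, LinearMap.ker_eq_bot']
  intro φ hφ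
  apply LinearMap.ext
  intro a
  apply Subtype.ext
  apply hreg
  have k := end_key I φ ⟨x, hx⟩ a
  rw [evalX_apply] at hφ
  change x * ((φ a : I) : R) = x * (((0 : Module.End R I) a : I) : R)
  rw [k, hφ]
  simp

include hx hreg in
theorem finite_end [IsNoetherianRing R] : Module.Finite R (Module.End R I) :=
  Module.Finite.of_injective (evalX I x hx) (evalX_injective I x hx hreg)

include hx hreg in
theorem algebraMap_end_injective : Function.Injective (algebraMap R (Module.End R I)) := by
  rw [injective_iff_map_eq_zero]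
  intro r hr
  have h1 := congrArg (fun φ : Module.End R I => ((φ ⟨x, hx⟩ : I) : R)) hr
  simp only [Module.algebraMap_end_apply] at h1
  have h2 : r * x = 0 := h1
  rw [mul_comm] at h2
  exact hreg (by simpa using h2)

theorem smul_eq_algebraMap (a : I) (φ : Module.End R I) :
    (a : R) • φ = algebraMap R (Module.End R I) ((φ a : I) : R) := by
  apply LinearMap.ext
  intro b
  apply Subtype.ext
  rw [LinearMap.smul_apply, Module.algebraMap_end_apply]
  change (a : R) * ((φ b : I) : R) = ((φ a : I) : R) * (b : R)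
  rw [end_key I φ a b, mul_comm]

include hreg in
theorem eq_zero_of_smul_eq_zero (φ : Module.End R I) (h : x • φ = 0) : φ = 0 := by
  apply LinearMap.ext
  intro a
  apply Subtype.ext
  apply hreg
  have h1 := congrArg (fun ψ : Module.End R I => ((ψ a : I) : R)) h
  simpa using h1

end EndRing

section DepthOne

variable {R : Type u} [CommRing R] [IsLocalRing R] [IsNoetherianRing R]

theorem regular_of_principal (h1 : ¬ IsArtinianRing R) (t : R)
    (ht : maximalIdeal R = Ideal.span {t}) : IsRegularLocalRing R ∧ ringKrullDim R = 1 := by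
  have hsp : ((maximalIdeal R).spanFinrank : WithBot ℕ∞) ≤ 1 := by
    rw [ht]
    have := Submodule.spanFinrank_span_le_ncard_of_finite (R := R) (Set.finite_singleton t)
    rw [Set.ncard_singleton] at this
    exact_mod_cast this
  have hdim1 : (1 : WithBot ℕ∞) ≤ ringKrullDim R := by
    by_contra hlt
    rw [not_le] at hlt
    have h0 : ringKrullDim R ≤ (0 : ℕ) := by
      apply ENat.WithBot.lt_add_one_iff.mp
      simpa using hlt
    apply h1
    rw [isArtinianRing_iff_krullDimLE_zero]
    exact Ring.krullDimLE_iff.mpr h0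
  have hle := ringKrullDim_le_spanFinrank_maximalIdeal R
  have hdim : ringKrullDim R = 1 := le_antisymm (hle.trans hsp) hdim1
  refine ⟨IsRegularLocalRing.of_spanFinrank_maximalIdeal_le R ?_, hdim⟩
  rw [hdim]; exact hsp

theorem mem_of_mul_eq (h1 : ¬ IsArtinianRing R)
    (h2 : ¬ (IsRegularLocalRing R ∧ ringKrullDim R = 1))
    (x y : R) (hreg : IsSMulRegular R x)
    (hmy : ∀ t ∈ maximalIdeal R, t * y ∈ Ideal.span {x})
    (t c : R) (ht : t ∈ maximalIdeal R) (hc : x * c = t * y) : c ∈ maximalIdeal R := by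
  by_contra hcm
  have hu : IsUnit c := by rwa [mem_maximalIdeal, mem_nonunits_iff, not_not] at hcm
  apply h2
  apply regular_of_principal h1 t
  apply le_antisymm
  · intro b hb
    obtain ⟨cb, hcb⟩ := Ideal.mem_span_singleton'.mp (hmy b hb)
    obtain ⟨u, rfl⟩ := hu
    rw [Ideal.mem_span_singleton']
    refine ⟨↑u⁻¹ * cb, ?_⟩
    have h3' : x * (↑u * b) = x * (t * cb) := by linear_combination b * hc - t * hcb
    have h3 : ↑u * b = t * cb := hreg (by simpa using h3')
    calc ↑u⁻¹ * cb * t = ↑u⁻¹ * (t * cb) := by ring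
      _ = ↑u⁻¹ * (↑u * b) := by rw [h3]
      _ = b := by rw [← mul_assoc, Units.inv_mul, one_mul]
  · rw [Ideal.span_singleton_le_iff_mem]; exact ht

theorem exists_end (h1 : ¬ IsArtinianRing R)
    (h2 : ¬ (IsRegularLocalRing R ∧ ringKrullDim R = 1))
    (x y : R) (hreg : IsSMulRegular R x)
    (hmy : ∀ t ∈ maximalIdeal R, t * y ∈ Ideal.span {x}) :
    ∃ φ : Module.End R (maximalIdeal R), ∀ t : maximalIdeal R,
      x * ((φ t : maximalIdeal R) : R) = (t : R) * y := by
  have hex : ∀ t : maximalIdeal R, ∃ c : R, x * c = (t : R) * y := fun t => by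
    obtain ⟨c, hc⟩ := Ideal.mem_span_singleton'.mp (hmy t t.2)
    exact ⟨c, by rw [mul_comm, hc]⟩
  choose c hc using hex
  refine ⟨{ toFun := fun t => ⟨c t, mem_of_mul_eq h1 h2 x y hreg hmy t (c t) t.2 (hc t)⟩
            map_add' := ?_
            map_smul' := ?_ }, fun t => hc t⟩
  · intro a b
    apply Subtype.ext
    apply hreg
    change x * c (a + b) = x * (c a + c b)
    rw [mul_add, hc, hc, hc, Submodule.coe_add, add_mul]
  · intro r a
    apply Subtype.ext
    apply hreg
    change x * c (r • a) = x * (r * c a)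
    rw [hc, mul_left_comm, hc]
    change (r * (a : R)) * y = r * ((a : R) * y)
    ring

theorem exists_of_depth_one (h1 : ¬ IsArtinianRing R)
    (h2 : ¬ (IsRegularLocalRing R ∧ ringKrullDim R = 1))
    (x y : R) (hx : x ∈ maximalIdeal R) (hreg : IsSMulRegular R x)
    (hy : y ∉ Ideal.span {x}) (hmy : ∀ t ∈ maximalIdeal R, t * y ∈ Ideal.span {x}) :
    ∃ (R' : Type u) (_ : CommRing R') (_ : Algebra R R'), Nontrivial R' ∧ Module.Finite R R' ∧
      ¬ Function.Bijective (algebraMap R R') ∧
      (∃ n : ℕ, (∀ r : R, algebraMap R R' r = 0 → ∀ a ∈ maximalIdeal R ^ n, a * r = 0) ∧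
        (∀ z : R', ∀ a ∈ maximalIdeal R ^ n, a • z ∈ Set.range (algebraMap R R'))) ∧
      maximalIdeal R ∉ associatedPrimes R R' := by
  have hx0 : x ≠ 0 := by
    intro h0
    have : (1 : R) = 0 := hreg (by simp [h0])
    exact one_ne_zero this
  refine ⟨Module.End R (maximalIdeal R), endCommRing _ x hx hreg, inferInstance, ?_, ?_, ?_,
    ⟨1, ?_, ?_⟩, ?_⟩
  · refine ⟨⟨1, 0, fun h => hx0 ?_⟩⟩
    have h3 := congrArg (fun φ : Module.End R (maximalIdeal R) =>
      ((φ ⟨x, hx⟩ : maximalIdeal R) : R)) h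
    simpa using h3
  · exact finite_end _ x hx hreg
  · intro hbij
    obtain ⟨φ, hφ⟩ := exists_end h1 h2 x y hreg hmy
    obtain ⟨r, hr⟩ := hbij.2 φ
    apply hy
    rw [Ideal.mem_span_singleton']
    refine ⟨r, ?_⟩
    have h3 := hφ ⟨x, hx⟩
    rw [← hr, Module.algebraMap_end_apply] at h3
    have h4 : x * (r * x) = x * y := h3
    exact hreg (by simpa using h4)
  · intro r hr a _
    have h3 : r = 0 := algebraMap_end_injective _ x hx hreg (by rw [hr, map_zero])
    rw [h3, mul_zero]
  · intro z a ha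
    rw [pow_one] at ha
    exact ⟨_, (smul_eq_algebraMap _ ⟨a, ha⟩ z).symm⟩
  · intro hass
    obtain ⟨-, φ, hφ⟩ := (isAssociatedPrime_iff (R := R)).mp hass
    have hxφ : x ∈ (⊥ : Submodule R (Module.End R (maximalIdeal R))).colon {φ} := hφ ▸ hx
    rw [Submodule.mem_colon_singleton, Submodule.mem_bot] at hxφ
    have h0 := eq_zero_of_smul_eq_zero _ x hreg φ hxφ
    have htop : (1 : R) ∈ maximalIdeal R := by
      rw [hφ, Submodule.mem_colon_singleton, h0, smul_zero]
      exact Submodule.zero_mem _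
    exact (Ideal.ne_top_iff_one _).mp (maximalIdeal.isMaximal R).ne_top htop

end DepthOne

section DepthZero

variable (R : Type u) [CommRing R] [IsLocalRing R] [IsNoetherianRing R]

/-- the ideal of elements killed by a power of the maximal ideal -/
def gamma : Ideal R where
  carrier := {r | ∃ n : ℕ, ∀ a ∈ maximalIdeal R ^ n, a * r = 0}
  add_mem' := by
    rintro r s ⟨n, hn⟩ ⟨k, hk⟩
    refine ⟨n + k, fun a ha => ?_⟩
    rw [mul_add, hn a (Ideal.pow_le_pow_right (Nat.le_add_right n k) ha),
      hk a (Ideal.pow_le_pow_right (Nat.le_add_left k n) ha), add_zero]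
  zero_mem' := ⟨0, fun a _ => mul_zero a⟩
  smul_mem' := by
    rintro c r ⟨n, hn⟩
    exact ⟨n, fun a ha => by rw [smul_eq_mul, mul_left_comm, hn a ha, mul_zero]⟩

theorem exists_uniform : ∃ N, ∀ r ∈ gamma R, ∀ a ∈ maximalIdeal R ^ N, a * r = 0 := by
  classical
  obtain ⟨S, hS⟩ := (IsNoetherian.noetherian (gamma R) : (gamma R).FG)
  have hex : ∀ s : R, ∃ n : ℕ, s ∈ gamma R → ∀ a ∈ maximalIdeal R ^ n, a * s = 0 := by
    intro s
    by_cases hs : s ∈ gamma R
    · obtain ⟨n, hn⟩ := hs
      exact ⟨n, fun _ => hn⟩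
    · exact ⟨0, fun h => absurd h hs⟩
  choose n hn using hex
  refine ⟨S.sup n, fun r hr a ha => ?_⟩
  rw [← hS] at hr
  induction hr using Submodule.span_induction with
  | mem s hs =>
    exact hn s (hS ▸ Submodule.subset_span hs) a (Ideal.pow_le_pow_right (Finset.le_sup hs) ha)
  | zero => simp
  | add s t _ _ hs ht => rw [mul_add, hs, ht, add_zero]
  | smul c s _ hs => rw [smul_eq_mul, mul_left_comm, hs, mul_zero]

variable {R}

theorem exists_of_depth_zero (h1 : ¬ IsArtinianRing R) (b : R) (hb0 : b ≠ 0)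
    (hb : ∀ a ∈ maximalIdeal R, a * b = 0) :
    ∃ (R' : Type u) (_ : CommRing R') (_ : Algebra R R'), Nontrivial R' ∧ Module.Finite R R' ∧
      ¬ Function.Bijective (algebraMap R R') ∧
      (∃ n : ℕ, (∀ r : R, algebraMap R R' r = 0 → ∀ a ∈ maximalIdeal R ^ n, a * r = 0) ∧
        (∀ z : R', ∀ a ∈ maximalIdeal R ^ n, a • z ∈ Set.range (algebraMap R R'))) ∧
      maximalIdeal R ∉ associatedPrimes R R' := by
  obtain ⟨N, hN⟩ := exists_uniform R
  refine ⟨R ⧸ gamma R, inferInstance, inferInstance, ?_, ?_, ?_, ⟨N, ?_, ?_⟩, ?_⟩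
  · rw [Ideal.Quotient.nontrivial_iff]
    intro htop
    have h1' : (1 : R) ∈ gamma R := htop ▸ Submodule.mem_top
    obtain ⟨n, hn⟩ := h1'
    apply h1
    rw [isArtinianRing_iff_isNilpotent_maximalIdeal]
    refine ⟨n, ?_⟩
    rw [Ideal.zero_eq_bot, eq_bot_iff]
    intro a ha
    simpa using hn a ha
  · infer_instance
  · intro hbij
    have hbg : b ∈ gamma R := ⟨1, fun a ha => hb a (by simpa using ha)⟩
    have h3 : algebraMap R (R ⧸ gamma R) b = 0 := Ideal.Quotient.eq_zero_iff_mem.mpr hbg
    exact hb0 (hbij.1 (by rw [h3, map_zero]))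
  · intro r hr a ha
    exact hN r (Ideal.Quotient.eq_zero_iff_mem.mp hr) a ha
  · intro z a _
    obtain ⟨z, rfl⟩ := Ideal.Quotient.mk_surjective z
    exact ⟨a * z, by simp [Algebra.smul_def]⟩
  · intro hass
    obtain ⟨-, z, hz⟩ := (isAssociatedPrime_iff (R := R)).mp hass
    obtain ⟨z, rfl⟩ := Ideal.Quotient.mk_surjective z
    have hmz : ∀ a ∈ maximalIdeal R, a * z ∈ gamma R := by
      intro a ha
      have h4 : a ∈ (⊥ : Submodule R (R ⧸ gamma R)).colon {Ideal.Quotient.mk _ z} := hz ▸ ha
      rw [Submodule.mem_colon_singleton, Submodule.mem_bot] at h4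
      exact Ideal.Quotient.eq_zero_iff_mem.mp (by simpa [Algebra.smul_def] using h4)
    have hzg : z ∈ gamma R := by
      refine ⟨N + 1, fun a ha => ?_⟩
      rw [pow_succ] at ha
      refine Submodule.mul_induction_on ha ?_ ?_
      · intro c hc d hd
        rw [mul_assoc]
        exact hN _ (hmz d hd) c hc
      · intro c d hc hd
        rw [add_mul, hc, hd, add_zero]
    have htop : (1 : R) ∈ maximalIdeal R := by
      rw [hz, Submodule.mem_colon_singleton, one_smul, Submodule.mem_bot]
      exact Ideal.Quotient.eq_zero_iff_mem.mpr hzg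
    exact (Ideal.ne_top_iff_one _).mp (maximalIdeal.isMaximal R).ne_top htop

end DepthZero

section Main

variable {R : Type u} [CommRing R] [IsLocalRing R] [IsNoetherianRing R]

theorem main (h1 : ¬ IsArtinianRing R) (h2 : ¬ (IsRegularLocalRing R ∧ ringKrullDim R = 1))
    (h3 : LocCoh.depth R R ≤ 1) :
    ∃ (R' : Type u) (_ : CommRing R') (_ : Algebra R R'), Nontrivial R' ∧ Module.Finite R R' ∧
      ¬ Function.Bijective (algebraMap R R') ∧
      (∃ n : ℕ, (∀ x : R, algebraMap R R' x = 0 → ∀ a ∈ maximalIdeal R ^ n, a * x = 0) ∧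
        (∀ y : R', ∀ a ∈ maximalIdeal R ^ n, a • y ∈ Set.range (algebraMap R R'))) ∧
      maximalIdeal R ∉ associatedPrimes R R' := by
  by_cases h0 : LocCoh.depth R R = 0
  · have h1' : ∀ x ∈ maximalIdeal R, ¬ IsSMulRegular R x := by
      intro x hx hreg
      have h4 := Groth.Agent.H14.D15.le_idealDepth (I := maximalIdeal R) (M := R) (rs := [x])
        ((RingTheory.Sequence.isWeaklyRegular_cons_iff R x []).mpr
          ⟨hreg, RingTheory.Sequence.IsWeaklyRegular.nil _ _⟩)
        (by intro r hr; rw [List.mem_singleton.mp hr]; exact hx)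
      have h5 : LocCoh.idealDepth (maximalIdeal R) R = 0 := h0
      rw [h5] at h4
      simp at h4
    obtain ⟨b, hb0, hb⟩ :=
      Groth.Agent.H14.D15.exists_ne_zero_smul_eq_zero_of_forall_not_isSMulRegular
        (maximalIdeal R) R h1'
    exact exists_of_depth_zero h1 b hb0 (fun a ha => by simpa using hb a ha)
  · have h1eq : LocCoh.depth R R = 1 := le_antisymm h3 (Order.one_le_iff_ne_zero.mpr h0)
    obtain ⟨a, b, ha, hareg, hb, hmb⟩ := Groth.Agent.H15.CDivAlg.exists_of_depth_eq_one h1eq
    exact exists_of_depth_one h1 h2 a b ha hareg hb hmb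

end Main

end Groth.Agent.H96.KollarTetra
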