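import Mathlib

/-!
# Finite coproducts in a localized category (helper96)

Dual of `Mathlib.CategoryTheory.Localization.FiniteProducts`: if `W` contains identities and is
stable under coproducts of shape `J` (finite), then any localization functor for `W` preserves
coproducts of shape `J` and the localized category has them.
-/

set_option autoImplicit false
universe v₁ v₂ u₁ u₂

open CategoryTheory CategoryTheory.Limits Opposite

namespace Groth.Agent.H96.LocCoprod

variable {C : Type u₁} {D : Type u₂} [Category.{v₁} C] [Category.{v₂} D]

section Unop

variable {J : Type*} (X : Discrete J ⥤ Cᵒᵖ)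

/-- The functor `Discrete J ⥤ C` underlying a functor `Discrete J ⥤ Cᵒᵖ`. -/
def unopFunctor : Discrete J ⥤ C := Discrete.functor (fun j => (X.obj ⟨j⟩).unop)

/-- The cocone underlying a cone over a discrete diagram in `Cᵒᵖ`. -/
def unopCocone (c : Cone X) : Cocone (unopFunctor X) where
  pt := c.pt.unop
  ι := Discrete.natTrans (fun j => (c.π.app j).unop)

/-- The cocone underlying a limit cone is a colimit cocone. -/
def unopCoconeIsColimit (c : Cone X) (h : IsLimit c) : IsColimit (unopCocone X c) where
  desc s := (h.lift ⟨op s.pt, Discrete.natTrans (fun j => (s.ι.app j).op)⟩).unop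
  fac s j := by
    apply Quiver.Hom.op_inj
    have := h.fac ⟨op s.pt, Discrete.natTrans (fun j => (s.ι.app j).op)⟩ j
    exact this
  uniq s m hm := by
    apply Quiver.Hom.op_inj
    apply h.hom_ext
    intro j
    refine Eq.trans ?_ (h.fac ⟨op s.pt, Discrete.natTrans (fun j => (s.ι.app j).op)⟩ j).symm
    exact congrArg Quiver.Hom.op (hm j)

end Unop

/-- If `W` is stable under coproducts of shape `J`, then `W.op` is stable under products of
shape `J`. -/
lemma op_isStableUnderProductsOfShape (W : MorphismProperty C) (J : Type*)
    [W.IsStableUnderCoproductsOfShape J] : W.op.IsStableUnderProductsOfShape J where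
  condition X₁ X₂ c₁ c₂ h₁ h₂ f hf φ hφ := by
    change W φ.unop
    refine MorphismProperty.IsStableUnderColimitsOfShape.condition
      (unopFunctor X₂) (unopFunctor X₁) (unopCocone X₂ c₂) (unopCocone X₁ c₁)
      (unopCoconeIsColimit X₂ c₂ h₂) (unopCoconeIsColimit X₁ c₁ h₁)
      (Discrete.natTrans (fun j => (f.app j).unop)) (fun j => hf j) φ.unop ?_
    intro j
    apply Quiver.Hom.op_inj
    exact hφ j

variable (L : C ⥤ D) (W : MorphismProperty C) [L.IsLocalization W] [W.ContainsIdentities]

include L W in
/-- The localized category has coproducts of a finite shape under which `W` is stable. -/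
lemma hasCoproductsOfShape (J : Type) [Finite J] [HasCoproductsOfShape J C]
    [W.IsStableUnderCoproductsOfShape J] : HasCoproductsOfShape J D := by
  have : W.op.IsStableUnderProductsOfShape J := op_isStableUnderProductsOfShape W J
  have h1 : HasProductsOfShape J Dᵒᵖ := Localization.hasProductsOfShape L.op W.op J
  have h2 : HasLimitsOfShape (Discrete J)ᵒᵖ Dᵒᵖ :=
    hasLimitsOfShape_of_equivalence (Discrete.opposite J).symm
  exact hasColimitsOfShape_of_hasLimitsOfShape_op

include W in
/-- A localization functor preserves coproducts of a finite shape under which `W` is stable. -/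
lemma preservesCoproductsOfShape (J : Type) [Finite J] [HasCoproductsOfShape J C]
    [W.IsStableUnderCoproductsOfShape J] : PreservesColimitsOfShape (Discrete J) L := by
  have : W.op.IsStableUnderProductsOfShape J := op_isStableUnderProductsOfShape W J
  have h1 : PreservesLimitsOfShape (Discrete J) L.op :=
    Localization.preservesProductsOfShape L.op W.op J
  have h2 : PreservesLimitsOfShape (Discrete J)ᵒᵖ L.op :=
    preservesLimitsOfShape_of_equiv (Discrete.opposite J).symm L.op
  exact preservesColimitsOfShape_of_op _ _

end Groth.Agent.H96.LocCoprod
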