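import Mathlib

/-!
# Local rings and surjections with small kernel (helper library for S2473)

* the cotangent space dimension is unchanged by a surjection whose kernel lies in `𝔪²`;
* a ring surjecting onto a local ring with kernel in the Jacobson radical is local;
* for an integral algebra over a local ring, `𝔪 B` lies in the Jacobson radical;
* linear independence over a residue field tested with coefficients in the ring.
-/

set_option autoImplicit false
set_option linter.style.haveILetI false
set_option linter.unusedSectionVars false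
set_option linter.unusedVariables false
universe u

namespace Groth.Agent.H96.LocalQuot

open IsLocalRing

section Span

variable {R S : Type u} [CommRing R] [CommRing S] [IsLocalRing R] [IsLocalRing S]

theorem spanFinrank_maximalIdeal_le_of_ker_le (f : R →+* S) (hf : Function.Surjective f)
    (hfg : (maximalIdeal R).FG) (hker : RingHom.ker f ≤ maximalIdeal R ^ 2) :
    (maximalIdeal R).spanFinrank ≤ (maximalIdeal S).spanFinrank := by
  classical
  have hmap := map_maximalIdeal_of_surjective f hf
  have hfgS : (maximalIdeal S).FG := by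
    rw [← hmap]; exact hfg.map f
  obtain ⟨t, hcard, hspan⟩ := Submodule.FG.exists_span_finset_card_eq_spanFinrank hfgS
  -- lift the generators
  have hf' := hf
  choose g hg using hf'
  let s : Finset R := t.image g
  have hsm : Ideal.span (s : Set R) ≤ maximalIdeal R := by
    rw [Ideal.span_le]
    intro x hx
    obtain ⟨y, hy, rfl⟩ := Finset.mem_image.1 (Finset.mem_coe.1 hx)
    have hym : y ∈ maximalIdeal S := by
      rw [← hspan]; exact Submodule.subset_span hy
    rw [← hmap] at hym
    haveI := IsLocalHom.of_surjective f hf
    by_contra hgy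
    have hu : IsUnit (g y) := by
      by_contra h
      exact hgy ((mem_maximalIdeal _).2 h)
    have hu' : IsUnit (f (g y)) := hu.map f
    rw [hg y] at hu'
    rw [hmap] at hym
    exact (mem_maximalIdeal y).1 hym hu'
  have hmapspan : (Ideal.span (s : Set R)).map f = maximalIdeal S := by
    rw [Ideal.map_span, ← hspan]
    congr 1
    ext y
    constructor
    · rintro ⟨x, hx, rfl⟩
      obtain ⟨z, hz, rfl⟩ := Finset.mem_image.1 (Finset.mem_coe.1 hx)
      rw [hg z]; exact hz
    · intro hy
      exact ⟨g y, Finset.mem_coe.2 (Finset.mem_image.2 ⟨y, hy, rfl⟩), hg y⟩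
  have hle : maximalIdeal R ≤ Ideal.span (s : Set R) ⊔ maximalIdeal R • maximalIdeal R := by
    intro x hx
    have hfx : f x ∈ (Ideal.span (s : Set R)).map f := by
      rw [hmapspan, ← hmap]; exact Ideal.mem_map_of_mem f hx
    obtain ⟨z, hz, hzx⟩ := (Ideal.mem_map_iff_of_surjective f hf).1 hfx
    have hk : x - z ∈ RingHom.ker f := by
      rw [RingHom.mem_ker, map_sub, hzx, sub_self]
    have hk2 : x - z ∈ maximalIdeal R • maximalIdeal R := by
      have := hker hk
      rwa [pow_two] at this
    have : x = z + (x - z) := by ring
    rw [this]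
    exact Submodule.add_mem_sup hz hk2
  have hfin : maximalIdeal R ≤ Ideal.span (s : Set R) :=
    Submodule.le_of_le_smul_of_le_jacobson_bot hfg (maximalIdeal_le_jacobson ⊥) hle
  have heq : Ideal.span (s : Set R) = maximalIdeal R := le_antisymm hsm hfin
  have h1 : (maximalIdeal R).spanFinrank ≤ s.card := by
    have := Submodule.spanFinrank_span_le_ncard_of_finite (R := R) (s := (s : Set R))
      s.finite_toSet
    rw [Set.ncard_coe_finset] at this
    rw [← heq]
    exact this
  calc (maximalIdeal R).spanFinrank ≤ s.card := h1
    _ ≤ t.card := Finset.card_image_le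
    _ = (maximalIdeal S).spanFinrank := hcard

theorem spanFinrank_maximalIdeal_eq_of_ker_le (f : R →+* S) (hf : Function.Surjective f)
    (hfg : (maximalIdeal R).FG) (hker : RingHom.ker f ≤ maximalIdeal R ^ 2) :
    (maximalIdeal R).spanFinrank = (maximalIdeal S).spanFinrank := by
  refine le_antisymm (spanFinrank_maximalIdeal_le_of_ker_le f hf hfg hker) ?_
  have hmap := map_maximalIdeal_of_surjective f hf
  have hfgS : (maximalIdeal S).FG := by
    rw [← hmap]; exact hfg.map f
  have h := Ideal.spanRank_map_le f (maximalIdeal R)
  rw [hmap, Submodule.FG.spanRank_eq_spanFinrank hfg,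
    Submodule.FG.spanRank_eq_spanFinrank hfgS] at h
  exact_mod_cast h

/-- the dimension of the cotangent space is unchanged by a surjection with kernel in `𝔪²`. -/
theorem finrank_cotangentSpace_eq_of_ker_le [IsNoetherianRing R] (f : R →+* S)
    (hf : Function.Surjective f) (hker : RingHom.ker f ≤ maximalIdeal R ^ 2) :
    Module.finrank (ResidueField R) (CotangentSpace R) =
      Module.finrank (ResidueField S) (CotangentSpace S) := by
  haveI : IsNoetherianRing S := isNoetherianRing_of_surjective R S f hf
  rw [← spanFinrank_maximalIdeal_eq_finrank_cotangentSpace,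
    ← spanFinrank_maximalIdeal_eq_finrank_cotangentSpace]
  exact spanFinrank_maximalIdeal_eq_of_ker_le f hf (maximalIdeal R).fg_of_isNoetherianRing hker

end Span

section Jacobson

variable {R S : Type*} [CommRing R] [CommRing S]

/-- a surjection with kernel in the Jacobson radical reflects units. -/
theorem isUnit_of_isUnit_map (f : R →+* S) (hf : Function.Surjective f)
    (hker : RingHom.ker f ≤ Ideal.jacobson ⊥) {b : R} (hb : IsUnit (f b)) : IsUnit b := by
  obtain ⟨u, hu⟩ := hb
  obtain ⟨c, hc⟩ := hf (↑u⁻¹ : S)
  have h1 : b * c - 1 ∈ RingHom.ker f := by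
    rw [RingHom.mem_ker, map_sub, map_mul, map_one, hc, ← hu, Units.mul_inv, sub_self]
  have h2 : IsUnit (b * c) := Ideal.isUnit_of_sub_one_mem_jacobson_bot _ (hker h1)
  exact isUnit_of_mul_isUnit_left h2

/-- a ring surjecting onto a local ring with kernel in the Jacobson radical is local. -/
theorem isLocalRing_of_surjective_of_ker_le_jacobson [IsLocalRing S] (f : R →+* S)
    (hf : Function.Surjective f) (hker : RingHom.ker f ≤ Ideal.jacobson ⊥) : IsLocalRing R := by
  haveI : IsLocalHom f := ⟨fun b hb => isUnit_of_isUnit_map f hf hker hb⟩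
  exact RingHom.domain_isLocalRing f

/-- for an integral algebra over a local ring, `𝔪 B` lies in the Jacobson radical. -/
theorem map_maximalIdeal_le_jacobson [IsLocalRing R] [Algebra R S] [Algebra.IsIntegral R S] :
    (maximalIdeal R).map (algebraMap R S) ≤ Ideal.jacobson ⊥ := by
  rw [Ideal.jacobson]
  refine le_sInf ?_
  rintro M ⟨-, hM⟩
  haveI := hM
  have h1 : (M.comap (algebraMap R S)).IsMaximal :=
    Ideal.isMaximal_comap_of_isIntegral_of_isMaximal (R := R) M
  have h2 : M.comap (algebraMap R S) = maximalIdeal R := eq_maximalIdeal h1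
  rw [Ideal.map_le_iff_le_comap, h2]

end Jacobson

section LinIndep

variable {A k V ι : Type*} [CommRing A] [Field k] [Algebra A k] [AddCommGroup V] [Module A V]
  [Module k V] [IsScalarTower A k V] [Fintype ι]

/-- linear independence over a quotient field, tested with coefficients in the ring. -/
theorem linearIndependent_iff_of_surjective (hs : Function.Surjective (algebraMap A k))
    (v : ι → V) :
    LinearIndependent k v ↔
      ∀ g : ι → A, ∑ i, g i • v i = 0 → ∀ i, algebraMap A k (g i) = 0 := by
  rw [Fintype.linearIndependent_iff]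
  constructor
  · intro h g hg i
    refine h (fun i => algebraMap A k (g i)) ?_ i
    rw [← hg]
    refine Finset.sum_congr rfl (fun i _ => ?_)
    exact algebraMap_smul k (g i) (v i)
  · intro h c hc i
    choose g hg using hs
    have := h (fun i => g (c i)) (by
      rw [← hc]
      refine Finset.sum_congr rfl (fun i _ => ?_)
      rw [← hg (c i)]
      exact (algebraMap_smul k (g (c i)) (v i)).symm ▸ (by rw [hg (c i)])) i
    rw [hg] at this
    exact this

end LinIndep

section Swap

open TensorProduct

variable {A k₁ k₂ M ι : Type*} [CommRing A] [Field k₁] [Field k₂] [Algebra A k₁] [Algebra A k₂]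
  [AddCommGroup M] [Module A M] [Fintype ι]

/-- two quotient fields of `A` with the same kernel are isomorphic `A`-algebras. -/
noncomputable def fieldEquiv (h₁ : Function.Surjective (algebraMap A k₁))
    (h₂ : Function.Surjective (algebraMap A k₂))
    (hk : RingHom.ker (algebraMap A k₁) = RingHom.ker (algebraMap A k₂)) : k₁ ≃ₐ[A] k₂ :=
  ((Ideal.quotientKerAlgEquivOfSurjective (f := Algebra.ofId A k₁) h₁).symm.trans
    (Ideal.quotientEquivAlgOfEq A (by exact hk))).trans
    (Ideal.quotientKerAlgEquivOfSurjective (f := Algebra.ofId A k₂) h₂)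

/-- linear independence of the `1 ⊗ v_i` does not depend on the model of the residue field. -/
theorem linearIndependent_one_tmul_iff (h₁ : Function.Surjective (algebraMap A k₁))
    (h₂ : Function.Surjective (algebraMap A k₂))
    (hk : RingHom.ker (algebraMap A k₁) = RingHom.ker (algebraMap A k₂)) (v : ι → M) :
    LinearIndependent k₁ (fun i => (1 : k₁) ⊗ₜ[A] v i) ↔
      LinearIndependent k₂ (fun i => (1 : k₂) ⊗ₜ[A] v i) := by
  rw [linearIndependent_iff_of_surjective (A := A) h₁,
    linearIndependent_iff_of_surjective (A := A) h₂]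
  let τ := fieldEquiv h₁ h₂ hk
  let Ψ : k₁ ⊗[A] M ≃ₗ[A] k₂ ⊗[A] M :=
    TensorProduct.congr τ.toLinearEquiv (LinearEquiv.refl A M)
  have hΨ : ∀ g : ι → A, Ψ (∑ i, g i • ((1 : k₁) ⊗ₜ[A] v i)) =
      ∑ i, g i • ((1 : k₂) ⊗ₜ[A] v i) := by
    intro g
    rw [map_sum]
    refine Finset.sum_congr rfl (fun i _ => ?_)
    rw [LinearEquiv.map_smul, TensorProduct.congr_tmul]
    congr 2
    exact map_one τ
  have hker : ∀ a : A, algebraMap A k₁ a = 0 ↔ algebraMap A k₂ a = 0 := by
    intro a
    rw [← RingHom.mem_ker, hk, RingHom.mem_ker]
  constructor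
  · intro h g hg i
    rw [← hker]
    refine h g ?_ i
    apply Ψ.injective
    rw [hΨ, hg, map_zero]
  · intro h g hg i
    rw [hker]
    refine h g ?_ i
    rw [← hΨ, hg, map_zero]

end Swap

end Groth.Agent.H96.LocalQuot
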