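import Mathlib

/-!
# Triangularization over an algebraically closed field

Every endomorphism of a finite-dimensional vector space over an algebraically closed field has an
upper triangular matrix in a suitable basis indexed by `Fin m`.
-/

set_option linter.style.haveILetI false
set_option linter.unusedSectionVars false
set_option linter.unusedVariables false

open Module

namespace Groth.Agent.H96.Triangularize

variable {K : Type*} [Field K] [IsAlgClosed K]

theorem exists_triangular_basis_aux (d : ℕ) :
    ∀ {V : Type*} [AddCommGroup V] [Module K V] [FiniteDimensional K V] (u : V →ₗ[K] V),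
      finrank K V = d →
      ∃ (m : ℕ) (b : Basis (Fin m) K V), (LinearMap.toMatrix b b u).BlockTriangular id := by
  induction d with
  | zero =>
    intro V _ _ _ u h
    refine ⟨0, Module.finBasisOfFinrankEq K V h, ?_⟩
    intro i
    exact i.elim0
  | succ d ih =>
    intro V _ _ _ u h
    haveI : Nontrivial V := Module.nontrivial_of_finrank_pos (R := K) (by omega)
    obtain ⟨μ, hμ⟩ := Module.End.exists_eigenvalue u
    obtain ⟨v, hv⟩ := hμ.exists_hasEigenvector
    have hv0 : v ≠ 0 := hv.2
    have huv : u v = μ • v := hv.apply_eq_smul
    set L : Submodule K V := K ∙ v with hL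
    obtain ⟨C, hC⟩ := L.exists_isCompl
    have hfr : finrank K C = d := by
      have h1 := Submodule.finrank_add_eq_of_isCompl hC
      have h2 : finrank K L = 1 := finrank_span_singleton hv0
      omega
    let e : (L × C) ≃ₗ[K] V := Submodule.prodEquivOfIsCompl L C hC
    let u' : C →ₗ[K] C := (LinearMap.snd K L C) ∘ₗ e.symm.toLinearMap ∘ₗ u ∘ₗ C.subtype
    obtain ⟨m', cb, hcb⟩ := ih u' hfr
    let bL : Basis (Fin 1) K L :=
      (Basis.singleton (Fin 1) K).map (LinearEquiv.toSpanNonzeroSingleton K V v hv0)
    have hbL : ∀ i, (bL i : V) = v := by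
      intro i
      simp [bL, LinearEquiv.toSpanNonzeroSingleton]
    let B₀ : Basis (Fin 1 ⊕ Fin m') K V := (bL.prod cb).map e
    have hB₀l : ∀ i, B₀ (Sum.inl i) = v := by
      intro i
      simp [B₀, e, hbL]
    have hB₀r : ∀ j, B₀ (Sum.inr j) = (cb j : V) := by
      intro j
      simp [B₀, e]
    have hrepr : ∀ (x : V) (i : Fin m'), B₀.repr x (Sum.inr i) = cb.repr (e.symm x).2 i := by
      intro x i
      simp [B₀]
    refine ⟨1 + m', B₀.reindex finSumFinEquiv, ?_⟩
    intro i j hij
    simp only [id] at hij
    rw [LinearMap.toMatrix_apply, Basis.reindex_apply, Basis.repr_reindex_apply]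
    obtain ⟨p, rfl⟩ := finSumFinEquiv.surjective i
    obtain ⟨q, rfl⟩ := finSumFinEquiv.surjective j
    simp only [Equiv.symm_apply_apply]
    rcases q with q | q
    · rw [hB₀l, huv, ← hB₀l q, map_smul, Basis.repr_self]
      rcases p with p | p
      · exfalso
        have : p = q := Subsingleton.elim _ _
        subst this
        exact lt_irrefl _ hij
      · simp
    · rcases p with p | p
      · exfalso
        simp only [finSumFinEquiv_apply_left, finSumFinEquiv_apply_right] at hij
        have h1 : (Fin.natAdd 1 q : ℕ) < (Fin.castAdd m' p : ℕ) := hij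
        simp only [Fin.val_natAdd, Fin.val_castAdd] at h1
        have := p.2
        omega
      · rw [hB₀r, hrepr]
        have hqp : q < p := by
          simp only [finSumFinEquiv_apply_right] at hij
          have h1 : (Fin.natAdd 1 q : ℕ) < (Fin.natAdd 1 p : ℕ) := hij
          simp only [Fin.val_natAdd] at h1
          exact Fin.lt_def.2 (by omega)
        have := hcb (i := p) (j := q) hqp
        rw [LinearMap.toMatrix_apply] at this
        exact this

theorem exists_triangular_basis {V : Type*} [AddCommGroup V] [Module K V] [FiniteDimensional K V]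
    (u : V →ₗ[K] V) :
    ∃ (m : ℕ) (b : Basis (Fin m) K V), (LinearMap.toMatrix b b u).BlockTriangular id :=
  exists_triangular_basis_aux _ u rfl

end Groth.Agent.H96.Triangularize
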