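import Mathlib

/-!
# Counting invariants of tuples under permutation

For `x : Fin n → ι`, `cnt x : ι →₀ ℕ` counts the fibres.  Two tuples have the same counts iff they differ by
a permutation of `Fin n`, and every `l ∈ finsuppAntidiag univ n` is the count of a tuple.
-/

set_option linter.style.haveILetI false
set_option linter.unusedSectionVars false
set_option linter.unusedVariables false

open Finset

namespace Groth.Agent.H96.TupleCount

variable {ι : Type*} [Fintype ι] [DecidableEq ι] {n : ℕ}

/-- Fibre counts of a tuple. -/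
noncomputable def cnt (x : Fin n → ι) : ι →₀ ℕ :=
  Finsupp.equivFunOnFinite.symm fun i => Fintype.card {k // x k = i}

@[simp] lemma cnt_apply (x : Fin n → ι) (i : ι) : cnt x i = Fintype.card {k // x k = i} := rfl

lemma sum_cnt (x : Fin n → ι) : ∑ i, cnt x i = n := by
  simp only [cnt_apply]
  rw [← Fintype.card_sigma, Fintype.card_congr (Equiv.sigmaFiberEquiv x), Fintype.card_fin]

lemma cnt_mem (x : Fin n → ι) : cnt x ∈ finsuppAntidiag (univ : Finset ι) n := by
  rw [mem_finsuppAntidiag]
  exact ⟨sum_cnt x, subset_univ _⟩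

lemma cnt_comp_perm (x : Fin n → ι) (σ : Equiv.Perm (Fin n)) : cnt (x ∘ σ) = cnt x := by
  ext i
  simp only [cnt_apply]
  exact Fintype.card_congr (σ.subtypeEquiv fun k => by simp)

lemma exists_perm_of_cnt_eq {x y : Fin n → ι} (h : cnt x = cnt y) :
    ∃ σ : Equiv.Perm (Fin n), y = x ∘ σ := by
  have hc : ∀ i, Fintype.card {k // y k = i} = Fintype.card {k // x k = i} := fun i => by
    have := DFunLike.congr_fun h i
    simp only [cnt_apply] at this
    exact this.symm
  let e : ∀ i, {k // y k = i} ≃ {k // x k = i} := fun i => Fintype.equivOfCardEq (hc i)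
  let σ : Equiv.Perm (Fin n) :=
    (Equiv.sigmaFiberEquiv y).symm.trans ((Equiv.sigmaCongrRight e).trans (Equiv.sigmaFiberEquiv x))
  refine ⟨σ, ?_⟩
  ext k
  have : x (σ k) = y k := by
    have h1 : σ k = ((e (y k)) ⟨k, rfl⟩ : Fin n) := rfl
    rw [h1]
    exact ((e (y k)) ⟨k, rfl⟩).2
  simp [this]

lemma exists_cnt_eq {l : ι →₀ ℕ} (hl : l ∈ finsuppAntidiag (univ : Finset ι) n) :
    ∃ x : Fin n → ι, cnt x = l := by
  rw [mem_finsuppAntidiag] at hl
  have hcard : Fintype.card (Fin n) = Fintype.card (Σ i : ι, Fin (l i)) := by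
    rw [Fintype.card_sigma]
    simp [hl.1]
  let e : Fin n ≃ Σ i : ι, Fin (l i) := Fintype.equivOfCardEq hcard
  refine ⟨fun k => (e k).1, ?_⟩
  ext i
  simp only [cnt_apply]
  rw [Fintype.card_congr ((e.subtypeEquiv (p := fun k => (e k).1 = i) (q := fun p => p.1 = i)
    (fun k => Iff.rfl)).trans (Equiv.sigmaSubtype i))]
  simp

lemma prod_comp_eq {N : Type*} [CommMonoid N] (d : ι → N) (x : Fin n → ι) :
    ∏ k, d (x k) = ∏ i, d i ^ cnt x i := by
  rw [← Finset.prod_fiberwise (univ : Finset (Fin n)) x (fun k => d (x k))]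
  refine Finset.prod_congr rfl fun i _ => ?_
  rw [Finset.prod_congr rfl (g := fun _ => d i) (fun k hk => by rw [(Finset.mem_filter.1 hk).2]),
    Finset.prod_const, cnt_apply, Fintype.card_subtype]

lemma sum_comp_eq {N : Type*} [AddCommMonoid N] (d : ι → N) (x : Fin n → ι) :
    ∑ k, d (x k) = ∑ i, cnt x i • d i := by
  rw [← Finset.sum_fiberwise (univ : Finset (Fin n)) x (fun k => d (x k))]
  refine Finset.sum_congr rfl fun i _ => ?_
  rw [Finset.sum_congr rfl (g := fun _ => d i) (fun k hk => by rw [(Finset.mem_filter.1 hk).2]),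
    Finset.sum_const, cnt_apply, Fintype.card_subtype]

/-- For tuples in a `Fin m`, pointwise comparable tuples with the same counts are equal. -/
lemma eq_of_le_of_cnt_eq {m : ℕ} {x y : Fin n → Fin m} (hle : ∀ k, x k ≤ y k) (h : cnt x = cnt y) :
    x = y := by
  have hs : ∑ k, ((x k : ℕ)) = ∑ k, ((y k : ℕ)) := by
    rw [sum_comp_eq (fun i : Fin m => (i : ℕ)) x, sum_comp_eq (fun i : Fin m => (i : ℕ)) y, h]
  have := (Finset.sum_eq_sum_iff_of_le (s := univ) (f := fun k => (x k : ℕ)) (g := fun k => (y k : ℕ))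
    (fun k _ => hle k)).1 hs
  ext k
  exact this k (mem_univ k)

variable (ι n)

/-- The index type for orbits. -/
abbrev Idx : Type _ := ↥(finsuppAntidiag (univ : Finset ι) n)

variable {ι n}

/-- The count map to the index type. -/
noncomputable def c (x : Fin n → ι) : Idx ι n := ⟨cnt x, cnt_mem x⟩

lemma c_surjective : Function.Surjective (c : (Fin n → ι) → Idx ι n) := by
  rintro ⟨l, hl⟩
  obtain ⟨x, hx⟩ := exists_cnt_eq hl
  exact ⟨x, Subtype.ext hx⟩

/-- A section of the count map. -/
noncomputable def s (i : Idx ι n) : Fin n → ι := Function.surjInv c_surjective i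

lemma c_s (i : Idx ι n) : c (s i) = i := Function.surjInv_eq c_surjective i

lemma cnt_s (i : Idx ι n) : cnt (s i) = i.1 := congrArg Subtype.val (c_s i)

lemma c_eq_iff {x y : Fin n → ι} : c x = c y ↔ cnt x = cnt y := by
  simp [c, Subtype.ext_iff]

end Groth.Agent.H96.TupleCount
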