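import Groth.Agent.H96.SymTensor
import Groth.Agent.H96.TupleCount
import Groth.Agent.H96.Triangularize

/-!
# MacMahon's master theorem: `det(1 - tu) * Σ Tr(Γ^n u) t^n = 1`
-/

set_option linter.style.haveILetI false
set_option linter.unusedSectionVars false
set_option linter.unusedVariables false

open TensorProduct PiTensorProduct Module Finset Polynomial PowerSeries

namespace Groth.Agent.H96.MacMahon

open Groth.Agent.H96.TupleCount Groth.Agent.H96.SymTensor

variable {ι : Type*} [Fintype ι] [DecidableEq ι]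

/-- The universal polynomial computing the trace of `u^{⊗ n}` on symmetric tensors. -/
noncomputable def T (n : ℕ) {A : Type*} [CommRing A] (U : Matrix ι ι A) : A :=
  ∑ i : Idx ι n, ∑ x : Fin n → ι, if c x = i then ∏ k, U (s i k) (x k) else 0

lemma T_map (n : ℕ) {A B : Type*} [CommRing A] [CommRing B] (φ : A →+* B) (U : Matrix ι ι A) :
    T n (U.map φ) = φ (T n U) := by
  simp only [T, map_sum, Matrix.map_apply]
  refine Finset.sum_congr rfl fun i _ => Finset.sum_congr rfl fun x _ => ?_
  split_ifs
  · rw [map_prod]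
  · rw [map_zero]

theorem trace_eq_T {A : Type*} [CommRing A] {M : Type*} [AddCommGroup M] [Module A M]
    (b : Basis ι A M) (n : ℕ) (u : M →ₗ[A] M) (γ : Γ A M n →ₗ[A] Γ A M n)
    (hγ : ∀ x : Γ A M n, (γ x : ⨂[A] _ : Fin n, M) =
      PiTensorProduct.map (fun _ : Fin n => u) (x : ⨂[A] _ : Fin n, M)) :
    LinearMap.trace A _ γ = T n (LinearMap.toMatrix b b u) :=
  SymTensor.trace_eq b n c s c_s (fun x y h => exists_perm_of_cnt_eq (c_eq_iff.1 h))
    (fun x σ => c_eq_iff.2 (cnt_comp_perm x σ)) u γ hγ

lemma T_triangular (n : ℕ) {A : Type*} [CommRing A] {m : ℕ} (U : Matrix (Fin m) (Fin m) A)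
    (hU : U.BlockTriangular id) :
    T n U = ∑ l ∈ finsuppAntidiag (univ : Finset (Fin m)) n, ∏ i, U i i ^ l i := by
  rw [T, ← Finset.sum_coe_sort (finsuppAntidiag (univ : Finset (Fin m)) n)]
  refine Finset.sum_congr rfl fun i _ => ?_
  rw [Finset.sum_eq_single (s i)]
  · rw [if_pos (c_s i), prod_comp_eq (fun j => U j j) (s i), cnt_s]
  · intro x _ hx
    split_ifs with hc
    · by_contra hne
      apply hx
      have hle : ∀ k, s i k ≤ x k := by
        intro k
        by_contra hlt
        rw [not_le] at hlt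
        exact hne (Finset.prod_eq_zero (mem_univ k) (hU hlt))
      have : cnt (s i) = cnt x := by rw [cnt_s, ← hc]; rfl
      exact (eq_of_le_of_cnt_eq hle this).symm
    · rfl
  · intro h; exact absurd (mem_univ _) h

lemma geom {A : Type*} [CommRing A] (a : A) :
    (1 - PowerSeries.C a * PowerSeries.X) * PowerSeries.mk (fun m => a ^ m) = (1 : A⟦X⟧) := by
  ext n
  rw [sub_mul, one_mul, map_sub, mul_assoc, PowerSeries.coeff_C_mul, PowerSeries.coeff_mk]
  cases n with
  | zero => simp
  | succ n =>
    rw [PowerSeries.coeff_succ_X_mul, PowerSeries.coeff_mk, PowerSeries.coeff_one]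
    simp [pow_succ']

lemma prod_geom {A : Type*} [CommRing A] (d : ι → A) :
    (∏ i, (1 - PowerSeries.C (d i) * PowerSeries.X)) *
      PowerSeries.mk (fun n => ∑ l ∈ finsuppAntidiag (univ : Finset ι) n, ∏ i, d i ^ l i) =
    (1 : A⟦X⟧) := by
  have h : PowerSeries.mk (fun n => ∑ l ∈ finsuppAntidiag (univ : Finset ι) n, ∏ i, d i ^ l i) =
      ∏ i, PowerSeries.mk (fun m => d i ^ m) := by
    ext n
    rw [PowerSeries.coeff_mk, PowerSeries.coeff_prod]
    simp only [PowerSeries.coeff_mk]
  rw [h, ← Finset.prod_mul_distrib]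
  exact Finset.prod_eq_one fun i _ => geom (d i)

lemma charpolyRev_triangular {A : Type*} [CommRing A] {m : ℕ} (U : Matrix (Fin m) (Fin m) A)
    (hU : U.BlockTriangular id) :
    U.charpolyRev = ∏ i, (1 - Polynomial.C (U i i) * Polynomial.X) := by
  rw [Matrix.charpolyRev, Matrix.det_of_isUpperTriangular]
  · refine Finset.prod_congr rfl fun i _ => ?_
    rw [Matrix.sub_apply, Matrix.one_apply_eq, Matrix.smul_apply, Matrix.map_apply, smul_eq_mul,
      mul_comm]
  · intro i j hij
    have hij' : j < i := hij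
    have hne : i ≠ j := by rintro rfl; exact lt_irrefl _ hij'
    rw [Matrix.sub_apply, Matrix.one_apply_ne hne, Matrix.smul_apply, Matrix.map_apply, hU hij',
      map_zero, smul_zero, sub_zero]

theorem identity_triangular {A : Type*} [CommRing A] {m : ℕ} (U : Matrix (Fin m) (Fin m) A)
    (hU : U.BlockTriangular id) :
    ((U.charpolyRev : A[X]) : A⟦X⟧) * PowerSeries.mk (fun n => T n U) = 1 := by
  rw [charpolyRev_triangular U hU]
  have h1 : ((∏ i, (1 - Polynomial.C (U i i) * Polynomial.X) : A[X]) : A⟦X⟧) =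
      ∏ i, (1 - PowerSeries.C (U i i) * PowerSeries.X) := by
    rw [← Polynomial.coeToPowerSeries.ringHom_apply, map_prod]
    refine Finset.prod_congr rfl fun i _ => ?_
    rw [Polynomial.coeToPowerSeries.ringHom_apply]
    simp
  rw [h1]
  have h2 : (fun n => T n U) =
      fun n => ∑ l ∈ finsuppAntidiag (univ : Finset (Fin m)) n, ∏ i, U i i ^ l i := by
    funext n; exact T_triangular n U hU
  rw [h2]
  exact prod_geom fun i => U i i

/-- `det(1 - t u)` computed in a basis. -/
theorem detOneSub_eq {A : Type*} [CommRing A] {M : Type*} [AddCommGroup M] [Module A M]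
    (b : Basis ι A M) (u : M →ₗ[A] M) :
    LinearMap.det (LinearMap.id - (Polynomial.X : A[X]) • u.baseChange A[X]) =
      (LinearMap.toMatrix b b u).charpolyRev := by
  rw [← LinearMap.det_toMatrix (Algebra.TensorProduct.basis A[X] b), Matrix.charpolyRev]
  congr 1
  have h1 := map_sub (LinearMap.toMatrix (Algebra.TensorProduct.basis A[X] b)
    (Algebra.TensorProduct.basis A[X] b)) LinearMap.id
      ((Polynomial.X : A[X]) • u.baseChange A[X])
  have h2 := (LinearMap.toMatrix (Algebra.TensorProduct.basis A[X] b)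
    (Algebra.TensorProduct.basis A[X] b)).map_smul (Polynomial.X : A[X]) (u.baseChange A[X])
  rw [h1, h2, LinearMap.toMatrix_baseChange, LinearMap.toMatrix_id]
  rfl

/-- The endomorphism of symmetric tensors induced by `u`. -/
noncomputable def symMap {A : Type*} [CommRing A] {M : Type*} [AddCommGroup M] [Module A M]
    (u : M →ₗ[A] M) (n : ℕ) : Γ A M n →ₗ[A] Γ A M n :=
  (PiTensorProduct.map (fun _ : Fin n => u)).restrict (p := Γ A M n) (q := Γ A M n) (by
    intro t ht
    rw [mem_Γ_iff] at ht ⊢
    intro σ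
    have := PiTensorProduct.map_reindex (fun _ : Fin n => u) σ t
    exact this.symm.trans (congrArg _ (ht σ)))

lemma symMap_coe {A : Type*} [CommRing A] {M : Type*} [AddCommGroup M] [Module A M]
    (u : M →ₗ[A] M) (n : ℕ) (x : Γ A M n) :
    (symMap u n x : ⨂[A] _ : Fin n, M) =
      PiTensorProduct.map (fun _ : Fin n => u) (x : ⨂[A] _ : Fin n, M) := rfl

/-- The identity over an algebraically closed field. -/
theorem identity_field {K : Type*} [Field K] [IsAlgClosed K] (U : Matrix ι ι K) :
    ((U.charpolyRev : K[X]) : K⟦X⟧) * PowerSeries.mk (fun n => T n U) = 1 := by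
  let u : (ι → K) →ₗ[K] (ι → K) := Matrix.toLin' U
  have hU : LinearMap.toMatrix (Pi.basisFun K ι) (Pi.basisFun K ι) u = U := by
    simp [u, LinearMap.toMatrix_eq_toMatrix']
  obtain ⟨m, b', hb'⟩ := Groth.Agent.H96.Triangularize.exists_triangular_basis u
  have h1 : U.charpolyRev = (LinearMap.toMatrix b' b' u).charpolyRev := by
    rw [← detOneSub_eq b' u, detOneSub_eq (Pi.basisFun K ι) u, hU]
  have h2 : (fun n => T n U) = fun n => T n (LinearMap.toMatrix b' b' u) := by
    funext n
    rw [← trace_eq_T b' n u (symMap u n) (symMap_coe u n),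
      trace_eq_T (Pi.basisFun K ι) n u (symMap u n) (symMap_coe u n), hU]
  rw [h1, h2]
  exact identity_triangular _ hb'

lemma charpolyRev_map {A B : Type*} [CommRing A] [CommRing B] (φ : A →+* B) (U : Matrix ι ι A) :
    (U.map φ).charpolyRev = U.charpolyRev.map φ := by
  rw [Matrix.charpolyRev, Matrix.charpolyRev, ← Polynomial.coe_mapRingHom, RingHom.map_det]
  congr 1
  ext i j : 1
  by_cases hij : i = j
  · subst hij
    simp
  · simp [Matrix.one_apply_ne hij]

/-- The statement `P U`. -/
def P {A : Type*} [CommRing A] (U : Matrix ι ι A) : Prop :=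
  ((U.charpolyRev : A[X]) : A⟦X⟧) * PowerSeries.mk (fun n => T n U) = 1

lemma map_lhs {A B : Type*} [CommRing A] [CommRing B] (φ : A →+* B) (U : Matrix ι ι A) :
    PowerSeries.map φ (((U.charpolyRev : A[X]) : A⟦X⟧) * PowerSeries.mk (fun n => T n U)) =
      (((U.map φ).charpolyRev : B[X]) : B⟦X⟧) * PowerSeries.mk (fun n => T n (U.map φ)) := by
  rw [map_mul, charpolyRev_map, Polynomial.polynomial_map_coe]
  congr 1
  ext n
  simp [T_map]

lemma P_map {A B : Type*} [CommRing A] [CommRing B] (φ : A →+* B) (U : Matrix ι ι A) (h : P U) :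
    P (U.map φ) := by
  unfold P at h ⊢
  rw [← map_lhs, h, map_one]

lemma P_of_map {A B : Type*} [CommRing A] [CommRing B] (φ : A →+* B) (hφ : Function.Injective φ)
    (U : Matrix ι ι A) (h : P (U.map φ)) : P U := by
  unfold P at h ⊢
  have hinj : Function.Injective (PowerSeries.map φ) := by
    intro f g hfg
    ext n
    apply hφ
    have := congrArg (PowerSeries.coeff n) hfg
    simpa using this
  apply hinj
  rw [map_lhs, h, map_one]

/-- The universal identity. -/
theorem identity {A : Type*} [CommRing A] (U : Matrix ι ι A) :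
    ((U.charpolyRev : A[X]) : A⟦X⟧) * PowerSeries.mk (fun n => T n U) = 1 := by
  let R₀ := MvPolynomial (ι × ι) ℤ
  let G : Matrix ι ι R₀ := Matrix.mvPolynomialX ι ι ℤ
  let K := AlgebraicClosure (FractionRing R₀)
  let φ : R₀ →+* K := (algebraMap (FractionRing R₀) K).comp (algebraMap R₀ (FractionRing R₀))
  have hφ : Function.Injective φ :=
    (algebraMap (FractionRing R₀) K).injective.comp (IsFractionRing.injective R₀ (FractionRing R₀))
  have hG : P G := P_of_map φ hφ G (identity_field _)
  have := P_map (MvPolynomial.aeval fun p : ι × ι => U p.1 p.2 : R₀ →ₐ[ℤ] A).toRingHom G hG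
  have hGU : G.map (MvPolynomial.aeval fun p : ι × ι => U p.1 p.2 : R₀ →ₐ[ℤ] A).toRingHom = U :=
    Matrix.mvPolynomialX_mapMatrix_aeval ℤ U
  rw [hGU] at this
  exact this

/-- MacMahon's master theorem for an endomorphism of a finite free module. -/
theorem main {A : Type*} [CommRing A] {M : Type*} [AddCommGroup M] [Module A M]
    [Module.Free A M] [Module.Finite A M] (u : M →ₗ[A] M)
    (γ : ∀ n : ℕ, Γ A M n →ₗ[A] Γ A M n)
    (hγ : ∀ (n : ℕ) (x : Γ A M n), (γ n x : ⨂[A] _ : Fin n, M) =
      PiTensorProduct.map (fun _ : Fin n => u) (x : ⨂[A] _ : Fin n, M)) :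
    ((LinearMap.det (LinearMap.id - (Polynomial.X : A[X]) • u.baseChange A[X]) : A[X]) : A⟦X⟧) *
      PowerSeries.mk (fun n => LinearMap.trace A _ (γ n)) = 1 := by
  classical
  let b := Module.Free.chooseBasis A M
  rw [detOneSub_eq b u]
  have h : (fun n => LinearMap.trace A _ (γ n)) = fun n => T n (LinearMap.toMatrix b b u) := by
    funext n
    exact trace_eq_T b n u (γ n) (hγ n)
  rw [h]
  exact identity _

end Groth.Agent.H96.MacMahon
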