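import Groth.Prelude.Def_GSzMilK
import Mathlib.Tactic.Abel
import Mathlib.Tactic.FinCases
import Mathlib.Tactic.FieldSimp
import Mathlib.Tactic.Ring
import Mathlib.Tactic.LinearCombination

set_option autoImplicit false
universe u

namespace Groth.Agent.H96.MilK2

variable {F : Type u} [Field F]

/-- the symbol map as a multilinear map -/
noncomputable def g : MultilinearMap ℤ (fun _ : Fin 2 => Additive Fˣ) (MilK.K F 2) :=
  ((MilK.steinberg F 2).mkQ).compMultilinearMap (PiTensorProduct.tprod ℤ)

/-- the symbol `{x, y}` -/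
noncomputable def B (x y : Fˣ) : MilK.K F 2 := MilK.symbol ![x, y]

theorem B_eq_g (x y : Fˣ) : B x y = g ![Additive.ofMul x, Additive.ofMul y] := by
  have e : (fun i => Additive.ofMul (![x, y] i)) = ![Additive.ofMul x, Additive.ofMul y] := by
    funext i
    fin_cases i <;> rfl
  unfold B MilK.symbol
  rw [e]
  rfl

theorem B_mul_left (x x' y : Fˣ) : B (x * x') y = B x y + B x' y := by
  rw [B_eq_g, B_eq_g, B_eq_g]
  have := g.map_update_add ![(0 : Additive Fˣ), Additive.ofMul y] 0 (Additive.ofMul x)
    (Additive.ofMul x')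
  have e : ∀ z : Additive Fˣ, Function.update ![(0 : Additive Fˣ), Additive.ofMul y] 0 z =
      ![z, Additive.ofMul y] := by
    intro z
    funext i
    fin_cases i <;> simp
  rw [e, e, e] at this
  exact this

theorem B_mul_right (x y y' : Fˣ) : B x (y * y') = B x y + B x y' := by
  rw [B_eq_g, B_eq_g, B_eq_g]
  have := g.map_update_add ![Additive.ofMul x, (0 : Additive Fˣ)] 1 (Additive.ofMul y)
    (Additive.ofMul y')
  have e : ∀ z : Additive Fˣ, Function.update ![Additive.ofMul x, (0 : Additive Fˣ)] 1 z =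
      ![Additive.ofMul x, z] := by
    intro z
    funext i
    fin_cases i <;> simp
  rw [e, e, e] at this
  exact this

theorem B_one_left (y : Fˣ) : B (1 : Fˣ) y = 0 := by
  have := B_mul_left (1 : Fˣ) 1 y
  rw [mul_one] at this
  exact (add_eq_left.mp this.symm)

theorem B_one_right (x : Fˣ) : B x (1 : Fˣ) = 0 := by
  have := B_mul_right x (1 : Fˣ) 1
  rw [mul_one] at this
  exact (add_eq_left.mp this.symm)

theorem B_inv_left (x y : Fˣ) : B x⁻¹ y = -B x y := by
  have := B_mul_left x x⁻¹ y
  rw [mul_inv_cancel, B_one_left] at this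
  exact (neg_eq_of_add_eq_zero_right this.symm).symm

theorem B_inv_right (x y : Fˣ) : B x y⁻¹ = -B x y := by
  have := B_mul_right x y y⁻¹
  rw [mul_inv_cancel, B_one_right] at this
  exact (neg_eq_of_add_eq_zero_right this.symm).symm

theorem B_steinberg (x y : Fˣ) (h : (x : F) + (y : F) = 1) : B x y = 0 := by
  apply MilK.symbol_eq_zero_of_isSteinberg
  exact ⟨0, 1, by decide, by simpa using h⟩

theorem B_neg_self (x : Fˣ) : B x (-x) = 0 := by
  by_cases hx : x = 1
  · rw [hx, B_one_left]
  · have h1 : (1 : F) - (x : F) ≠ 0 := by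
      intro h
      apply hx
      ext
      simp only [Units.val_one]
      linear_combination -h
    have h2 : (1 : F) - ((x⁻¹ : Fˣ) : F) ≠ 0 := by
      intro h
      apply hx
      have : ((x⁻¹ : Fˣ) : F) = 1 := by linear_combination -h
      have h3 : x⁻¹ = 1 := by ext; simpa using this
      exact inv_eq_one.mp h3
    set a : Fˣ := Units.mk0 _ h1 with ha
    set a' : Fˣ := Units.mk0 _ h2 with ha'
    have e : -x = a * a'⁻¹ := by
      ext
      simp only [Units.val_neg, Units.val_mul, ha, ha', Units.val_mk0, Units.val_inv_eq_inv_val]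
      have hx0 : (x : F) ≠ 0 := x.ne_zero
      have h2' : (1 : F) - (x : F)⁻¹ ≠ 0 := by
        simpa only [Units.val_inv_eq_inv_val] using h2
      rw [eq_mul_inv_iff_mul_eq₀ h2']
      field_simp
      ring
    have s1 : B x a = 0 := B_steinberg x a (by simp [ha])
    have s2 : B x⁻¹ a' = 0 := B_steinberg x⁻¹ a' (by simp [ha'])
    rw [e, B_mul_right, B_inv_right, s1]
    rw [B_inv_left] at s2
    rw [zero_add, neg_eq_zero.mp s2, neg_zero]

theorem B_antisymm (x y : Fˣ) : B x y + B y x = 0 := by
  have h := B_neg_self (x * y)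
  have e : -(x * y) = (-x) * y := by rw [neg_mul]
  have e' : -(x * y) = x * (-y) := by rw [mul_neg]
  rw [B_mul_left] at h
  nth_rewrite 1 [e] at h
  rw [e', B_mul_right, B_mul_right, B_neg_self, B_neg_self] at h
  rw [← h]
  abel

end Groth.Agent.H96.MilK2
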