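import Mathlib
import Groth.Prelude.Def_W4c6modpairsegaMP
import Groth.Agent.H20.ModPairSplit
import Groth.Agent.H8.StrictTransformClosed

/-!
# Coproduct of the closures of a decomposition of the interior of a modulus pair (helper96)
-/

set_option autoImplicit false
set_option linter.style.haveILetI false
set_option linter.unusedSectionVars false
set_option linter.unusedVariables false
universe u

open CategoryTheory CategoryTheory.Limits AlgebraicGeometry TopologicalSpace Opposite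

namespace Groth.Agent.H96.ModPairCoprod

variable {X : Scheme.{u}}

/-- The scheme-theoretic image of an open misses every open disjoint from it. -/
lemma imageι_notMem_of_disjoint (U₀ U₁ : X.Opens) [QuasiCompact U₁.ι] (hd : Disjoint U₀ U₁)
    (y : U₁.ι.image) : U₁.ι.imageι y ∉ U₀ := by
  intro hy
  have h1 : U₁.ι.imageι y ∈ (U₁.ι.ker.support : Set X) := by
    rw [← Scheme.IdealSheafData.range_subschemeι]
    exact ⟨y, rfl⟩
  rw [Scheme.Hom.support_ker, Scheme.Opens.range_ι] at h1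
  have h3 : Disjoint (U₀ : Set X) (U₁ : Set X) :=
    Set.disjoint_iff.mpr (fun x hx => (hd.le_bot ⟨hx.1, hx.2⟩ : x ∈ (⊥ : X.Opens)))
  have h2 : Disjoint (U₀ : Set X) (closure (U₁ : Set X)) := h3.closure_right U₀.2
  exact Set.disjoint_iff.mp h2 ⟨hy, h1⟩

lemma isIso_restrict_of_eq {Y Z : Scheme.{u}} {f g : Y ⟶ Z} (h : f = g) (U : Z.Opens)
    (hg : IsIso (g ∣_ U)) : IsIso (f ∣_ U) := by
  subst h; exact hg

/-- `coprod.desc a b` is an isomorphism over an open `V` over which `a` is an isomorphism and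
which `b` misses. -/
lemma isIso_desc_restrict_left {X₀ X₁ : Scheme.{u}} (a : X₀ ⟶ X) (b : X₁ ⟶ X) (V : X.Opens)
    (ha : IsIso (a ∣_ V)) (hb : ∀ y : X₁, b y ∉ V) : IsIso (coprod.desc a b ∣_ V) := by
  have h1 : IsIso ((coprod.inl ≫ coprod.desc a b) ∣_ V) :=
    isIso_restrict_of_eq (coprod.inl_desc a b) V ha
  rw [morphismRestrict_comp] at h1
  have h2 : IsIso ((coprod.inl : X₀ ⟶ X₀ ⨿ X₁) ∣_ (coprod.desc a b ⁻¹ᵁ V)) := by
    rw [isIso_iff_isOpenImmersion_and_surjective]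
    refine ⟨inferInstance, ⟨?_⟩⟩
    intro z
    obtain ⟨(x | y), hxy⟩ := (coprodMk X₀ X₁).surjective z.1
    · rw [coprodMk_inl] at hxy
      have hz : (coprod.inl : X₀ ⟶ X₀ ⨿ X₁) x ∈ coprod.desc a b ⁻¹ᵁ V := hxy ▸ z.2
      exact ⟨⟨x, hz⟩, Subtype.ext ((morphismRestrict_base_coe (coprod.inl : X₀ ⟶ X₀ ⨿ X₁)
        (coprod.desc a b ⁻¹ᵁ V) ⟨x, hz⟩).trans hxy)⟩
    · exfalso
      rw [coprodMk_inr] at hxy
      have hz : (coprod.inr : X₁ ⟶ X₀ ⨿ X₁) y ∈ coprod.desc a b ⁻¹ᵁ V := hxy ▸ z.2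
      have hz' : (coprod.desc a b) ((coprod.inr : X₁ ⟶ X₀ ⨿ X₁) y) ∈ V := hz
      rw [← Scheme.Hom.comp_apply, coprod.inr_desc] at hz'
      exact hb y hz'
  exact @IsIso.of_isIso_comp_left _ _ _ _ _
    ((coprod.inl : X₀ ⟶ X₀ ⨿ X₁) ∣_ (coprod.desc a b ⁻¹ᵁ V)) _ h2 h1

/-- Symmetric version of `isIso_desc_restrict_left`. -/
lemma isIso_desc_restrict_right {X₀ X₁ : Scheme.{u}} (a : X₀ ⟶ X) (b : X₁ ⟶ X) (V : X.Opens)
    (hb : IsIso (b ∣_ V)) (ha : ∀ x : X₀, a x ∉ V) : IsIso (coprod.desc a b ∣_ V) := by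
  have h1 : IsIso ((coprod.inr ≫ coprod.desc a b) ∣_ V) :=
    isIso_restrict_of_eq (coprod.inr_desc a b) V hb
  rw [morphismRestrict_comp] at h1
  have h2 : IsIso ((coprod.inr : X₁ ⟶ X₀ ⨿ X₁) ∣_ (coprod.desc a b ⁻¹ᵁ V)) := by
    rw [isIso_iff_isOpenImmersion_and_surjective]
    refine ⟨inferInstance, ⟨?_⟩⟩
    intro z
    obtain ⟨(x | y), hxy⟩ := (coprodMk X₀ X₁).surjective z.1
    · exfalso
      rw [coprodMk_inl] at hxy
      have hz : (coprod.inl : X₀ ⟶ X₀ ⨿ X₁) x ∈ coprod.desc a b ⁻¹ᵁ V := hxy ▸ z.2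
      have hz' : (coprod.desc a b) ((coprod.inl : X₀ ⟶ X₀ ⨿ X₁) x) ∈ V := hz
      rw [← Scheme.Hom.comp_apply, coprod.inl_desc] at hz'
      exact ha x hz'
    · rw [coprodMk_inr] at hxy
      have hz : (coprod.inr : X₁ ⟶ X₀ ⨿ X₁) y ∈ coprod.desc a b ⁻¹ᵁ V := hxy ▸ z.2
      exact ⟨⟨y, hz⟩, Subtype.ext ((morphismRestrict_base_coe (coprod.inr : X₁ ⟶ X₀ ⨿ X₁)
        (coprod.desc a b ⁻¹ᵁ V) ⟨y, hz⟩).trans hxy)⟩
  exact @IsIso.of_isIso_comp_left _ _ _ _ _
    ((coprod.inr : X₁ ⟶ X₀ ⨿ X₁) ∣_ (coprod.desc a b ⁻¹ᵁ V)) _ h2 h1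

/-- An ideal sheaf on a coproduct is effective Cartier if its restrictions to the two summands
are. -/
lemma isEffCartierIdeal_coprod {X₀ X₁ : Scheme.{u}} (J : (X₀ ⨿ X₁ : Scheme.{u}).IdealSheafData)
    (h₀ : BlowUp.IsEffCartierIdeal (J.comap (coprod.inl : X₀ ⟶ X₀ ⨿ X₁)))
    (h₁ : BlowUp.IsEffCartierIdeal (J.comap (coprod.inr : X₁ ⟶ X₀ ⨿ X₁))) :
    BlowUp.IsEffCartierIdeal J := by
  intro z
  obtain ⟨(x | y), rfl⟩ := (coprodMk X₀ X₁).surjective z
  · rw [coprodMk_inl]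
    exact Groth.Agent.H20.ModPairSplit.exists_local_generator_of_comap_isOpenImmersion
      (coprod.inl : X₀ ⟶ X₀ ⨿ X₁) J h₀ x
  · rw [coprodMk_inr]
    exact Groth.Agent.H20.ModPairSplit.exists_local_generator_of_comap_isOpenImmersion
      (coprod.inr : X₁ ⟶ X₀ ⨿ X₁) J h₁ y

/-- Pulling an effective Cartier ideal back to the scheme-theoretic image of an open of the
interior gives an effective Cartier ideal. -/
lemma isEffCartierIdeal_comap_imageι (I : X.IdealSheafData) (hI : BlowUp.IsEffCartierIdeal I)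
    (V : X.Opens) [QuasiCompact V.ι] (hV : V ≤ ModPair.interior I) :
    BlowUp.IsEffCartierIdeal (I.comap V.ι.imageι) := by
  apply Groth.Agent.H8.isEffCartier_comap_subschemeι_ker V.ι I hI
  intro w hw
  exact (hV w.2) hw

/-- **Main theorem.** -/
theorem main (I : X.IdealSheafData) (hI : BlowUp.IsEffCartierIdeal I) (U₀ U₁ : X.Opens)
    (hU : U₀ ⊔ U₁ = ModPair.interior I) (hd : Disjoint U₀ U₁) :
    BlowUp.IsEffCartierIdeal (I.comap (coprod.desc U₀.ι.imageι U₁.ι.imageι)) ∧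
      ModPair.IsAdmBlowup (I.comap (coprod.desc U₀.ι.imageι U₁.ι.imageι)) I
        (coprod.desc U₀.ι.imageι U₁.ι.imageι) := by
  have haff : IsAffineHom (ModPair.interior I).ι :=
    Groth.Agent.H20.ModPairFlat.isAffineHom_interior_ι I hI
  have hq₀ : QuasiCompact U₀.ι :=
    Groth.Agent.H20.ModPairSplit.quasiCompact_ι_of_sup_disjoint U₀ U₁ (ModPair.interior I) hU hd
  have hq₁ : QuasiCompact U₁.ι :=
    Groth.Agent.H20.ModPairSplit.quasiCompact_ι_of_sup_disjoint U₁ U₀ (ModPair.interior I)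
      (by rw [sup_comm]; exact hU) hd.symm
  refine ⟨?_, rfl, ?_, ?_⟩
  · apply isEffCartierIdeal_coprod
    · rw [← Scheme.IdealSheafData.comap_comp, coprod.inl_desc]
      exact isEffCartierIdeal_comap_imageι I hI U₀ (hU ▸ le_sup_left)
    · rw [← Scheme.IdealSheafData.comap_comp, coprod.inr_desc]
      exact isEffCartierIdeal_comap_imageι I hI U₁ (hU ▸ le_sup_right)
  · have : IsFinite (coprod.desc U₀.ι.imageι U₁.ι.imageι) := inferInstance
    infer_instance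
  · have key : ∀ O : X.Opens, U₀ ⊔ U₁ = O →
        IsIso (coprod.desc U₀.ι.imageι U₁.ι.imageι ∣_ O) := by
      rintro _ rfl
      apply Groth.Agent.H20.ModPairSplit.isIso_restrict_sup
      · exact isIso_desc_restrict_left _ _ U₀
          (Groth.Agent.H20.SchImage.isIso_imageι_restrict U₀)
          (imageι_notMem_of_disjoint U₀ U₁ hd)
      · exact isIso_desc_restrict_right _ _ U₁
          (Groth.Agent.H20.SchImage.isIso_imageι_restrict U₁)
          (imageι_notMem_of_disjoint U₁ U₀ hd.symm)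
    exact key _ hU

end Groth.Agent.H96.ModPairCoprod
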