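import Mathlib
import Groth.Prelude.Def_W4c6modpairsegaMP
import Groth.Agent.H20.EffCartierInterior
import Groth.Agent.H20.ModPairFlat

/-!
# Closures of closed subschemes of the interior of a modulus pair

For an open immersion `j : U ⟶ S` and a closed immersion `g : V ⟶ U` with `g ≫ j` quasi-compact,
the scheme-theoretic image `V̄` of `g ≫ j` restricts to `V` over `U`: the square
`V ⟶ U`, `V ⟶ V̄`, `U ⟶ S`, `V̄ ⟶ S` is a pullback.  For the interior of an effective Cartier
ideal this gives that the modulus pulled back to `V̄` is effective Cartier, and every point of `S`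
is a specialisation of a point of the interior.
-/

set_option autoImplicit false
set_option linter.style.haveILetI false
set_option linter.unusedSectionVars false
set_option linter.unusedVariables false

universe u

open CategoryTheory CategoryTheory.Limits AlgebraicGeometry TopologicalSpace Opposite

namespace Groth.Agent.H96.ModPairImage

variable {X Y U S V : Scheme.{u}}

/-- The map to the scheme-theoretic image of a quasi-compact morphism has trivial kernel. -/
theorem ker_toImage_eq_bot (f : X ⟶ Y) [QuasiCompact f] : f.toImage.ker = ⊥ := by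
  refine Scheme.IdealSheafData.ext_of_iSup_eq_top (ι := Y.affineOpens)
    (fun W => ⟨f.imageι ⁻¹ᵁ W.1, W.2.preimage f.imageι⟩) ?_ ?_
  · rw [eq_top_iff]
    intro x _
    have hx : f.imageι x ∈ (⨆ W : Y.affineOpens, W.1 : Y.Opens) := by
      rw [iSup_affineOpens_eq_top]; trivial
    obtain ⟨W, hW⟩ := Opens.mem_iSup.mp hx
    exact Opens.mem_iSup.mpr ⟨W, hW⟩
  · intro W
    rw [Scheme.Hom.ker_apply, Scheme.IdealSheafData.ideal_bot]
    exact (RingHom.injective_iff_ker_eq_bot _).mp (f.toImage_app_injective W)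

/-- The kernel of `g ≫ j`, restricted along the open immersion `j`, is the kernel of `g`. -/
theorem ker_comp_comap (j : U ⟶ S) [IsOpenImmersion j] (g : V ⟶ U) [QuasiCompact (g ≫ j)] :
    (g ≫ j).ker.comap j = g.ker := by
  have H : IsPullback g (𝟙 V) j (g ≫ j) := by
    have h1 : IsPullback g (𝟙 V) (𝟙 U) g := IsPullback.id_vert g
    have h2 : IsPullback (𝟙 U) (𝟙 U) j j := IsKernelPair.id_of_mono j
    simpa using h1.paste_horiz h2
  ext W : 2
  rw [Scheme.IdealSheafData.ideal_comap_of_isOpenImmersion]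
  exact (Scheme.ker_ideal_of_isPullback_of_isOpenImmersion (g ≫ j) g (𝟙 V) j H W).symm

/-- The scheme-theoretic image of `g ≫ j` pulls back to `g` along the open immersion `j`. -/
theorem isPullback_toImage (j : U ⟶ S) [IsOpenImmersion j] (g : V ⟶ U) [IsClosedImmersion g]
    [QuasiCompact (g ≫ j)] :
    IsPullback g (g ≫ j).toImage j (g ≫ j).imageι :=
  isPullback_of_isClosedImmersion g (g ≫ j).imageι (g ≫ j).toImage j
    ((g ≫ j).toImage_imageι).symm
    (by rw [Scheme.IdealSheafData.ker_subschemeι]; exact ker_comp_comap j g)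

theorem isOpenImmersion_toImage (j : U ⟶ S) [IsOpenImmersion j] (g : V ⟶ U)
    [IsClosedImmersion g] [QuasiCompact (g ≫ j)] : IsOpenImmersion (g ≫ j).toImage :=
  MorphismProperty.of_isPullback (isPullback_toImage j g) inferInstance

theorem range_toImage (j : U ⟶ S) [IsOpenImmersion j] (g : V ⟶ U)
    [IsClosedImmersion g] [QuasiCompact (g ≫ j)] :
    Set.range (g ≫ j).toImage = (g ≫ j).imageι ⁻¹' Set.range j := by
  have H := isPullback_toImage j g
  ext x
  constructor
  · rintro ⟨v, rfl⟩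
    refine ⟨g v, ?_⟩
    rw [← Scheme.Hom.comp_apply, ← Scheme.Hom.comp_apply, (g ≫ j).toImage_imageι]
  · rintro ⟨u, hu⟩
    obtain ⟨z, hz1, hz2⟩ := Scheme.Pullback.exists_preimage_pullback u x hu
    refine ⟨H.isoPullback.inv z, ?_⟩
    rw [← hz2, ← Scheme.Hom.comp_apply, H.isoPullback_inv_snd]

/-- Every point of a scheme with an effective Cartier ideal is a specialisation of a point of
the interior. -/
theorem exists_specializes (I : S.IdealSheafData) (hI : BlowUp.IsEffCartierIdeal I) (s : S) :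
    ∃ u : S, u ∈ ModPair.interior I ∧ u ⤳ s := by
  obtain ⟨V₀, hs, a, ha, hIa⟩ := hI s
  obtain ⟨q, hq, hqp⟩ := Ideal.exists_minimalPrimes_le
    (bot_le : (⊥ : Ideal Γ(S, V₀.1)) ≤ (V₀.2.primeIdealOf ⟨s, hs⟩).asIdeal)
  have hqprime : q.IsPrime := hq.1.1
  have haq : a ∉ q := fun h =>
    Set.disjoint_left.mp (Ideal.disjoint_nonZeroDivisors_of_mem_minimalPrimes hq) h ha
  refine ⟨V₀.2.fromSpec (⟨q, hqprime⟩ : PrimeSpectrum Γ(S, V₀.1)), ?_, ?_⟩
  · have h1 := Groth.Agent.H20.EffCartierInterior.interior_inf_eq_basicOpen I V₀ a hIa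
    have h2 : (⟨q, hqprime⟩ : PrimeSpectrum Γ(S, V₀.1)) ∈
        V₀.2.fromSpec ⁻¹ᵁ S.basicOpen a := by
      rw [V₀.2.fromSpec_preimage_basicOpen]
      exact haq
    have h3 : V₀.2.fromSpec (⟨q, hqprime⟩ : PrimeSpectrum Γ(S, V₀.1)) ∈ S.basicOpen a := h2
    rw [← h1] at h3
    exact h3.1
  · have h1 : (⟨q, hqprime⟩ : PrimeSpectrum Γ(S, V₀.1)) ⤳ V₀.2.primeIdealOf ⟨s, hs⟩ :=
      (PrimeSpectrum.le_iff_specializes _ _).mp hqp
    have h2 := h1.map V₀.2.fromSpec.continuous
    rwa [V₀.2.fromSpec_primeIdealOf ⟨s, hs⟩] at h2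

/-- The preimage of the interior in the closure of a closed subscheme of the interior is
scheme-theoretically dense. -/
theorem isSchemeTheoreticallyDominant_preimage_ι (O : S.Opens) (g : V ⟶ O.toScheme)
    [IsClosedImmersion g] [QuasiCompact (g ≫ O.ι)] :
    IsSchemeTheoreticallyDominant ((g ≫ O.ι).imageι ⁻¹ᵁ O).ι := by
  have hr : Set.range (g ≫ O.ι).toImage ⊆ Set.range ((g ≫ O.ι).imageι ⁻¹ᵁ O).ι := by
    rw [range_toImage O.ι g, Scheme.Opens.range_ι, Scheme.Opens.range_ι]
    exact fun x hx => hx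
  have hfac := IsOpenImmersion.lift_fac ((g ≫ O.ι).imageι ⁻¹ᵁ O).ι (g ≫ O.ι).toImage hr
  refine ⟨le_antisymm ?_ bot_le⟩
  have h1 := Scheme.Hom.le_ker_comp
    (IsOpenImmersion.lift ((g ≫ O.ι).imageι ⁻¹ᵁ O).ι (g ≫ O.ι).toImage hr)
    ((g ≫ O.ι).imageι ⁻¹ᵁ O).ι
  rw [hfac, ker_toImage_eq_bot] at h1
  exact h1

end Groth.Agent.H96.ModPairImage
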