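import Mathlib
import Groth.Prelude.Def_W4c6modpairsegaMP
import Groth.Agent.H19.ComapAff
import Groth.Agent.H20.EffCartierInterior
import Groth.Agent.H50.CartierBC

/-!
# The locus where a smaller effective Cartier modulus agrees with a locally principal one

For ideal sheaves `J ≤ L` on a scheme `Y`, with `J` effective Cartier and `L` principal on small
affine opens, the locus `eqOpen J L` where they agree is open with affine inclusion (locally it is
the basic open of the quotient `c`, `a = c * b`), and every morphism `f : X ⟶ Y` with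
`J.comap f = L.comap f` effective Cartier factors through it.
-/

set_option autoImplicit false
set_option linter.style.haveILetI false
set_option linter.unusedSectionVars false
set_option linter.unusedVariables false

universe u

open CategoryTheory CategoryTheory.Limits AlgebraicGeometry TopologicalSpace Opposite

namespace Groth.Agent.H96.ModPairMin

section Algebra

variable {R : Type*} [CommRing R]

lemma isUnit_of_span_eq {a b c : R} (ha : a ∈ nonZeroDivisors R) (hab : a = c * b)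
    (h : Ideal.span {a} = Ideal.span {b}) : IsUnit c := by
  have hb : b ∈ Ideal.span {a} := h ▸ Ideal.mem_span_singleton_self b
  obtain ⟨d, hd⟩ := Ideal.mem_span_singleton'.mp hb
  have h0 : (1 - c * d) * a = 0 := by
    have : c * d * a = a := by rw [mul_assoc, hd, ← hab]
    rw [sub_mul, one_mul, this, sub_self]
  have h1 : 1 - c * d = 0 := (mem_nonZeroDivisors_iff_right.mp ha) _ h0
  exact IsUnit.of_mul_eq_one d (sub_eq_zero.mp h1).symm

lemma span_eq_of_isUnit {a b c : R} (hab : a = c * b) (hc : IsUnit c) :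
    Ideal.span {a} = Ideal.span {b} := by
  rw [hab]
  exact Ideal.span_singleton_mul_left_unit hc b

lemma mem_nonZeroDivisors_of_span_eq {t a : R} (ht : t ∈ nonZeroDivisors R)
    (h : Ideal.span {t} = Ideal.span {a}) : a ∈ nonZeroDivisors R := by
  have h1 : t ∈ Ideal.span {a} := h ▸ Ideal.mem_span_singleton_self t
  obtain ⟨d, hd⟩ := Ideal.mem_span_singleton'.mp h1
  rw [mem_nonZeroDivisors_iff_right]
  intro z hz
  apply (mem_nonZeroDivisors_iff_right.mp ht) z
  rw [← hd, mul_comm d a, ← mul_assoc, hz, zero_mul]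

end Algebra

variable {X Y : Scheme.{u}}

/-- The open locus where two ideal sheaves agree: the union of the affine opens on which their
ideals coincide. -/
def eqOpen (J L : Y.IdealSheafData) : Y.Opens :=
  ⨆ V : {V : Y.affineOpens // J.ideal V = L.ideal V}, V.1.1

lemma le_eqOpen (J L : Y.IdealSheafData) (V : Y.affineOpens) (h : J.ideal V = L.ideal V) :
    V.1 ≤ eqOpen J L :=
  le_iSup (fun V : {V : Y.affineOpens // J.ideal V = L.ideal V} => V.1.1) ⟨V, h⟩

lemma mem_eqOpen_iff (J L : Y.IdealSheafData) (y : Y) :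
    y ∈ eqOpen J L ↔ ∃ V : Y.affineOpens, y ∈ V.1 ∧ J.ideal V = L.ideal V := by
  constructor
  · intro h
    obtain ⟨V, hV⟩ := Opens.mem_iSup.mp h
    exact ⟨V.1, hV, V.2⟩
  · rintro ⟨V, hy, h⟩
    exact le_eqOpen J L V h hy

lemma ideal_eq_of_le (J L : Y.IdealSheafData) {V' V : Y.affineOpens} (h : V' ≤ V)
    (e : J.ideal V = L.ideal V) : J.ideal V' = L.ideal V' := by
  rw [← J.map_ideal h, ← L.map_ideal h, e]

lemma ideal_eq_span_res (J : Y.IdealSheafData) {V' V : Y.affineOpens} (h : V' ≤ V)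
    (a : Γ(Y, V.1)) (hJ : J.ideal V = Ideal.span {a}) :
    J.ideal V' = Ideal.span {(Y.presheaf.map (homOfLE h).op).hom a} := by
  rw [← J.map_ideal h, hJ, Ideal.map_span, Set.image_singleton]

/-- On the agreement locus the two ideal sheaves restrict to the same ideal sheaf. -/
theorem comap_ι_eqOpen (J L : Y.IdealSheafData) :
    J.comap (eqOpen J L).ι = L.comap (eqOpen J L).ι := by
  have haff : ∀ V : {V : Y.affineOpens // J.ideal V = L.ideal V},
      IsAffineOpen ((eqOpen J L).ι ⁻¹ᵁ V.1.1) := by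
    intro V
    rw [← (eqOpen J L).ι.isAffineOpen_iff_of_isOpenImmersion,
      Scheme.Hom.image_preimage_eq_opensRange_inf, Scheme.Opens.opensRange_ι,
      inf_eq_right.mpr (le_eqOpen J L V.1 V.2)]
    exact V.1.2
  refine Scheme.IdealSheafData.ext_of_iSup_eq_top
    (fun V : {V : Y.affineOpens // J.ideal V = L.ideal V} =>
      (⟨(eqOpen J L).ι ⁻¹ᵁ V.1.1, haff V⟩ : (eqOpen J L).toScheme.affineOpens)) ?_ ?_
  · apply top_le_iff.mp
    rintro ⟨x, hx⟩ -
    obtain ⟨V, hxV, hV⟩ := (mem_eqOpen_iff J L x).mp hx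
    exact Opens.mem_iSup.mpr ⟨⟨V, hV⟩, hxV⟩
  · intro V
    rw [Scheme.IdealSheafData.ideal_comap_of_isOpenImmersion,
      Scheme.IdealSheafData.ideal_comap_of_isOpenImmersion]
    congr 1
    refine ideal_eq_of_le J L (V := V.1) ?_ V.2
    change (eqOpen J L).ι ''ᵁ ((eqOpen J L).ι ⁻¹ᵁ V.1.1) ≤ V.1.1
    exact Set.image_preimage_subset _ _

/-- Local structure of the agreement locus: where `J = (a)`, `L = (b)` and `a = c * b` with `a` a
nonzerodivisor, it is the basic open of `c`. -/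
theorem eqOpen_inf_eq_basicOpen (J L : Y.IdealSheafData) (V : Y.affineOpens)
    (a b c : Γ(Y, V.1)) (ha : a ∈ nonZeroDivisors Γ(Y, V.1))
    (hJ : J.ideal V = Ideal.span {a}) (hL : L.ideal V = Ideal.span {b}) (habc : a = c * b) :
    eqOpen J L ⊓ V.1 = Y.basicOpen c := by
  ext y
  constructor
  · rintro ⟨hyU, hyV⟩
    obtain ⟨V'', hyV'', e⟩ := (mem_eqOpen_iff J L y).mp hyU
    obtain ⟨r, r'', hrr, hyr⟩ := exists_basicOpen_le_affine_inter V.2 V''.2 y ⟨hyV, hyV''⟩
    have hN'' : Y.affineBasicOpen r ≤ V'' := by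
      change Y.basicOpen r ≤ V''.1
      rw [hrr]
      exact Y.basicOpen_le r''
    have hNV : Y.affineBasicOpen r ≤ V := Y.basicOpen_le r
    have eN := ideal_eq_of_le J L hN'' e
    rw [ideal_eq_span_res J hNV a hJ, ideal_eq_span_res L hNV b hL] at eN
    have hnz : (Y.presheaf.map (homOfLE hNV).op).hom a ∈
        nonZeroDivisors Γ(Y, (Y.affineBasicOpen r).1) := by
      have := V.2.isLocalization_basicOpen r
      exact IsLocalization.map_nonZeroDivisors_le (Submonoid.powers r) Γ(Y, Y.basicOpen r)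
        (Submonoid.mem_map_of_mem _ ha)
    have hu : IsUnit ((Y.presheaf.map (homOfLE hNV).op).hom c) :=
      isUnit_of_span_eq hnz (by rw [habc]; exact map_mul _ _ _) eN
    have h1 : Y.basicOpen ((Y.presheaf.map (homOfLE hNV).op).hom c) = Y.basicOpen r :=
      Y.basicOpen_of_isUnit hu
    have h2 := Y.basicOpen_res c (homOfLE hNV).op
    have h3 : y ∈ Y.basicOpen ((Y.presheaf.map (homOfLE hNV).op).hom c) := h1 ▸ hyr
    have h4 : y ∈ (Y.affineBasicOpen r).1 ⊓ Y.basicOpen c := h2 ▸ h3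
    exact h4.2
  · intro hy
    have hNV : Y.affineBasicOpen c ≤ V := Y.basicOpen_le c
    have hu : IsUnit ((Y.presheaf.map (homOfLE hNV).op).hom c) :=
      Y.toRingedSpace.isUnit_res_basicOpen c
    have e : J.ideal (Y.affineBasicOpen c) = L.ideal (Y.affineBasicOpen c) := by
      rw [ideal_eq_span_res J hNV a hJ, ideal_eq_span_res L hNV b hL]
      exact span_eq_of_isUnit (by rw [habc]; exact map_mul _ _ _) hu
    exact ⟨le_eqOpen J L _ e hy, hNV hy⟩

/-- `L` is principal on all sufficiently small affine opens. -/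
def LocPrincipal (L : Y.IdealSheafData) : Prop :=
  ∀ y : Y, ∃ O : Y.Opens, y ∈ O ∧ ∀ V : Y.affineOpens, V.1 ≤ O →
    ∃ b : Γ(Y, V.1), L.ideal V = Ideal.span {b}

/-- The pullback of an effective Cartier ideal is principal on small affine opens. -/
lemma locPrincipal_comap {Z : Scheme.{u}} (K : Z.IdealSheafData)
    (hK : BlowUp.IsEffCartierIdeal K) (g : Y ⟶ Z) : LocPrincipal (K.comap g) := by
  intro y
  obtain ⟨W₀, hyW₀, k, -, hKW⟩ := hK (g y)
  refine ⟨g ⁻¹ᵁ W₀.1, hyW₀, fun V hV => ⟨(g.appLE W₀.1 V.1 hV).hom k, ?_⟩⟩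
  rw [Groth.Agent.H19.ComapAff.ideal_comap_appLE g K W₀ V hV, hKW, Ideal.map_span,
    Set.image_singleton]

/-- Local data: small affine neighbourhoods on which `J = (a)`, `L = (b)`, `a = c * b`. -/
lemma exists_local_data (J L : Y.IdealSheafData) (hJ : BlowUp.IsEffCartierIdeal J)
    (hle : J ≤ L) (hL : LocPrincipal L) (y : Y) (O' : Y.Opens) (hy : y ∈ O') :
    ∃ (V : Y.affineOpens) (a b c : Γ(Y, V.1)), y ∈ V.1 ∧ V.1 ≤ O' ∧
      a ∈ nonZeroDivisors Γ(Y, V.1) ∧ J.ideal V = Ideal.span {a} ∧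
      L.ideal V = Ideal.span {b} ∧ a = c * b := by
  obtain ⟨O, hyO, hO⟩ := hL y
  obtain ⟨V, hyV, hVO, a, ha, hJV⟩ :=
    Groth.Agent.H50.exists_small_generator J hJ y (O ⊓ O') ⟨hyO, hy⟩
  obtain ⟨b, hb⟩ := hO V (hVO.trans inf_le_left)
  have h1 : a ∈ L.ideal V := hle V (hJV ▸ Ideal.mem_span_singleton_self a)
  rw [hb] at h1
  obtain ⟨c, hc⟩ := Ideal.mem_span_singleton'.mp h1
  exact ⟨V, a, b, c, hyV, hVO.trans inf_le_right, ha, hJV, hb, hc.symm⟩

/-- The inclusion of the agreement locus is an affine morphism. -/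
theorem isAffineHom_eqOpen_ι (J L : Y.IdealSheafData) (hJ : BlowUp.IsEffCartierIdeal J)
    (hle : J ≤ L) (hL : LocPrincipal L) : IsAffineHom (eqOpen J L).ι := by
  apply Groth.Agent.H20.EffCartierInterior.isAffineHom_ι_of_locally_basicOpen
  intro y
  obtain ⟨V, a, b, c, hyV, -, ha, hJV, hLV, habc⟩ := exists_local_data J L hJ hle hL y ⊤ trivial
  exact ⟨V.1, hyV, V.2, c, eqOpen_inf_eq_basicOpen J L V a b c ha hJV hLV habc⟩

/-- A morphism along which both ideals pull back to the same effective Cartier ideal lands in the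
agreement locus. -/
theorem range_subset_eqOpen (J L : Y.IdealSheafData) (hJ : BlowUp.IsEffCartierIdeal J)
    (hle : J ≤ L) (hL : LocPrincipal L) (f : X ⟶ Y) (I : X.IdealSheafData)
    (hI : BlowUp.IsEffCartierIdeal I) (h1 : I = J.comap f) (h2 : I = L.comap f) :
    Set.range f.base ⊆ (eqOpen J L : Set Y) := by
  rintro _ ⟨x, rfl⟩
  obtain ⟨V, a, b, c, hyV, -, ha, hJV, hLV, habc⟩ :=
    exists_local_data J L hJ hle hL (f x) ⊤ trivial
  obtain ⟨W, hxW, hWV, t, ht, hIW⟩ :=
    Groth.Agent.H50.exists_small_generator I hI x (f ⁻¹ᵁ V.1) hyV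
  have e1 : I.ideal W = Ideal.span {(f.appLE V.1 W.1 hWV).hom a} := by
    rw [h1, Groth.Agent.H19.ComapAff.ideal_comap_appLE f J V W hWV, hJV, Ideal.map_span,
      Set.image_singleton]
  have e2 : I.ideal W = Ideal.span {(f.appLE V.1 W.1 hWV).hom b} := by
    rw [h2, Groth.Agent.H19.ComapAff.ideal_comap_appLE f L V W hWV, hLV, Ideal.map_span,
      Set.image_singleton]
  have hnz : (f.appLE V.1 W.1 hWV).hom a ∈ nonZeroDivisors Γ(X, W.1) :=
    mem_nonZeroDivisors_of_span_eq ht (hIW.symm.trans e1)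
  have hu : IsUnit ((f.appLE V.1 W.1 hWV).hom c) :=
    isUnit_of_span_eq hnz (by rw [habc]; exact map_mul _ _ _) (e1.symm.trans e2)
  have h3 : X.basicOpen ((f.appLE V.1 W.1 hWV).hom c) = W.1 := X.basicOpen_of_isUnit hu
  have h4 : f ⁻¹ᵁ (Y.basicOpen c) ⊓ W.1 = X.basicOpen ((f.appLE V.1 W.1 hWV).hom c) := by
    rw [Scheme.preimage_basicOpen, Scheme.Hom.appLE, CommRingCat.hom_comp, RingHom.comp_apply,
      Scheme.basicOpen_res, inf_comm]
  have h5 : x ∈ f ⁻¹ᵁ (Y.basicOpen c) ⊓ W.1 := by rw [h4, h3]; exact hxW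
  have h6 : f x ∈ Y.basicOpen c := h5.1
  rw [← eqOpen_inf_eq_basicOpen J L V a b c ha hJV hLV habc] at h6
  exact h6.1

end Groth.Agent.H96.ModPairMin
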