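import Mathlib
import Groth.Prelude.Def_W4c6modpairsegaMP
import Groth.Agent.H20.ModPairSplit

/-!
# Coproducts of modulus pairs (helper96)

The ideal sheaf on a disjoint union `∐ X i` restricting to given ideal sheaves `I i` on the
summands, and the coproduct of modulus pairs.
-/

set_option autoImplicit false
set_option linter.style.haveILetI false
set_option linter.unusedSectionVars false
set_option linter.unusedVariables false
universe u

open CategoryTheory CategoryTheory.Limits AlgebraicGeometry TopologicalSpace Opposite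

namespace Groth.Agent.H96.ModPairSigma

section General

variable {Z : Scheme.{u}}

/-- An inequality of ideal sheaves can be checked after pulling back along a jointly surjective
family of open immersions. -/
lemma le_of_comap_le {σ : Type*} (K L : Z.IdealSheafData) (X : σ → Scheme.{u})
    (ι : ∀ j, X j ⟶ Z) [∀ j, IsOpenImmersion (ι j)] (hcov : ∀ z : Z, ∃ j, ∃ x : X j, ι j x = z)
    (h : ∀ j, K.comap (ι j) ≤ L.comap (ι j)) : K ≤ L := by
  refine Scheme.IdealSheafData.le_of_iSup_eq_top
    (ι := Σ j, (X j).affineOpens)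
    (fun p => ⟨ι p.1 ''ᵁ p.2.1, p.2.2.image_of_isOpenImmersion (ι p.1)⟩) ?_ ?_
  · rw [eq_top_iff]
    intro z _
    obtain ⟨j, x, rfl⟩ := hcov z
    have hx : x ∈ (⊤ : (X j).Opens) := trivial
    rw [← iSup_affineOpens_eq_top (X j)] at hx
    obtain ⟨V, hV⟩ := Opens.mem_iSup.mp hx
    exact Opens.mem_iSup.mpr ⟨⟨j, V⟩, ⟨x, hV, rfl⟩⟩
  · rintro ⟨j, V⟩
    have h1 := h j V
    rw [Scheme.IdealSheafData.ideal_comap_of_isOpenImmersion,
      Scheme.IdealSheafData.ideal_comap_of_isOpenImmersion] at h1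
    have hbij : Function.Bijective ((ι j).appIso V.1).inv.hom :=
      ConcreteCategory.bijective_of_isIso ((ι j).appIso V.1).inv
    exact (Ideal.comap_le_comap_iff_of_surjective _ hbij.2 _ _).mp h1

end General

section Sigma

variable {σ : Type u} (X : σ → Scheme.{u}) (I : ∀ i, (X i).IdealSheafData)

/-- The disjoint union of the closed subschemes, mapping to the disjoint union. -/
noncomputable def subMap : (∐ fun i => (I i).subscheme) ⟶ ∐ X :=
  Limits.Sigma.map (fun i => (I i).subschemeι)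

lemma ι_subMap (j : σ) :
    Sigma.ι (fun i => (I i).subscheme) j ≫ subMap X I = (I j).subschemeι ≫ Sigma.ι X j :=
  Sigma.ι_map _ _

lemma sigma_cover (Y : σ → Scheme.{u}) (z : (∐ Y : Scheme.{u})) :
    ∃ j, ∃ x : Y j, Sigma.ι Y j x = z := by
  obtain ⟨⟨j, x⟩, rfl⟩ := (sigmaMk Y).surjective z
  exact ⟨j, x, (sigmaMk_mk Y j x).symm⟩

lemma isPullback_subMap (j : σ) :
    IsPullback (I j).subschemeι (Sigma.ι (fun i => (I i).subscheme) j) (Sigma.ι X j)
      (subMap X I) := by
  apply IsOpenImmersion.isPullback _ _ _ _ (ι_subMap X I j)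
  ext z
  obtain ⟨i, v, rfl⟩ := sigma_cover (fun i => (I i).subscheme) z
  constructor
  · intro hz
    have hz' : (subMap X I) (Sigma.ι (fun i => (I i).subscheme) i v) ∈
        Set.range (Sigma.ι X j) := hz
    rw [← Scheme.Hom.comp_apply, ι_subMap, Scheme.Hom.comp_apply] at hz'
    obtain ⟨y, hy⟩ := hz'
    have := (sigmaι_eq_iff X j i y _).mp hy
    have hij : j = i := congrArg Sigma.fst this
    subst hij
    exact ⟨v, rfl⟩
  · rintro ⟨w, hw⟩
    have hij := congrArg Sigma.fst
      ((sigmaι_eq_iff (fun i => (I i).subscheme) j i w v).mp hw)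
    subst hij
    change (subMap X I) (Sigma.ι (fun i => (I i).subscheme) j v) ∈ Set.range (Sigma.ι X j)
    rw [← Scheme.Hom.comp_apply, ι_subMap, Scheme.Hom.comp_apply]
    exact ⟨_, rfl⟩

set_option backward.isDefEq.respectTransparency false in
instance quasiCompact_subMap : QuasiCompact (subMap X I) := by
  rw [IsZariskiLocalAtTarget.iff_of_openCover (P := @QuasiCompact) (sigmaOpenCover X)]
  intro j
  have H := (isPullback_subMap X I j).flip
  change QuasiCompact (pullback.snd (subMap X I) (Sigma.ι X j))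
  rw [← H.isoPullback_inv_snd]
  infer_instance

/-- The ideal sheaf on `∐ X` restricting to `I i` on each summand. -/
noncomputable def sigmaIdeal : (∐ X : Scheme.{u}).IdealSheafData := (subMap X I).ker

lemma sigmaIdeal_comap (j : σ) : (sigmaIdeal X I).comap (Sigma.ι X j) = I j := by
  ext W : 2
  rw [Scheme.IdealSheafData.ideal_comap_of_isOpenImmersion]
  have := Scheme.ker_ideal_of_isPullback_of_isOpenImmersion (subMap X I) (I j).subschemeι
    (Sigma.ι (fun i => (I i).subscheme) j) (Sigma.ι X j) (isPullback_subMap X I j) W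
  rw [Scheme.IdealSheafData.ker_subschemeι] at this
  rw [this]
  rfl

lemma sigmaIdeal_isEffCartier (hI : ∀ i, BlowUp.IsEffCartierIdeal (I i)) :
    BlowUp.IsEffCartierIdeal (sigmaIdeal X I) := by
  intro z
  obtain ⟨j, x, rfl⟩ := sigma_cover X z
  exact Groth.Agent.H20.ModPairSplit.exists_local_generator_of_comap_isOpenImmersion
    (Sigma.ι X j) (sigmaIdeal X I) (by rw [sigmaIdeal_comap]; exact hI j) x

lemma sigmaIdeal_le_comap_desc {W : Scheme.{u}} (IW : W.IdealSheafData) (f : ∀ i, X i ⟶ W)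
    (hf : ∀ i, I i ≤ IW.comap (f i)) : sigmaIdeal X I ≤ IW.comap (Sigma.desc f) := by
  apply le_of_comap_le _ _ X (Sigma.ι X) (sigma_cover X)
  intro j
  rw [sigmaIdeal_comap, ← Scheme.IdealSheafData.comap_comp, Sigma.ι_desc]
  exact hf j

end Sigma

section Cat

variable {σ : Type u} (F : Discrete σ ⥤ ModPair.Pair.{u})

/-- The coproduct of a family of modulus pairs. -/
noncomputable def sigmaPair : ModPair.Pair.{u} where
  total := ∐ (fun i => (F.obj ⟨i⟩).total)
  mod := sigmaIdeal (fun i => (F.obj ⟨i⟩).total) (fun i => (F.obj ⟨i⟩).mod)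
  isEffCartier := sigmaIdeal_isEffCartier _ _ (fun i => (F.obj ⟨i⟩).isEffCartier)

/-- The coproduct cocone. -/
noncomputable def sigmaCocone : Cocone F where
  pt := sigmaPair F
  ι := Discrete.natTrans (fun j =>
    (⟨Sigma.ι (fun i => (F.obj ⟨i⟩).total) j.as, by
      change _ ≤ _
      exact (sigmaIdeal_comap (fun i => (F.obj ⟨i⟩).total) (fun i => (F.obj ⟨i⟩).mod) j.as).ge⟩ :
      ModPair.Pair.Hom (F.obj j) (sigmaPair F)))

/-- The coproduct cocone is a colimit. -/
noncomputable def sigmaCoconeIsColimit : IsColimit (sigmaCocone F) where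
  desc s := (⟨Sigma.desc (fun i => (s.ι.app ⟨i⟩).hom),
    sigmaIdeal_le_comap_desc _ _ s.pt.mod _ (fun i => (s.ι.app ⟨i⟩).cond)⟩ :
      ModPair.Pair.Hom (sigmaPair F) s.pt)
  fac s j := by
    apply ModPair.Pair.Hom.ext
    change Sigma.ι (fun i => (F.obj ⟨i⟩).total) j.as ≫ Sigma.desc _ = _
    rw [Sigma.ι_desc]
  uniq s m hm := by
    apply ModPair.Pair.Hom.ext
    apply Sigma.hom_ext
    intro i
    change _ = Sigma.ι (fun i => (F.obj ⟨i⟩).total) i ≫ Sigma.desc _
    rw [Sigma.ι_desc]
    exact congrArg ModPair.Pair.Hom.hom (hm ⟨i⟩)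

/-- The image of the coproduct cocone under the total-space functor is a colimit. -/
noncomputable def forgetIsColimit :
    IsColimit (ModPair.Pair.forget.mapCocone (sigmaCocone F)) where
  desc s := Sigma.desc (f := fun i => (F.obj ⟨i⟩).total)
    (fun i => (s.ι.app ⟨i⟩ : (F.obj ⟨i⟩).total ⟶ s.pt))
  fac s j := Sigma.ι_desc (f := fun i => (F.obj ⟨i⟩).total)
    (fun i => (s.ι.app ⟨i⟩ : (F.obj ⟨i⟩).total ⟶ s.pt)) j.as
  uniq s m hm := by
    apply Sigma.hom_ext (f := fun i => (F.obj ⟨i⟩).total)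
    intro i
    exact (hm ⟨i⟩).trans (Sigma.ι_desc (f := fun i => (F.obj ⟨i⟩).total)
      (fun i => (s.ι.app ⟨i⟩ : (F.obj ⟨i⟩).total ⟶ s.pt)) i).symm

/-- **Main theorem**: modulus pairs have coproducts, preserved by the total-space functor. -/
theorem main (σ : Type u) :
    HasColimitsOfShape (Discrete σ) ModPair.Pair.{u} ∧
      PreservesColimitsOfShape (Discrete σ) ModPair.Pair.forget.{u} :=
  ⟨⟨fun F => ⟨⟨⟨sigmaCocone F, sigmaCoconeIsColimit F⟩⟩⟩⟩,
    ⟨fun {F} => preservesColimit_of_preserves_colimit_cocone (sigmaCoconeIsColimit F)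
      (forgetIsColimit F)⟩⟩

end Cat

end Groth.Agent.H96.ModPairSigma
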