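import Mathlib
import Groth.Prelude.Def_W4c6modpairsegaMP
import Groth.Agent.H20.ModPairFrac
import Groth.Agent.H96.ModPairSigma
import Groth.Agent.H96.LocCoprod

/-!
# Coproducts of admissible blow-ups of modulus pairs (helper96)

The class of abstract admissible blow-ups is stable under coproducts in the category of modulus
pairs; consequently the localization at admissible blow-ups has binary coproducts, preserved by
the localization functor.
-/

set_option autoImplicit false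
set_option linter.style.haveILetI false
set_option linter.unusedSectionVars false
set_option linter.unusedVariables false
universe u

open CategoryTheory CategoryTheory.Limits AlgebraicGeometry TopologicalSpace Opposite

namespace Groth.Agent.H96.ModPairSigmaAdm

open Groth.Agent.H96.ModPairSigma

section General

variable {X Z : Scheme.{u}}

/-- Being an isomorphism over an open can be checked locally on that open. -/
lemma isIso_restrict_of_forall_exists (f : Z ⟶ X) (U : X.Opens)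
    (h : ∀ x ∈ U, ∃ W : X.Opens, x ∈ W ∧ W ≤ U ∧ IsIso (f ∣_ W)) : IsIso (f ∣_ U) := by
  have key : ∀ (C : X.Opens), C ≤ U → IsIso (f ∣_ C) →
      (MorphismProperty.isomorphisms Scheme.{u}) (f ∣_ U ∣_ (U.ι ⁻¹ᵁ C)) := by
    intro C hC hiso
    rw [(MorphismProperty.isomorphisms Scheme.{u}).arrow_mk_iso_iff
      (morphismRestrictRestrict f U (U.ι ⁻¹ᵁ C))]
    have e : U.ι ''ᵁ (U.ι ⁻¹ᵁ C) = C := by
      rw [Scheme.Hom.image_preimage_eq_opensRange_inf, Scheme.Opens.opensRange_ι]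
      exact inf_eq_right.mpr hC
    have : ∀ O : X.Opens, O = C → IsIso (f ∣_ O) := by
      rintro _ rfl; exact hiso
    exact this _ e
  change (MorphismProperty.isomorphisms Scheme.{u}) (f ∣_ U)
  apply IsZariskiLocalAtTarget.of_forall_exists_morphismRestrict
  rintro ⟨x, hx⟩
  obtain ⟨W, hxW, hWU, hW⟩ := h x hx
  exact ⟨U.ι ⁻¹ᵁ W, hxW, key W hWU hW⟩

end General

section Sigma

variable {σ : Type u} (X₁ X₂ : σ → Scheme.{u}) (g : ∀ i, X₁ i ⟶ X₂ i)

lemma ι_sigmaMap (j : σ) : Sigma.ι X₁ j ≫ Limits.Sigma.map g = g j ≫ Sigma.ι X₂ j :=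
  Sigma.ι_map _ _

/-- The summand inclusions exhibit `g j` as the pullback of `Sigma.map g`. -/
lemma isPullback_sigmaMap (j : σ) :
    IsPullback (g j) (Sigma.ι X₁ j) (Sigma.ι X₂ j) (Limits.Sigma.map g) := by
  apply IsOpenImmersion.isPullback _ _ _ _ (ι_sigmaMap X₁ X₂ g j)
  ext z
  obtain ⟨i, v, rfl⟩ := sigma_cover X₁ z
  constructor
  · intro hz
    have hz' : (Limits.Sigma.map g) (Sigma.ι X₁ i v) ∈ Set.range (Sigma.ι X₂ j) := hz
    rw [← Scheme.Hom.comp_apply, ι_sigmaMap, Scheme.Hom.comp_apply] at hz'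
    obtain ⟨y, hy⟩ := hz'
    have := (sigmaι_eq_iff X₂ j i y _).mp hy
    have hij : j = i := congrArg Sigma.fst this
    subst hij
    exact ⟨v, rfl⟩
  · rintro ⟨w, hw⟩
    have hij := congrArg Sigma.fst ((sigmaι_eq_iff X₁ j i w v).mp hw)
    subst hij
    change (Limits.Sigma.map g) (Sigma.ι X₁ j v) ∈ Set.range (Sigma.ι X₂ j)
    rw [← Scheme.Hom.comp_apply, ι_sigmaMap, Scheme.Hom.comp_apply]
    exact ⟨_, rfl⟩

lemma isProper_sigmaMap (hg : ∀ i, IsProper (g i)) : IsProper (Limits.Sigma.map g) := by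
  rw [IsZariskiLocalAtTarget.iff_of_openCover (P := @IsProper) (sigmaOpenCover X₂)]
  intro j
  have H := isPullback_sigmaMap X₁ X₂ g j
  change IsProper (pullback.snd (Limits.Sigma.map g) (Sigma.ι X₂ j))
  have := hg j
  rw [← H.flip.isoPullback_inv_snd]
  infer_instance

variable (I₁ : ∀ i, (X₁ i).IdealSheafData) (I₂ : ∀ i, (X₂ i).IdealSheafData)

lemma sigmaIdeal_eq_comap_sigmaMap (h : ∀ i, I₁ i = (I₂ i).comap (g i)) :
    sigmaIdeal X₁ I₁ = (sigmaIdeal X₂ I₂).comap (Limits.Sigma.map g) := by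
  have key : ∀ j, (sigmaIdeal X₁ I₁).comap (Sigma.ι X₁ j) =
      ((sigmaIdeal X₂ I₂).comap (Limits.Sigma.map g)).comap (Sigma.ι X₁ j) := by
    intro j
    rw [sigmaIdeal_comap, ← Scheme.IdealSheafData.comap_comp, ι_sigmaMap,
      Scheme.IdealSheafData.comap_comp, sigmaIdeal_comap]
    exact h j
  apply le_antisymm
  · exact le_of_comap_le _ _ X₁ (Sigma.ι X₁) (sigma_cover X₁) (fun j => (key j).le)
  · exact le_of_comap_le _ _ X₁ (Sigma.ι X₁) (sigma_cover X₁) (fun j => (key j).ge)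

lemma isIso_sigmaMap_restrict_image (j : σ) (U : (X₂ j).Opens) (hU : IsIso (g j ∣_ U)) :
    IsIso (Limits.Sigma.map g ∣_ (Sigma.ι X₂ j ''ᵁ U)) := by
  have H : IsPullback (g j ∣_ U) ((g j ⁻¹ᵁ U).ι ≫ Sigma.ι X₁ j) (U.ι ≫ Sigma.ι X₂ j)
      (Limits.Sigma.map g) :=
    (isPullback_morphismRestrict (g j) U).paste_vert (isPullback_sigmaMap X₁ X₂ g j)
  have h1 : IsIso (pullback.snd (Limits.Sigma.map g) (U.ι ≫ Sigma.ι X₂ j)) := by
    rw [← H.flip.isoPullback_inv_snd]
    infer_instance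
  have h2 : IsIso (Limits.Sigma.map g ∣_ (U.ι ≫ Sigma.ι X₂ j).opensRange) :=
    ((MorphismProperty.isomorphisms Scheme.{u}).arrow_mk_iso_iff
      (morphismRestrictOpensRange (Limits.Sigma.map g) (U.ι ≫ Sigma.ι X₂ j))).mpr h1
  have e : (U.ι ≫ Sigma.ι X₂ j).opensRange = Sigma.ι X₂ j ''ᵁ U := by
    rw [Scheme.Hom.opensRange_comp, Scheme.Opens.opensRange_ι]
  have : ∀ O : (∐ X₂ : Scheme.{u}).Opens, (U.ι ≫ Sigma.ι X₂ j).opensRange = O →
      IsIso (Limits.Sigma.map g ∣_ O) := by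
    rintro _ rfl; exact h2
  exact this _ e

lemma isIso_sigmaMap_restrict_interior
    (h : ∀ i, IsIso (g i ∣_ ModPair.interior (I₂ i))) :
    IsIso (Limits.Sigma.map g ∣_ ModPair.interior (sigmaIdeal X₂ I₂)) := by
  apply isIso_restrict_of_forall_exists
  intro z hz
  obtain ⟨j, x, rfl⟩ := sigma_cover X₂ z
  have hint : ModPair.interior (I₂ j) = Sigma.ι X₂ j ⁻¹ᵁ ModPair.interior (sigmaIdeal X₂ I₂) := by
    rw [← Groth.Agent.H20.ModPairBox.interior_comap, sigmaIdeal_comap]
  refine ⟨Sigma.ι X₂ j ''ᵁ ModPair.interior (I₂ j), ⟨x, ?_, rfl⟩, ?_,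
    isIso_sigmaMap_restrict_image X₁ X₂ g j _ (h j)⟩
  · rw [hint]; exact hz
  · rintro _ ⟨y, hy, rfl⟩
    rw [hint] at hy
    exact hy

/-- The coproduct of admissible blow-ups is an admissible blow-up. -/
lemma isAdmBlowup_sigmaMap (h : ∀ i, ModPair.IsAdmBlowup (I₁ i) (I₂ i) (g i)) :
    ModPair.IsAdmBlowup (sigmaIdeal X₁ I₁) (sigmaIdeal X₂ I₂) (Limits.Sigma.map g) :=
  ⟨sigmaIdeal_eq_comap_sigmaMap X₁ X₂ g I₁ I₂ (fun i => (h i).1),
    isProper_sigmaMap X₁ X₂ g (fun i => (h i).2.1),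
    isIso_sigmaMap_restrict_interior X₁ X₂ g I₂ (fun i => (h i).2.2)⟩

end Sigma

section Cat

open ModPair

instance admBlowup_isMultiplicative : (Pair.admBlowup.{u}).IsMultiplicative :=
  Groth.Agent.H20.ModPairFrac.main.toIsMultiplicative

/-- Isomorphisms of modulus pairs are admissible blow-ups. -/
lemma admBlowup_of_isIso {P Q : Pair.{u}} (f : P ⟶ Q) [IsIso f] : Pair.admBlowup f := by
  have hiso : IsIso f.hom := (inferInstance : IsIso (Pair.forget.map f))
  refine ⟨?_, inferInstance, inferInstance⟩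
  change P.mod = Q.mod.comap f.hom
  apply le_antisymm f.cond
  have h2 : Q.mod ≤ P.mod.comap (inv f).hom := (inv f).cond
  have h3 : f.hom ≫ (inv f).hom = 𝟙 _ := congrArg Pair.Hom.hom (IsIso.hom_inv_id f)
  calc Q.mod.comap f.hom ≤ (P.mod.comap (inv f).hom).comap f.hom :=
        Scheme.IdealSheafData.comap_mono _ h2
    _ = P.mod.comap (f.hom ≫ (inv f).hom) := (Scheme.IdealSheafData.comap_comp _ _ _).symm
    _ = P.mod := by rw [h3]; exact Scheme.IdealSheafData.comap_id _

instance admBlowup_respectsIso : (Pair.admBlowup.{u}).RespectsIso :=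
  MorphismProperty.respectsIso_of_isStableUnderComposition
    (fun _ _ f (hf : IsIso f) => admBlowup_of_isIso f)

/-- The coproduct of a family of admissible blow-ups, as a morphism of modulus pairs. -/
noncomputable def sigmaPairMap {σ : Type u} {F₁ F₂ : Discrete σ ⥤ Pair.{u}} (f : F₁ ⟶ F₂)
    (hf : ∀ i, Pair.admBlowup (f.app ⟨i⟩)) : (sigmaCocone F₁).pt ⟶ (sigmaCocone F₂).pt :=
  (⟨Limits.Sigma.map (f := fun i => (F₁.obj ⟨i⟩).total) (g := fun i => (F₂.obj ⟨i⟩).total)
      (fun i => (f.app ⟨i⟩).hom),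
    le_of_eq (sigmaIdeal_eq_comap_sigmaMap (fun i => (F₁.obj ⟨i⟩).total)
      (fun i => (F₂.obj ⟨i⟩).total) (fun i => (f.app ⟨i⟩).hom) (fun i => (F₁.obj ⟨i⟩).mod)
      (fun i => (F₂.obj ⟨i⟩).mod) (fun i => (hf i).1))⟩ :
    Pair.Hom (sigmaPair F₁) (sigmaPair F₂))

lemma admBlowup_sigmaPairMap {σ : Type u} {F₁ F₂ : Discrete σ ⥤ Pair.{u}} (f : F₁ ⟶ F₂)
    (hf : ∀ i, Pair.admBlowup (f.app ⟨i⟩)) : Pair.admBlowup (sigmaPairMap f hf) :=
  isAdmBlowup_sigmaMap (fun i => (F₁.obj ⟨i⟩).total)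
      (fun i => (F₂.obj ⟨i⟩).total) (fun i => (f.app ⟨i⟩).hom) (fun i => (F₁.obj ⟨i⟩).mod)
      (fun i => (F₂.obj ⟨i⟩).mod) (fun i => hf i)

lemma ι_sigmaPairMap {σ : Type u} {F₁ F₂ : Discrete σ ⥤ Pair.{u}} (f : F₁ ⟶ F₂)
    (hf : ∀ i, Pair.admBlowup (f.app ⟨i⟩)) (j : Discrete σ) :
    (sigmaCocone F₁).ι.app j ≫ sigmaPairMap f hf = f.app j ≫ (sigmaCocone F₂).ι.app j := by
  apply Pair.Hom.ext
  exact ι_sigmaMap (fun i => (F₁.obj ⟨i⟩).total) (fun i => (F₂.obj ⟨i⟩).total)
    (fun i => (f.app ⟨i⟩).hom) j.as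

/-- Admissible blow-ups are stable under coproducts. -/
instance isStableUnderCoproductsOfShape (σ : Type u) :
    (Pair.admBlowup.{u}).IsStableUnderCoproductsOfShape σ where
  condition F₁ F₂ c₁ c₂ h₁ h₂ f hf φ hφ := by
    have hf' : ∀ i, Pair.admBlowup (f.app ⟨i⟩) := fun i => hf ⟨i⟩
    have key : φ = ((sigmaCoconeIsColimit F₁).coconePointUniqueUpToIso h₁).inv ≫
        sigmaPairMap f hf' ≫ ((sigmaCoconeIsColimit F₂).coconePointUniqueUpToIso h₂).hom := by
      apply h₁.hom_ext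
      intro j
      have a1 : c₁.ι.app j ≫ ((sigmaCoconeIsColimit F₁).coconePointUniqueUpToIso h₁).inv =
          (sigmaCocone F₁).ι.app j := IsColimit.comp_coconePointUniqueUpToIso_inv _ _ _
      have a2 : (sigmaCocone F₂).ι.app j ≫
          ((sigmaCoconeIsColimit F₂).coconePointUniqueUpToIso h₂).hom = c₂.ι.app j :=
        IsColimit.comp_coconePointUniqueUpToIso_hom _ _ _
      have a3 := ι_sigmaPairMap f hf' j
      calc c₁.ι.app j ≫ φ = f.app j ≫ c₂.ι.app j := hφ j
        _ = f.app j ≫ (sigmaCocone F₂).ι.app j ≫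
            ((sigmaCoconeIsColimit F₂).coconePointUniqueUpToIso h₂).hom := by rw [a2]
        _ = ((sigmaCocone F₁).ι.app j ≫ sigmaPairMap f hf') ≫
            ((sigmaCoconeIsColimit F₂).coconePointUniqueUpToIso h₂).hom := by
              rw [a3, Category.assoc]
        _ = (c₁.ι.app j ≫ ((sigmaCoconeIsColimit F₁).coconePointUniqueUpToIso h₁).inv) ≫
            sigmaPairMap f hf' ≫
            ((sigmaCoconeIsColimit F₂).coconePointUniqueUpToIso h₂).hom := by
              rw [a1, Category.assoc]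
        _ = _ := Category.assoc _ _ _
    rw [key]
    exact MorphismProperty.comp_mem _ _ _ (admBlowup_of_isIso _)
      (MorphismProperty.comp_mem _ _ _ (admBlowup_sigmaPairMap f hf') (admBlowup_of_isIso _))

instance isStableUnderCoproductsOfShape_walkingPair :
    (Pair.admBlowup.{u}).IsStableUnderCoproductsOfShape WalkingPair := by
  refine (MorphismProperty.isStableUnderColimitsOfShape_iff_colimitsOfShape_le _ _).mpr ?_
  rw [MorphismProperty.colimitsOfShape_eq_of_equivalence _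
      (Discrete.equivalence (Equiv.ulift.{u} (α := WalkingPair))).symm]
  exact MorphismProperty.colimitsOfShape_le

instance hasBinaryCoproducts_pair : HasBinaryCoproducts Pair.{u} := by
  have := (Groth.Agent.H96.ModPairSigma.main (ULift.{u} WalkingPair)).1
  exact hasColimitsOfShape_of_equivalence (Discrete.equivalence (Equiv.ulift.{u} (α := WalkingPair)))

/-- **Main theorem**: the localization at admissible blow-ups has binary coproducts, preserved by
the localization functor. -/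
theorem main :
    HasBinaryCoproducts (Pair.admBlowup.{u}).Localization ∧
      PreservesColimitsOfShape (Discrete WalkingPair) (Pair.admBlowup.{u}).Q :=
  ⟨Groth.Agent.H96.LocCoprod.hasCoproductsOfShape (Pair.admBlowup.{u}).Q Pair.admBlowup.{u}
      WalkingPair,
    Groth.Agent.H96.LocCoprod.preservesCoproductsOfShape (Pair.admBlowup.{u}).Q Pair.admBlowup.{u}
      WalkingPair⟩

end Cat

end Groth.Agent.H96.ModPairSigmaAdm
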