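import Groth.Prelude.Def_BlowUp2
import Groth.Agent.H19.ComapAff
import Mathlib.RingTheory.Valuation.LocalSubring

/-!
# Testing effective Cartier ideal sheaves on valuation rings (helper96)

* `bigPrime A s hs`: in a valuation ring, the largest prime not containing `s ≠ 0`.
* `exists_valuationRing`: a nonzerodivisor `s` and an element `c` of a prime `q` of `B` map into a
  valuation ring `R` with `ψ s ≠ 0`, `ψ s` in every nonzero prime, `ψ c` a nonunit.
* `appLE_eq`, `ideal_comap_top`, `mem_support_comap_iff`: pull-back of an ideal sheaf along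
  `Spec R ⟶ Spec Γ(X, U) ⟶ X`.
* `exists_common_principal`: two effective Cartier ideal sheaves are simultaneously principal
  (generated by nonzerodivisors) on a common affine neighbourhood of any point.
-/

set_option autoImplicit false
set_option linter.style.haveILetI false
set_option linter.unusedSectionVars false
set_option linter.unusedVariables false

open CategoryTheory CategoryTheory.Limits AlgebraicGeometry TopologicalSpace
universe u

namespace Groth.Agent.H96.ModPairVal


/-- In a valuation ring, the elements dividing no power of `s ≠ 0` form an ideal (the largest prime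
not containing `s`). -/
def bigPrime (A : Type u) [CommRing A] [IsDomain A] [ValuationRing A] (s : A) (hs : s ≠ 0) :
    Ideal A where
  carrier := {a | ∀ n : ℕ, ¬ a ∣ s ^ n}
  add_mem' := by
    intro a b ha hb n hab
    rcases ValuationRing.dvd_total a b with h | h
    · exact ha n (((dvd_add_right (dvd_refl a)).mpr h).trans hab)
    · exact hb n (((dvd_add_left (dvd_refl b)).mpr h).trans hab)
  zero_mem' := by
    intro n h
    exact pow_ne_zero n hs (zero_dvd_iff.mp h)
  smul_mem' := by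
    intro r a ha n h
    exact ha n ((Dvd.intro_left r rfl).trans h)

theorem mem_bigPrime {A : Type u} [CommRing A] [IsDomain A] [ValuationRing A] {s : A} (hs : s ≠ 0)
    {a : A} : a ∈ bigPrime A s hs ↔ ∀ n : ℕ, ¬ a ∣ s ^ n := Iff.rfl

theorem bigPrime_isPrime {A : Type u} [CommRing A] [IsDomain A] [ValuationRing A] {s : A}
    (hs : s ≠ 0) : (bigPrime A s hs).IsPrime := by
  refine ⟨?_, ?_⟩
  · rw [Ideal.ne_top_iff_one]
    intro h
    exact h 0 (one_dvd _)
  · intro a b hab
    by_contra hcon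
    push Not at hcon
    obtain ⟨ha, hb⟩ := hcon
    rw [mem_bigPrime] at ha hb
    push Not at ha hb
    obtain ⟨n, hn⟩ := ha
    obtain ⟨m, hm⟩ := hb
    exact hab (n + m) (by rw [pow_add]; exact mul_dvd_mul hn hm)

theorem self_notMem_bigPrime {A : Type u} [CommRing A] [IsDomain A] [ValuationRing A] {s : A}
    (hs : s ≠ 0) : s ∉ bigPrime A s hs := fun h => h 1 (by rw [pow_one])

theorem le_bigPrime {A : Type u} [CommRing A] [IsDomain A] [ValuationRing A] {s : A}
    (hs : s ≠ 0) (p : Ideal A) [p.IsPrime] (hp : s ∉ p) : p ≤ bigPrime A s hs := by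
  intro a ha n hdiv
  exact hp (Ideal.IsPrime.mem_of_pow_mem inferInstance n (Ideal.mem_of_dvd p hdiv ha))



theorem exists_valuationRing (B : Type u) [CommRing B] (q : Ideal B) [q.IsPrime] (s c : B)
    (hs : s ∈ nonZeroDivisors B) (hcq : c ∈ q) :
    ∃ (R : Type u) (_ : CommRing R) (_ : IsDomain R) (_ : ValuationRing R) (ψ : B →+* R),
      ψ s ≠ 0 ∧ (∀ P : Ideal R, P.IsPrime → (ψ s ∉ P ↔ P = ⊥)) ∧ ¬ IsUnit (ψ c) := by
  obtain ⟨q0, hq0, hle⟩ := Ideal.exists_minimalPrimes_le (bot_le : (⊥ : Ideal B) ≤ q)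
  have hq0p : q0.IsPrime := hq0.1.1
  have hsq0 : s ∉ q0 := fun h =>
    (Ideal.disjoint_nonZeroDivisors_of_mem_minimalPrimes hq0).le_bot ⟨h, hs⟩
  let K := q0.ResidueField
  have hunits : ∀ a : q.primeCompl, IsUnit (algebraMap B K a) := by
    intro a
    rw [isUnit_iff_ne_zero, Ne, Ideal.algebraMap_residueField_eq_zero]
    exact fun h => a.2 (hle h)
  let ρ : Localization.AtPrime q →+* K := IsLocalization.lift (M := q.primeCompl) hunits
  obtain ⟨A, hA, hloc⟩ := IsLocalRing.exists_factor_valuationRing ρ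
  let ψ' : B →+* A := (ρ.codRestrict A.toSubring hA).comp (algebraMap B (Localization.AtPrime q))
  have hs' : ψ' s ≠ 0 := by
    intro h
    have h1 : (ψ' s : K) = algebraMap B K s := by
      simp [ψ', ρ]
    rw [h] at h1
    have : algebraMap B K s = 0 := by simpa using h1.symm
    rw [Ideal.algebraMap_residueField_eq_zero] at this
    exact hsq0 this
  have hc' : ¬ IsUnit (ψ' c) := by
    intro h
    have h1 : IsUnit (algebraMap B (Localization.AtPrime q) c) := hloc.map_nonunit _ h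
    rw [IsLocalization.AtPrime.isUnit_to_map_iff (Localization.AtPrime q) q] at h1
    exact h1 hcq
  set P := bigPrime A (ψ' s) hs' with hP
  have hPp : P.IsPrime := bigPrime_isPrime hs'
  let π : A →+* A ⧸ P := Ideal.Quotient.mk P
  have hπ : Function.Surjective π := Ideal.Quotient.mk_surjective
  have hdom : IsDomain (A ⧸ P) := Ideal.Quotient.isDomain P
  have hval : ValuationRing (A ⧸ P) := Function.Surjective.valuationRing π hπ
  refine ⟨A ⧸ P, inferInstance, hdom, hval, π.comp ψ', ?_, ?_, ?_⟩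
  · show π (ψ' s) ≠ 0
    rw [Ne, Ideal.Quotient.eq_zero_iff_mem]
    exact self_notMem_bigPrime hs'
  · intro P' hP'
    constructor
    · intro hnot
      have hcomap : (P'.comap π).IsPrime := Ideal.comap_isPrime π P'
      have h1 : P'.comap π ≤ P := le_bigPrime hs' (P'.comap π) (fun h => hnot h)
      rw [eq_bot_iff]
      intro y hy
      obtain ⟨a, rfl⟩ := hπ y
      have : a ∈ P := h1 hy
      rw [Ideal.mem_bot]
      exact Ideal.Quotient.eq_zero_iff_mem.mpr this
    · rintro rfl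
      rw [Ideal.mem_bot]
      show ¬ π (ψ' s) = 0
      rw [Ideal.Quotient.eq_zero_iff_mem]
      exact self_notMem_bigPrime hs'
  · intro h
    -- π is a local hom since A local and P proper
    have : IsLocalHom π := IsLocalHom.of_surjective π hπ
    exact hc' (this.map_nonunit _ h)



theorem appLE_eq {X : Scheme.{u}} (U : X.Opens) (hU : IsAffineOpen U) (R : CommRingCat.{u})
    (ψ : Γ(X, U) ⟶ R) (e : (⊤ : (Spec R).Opens) ≤ (Spec.map ψ ≫ hU.fromSpec) ⁻¹ᵁ U) :
    (Spec.map ψ ≫ hU.fromSpec).appLE U ⊤ e = ψ ≫ (Scheme.ΓSpecIso R).inv := by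
  apply Spec.map_injective
  have h := IsAffineOpen.SpecMap_appLE_fromSpec (Spec.map ψ ≫ hU.fromSpec) hU
    (isAffineOpen_top (Spec R)) e
  rw [IsAffineOpen.fromSpec_top, Scheme.isoSpec_Spec_inv, ← Category.assoc, cancel_mono] at h
  rw [h, Spec.map_comp]

theorem top_le_preimage {X : Scheme.{u}} (U : X.Opens) (hU : IsAffineOpen U) (R : CommRingCat.{u})
    (ψ : Γ(X, U) ⟶ R) : (⊤ : (Spec R).Opens) ≤ (Spec.map ψ ≫ hU.fromSpec) ⁻¹ᵁ U := by
  intro y _
  show hU.fromSpec ((Spec.map ψ) y) ∈ U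
  have := hU.range_fromSpec
  rw [← SetLike.mem_coe, ← this]
  exact ⟨_, rfl⟩

/-- the pulled-back ideal on `Spec R` along `Spec R → Spec Γ(X,U) → X`. -/
theorem ideal_comap_top {X : Scheme.{u}} (K : X.IdealSheafData) (U : X.affineOpens)
    (hU : IsAffineOpen U.1) (R : CommRingCat.{u}) (ψ : Γ(X, U.1) ⟶ R) :
    (K.comap (Spec.map ψ ≫ hU.fromSpec)).ideal ⟨⊤, isAffineOpen_top _⟩ =
      (K.ideal U).map (ψ ≫ (Scheme.ΓSpecIso R).inv).hom := by
  rw [Groth.Agent.H19.ComapAff.ideal_comap_appLE (Spec.map ψ ≫ hU.fromSpec) K U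
    ⟨⊤, isAffineOpen_top _⟩ (top_le_preimage U.1 hU R ψ)]
  show Ideal.map (CommRingCat.Hom.hom (Scheme.Hom.appLE (Spec.map ψ ≫ hU.fromSpec) U.1 ⊤
    (top_le_preimage U.1 hU R ψ))) (K.ideal U) = _
  rw [appLE_eq]

theorem mem_support_comap_iff {X : Scheme.{u}} (K : X.IdealSheafData) (U : X.affineOpens)
    (hU : IsAffineOpen U.1) (R : CommRingCat.{u}) (ψ : Γ(X, U.1) ⟶ R) (y : Spec R) :
    y ∈ (K.comap (Spec.map ψ ≫ hU.fromSpec)).support ↔
      ∀ a ∈ K.ideal U, ψ.hom a ∈ y.asIdeal := by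
  rw [Scheme.IdealSheafData.support_comap]
  show (Spec.map ψ ≫ hU.fromSpec) y ∈ K.support ↔ _
  have hmem : (Spec.map ψ ≫ hU.fromSpec) y ∈ U.1 := top_le_preimage U.1 hU R ψ trivial
  rw [Scheme.IdealSheafData.mem_support_iff_of_mem (U := U) hmem]
  have h2 : (Spec.map ψ ≫ hU.fromSpec) y ∈ X.zeroLocus (U := U.1) (K.ideal U) ↔
      (Spec.map ψ) y ∈ hU.fromSpec ⁻¹' X.zeroLocus (U := U.1) (K.ideal U) := Iff.rfl
  rw [h2, hU.fromSpec_preimage_zeroLocus]
  constructor
  · intro h a ha
    exact (PrimeSpectrum.mem_zeroLocus _ _).mp h ha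
  · intro h
    exact (PrimeSpectrum.mem_zeroLocus _ _).mpr fun a ha => h a ha



/-- restriction to a smaller affine open which is a basic open preserves nonzerodivisors. -/
theorem res_mem_nonZeroDivisors {X : Scheme.{u}} (U : X.affineOpens) (g : Γ(X, U.1))
    (W : X.Opens) (hW : W = X.basicOpen g) (hle : W ≤ U.1) (a : Γ(X, U.1))
    (ha : a ∈ nonZeroDivisors Γ(X, U.1)) :
    (X.presheaf.map (homOfLE hle).op).hom a ∈ nonZeroDivisors Γ(X, W) := by
  have hU : IsAffineOpen U.1 := U.2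
  have hloc := hU.isLocalization_of_eq_basicOpen g (homOfLE hle) hW
  letI : Algebra Γ(X, U.1) Γ(X, W) := (X.presheaf.map (homOfLE hle).op).hom.toAlgebra
  have : IsLocalization (Submonoid.powers g) Γ(X, W) := hloc
  exact IsLocalization.map_nonZeroDivisors_le (Submonoid.powers g) Γ(X, W)
    (Submonoid.mem_map_of_mem _ ha)

theorem exists_common_principal {X : Scheme.{u}} (I J : X.IdealSheafData)
    (hI : BlowUp.IsEffCartierIdeal I) (hJ : BlowUp.IsEffCartierIdeal J) (x : X) :
    ∃ W : X.affineOpens, x ∈ W.1 ∧ ∃ s t : Γ(X, W.1), s ∈ nonZeroDivisors Γ(X, W.1) ∧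
      t ∈ nonZeroDivisors Γ(X, W.1) ∧ I.ideal W = Ideal.span {s} ∧ J.ideal W = Ideal.span {t} := by
  obtain ⟨U, hxU, s0, hs0, hIU⟩ := hI x
  obtain ⟨U', hxU', t0, ht0, hJU'⟩ := hJ x
  obtain ⟨f, g, hfg, hxf⟩ := exists_basicOpen_le_affine_inter U.2 U'.2 x ⟨hxU, hxU'⟩
  let W : X.affineOpens := X.affineBasicOpen f
  have hWU : W ≤ U := X.basicOpen_le f
  have hWU' : W ≤ U' := by
    show X.basicOpen f ≤ U'.1
    rw [hfg]
    exact X.basicOpen_le g
  refine ⟨W, hxf, (X.presheaf.map (homOfLE hWU).op).hom s0,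
    (X.presheaf.map (homOfLE hWU').op).hom t0, ?_, ?_, ?_, ?_⟩
  · exact res_mem_nonZeroDivisors U f W.1 rfl hWU s0 hs0
  · exact res_mem_nonZeroDivisors U' g W.1 hfg hWU' t0 ht0
  · rw [← I.map_ideal hWU, hIU, Ideal.map_span, Set.image_singleton]
  · rw [← J.map_ideal hWU', hJU', Ideal.map_span, Set.image_singleton]


end Groth.Agent.H96.ModPairVal
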