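import Mathlib

/-!
# Quotients `A[T_1, …, T_r]/(g_1(T_1), …, g_r(T_r))` by monic one-variable polynomials
(helper library for S2473): the base ring injects, the quotient is integral, and the
construction commutes with surjective base change.
-/

set_option autoImplicit false
set_option linter.style.haveILetI false
set_option linter.unusedSectionVars false
set_option linter.unusedVariables false
universe u

namespace Groth.Agent.H96.MonicQuot

open Polynomial

variable {A : Type u} [CommRing A]

/-- a tower of root adjunctions in which all the given monic polynomials acquire a root. -/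
theorem exists_roots [Nontrivial A] : ∀ (r : ℕ) (g : Fin r → A[X]), (∀ i, (g i).Monic) →
    (∀ i, (g i).natDegree ≠ 0) →
    ∃ (D : Type u) (_ : CommRing D) (_ : Algebra A D), Function.Injective (algebraMap A D) ∧
      ∃ t : Fin r → D, ∀ i, Polynomial.aeval (t i) (g i) = 0 := by
  intro r
  induction r with
  | zero =>
    intro g _ _
    exact ⟨A, inferInstance, inferInstance, fun _ _ h => h, Fin.elim0, fun i => i.elim0⟩
  | succ r ih =>
    intro g hg hd
    obtain ⟨D, _, _, hinj, t, ht⟩ := ih (fun i => g i.succ) (fun i => hg i.succ)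
      (fun i => hd i.succ)
    haveI : Nontrivial D := hinj.nontrivial
    let h : D[X] := (g 0).map (algebraMap A D)
    have hh : h.Monic := (hg 0).map _
    have hhd : h.natDegree ≠ 0 := by
      rw [(hg 0).natDegree_map]; exact hd 0
    letI : Algebra A (AdjoinRoot h) := ((AdjoinRoot.of h).comp (algebraMap A D)).toAlgebra
    have hof : Function.Injective (AdjoinRoot.of h) := by
      rw [injective_iff_map_eq_zero]
      intro a ha
      by_contra ha0
      have h1 : AdjoinRoot.mk h (C a) ≠ 0 := by
        refine AdjoinRoot.mk_ne_zero_of_natDegree_lt hh (C_ne_zero.2 ha0) ?_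
        rw [natDegree_C]
        exact Nat.pos_of_ne_zero hhd
      exact h1 ha
    refine ⟨AdjoinRoot h, inferInstance, inferInstance, ?_, Fin.cons (AdjoinRoot.root h)
      (fun i => AdjoinRoot.of h (t i)), ?_⟩
    · show Function.Injective ((AdjoinRoot.of h).comp (algebraMap A D))
      exact hof.comp hinj
    · intro i
      refine Fin.cases ?_ (fun j => ?_) i
      · rw [Fin.cons_zero, Polynomial.aeval_def]
        show Polynomial.eval₂ ((AdjoinRoot.of h).comp (algebraMap A D)) (AdjoinRoot.root h)
          (g 0) = 0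
        rw [← Polynomial.eval₂_map, AdjoinRoot.eval₂_root]
      · rw [Fin.cons_succ, Polynomial.aeval_def]
        show Polynomial.eval₂ ((AdjoinRoot.of h).comp (algebraMap A D)) (AdjoinRoot.of h (t j))
          (g j.succ) = 0
        rw [← Polynomial.hom_eval₂, ← Polynomial.aeval_def, ht j, map_zero]

section Quot

variable {r : ℕ} (g : Fin r → A[X]) (F : Fin r → MvPolynomial (Fin r) A)
  (hF : ∀ i, F i = Polynomial.aeval (MvPolynomial.X i : MvPolynomial (Fin r) A) (g i))

local notation "Bq" => MvPolynomial (Fin r) A ⧸ Ideal.span (Set.range F)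

include hF

theorem aeval_mk_eq_zero (i : Fin r) :
    Polynomial.aeval (Ideal.Quotient.mk (Ideal.span (Set.range F)) (MvPolynomial.X i)) (g i)
      = 0 := by
  have h1 : Polynomial.aeval ((Ideal.Quotient.mkₐ A (Ideal.span (Set.range F)))
      (MvPolynomial.X i)) (g i) =
      (Ideal.Quotient.mkₐ A (Ideal.span (Set.range F)))
        (Polynomial.aeval (MvPolynomial.X i : MvPolynomial (Fin r) A) (g i)) :=
    Polynomial.aeval_algHom_apply _ _ _
  rw [← hF i] at h1
  refine h1.trans ?_
  exact Ideal.Quotient.eq_zero_iff_mem.2 (Ideal.subset_span ⟨i, rfl⟩)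

theorem isIntegral (hg : ∀ i, (g i).Monic) : Algebra.IsIntegral A Bq := by
  refine ⟨fun b => ?_⟩
  obtain ⟨P, rfl⟩ := Ideal.Quotient.mk_surjective b
  induction P using MvPolynomial.induction_on with
  | C a => exact isIntegral_algebraMap (R := A) (x := a)
  | add P Q hP hQ => rw [map_add]; exact hP.add hQ
  | mul_X P i hP =>
    rw [map_mul]
    exact hP.mul ⟨g i, hg i, aeval_mk_eq_zero g F hF i⟩

theorem injective_algebraMap [Nontrivial A] (hg : ∀ i, (g i).Monic)
    (hd : ∀ i, (g i).natDegree ≠ 0) : Function.Injective (algebraMap A Bq) := by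
  obtain ⟨D, _, _, hinj, t, ht⟩ := exists_roots r g hg hd
  let φ : MvPolynomial (Fin r) A →ₐ[A] D := MvPolynomial.aeval t
  have hφ : ∀ a ∈ Ideal.span (Set.range F), φ a = 0 := by
    intro a ha
    have hle : Ideal.span (Set.range F) ≤ RingHom.ker φ.toRingHom := by
      rw [Ideal.span_le]
      rintro _ ⟨i, rfl⟩
      show φ (F i) = 0
      rw [hF i, ← Polynomial.aeval_algHom_apply]
      show Polynomial.aeval (MvPolynomial.aeval t (MvPolynomial.X i)) (g i) = 0
      rw [MvPolynomial.aeval_X, ht i]
    exact hle ha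
  let ψ : Bq →ₐ[A] D := Ideal.Quotient.liftₐ (Ideal.span (Set.range F)) φ hφ
  intro a b hab
  apply hinj
  have := congrArg ψ hab
  rwa [AlgHom.commutes, AlgHom.commutes] at this

end Quot

section BaseChange

variable {Q : Type u} [CommRing Q] (φ : A →+* Q) (hφ : Function.Surjective φ) {r : ℕ}
  (F : Fin r → MvPolynomial (Fin r) A) (G : Fin r → MvPolynomial (Fin r) Q)
  (hFG : ∀ i, MvPolynomial.map φ (F i) = G i)

include hFG in
theorem map_span_le : Ideal.span (Set.range F) ≤
    (Ideal.span (Set.range G)).comap (MvPolynomial.map φ) := by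
  rw [Ideal.span_le]
  rintro _ ⟨i, rfl⟩
  show MvPolynomial.map φ (F i) ∈ Ideal.span (Set.range G)
  rw [hFG i]
  exact Ideal.subset_span ⟨i, rfl⟩

/-- the base change map `A[T]/(F) → Q[T]/(G)`. -/
noncomputable def quotMap :
    (MvPolynomial (Fin r) A ⧸ Ideal.span (Set.range F)) →+*
      (MvPolynomial (Fin r) Q ⧸ Ideal.span (Set.range G)) :=
  Ideal.quotientMap (Ideal.span (Set.range G)) (MvPolynomial.map φ) (map_span_le φ F G hFG)

theorem quotMap_mk (P : MvPolynomial (Fin r) A) :
    quotMap φ F G hFG (Ideal.Quotient.mk _ P) = Ideal.Quotient.mk _ (MvPolynomial.map φ P) :=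
  rfl

include hφ in
theorem quotMap_surjective : Function.Surjective (quotMap φ F G hFG) := by
  intro b
  obtain ⟨P, rfl⟩ := Ideal.Quotient.mk_surjective b
  obtain ⟨P', rfl⟩ := MvPolynomial.map_surjective φ hφ P
  exact ⟨Ideal.Quotient.mk _ P', rfl⟩

include hφ in
theorem ker_quotMap_le : RingHom.ker (quotMap φ F G hFG) ≤
    (RingHom.ker φ).map
      (algebraMap A (MvPolynomial (Fin r) A ⧸ Ideal.span (Set.range F))) := by
  intro b hb
  obtain ⟨P, rfl⟩ := Ideal.Quotient.mk_surjective b
  rw [RingHom.mem_ker, quotMap_mk, Ideal.Quotient.eq_zero_iff_mem] at hb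
  have hG : Ideal.span (Set.range G) = (Ideal.span (Set.range F)).map (MvPolynomial.map φ) := by
    rw [Ideal.map_span]
    congr 1
    ext y
    constructor
    · rintro ⟨i, rfl⟩
      exact ⟨F i, ⟨i, rfl⟩, hFG i⟩
    · rintro ⟨_, ⟨i, rfl⟩, rfl⟩
      exact ⟨i, (hFG i).symm⟩
  rw [hG] at hb
  obtain ⟨P', hP', hPP'⟩ :=
    (Ideal.mem_map_iff_of_surjective _ (MvPolynomial.map_surjective φ hφ)).1 hb
  have hk : P - P' ∈ RingHom.ker (MvPolynomial.map (σ := Fin r) φ) := by
    rw [RingHom.mem_ker, map_sub, hPP', sub_self]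
  rw [MvPolynomial.ker_map] at hk
  have h1 : Ideal.Quotient.mk (Ideal.span (Set.range F)) P =
      Ideal.Quotient.mk (Ideal.span (Set.range F)) (P - P') := by
    rw [map_sub, Ideal.Quotient.eq_zero_iff_mem.2 hP', sub_zero]
  rw [h1]
  have h2 : (RingHom.ker φ).map
      (algebraMap A (MvPolynomial (Fin r) A ⧸ Ideal.span (Set.range F))) =
      ((RingHom.ker φ).map (MvPolynomial.C (σ := Fin r))).map
        (Ideal.Quotient.mk (Ideal.span (Set.range F))) := by
    rw [Ideal.map_map]
    rfl
  rw [h2]
  exact Ideal.mem_map_of_mem _ hk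

end BaseChange

end Groth.Agent.H96.MonicQuot
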