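import Groth.Agent.H96.SupBlowUp
import Groth.Agent.H8.FiniteTypeIdeal
import Groth.Agent.H8.AffineLocal

/-!
# Separating closures after an admissible blow-up (helper96)

Ingredients for the "separation of closures" step in Nagata compactification:

* `le_radical_of_support`, `exists_pow_le_of_support`: a finite type ideal sheaf `F` whose support
  contains the support of `I` over a quasi-compact open `T` satisfies `F ^ m ≤ I` over `T`.
* `comap_pow`: inverse images commute with powers.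
* `exists_affine_span_eq`: if a sum of ideal sheaves is effective Cartier then locally the sum is
  principal and equal to one of the summands.
* `not_mem_basicOpen_of_mem_map`: a germ-level non-unit criterion.
-/

set_option autoImplicit false
set_option linter.style.haveILetI false
set_option linter.unusedSectionVars false
set_option linter.unusedVariables false
universe u
open CategoryTheory CategoryTheory.Limits AlgebraicGeometry TopologicalSpace Opposite Topology

namespace Groth.Agent.H96.NagataSep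

open Scheme.IdealSheafData Groth.Agent.H96.FiniteTypeExt Groth.Agent.H96.SupBlowUp

variable {X : Scheme.{u}}

/-- If over the affine open `A` the support of `I` is contained in the support of `F`, then
`F(A) ≤ rad I(A)`. -/
lemma le_radical_of_support (F I : X.IdealSheafData) (A : X.affineOpens)
    (hsupp : ∀ x ∈ A.1, x ∈ I.support → x ∈ F.support) :
    F.ideal A ≤ (I.ideal A).radical := by
  rw [Ideal.radical_eq_sInf]
  refine le_sInf ?_
  rintro J ⟨hIJ, hJ⟩
  have hA : IsAffineOpen A.1 := A.2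
  let p : PrimeSpectrum Γ(X, A.1) := ⟨J, hJ⟩
  have hx : hA.fromSpec p ∈ A.1 := Groth.Agent.H8.fromSpec_mem hA p
  have h1 := Groth.Agent.H8.mem_support_iff_le_primeIdealOf I hA _ hx
  have h2 := Groth.Agent.H8.mem_support_iff_le_primeIdealOf F hA _ hx
  rw [Groth.Agent.H8.primeIdealOf_fromSpec] at h1 h2
  exact h2.mp (hsupp _ hx (h1.mpr hIJ))

/-- A finite type ideal sheaf `F` whose support contains the support of `I` over a quasi-compact
open `T` satisfies `F ^ m ≤ I` over `T` for some `m > 0`. -/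
theorem exists_pow_le_of_support (F I : X.IdealSheafData)
    (hfg : ∀ A : X.affineOpens, (F.ideal A).FG)
    (T : X.Opens) (hT : IsCompact (T : Set X))
    (hsupp : ∀ x ∈ T, x ∈ I.support → x ∈ F.support) :
    ∃ m : ℕ, 0 < m ∧ ∀ A : X.affineOpens, A.1 ≤ T → (F ^ m).ideal A ≤ I.ideal A := by
  classical
  have h1 : ∀ x : T, ∃ (A : X.affineOpens) (m : ℕ), x.1 ∈ A.1 ∧ A.1 ≤ T ∧
      (F.ideal A) ^ m ≤ I.ideal A := by
    intro x
    obtain ⟨_, ⟨A, hA, rfl⟩, hxA, hle⟩ :=
      X.isBasis_affineOpens.exists_subset_of_mem_open x.2 T.2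
    obtain ⟨m, hm⟩ := Ideal.exists_pow_le_of_le_radical_of_fg
      (le_radical_of_support F I ⟨A, hA⟩ (fun y hy => hsupp y (hle hy))) (hfg ⟨A, hA⟩)
    exact ⟨⟨A, hA⟩, m, hxA, hle, hm⟩
  choose A m hxA hAT hm using h1
  obtain ⟨s, hs⟩ := hT.elim_finite_subcover (fun x : T => ((A x).1 : Set X))
    (fun x => (A x).1.2) (fun x hx => Set.mem_iUnion.mpr ⟨⟨x, hx⟩, hxA ⟨x, hx⟩⟩)
  refine ⟨s.sup m + 1, Nat.succ_pos _, fun O hO => ?_⟩
  apply ideal_le_of_forall
  intro x hx
  obtain ⟨i, hi, hxi⟩ : ∃ i ∈ s, x ∈ (A i).1 := by simpa using hs (hO hx)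
  refine ⟨A i, hxi, ?_⟩
  have h2 : m i ≤ s.sup m + 1 := (Finset.le_sup (f := m) hi).trans (Nat.le_succ _)
  change (F.ideal (A i)) ^ (s.sup m + 1) ≤ I.ideal (A i)
  exact (Ideal.pow_le_pow_right h2).trans (hm i)

/-- Inverse images of ideal sheaves commute with powers. -/
lemma comap_pow {Y : Scheme.{u}} (f : Y ⟶ X) (K : X.IdealSheafData) (m : ℕ) :
    (K ^ m).comap f = (K.comap f) ^ m := by
  induction m with
  | zero => rw [pow_zero, pow_zero, one_eq_top, one_eq_top, comap_top]
  | succ n ih => rw [pow_succ, Groth.Agent.H8.comap_mul, ih, pow_succ]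

variable {Y : Scheme.{u}}

/-- If a sum of ideal sheaves is effective Cartier, then locally the sum is principal and equal
to one of the summands. -/
theorem exists_affine_span_eq {ι : Type*} (G : ι → Y.IdealSheafData)
    (h : BlowUp.IsEffCartierIdeal (⨆ i, G i)) (y : Y) :
    ∃ (O : Y.affineOpens) (i : ι) (t : Γ(Y, O.1)), y ∈ O.1 ∧
      (G i).ideal O = Ideal.span {t} ∧ (⨆ i, G i).ideal O = Ideal.span {t} := by
  classical
  obtain ⟨O, hyO, τ, hτ, hI⟩ := h y
  have hsup := ideal_iSup_apply G O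
  have hτmem : τ ∈ ⨆ i, (G i).ideal O := by
    rw [← hsup, hI]
    exact Ideal.mem_span_singleton_self τ
  obtain ⟨a, ha, hsum⟩ := (Submodule.mem_iSup_iff_exists_finsupp _ _).mp hτmem
  have hc : ∀ i, ∃ c, c * τ = a i := fun i => Ideal.mem_span_singleton'.mp (by
    rw [← hI, hsup]
    exact le_iSup (fun i => (G i).ideal O) i (ha i))
  choose c hc using hc
  have h1 : (∑ i ∈ a.support, c i) * τ = 1 * τ := by
    rw [Finset.sum_mul, one_mul]
    conv_rhs => rw [← hsum]
    rw [Finsupp.sum]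
    exact Finset.sum_congr rfl fun i _ => hc i
  have h2 : ∑ i ∈ a.support, c i = 1 := (mul_cancel_right_mem_nonZeroDivisors hτ).mp h1
  have h3 : ∃ i ∈ a.support, y ∈ Y.basicOpen (c i) := by
    by_contra hcon
    push Not at hcon
    have h4 : ∀ i ∈ a.support, (Y.presheaf.germ O.1 y hyO).hom (c i) ∈
        IsLocalRing.maximalIdeal (Y.presheaf.stalk y) := by
      intro i hi
      rw [IsLocalRing.mem_maximalIdeal, mem_nonunits_iff]
      intro hu
      exact hcon i hi ((Y.mem_basicOpen (c i) y hyO).mpr hu)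
    have h5 : (Y.presheaf.germ O.1 y hyO).hom (∑ i ∈ a.support, c i) ∈
        IsLocalRing.maximalIdeal (Y.presheaf.stalk y) := by
      rw [map_sum]
      exact Ideal.sum_mem _ h4
    rw [h2, map_one] at h5
    exact (IsLocalRing.maximalIdeal.isMaximal _).ne_top
      ((Ideal.eq_top_iff_one _).mpr h5)
  obtain ⟨i, hi, hyi⟩ := h3
  set ρ := (Y.presheaf.map (homOfLE (Y.basicOpen_le (c i))).op).hom with hρ
  have hE : (⨆ i, G i).ideal (Y.affineBasicOpen (c i)) = Ideal.span {ρ τ} := by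
    rw [← (⨆ i, G i).map_ideal_basicOpen O (c i), hI, Ideal.map_span, Set.image_singleton]
  refine ⟨Y.affineBasicOpen (c i), i, ρ τ, hyi, le_antisymm ?_ ?_, hE⟩
  · exact (le_iSup G i (Y.affineBasicOpen (c i))).trans hE.le
  · refine (Ideal.span_singleton_le_iff_mem _).mpr ?_
    have hu : IsUnit (ρ (c i)) := RingedSpace.isUnit_res_basicOpen Y.toRingedSpace (c i)
    have h6 : ρ (a i) ∈ (G i).ideal (Y.affineBasicOpen (c i)) := by
      rw [← (G i).map_ideal_basicOpen O (c i)]
      exact Ideal.mem_map_of_mem _ (ha i)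
    rw [← hc i, map_mul] at h6
    exact (Ideal.unit_mul_mem_iff_mem _ hu).mp h6

/-- Sections in the extension of an ideal all of whose members are non-units at `q z` are
non-units at `z`. -/
lemma notMem_basicOpen_of_mem_map {P : Scheme.{u}} (f : P ⟶ Y) (N : Y.Opens) (M : P.Opens)
    (e : M ≤ f ⁻¹ᵁ N) (J : Ideal Γ(Y, N)) (z : P)
    (hJ : ∀ a ∈ J, f z ∉ Y.basicOpen a) (i : Γ(P, M))
    (hi : i ∈ J.map (f.appLE N M e).hom) : z ∉ P.basicOpen i := by
  refine Submodule.span_induction (p := fun s _ => z ∉ P.basicOpen s) ?_ ?_ ?_ ?_ hi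
  · rintro _ ⟨a, ha, rfl⟩ hz
    have h1 : z ∈ M ⊓ f ⁻¹ᵁ (Y.basicOpen a) := by
      rw [← Scheme.basicOpen_appLE]
      exact hz
    exact hJ a ha h1.2
  · rw [Scheme.basicOpen_zero]
    exact fun h => h
  · intro s s' _ _ hs hs' hz
    rcases Scheme.basicOpen_add_le _ s s' hz with h | h
    · exact hs h
    · exact hs' h
  · intro r s _ hs hz
    rw [smul_eq_mul, Scheme.basicOpen_mul] at hz
    exact hs hz.2

/-- The colon ideal `(I : t) = {a | t * a ∈ I}`. -/
def colon1 {A : Type*} [CommRing A] (I : Ideal A) (t : A) : Ideal A :=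
  Submodule.comap (LinearMap.mulLeft A t) I

lemma mem_colon1 {A : Type*} [CommRing A] (I : Ideal A) (t a : A) :
    a ∈ colon1 I t ↔ t * a ∈ I := Iff.rfl

/-- Pure algebra: if `I ≤ (t)`, `t ∈ K` and `K B ≤ I B`, then `φ t = φ t * i` for some `i` in the
extension of the colon ideal `(I : t)`. -/
lemma exists_mul_eq_of_map_le {A B : Type*} [CommRing A] [CommRing B] (φ : A →+* B) (t : A)
    (I K : Ideal A) (hI : I ≤ Ideal.span {t}) (ht : t ∈ K) (hle : K.map φ ≤ I.map φ) :
    ∃ i ∈ (colon1 I t).map φ, φ t * i = φ t := by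
  set I' : Ideal A := colon1 I t with hI'def
  have hI' : ∀ a, a ∈ I' ↔ t * a ∈ I := fun a => Iff.rfl
  have h7 : I.map φ ≤ Ideal.span {φ t} * I'.map φ := by
    rw [Ideal.map_le_iff_le_comap]
    intro x hx
    obtain ⟨a, rfl⟩ := Ideal.mem_span_singleton'.mp (hI hx)
    have ha : a ∈ I' := (hI' a).mpr (by rwa [mul_comm])
    rw [Ideal.mem_comap, map_mul, mul_comm (φ a) (φ t)]
    exact Ideal.mul_mem_mul (Ideal.mem_span_singleton_self _) (Ideal.mem_map_of_mem φ ha)
  have h8 : φ t ∈ Ideal.span {φ t} * I'.map φ := h7 (hle (Ideal.mem_map_of_mem φ ht))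
  obtain ⟨i, hi, hit⟩ := Ideal.mem_span_singleton_mul.mp h8
  exact ⟨i, hi, hit⟩

/-- The geometric heart of the separation argument: if `I ≤ (t)`, `t ∈ K`, `K` and `I` have
comparable extensions along `f.appLE N M`, and no element `a` of the colon ideal `(I : t)` is a
unit at `f z`, then every set `S` having `z` in its closure contains a point `g ∈ M` with
`t` vanishing at `f g`. -/
lemma exists_mem_notMem_basicOpen {P : Scheme.{u}} (f : P ⟶ Y) (N : Y.Opens) (M : P.Opens)
    (e : M ≤ f ⁻¹ᵁ N) (t : Γ(Y, N)) (I K : Ideal Γ(Y, N)) (hI : I ≤ Ideal.span {t})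
    (ht : t ∈ K) (hle : K.map (f.appLE N M e).hom ≤ I.map (f.appLE N M e).hom)
    (z : P) (hzM : z ∈ M) (hcon : ∀ a : Γ(Y, N), f z ∈ Y.basicOpen a → t * a ∉ I)
    (S : Set P) (hzS : z ∈ closure S) :
    ∃ g ∈ S, g ∈ M ∧ f g ∉ Y.basicOpen t := by
  obtain ⟨i, hi, hit⟩ := exists_mul_eq_of_map_le (f.appLE N M e).hom t I K hI ht hle
  have h9 : z ∉ P.basicOpen i :=
    notMem_basicOpen_of_mem_map f N M e (colon1 I t) z
      (fun a ha hza => hcon a hza ((mem_colon1 I t a).mp ha)) i hi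
  have h10 : z ∈ P.basicOpen (1 - i) := by
    have h11 : z ∈ P.basicOpen ((1 - i) + i) := by
      rw [sub_add_cancel, Scheme.basicOpen_one]
      exact hzM
    rcases Scheme.basicOpen_add_le _ _ _ h11 with h | h
    · exact h
    · exact absurd h h9
  obtain ⟨g, hg1, hg2⟩ := mem_closure_iff.mp hzS (P.basicOpen (1 - i))
    (P.basicOpen (1 - i)).2 h10
  have hgM : g ∈ M := P.basicOpen_le _ hg1
  refine ⟨g, hg2, hgM, fun h => ?_⟩
  have h15 : g ∈ M ⊓ f ⁻¹ᵁ (Y.basicOpen t) := ⟨hgM, h⟩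
  rw [← Scheme.basicOpen_appLE f M N e] at h15
  have h13 : g ∈ P.basicOpen ((f.appLE N M e).hom t * (1 - i)) := by
    rw [Scheme.basicOpen_mul]
    exact ⟨h15, hg1⟩
  rw [mul_sub, mul_one, hit, sub_self, Scheme.basicOpen_zero] at h13
  exact h13

/-- Comparison of extended ideals in a commutative square. -/
lemma map_appLE_le_of_comm {X₁ X₂ X₁' P : Scheme.{u}} (q : X₂ ⟶ X₁) (c : X₁' ⟶ X₁)
    (c₂ : P ⟶ X₂) (q' : P ⟶ X₁') (hcond : c₂ ≫ q = q' ≫ c) (K I : X₁.IdealSheafData)
    (N : X₁'.affineOpens) (O : X₂.affineOpens) (M : P.affineOpens)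
    (hMN : M.1 ≤ q' ⁻¹ᵁ N.1) (hMO : M.1 ≤ c₂ ⁻¹ᵁ O.1)
    (h : (K.comap q).ideal O ≤ (I.comap q).ideal O) :
    ((K.comap c).ideal N).map (q'.appLE N.1 M.1 hMN).hom ≤
      ((I.comap c).ideal N).map (q'.appLE N.1 M.1 hMN).hom := by
  have e1 := Groth.Agent.H19.ComapAff.ideal_comap_appLE q' (K.comap c) N M hMN
  have e2 := Groth.Agent.H19.ComapAff.ideal_comap_appLE q' (I.comap c) N M hMN
  have e3 := Groth.Agent.H19.ComapAff.ideal_comap_appLE c₂ (K.comap q) O M hMO
  have e4 := Groth.Agent.H19.ComapAff.ideal_comap_appLE c₂ (I.comap q) O M hMO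
  have e5 : (K.comap c).comap q' = (K.comap q).comap c₂ := by
    rw [← Scheme.IdealSheafData.comap_comp, ← Scheme.IdealSheafData.comap_comp, hcond]
  have e6 : (I.comap c).comap q' = (I.comap q).comap c₂ := by
    rw [← Scheme.IdealSheafData.comap_comp, ← Scheme.IdealSheafData.comap_comp, hcond]
  rw [← e1, ← e2, e5, e6, e3, e4]
  exact Ideal.map_mono h

end Groth.Agent.H96.NagataSep
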