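import Groth.Agent.H96.NagataSep

/-!
# Separating closures after an admissible blow-up, II (helper96)

Further lemmas in the style of `NagataSep`:

* `map_le_span_mul_colon1`, `exists_mul_one_sub_mem`: algebra of the colon ideal `(I : t)`.
* `exists_affine_span_sup`: binary version of `exists_affine_span_eq`.
* `mem_support_of_notMem_basicOpen`, `notMem_basicOpen_of_mul_mem`: support bookkeeping for a
  locally principal ideal sheaf.
-/

set_option autoImplicit false
set_option linter.style.haveILetI false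
set_option linter.unusedSectionVars false
set_option linter.unusedVariables false
universe u
open CategoryTheory CategoryTheory.Limits AlgebraicGeometry TopologicalSpace Opposite Topology

namespace Groth.Agent.H96.NagataSep

open Scheme.IdealSheafData Groth.Agent.H96.FiniteTypeExt Groth.Agent.H96.SupBlowUp

variable {Y : Scheme.{u}}

/-- If `I ≤ (t)` then `I B ≤ (φ t) · (I : t) B`. -/
lemma map_le_span_mul_colon1 {A B : Type*} [CommRing A] [CommRing B] (φ : A →+* B) (t : A)
    (I : Ideal A) (hI : I ≤ Ideal.span {t}) :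
    I.map φ ≤ Ideal.span {φ t} * (colon1 I t).map φ := by
  rw [Ideal.map_le_iff_le_comap]
  intro x hx
  obtain ⟨a, rfl⟩ := Ideal.mem_span_singleton'.mp (hI hx)
  have ha : a ∈ colon1 I t := (mem_colon1 I t a).mpr (by rwa [mul_comm])
  rw [Ideal.mem_comap, map_mul, mul_comm (φ a) (φ t)]
  exact Ideal.mul_mem_mul (Ideal.mem_span_singleton_self _) (Ideal.mem_map_of_mem φ ha)

/-- If `I ≤ (t)` and `φ t ∈ I² B + Kf`, then `φ t * (1 - j) ∈ Kf` for some `j` in the extension
of the colon ideal `(I : t)`. -/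
lemma exists_mul_one_sub_mem {A B : Type*} [CommRing A] [CommRing B] (φ : A →+* B) (t : A)
    (I : Ideal A) (hI : I ≤ Ideal.span {t}) (Kf : Ideal B)
    (h : φ t ∈ (I * I).map φ ⊔ Kf) :
    ∃ j ∈ (colon1 I t).map φ, φ t * (1 - j) ∈ Kf := by
  obtain ⟨a1, ha1, k, hk, hsum⟩ := Submodule.mem_sup.mp h
  have h1 := map_le_span_mul_colon1 φ t I hI
  have h2 : (I * I).map φ ≤
      Ideal.span {φ t} * ((colon1 I t).map φ * (Ideal.span {φ t} * (colon1 I t).map φ)) := by
    rw [Ideal.map_mul, ← mul_assoc]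
    exact Ideal.mul_mono h1 h1
  obtain ⟨j, hj, hjt⟩ := Ideal.mem_span_singleton_mul.mp (h2 ha1)
  have hle : (colon1 I t).map φ * (Ideal.span {φ t} * (colon1 I t).map φ) ≤
      (colon1 I t).map φ := Ideal.mul_le_left
  refine ⟨j, hle hj, ?_⟩
  have h3 : φ t * (1 - j) = k := by
    rw [mul_sub, mul_one, hjt, ← hsum]
    ring
  rw [h3]
  exact hk

/-- If a sum of two ideal sheaves is effective Cartier, then locally the sum is principal and
equal to one of the summands. -/
theorem exists_affine_span_sup (I J : Y.IdealSheafData)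
    (h : BlowUp.IsEffCartierIdeal (I ⊔ J)) (y : Y) :
    ∃ (N : Y.affineOpens) (t : Γ(Y, N.1)), y ∈ N.1 ∧ (I ⊔ J).ideal N = Ideal.span {t} ∧
      (I.ideal N = Ideal.span {t} ∨ J.ideal N = Ideal.span {t}) := by
  have e : I ⊔ J = ⨆ b : Bool, cond b I J := sup_eq_iSup I J
  rw [e] at h
  obtain ⟨N, b, t, hy, hb, hE⟩ := exists_affine_span_eq (fun b : Bool => cond b I J) h y
  refine ⟨N, t, hy, by rw [e]; exact hE, ?_⟩
  cases b with
  | true => exact Or.inl hb
  | false => exact Or.inr hb

/-- A point of `N` where the generator `t` of `E(N)` is not a unit lies in the support of `E`. -/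
lemma mem_support_of_notMem_basicOpen (E : Y.IdealSheafData) (N : Y.affineOpens)
    (t : Γ(Y, N.1)) (hE : E.ideal N = Ideal.span {t}) (y : Y) (hyN : y ∈ N.1)
    (hy : y ∉ Y.basicOpen t) : y ∈ E.support := by
  rw [Scheme.IdealSheafData.mem_support_iff_of_mem hyN, hE, Scheme.zeroLocus_span,
    Scheme.mem_zeroLocus_iff]
  intro f hf
  rw [Set.mem_singleton_iff] at hf
  subst hf
  exact hy

/-- Let `E(N) = (t)`, and let `S ⊆ supp I` be a set missing `supp E`. If `x` lies in the closure
of `S` and `t * a ∈ I(N)`, then `a` is not a unit at `x`. -/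
lemma notMem_basicOpen_of_mul_mem (E I : Y.IdealSheafData) (N : Y.affineOpens)
    (t : Γ(Y, N.1)) (hE : E.ideal N = Ideal.span {t}) (S : Set Y)
    (hSI : S ⊆ (I.support : Set Y)) (hSE : Disjoint S (E.support : Set Y)) (x : Y)
    (hx : x ∈ closure S) (a : Γ(Y, N.1)) (ha : t * a ∈ I.ideal N) : x ∉ Y.basicOpen a := by
  intro hxa
  obtain ⟨y, hy1, hy2⟩ := mem_closure_iff.mp hx (Y.basicOpen a) (Y.basicOpen a).2 hxa
  have hyN : y ∈ N.1 := Y.basicOpen_le a hy1
  have h1 : y ∈ I.support := hSI hy2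
  rw [Scheme.IdealSheafData.mem_support_iff_of_mem hyN, Scheme.mem_zeroLocus_iff] at h1
  have h2 : y ∉ Y.basicOpen (t * a) := h1 _ ha
  rw [Scheme.basicOpen_mul] at h2
  have h3 : y ∉ Y.basicOpen t := fun h => h2 ⟨h, hy1⟩
  exact Set.disjoint_left.mp hSE hy2 (mem_support_of_notMem_basicOpen E N t hE y hyN h3)

end Groth.Agent.H96.NagataSep
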