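import Groth.Agent.H96.NagataSep2
import Mathlib.RingTheory.Nakayama

/-!
# Separating closures after admissible blow-ups, III (helper96)

* `exists_sub_one_mem_forall_mul_mem`: a Nakayama-type statement for a finite family of elements.
* `nonunitIdeal`: the prime ideal of sections over `M` which are not units at `z ∈ M`.
* `exists_open_forall_notMem_basicOpen`: the local heart of the simultaneous separation argument
  for a finite family of blow-ups.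
-/

set_option autoImplicit false
set_option linter.style.haveILetI false
set_option linter.unusedSectionVars false
set_option linter.unusedVariables false
universe u
open CategoryTheory CategoryTheory.Limits AlgebraicGeometry TopologicalSpace Opposite Topology

namespace Groth.Agent.H96.NagataSep

open Scheme.IdealSheafData Groth.Agent.H96.FiniteTypeExt Groth.Agent.H96.SupBlowUp

/-- Nakayama for a finite family: if every `τ i` lies in `∑ j, (τ j) · A j + 𝔨` with `A j ≤ 𝔞`,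
then some `δ ∈ 1 + 𝔞` multiplies every `τ i` into `𝔨`. -/
lemma exists_sub_one_mem_forall_mul_mem {R : Type*} [CommRing R] {ι : Type*} [Finite ι]
    (τ : ι → R) (A : ι → Ideal R) (𝔞 𝔨 : Ideal R) (hA : ∀ j, A j ≤ 𝔞)
    (h : ∀ i, τ i ∈ (⨆ j, Ideal.span {τ j} * A j) ⊔ 𝔨) :
    ∃ δ : R, δ - 1 ∈ 𝔞 ∧ ∀ i, δ * τ i ∈ 𝔨 := by
  set L : Ideal R := Ideal.span (Set.range τ) with hL
  have hLfg : L.FG := Submodule.fg_span (Set.finite_range τ)
  have h1 : ∀ j, Ideal.span {τ j} * A j ≤ 𝔞 • L := by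
    intro j
    rw [smul_eq_mul, mul_comm]
    exact Ideal.mul_mono (hA j) (Ideal.span_mono (Set.singleton_subset_iff.mpr ⟨j, rfl⟩))
  have h2 : L ≤ 𝔞 • L ⊔ 𝔨 := by
    rw [hL, Ideal.span_le]
    rintro _ ⟨i, rfl⟩
    exact sup_le_sup_right (iSup_le h1) 𝔨 (h i)
  set N : Submodule R (R ⧸ 𝔨) := Submodule.map (Submodule.mkQ 𝔨) L with hN
  have hNfg : N.FG := Submodule.FG.map (Submodule.mkQ 𝔨) hLfg
  have h3 : N ≤ 𝔞 • N := by
    rw [hN, ← Submodule.map_smul'', Submodule.map_le_iff_le_comap]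
    intro x hx
    obtain ⟨y, hy, k, hk, rfl⟩ := Submodule.mem_sup.mp (h2 hx)
    rw [Submodule.mem_comap, map_add]
    have hk0 : (Submodule.mkQ 𝔨) k = 0 := (Submodule.Quotient.mk_eq_zero 𝔨).mpr hk
    rw [hk0, add_zero]
    exact Submodule.mem_map_of_mem hy
  obtain ⟨δ, hδ1, hδ2⟩ :=
    Submodule.exists_sub_one_mem_and_smul_eq_zero_of_fg_of_le_smul 𝔞 N hNfg h3
  refine ⟨δ, hδ1, fun i => ?_⟩
  have h4 : (Submodule.mkQ 𝔨) (τ i) ∈ N :=
    Submodule.mem_map_of_mem (Ideal.subset_span ⟨i, rfl⟩)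
  have h5 := hδ2 _ h4
  rw [← map_smul, smul_eq_mul] at h5
  exact (Submodule.Quotient.mk_eq_zero 𝔨).mp h5

variable {P : Scheme.{u}}

/-- The ideal of sections over `M` which are not units at the point `z ∈ M`. -/
noncomputable def nonunitIdeal (M : P.Opens) (z : P) (hz : z ∈ M) : Ideal Γ(P, M) :=
  Ideal.comap (P.presheaf.germ M z hz).hom (IsLocalRing.maximalIdeal (P.presheaf.stalk z))

lemma mem_nonunitIdeal (M : P.Opens) (z : P) (hz : z ∈ M) (s : Γ(P, M)) :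
    s ∈ nonunitIdeal M z hz ↔ z ∉ P.basicOpen s := by
  rw [nonunitIdeal, Ideal.mem_comap, IsLocalRing.mem_maximalIdeal, mem_nonunits_iff,
    P.mem_basicOpen s z hz]

lemma one_notMem_nonunitIdeal (M : P.Opens) (z : P) (hz : z ∈ M) :
    (1 : Γ(P, M)) ∉ nonunitIdeal M z hz := by
  rw [mem_nonunitIdeal, Scheme.basicOpen_one]
  exact fun h => h hz

lemma mem_basicOpen_of_sub_one_mem (M : P.Opens) (z : P) (hz : z ∈ M) (δ : Γ(P, M))
    (h : δ - 1 ∈ nonunitIdeal M z hz) : z ∈ P.basicOpen δ := by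
  by_contra hcon
  have h1 : δ ∈ nonunitIdeal M z hz := (mem_nonunitIdeal M z hz δ).mpr hcon
  have h2 : (1 : Γ(P, M)) ∈ nonunitIdeal M z hz := by
    have := Ideal.sub_mem _ h1 h
    rwa [sub_sub_cancel] at this
  exact one_notMem_nonunitIdeal M z hz h2

lemma map_le_nonunitIdeal {Y : Scheme.{u}} (f : P ⟶ Y) (N : Y.Opens) (M : P.Opens)
    (e : M ≤ f ⁻¹ᵁ N) (J : Ideal Γ(Y, N)) (z : P) (hz : z ∈ M)
    (hJ : ∀ a ∈ J, f z ∉ Y.basicOpen a) :
    J.map (f.appLE N M e).hom ≤ nonunitIdeal M z hz := fun i hi =>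
  (mem_nonunitIdeal M z hz i).mpr (notMem_basicOpen_of_mem_map f N M e J z hJ i hi)

/-- The local heart of the simultaneous separation argument. -/
theorem exists_open_forall_notMem_basicOpen {ι : Type} [Finite ι] (X' : ι → Scheme.{u})
    (π' : ∀ i, P ⟶ X' i) (N : ∀ i, (X' i).affineOpens) (t : ∀ i, Γ(X' i, (N i).1))
    (K' I' : ∀ i, (X' i).IdealSheafData) (𝔳 : P.IdealSheafData)
    (hK : ∀ i, (K' i).ideal (N i) = Ideal.span {t i})
    (hI : ∀ i, (I' i).ideal (N i) ≤ Ideal.span {t i})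
    (hle : ∀ i, (K' i).comap (π' i) ≤ (⨆ j, (I' j).comap (π' j)) ⊔ 𝔳)
    (z : P) (hzN : ∀ i, π' i z ∈ (N i).1)
    (hcolon : ∀ i, ∀ a : Γ(X' i, (N i).1), t i * a ∈ (I' i).ideal (N i) →
      π' i z ∉ (X' i).basicOpen a) :
    ∃ B : P.Opens, z ∈ B ∧ ∀ w ∈ B, w ∈ 𝔳.support →
      ∀ i, π' i w ∈ (N i).1 ∧ π' i w ∉ (X' i).basicOpen (t i) := by
  classical
  -- a small affine neighbourhood of `z`
  have hz0 : z ∈ (⨅ i, π' i ⁻¹ᵁ (N i).1 : P.Opens) := by
    rw [← SetLike.mem_coe, Opens.coe_iInf]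
    exact Set.mem_iInter.mpr hzN
  obtain ⟨_, ⟨M, hM, rfl⟩, hzM, hMle0⟩ :=
    P.isBasis_affineOpens.exists_subset_of_mem_open hz0 (⨅ i, π' i ⁻¹ᵁ (N i).1 : P.Opens).2
  have hMN : ∀ i, M ≤ π' i ⁻¹ᵁ (N i).1 := fun i x hx => by
    have h1 := hMle0 hx
    rw [Opens.coe_iInf] at h1
    exact Set.mem_iInter.mp h1 i
  set τ : ι → Γ(P, M) := fun i => ((π' i).appLE (N i).1 M (hMN i)).hom (t i) with hτ
  set A : ι → Ideal Γ(P, M) := fun i =>
    (colon1 ((I' i).ideal (N i)) (t i)).map ((π' i).appLE (N i).1 M (hMN i)).hom with hA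
  have hA' : ∀ j, A j ≤ nonunitIdeal M z hzM := fun j =>
    map_le_nonunitIdeal (π' j) (N j).1 M (hMN j) _ z hzM
      (fun a ha hza => hcolon j a ((mem_colon1 _ _ a).mp ha) hza)
  have hmem : ∀ i, τ i ∈ (⨆ j, Ideal.span {τ j} * A j) ⊔ 𝔳.ideal ⟨M, hM⟩ := by
    intro i
    have h1 := hle i ⟨M, hM⟩
    rw [Groth.Agent.H19.ComapAff.ideal_comap_appLE (π' i) (K' i) (N i) ⟨M, hM⟩ (hMN i), hK i,
      Ideal.map_span, Set.image_singleton] at h1
    have h2 : (((⨆ j, (I' j).comap (π' j)) ⊔ 𝔳 : P.IdealSheafData)).ideal ⟨M, hM⟩ =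
        (⨆ j, ((I' j).comap (π' j)).ideal ⟨M, hM⟩) ⊔ 𝔳.ideal ⟨M, hM⟩ := by
      change (⨆ j, (I' j).comap (π' j)).ideal ⟨M, hM⟩ ⊔ 𝔳.ideal ⟨M, hM⟩ = _
      rw [ideal_iSup_apply]
    rw [h2] at h1
    have h3 : (⨆ j, ((I' j).comap (π' j)).ideal ⟨M, hM⟩) ≤ ⨆ j, Ideal.span {τ j} * A j := by
      refine iSup_mono fun j => ?_
      rw [Groth.Agent.H19.ComapAff.ideal_comap_appLE (π' j) (I' j) (N j) ⟨M, hM⟩ (hMN j)]
      exact map_le_span_mul_colon1 _ (t j) _ (hI j)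
    exact sup_le_sup_right h3 _ (h1 (Ideal.mem_span_singleton_self _))
  obtain ⟨δ, hδ1, hδ2⟩ := exists_sub_one_mem_forall_mul_mem τ A (nonunitIdeal M z hzM)
    (𝔳.ideal ⟨M, hM⟩) hA' hmem
  refine ⟨P.basicOpen δ, mem_basicOpen_of_sub_one_mem M z hzM δ hδ1, fun w hw hwv i => ?_⟩
  have hwM : w ∈ M := P.basicOpen_le δ hw
  refine ⟨hMN i hwM, fun hcon => ?_⟩
  rw [Scheme.IdealSheafData.mem_support_iff_of_mem (U := ⟨M, hM⟩) hwM,
    Scheme.mem_zeroLocus_iff] at hwv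
  have h1 := hwv _ (hδ2 i)
  rw [Scheme.basicOpen_mul] at h1
  apply h1
  refine ⟨hw, ?_⟩
  have h2 : w ∈ M ⊓ π' i ⁻¹ᵁ ((X' i).basicOpen (t i)) := ⟨hwM, hcon⟩
  rw [← Scheme.basicOpen_appLE] at h2
  exact h2

end Groth.Agent.H96.NagataSep
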