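import Groth.Agent.H96.NagataSep2

/-!
# Separating closures after a blow-up: first-order variant (helper96)

* `exists_mul_one_sub_mem'`: if `I ≤ (t)` and `φ t ∈ I B + Kf` then `φ t * (1 - j) ∈ Kf` for
  some `j` in the extension of the colon ideal `(I : t)`.
-/

set_option autoImplicit false
set_option linter.style.haveILetI false
set_option linter.unusedSectionVars false
set_option linter.unusedVariables false
universe u
open CategoryTheory CategoryTheory.Limits AlgebraicGeometry TopologicalSpace Opposite Topology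

namespace Groth.Agent.H96.NagataSep

/-- If `I ≤ (t)` and `φ t ∈ I B + Kf`, then `φ t * (1 - j) ∈ Kf` for some `j` in the extension
of the colon ideal `(I : t)`. -/
lemma exists_mul_one_sub_mem' {A B : Type*} [CommRing A] [CommRing B] (φ : A →+* B) (t : A)
    (I : Ideal A) (hI : I ≤ Ideal.span {t}) (Kf : Ideal B)
    (h : φ t ∈ I.map φ ⊔ Kf) :
    ∃ j ∈ (colon1 I t).map φ, φ t * (1 - j) ∈ Kf := by
  obtain ⟨a1, ha1, k, hk, hsum⟩ := Submodule.mem_sup.mp h
  have h1 := map_le_span_mul_colon1 φ t I hI
  obtain ⟨j, hj, hjt⟩ := Ideal.mem_span_singleton_mul.mp (h1 ha1)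
  refine ⟨j, hj, ?_⟩
  have h3 : φ t * (1 - j) = k := by
    rw [mul_sub, mul_one, hjt, ← hsum]
    ring
  rw [h3]
  exact hk

end Groth.Agent.H96.NagataSep
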