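import Mathlib

/-!
# Zariski closures of conjugation orbits of matrices: the semisimple part lies in the closure
-/

set_option autoImplicit false
set_option linter.unusedSectionVars false

namespace Groth.Agent.H96.OrbitCl

open Matrix

variable {k : Type*} [Field k] {n : Type*} [Fintype n] [DecidableEq n]

/-- evaluation of a polynomial in the matrix entries at a matrix -/
noncomputable def ev (M : Matrix n n k) (F : MvPolynomial (n × n) k) : k :=
  MvPolynomial.eval (fun p => M p.1 p.2) F

/-- `C` lies in the Zariski closure of the conjugation orbit of `B`. -/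
def InCl (B C : Matrix n n k) : Prop :=
  ∀ F : MvPolynomial (n × n) k, (∀ A : Matrix n n k, IsUnit A.det → ev (A * B * A⁻¹) F = 0) →
    ev C F = 0

lemma InCl.refl (B : Matrix n n k) : InCl B B := by
  intro F hF
  have := hF 1 (by simp)
  simpa using this

/-- the polynomial `M ↦ F (A M A')` -/
noncomputable def conjF (A A' : Matrix n n k) (F : MvPolynomial (n × n) k) :
    MvPolynomial (n × n) k :=
  MvPolynomial.bind₁ (fun p : n × n => ∑ i, ∑ j,
    MvPolynomial.C (A p.1 i * A' j p.2) * MvPolynomial.X (i, j)) F

lemma ev_conjF (A A' M : Matrix n n k) (F : MvPolynomial (n × n) k) :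
    ev M (conjF A A' F) = ev (A * M * A') F := by
  unfold ev conjF
  change MvPolynomial.eval₂Hom (RingHom.id k) _ (MvPolynomial.bind₁ _ F) =
    MvPolynomial.eval₂Hom (RingHom.id k) _ F
  rw [MvPolynomial.eval₂Hom_bind₁]
  congr 2
  funext p
  simp only [map_sum, map_mul, MvPolynomial.eval₂Hom_C, MvPolynomial.eval₂Hom_X',
    RingHom.id_apply, Matrix.mul_apply, Finset.sum_mul]
  rw [Finset.sum_comm]
  apply Finset.sum_congr rfl
  intro j _
  apply Finset.sum_congr rfl
  intro i _
  ring

lemma InCl.conj {B C : Matrix n n k} (h : InCl B C) (A : Matrix n n k) (hA : IsUnit A.det) :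
    InCl B (A * C * A⁻¹) := by
  intro F hF
  rw [← ev_conjF]
  apply h
  intro A₁ hA₁
  rw [ev_conjF]
  have h1 : A * (A₁ * B * A₁⁻¹) * A⁻¹ = (A * A₁) * B * (A * A₁)⁻¹ := by
    rw [Matrix.mul_inv_rev]
    simp only [Matrix.mul_assoc]
  rw [h1]
  apply hF
  rw [Matrix.det_mul]
  exact hA.mul hA₁

lemma InCl.trans {B C D : Matrix n n k} (h1 : InCl B C) (h2 : InCl C D) : InCl B D := by
  intro F hF
  apply h2
  intro A hA
  exact h1.conj A hA F hF

/-- deformation lemma -/
lemma ev_eq_zero_of_forall_ne_zero [Infinite k] (M₀ M₁ : Matrix n n k)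
    (F : MvPolynomial (n × n) k) (h : ∀ t : k, t ≠ 0 → ev (M₀ + t • M₁) F = 0) : ev M₀ F = 0 := by
  set q : Polynomial k := MvPolynomial.aeval
    (fun p : n × n => Polynomial.C (M₀ p.1 p.2) + Polynomial.X * Polynomial.C (M₁ p.1 p.2)) F with hq
  have hqt : ∀ t : k, Polynomial.eval t q = ev (M₀ + t • M₁) F := by
    intro t
    have h1 : (Polynomial.evalRingHom t).comp
        (MvPolynomial.aeval (fun p : n × n => Polynomial.C (M₀ p.1 p.2) +
          Polynomial.X * Polynomial.C (M₁ p.1 p.2)) : MvPolynomial (n × n) k →ₐ[k] Polynomial k).toRingHom =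
        MvPolynomial.eval (fun p => (M₀ + t • M₁) p.1 p.2) := by
      apply MvPolynomial.ringHom_ext
      · intro c
        simp
      · intro p
        simp
        exact mul_comm _ _
    have h2 := RingHom.congr_fun h1 F
    simpa [ev, hq] using h2
  have hzero : q = 0 := by
    apply Polynomial.eq_zero_of_infinite_isRoot
    apply Set.Infinite.mono (s := ({0} : Set k)ᶜ)
    · intro t ht
      simp only [Set.mem_compl_iff, Set.mem_singleton_iff] at ht
      change Polynomial.eval t q = 0
      rw [hqt]
      exact h t ht
    · exact (Set.finite_singleton (0 : k)).infinite_compl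
  have := hqt 0
  rw [hzero, Polynomial.eval_zero, zero_smul, add_zero] at this
  exact this.symm

lemma InCl.of_deform [Infinite k] (B M₀ M₁ : Matrix n n k)
    (h : ∀ t : k, t ≠ 0 → ∃ A : Matrix n n k, IsUnit A.det ∧ A * B * A⁻¹ = M₀ + t • M₁) :
    InCl B M₀ := by
  intro F hF
  apply ev_eq_zero_of_forall_ne_zero M₀ M₁ F
  intro t ht
  obtain ⟨A, hA, hAB⟩ := h t ht
  rw [← hAB]
  exact hF A hA

/-- main induction -/
theorem inCl_semisimple_part [Infinite k] (m : ℕ) :
    ∀ (S N : Matrix n n k), Module.End.IsSemisimple (Matrix.toLin' S) → Commute S N → N ^ m = 0 →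
      InCl (S + N) S := by
  induction m with
  | zero =>
    intro S N _ _ hN
    rw [pow_zero] at hN
    have : N = 0 := by
      calc N = N * 1 := (mul_one N).symm
        _ = 0 := by rw [hN, mul_zero]
    rw [this, add_zero]
    exact InCl.refl S
  | succ m ih =>
    intro S N hS hSN hN
    by_cases hm1 : m = 0
    · subst hm1
      rw [zero_add, pow_one] at hN
      rw [hN, add_zero]
      exact InCl.refl S
    set fS := Matrix.toLin' S with hfS
    set fN := Matrix.toLin' N with hfN
    have hcomm : Commute fS fN := by
      change fS * fN = fN * fS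
      rw [hfS, hfN, Module.End.mul_eq_comp, Module.End.mul_eq_comp, ← Matrix.toLin'_mul,
        ← Matrix.toLin'_mul, hSN.eq]
    set W : Submodule k (n → k) := LinearMap.ker (fN ^ m) with hW
    have hWinv : W ∈ Module.End.invtSubmodule fS := by
      rw [Module.End.mem_invtSubmodule]
      intro v hv
      rw [Submodule.mem_comap, hW, LinearMap.mem_ker]
      rw [hW, LinearMap.mem_ker] at hv
      have hc : Commute fS (fN ^ m) := hcomm.pow_right m
      have : (fN ^ m) (fS v) = fS ((fN ^ m) v) := by
        rw [← Module.End.mul_apply, ← hc.eq, Module.End.mul_apply]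
      rw [this, hv, map_zero]
    obtain ⟨Q, hQinv, hcompl⟩ := Module.End.isSemisimple_iff.mp hS W hWinv
    set pW : (n → k) →ₗ[k] (n → k) := W.projection Q hcompl with hpW
    have hidem : IsIdempotentElem pW := Submodule.isIdempotentElem_projection hcompl
    have hrange : LinearMap.range pW = W := Submodule.range_projection hcompl
    have hker : LinearMap.ker pW = Q := Submodule.ker_projection hcompl
    have hpS : Commute pW fS := by
      rw [LinearMap.IsIdempotentElem.commute_iff hidem, hrange, hker]
      exact ⟨hWinv, hQinv⟩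
    have hpN : pW ∘ₗ fN = fN := by
      apply LinearMap.ext
      intro v
      rw [LinearMap.comp_apply]
      apply Submodule.projection_apply_of_mem_left
      rw [hW, LinearMap.mem_ker, ← Module.End.mul_apply, ← pow_succ, hfN]
      have : (Matrix.toLin' N) ^ (m + 1) = Matrix.toLin' (N ^ (m + 1)) := by
        rw [Matrix.toLin'_pow]
      rw [this, hN, map_zero, LinearMap.zero_apply]
    have hNp : (fN ^ m) ∘ₗ pW = 0 := by
      apply LinearMap.ext
      intro v
      rw [LinearMap.comp_apply, LinearMap.zero_apply]
      have : pW v ∈ W := Submodule.projection_apply_mem hcompl v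
      rwa [hW, LinearMap.mem_ker] at this
    -- matrices
    set P : Matrix n n k := LinearMap.toMatrix' pW with hP
    have hPlin : Matrix.toLin' P = pW := Matrix.toLin'_toMatrix' pW
    have hPP : P * P = P := by
      apply Matrix.toLin'.injective
      rw [Matrix.toLin'_mul, hPlin]
      exact hidem.eq
    have hSP : S * P = P * S := by
      apply Matrix.toLin'.injective
      rw [Matrix.toLin'_mul, Matrix.toLin'_mul, hPlin]
      exact hpS.eq.symm
    have hPN : P * N = N := by
      apply Matrix.toLin'.injective
      rw [Matrix.toLin'_mul, hPlin]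
      exact hpN
    have hNmP : N ^ m * P = 0 := by
      apply Matrix.toLin'.injective
      rw [Matrix.toLin'_mul, hPlin, Matrix.toLin'_pow, map_zero]
      exact hNp
    set P' : Matrix n n k := 1 - P with hP'
    have hPP' : P * P' = 0 := by rw [hP', mul_sub, mul_one, hPP, sub_self]
    have hP'P : P' * P = 0 := by rw [hP', sub_mul, one_mul, hPP, sub_self]
    have hP'P' : P' * P' = P' := by
      rw [hP']
      simp only [sub_mul, mul_sub, mul_one, one_mul, hPP, sub_self, sub_zero]
    have hP'N : P' * N = 0 := by rw [hP', sub_mul, one_mul, hPN, sub_self]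
    have hSP' : S * P' = P' * S := by rw [hP', mul_sub, sub_mul, mul_one, one_mul, hSP]
    -- step 1: S + N P in closure
    have step1 : InCl (S + N) (S + N * P) := by
      apply InCl.of_deform (S + N) (S + N * P) (N * P')
      intro t ht
      have e2 : (t • P + P') * (t⁻¹ • P + P') = 1 := by
        simp only [add_mul, mul_add, Matrix.smul_mul, Matrix.mul_smul, hPP, hPP', hP'P, hP'P',
          smul_smul, mul_inv_cancel₀ ht, inv_mul_cancel₀ ht, one_smul, smul_zero, add_zero, zero_add]
        rw [hP']
        abel
      refine ⟨t • P + P', Matrix.isUnit_det_of_right_inverse e2, ?_⟩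
      have hinv : (t • P + P')⁻¹ = t⁻¹ • P + P' := Matrix.inv_eq_right_inv e2
      rw [hinv]
      have e1 : (t • P + P') * S = S * (t • P + P') := by
        simp only [add_mul, mul_add, Matrix.smul_mul, Matrix.mul_smul, hSP, hSP']
      have e3 : (t • P + P') * N = t • N := by
        simp only [add_mul, Matrix.smul_mul, hPN, hP'N, add_zero]
      have e4 : (t • P + P') * (S + N) = S * (t • P + P') + t • N := by rw [mul_add, e1, e3]
      rw [e4, add_mul, mul_assoc, e2, mul_one]
      simp only [mul_add, Matrix.smul_mul, Matrix.mul_smul, smul_add, smul_smul,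
        mul_inv_cancel₀ ht, inv_mul_cancel₀ ht, one_smul, add_assoc]
    -- step 2: induction hypothesis for N' = N P
    have hcommN' : Commute S (N * P) := by
      change S * (N * P) = N * P * S
      rw [← mul_assoc, hSN.eq, mul_assoc, hSP, mul_assoc]
    have hpowN' : ∀ j : ℕ, (N * P) ^ (j + 1) = N ^ (j + 1) * P := by
      intro j
      induction j with
      | zero => simp
      | succ j ihj =>
        rw [pow_succ, ihj, mul_assoc, ← mul_assoc P N P, hPN, ← mul_assoc, ← pow_succ]
    have hN'm : (N * P) ^ m = 0 := by
      rcases Nat.eq_zero_or_pos m with hm0 | hmpos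
      · exfalso
        exact hm1 hm0
      · obtain ⟨j, rfl⟩ := Nat.exists_eq_succ_of_ne_zero hmpos.ne'
        rw [hpowN', hNmP]
    exact step1.trans (ih S (N * P) hS hcommN' hN'm)

end Groth.Agent.H96.OrbitCl
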