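import Mathlib
import Groth.Agent.H96.LocalQuot
import Groth.Agent.H96.MonicQuot
import Groth.Agent.H96.PRootIndex
import Groth.Agent.H54.Dim
import Groth.Agent.Lead.RegularLocalization

/-!
# Quotients of a regular local ring by `p`-polynomials `T_i^p + p(…) - f_i` (helper library for
S2473): reduction modulo `𝔪²` to the Artinian case of `PRootIndex`.
-/

set_option autoImplicit false
set_option linter.style.haveILetI false
set_option linter.unusedSectionVars false
set_option linter.unusedVariables false
universe u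

namespace Groth.Agent.H96.PPolyReg

open IsLocalRing TensorProduct KaehlerDifferential

section Poly

variable {A : Type u} [CommRing A] (p : ℕ) {r : ℕ} (c : Fin r → Fin p → A) (f : Fin r → A)

/-- the polynomials `F_i`. -/
noncomputable def F (i : Fin r) : MvPolynomial (Fin r) A :=
  MvPolynomial.X i ^ p + (p : MvPolynomial (Fin r) A) * (Finset.univ.sum fun j : Fin p =>
    if (j : ℕ) = 0 then 0 else MvPolynomial.C (c i j) * MvPolynomial.X i ^ (p - (j : ℕ))) -
    MvPolynomial.C (f i)

open Polynomial in
/-- the lower order part of the one-variable version of `F_i`. -/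
noncomputable def qpoly (i : Fin r) : A[X] :=
  (p : A[X]) * (Finset.univ.sum fun j : Fin p =>
    if (j : ℕ) = 0 then 0 else C (c i j) * X ^ (p - (j : ℕ))) - C (f i)

open Polynomial in
/-- the one-variable version of `F_i`. -/
noncomputable def gpoly (i : Fin r) : A[X] := X ^ p + qpoly p c f i

open Polynomial in
theorem F_eq_aeval (i : Fin r) :
    F p c f i = Polynomial.aeval (MvPolynomial.X i : MvPolynomial (Fin r) A) (gpoly p c f i) := by
  rw [gpoly, qpoly, F, map_add, map_sub, map_mul, map_pow, Polynomial.aeval_X, map_natCast,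
    map_sum, Polynomial.aeval_C, add_sub_assoc]
  congr 3
  refine Finset.sum_congr rfl (fun j _ => ?_)
  split_ifs with h
  · rw [map_zero]
  · rw [map_mul, map_pow, Polynomial.aeval_X, Polynomial.aeval_C]
    rfl

open Polynomial in
theorem degree_qpoly_lt (hp : 0 < p) (i : Fin r) : (qpoly p c f i).degree < p := by
  rw [← Polynomial.mem_degreeLT, qpoly]
  refine Submodule.sub_mem _ ?_ ?_
  · rw [← Polynomial.C_eq_natCast, ← Polynomial.smul_eq_C_mul]
    refine Submodule.smul_mem _ _ (Submodule.sum_mem _ (fun j _ => ?_))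
    split_ifs with h
    · exact Submodule.zero_mem _
    · rw [Polynomial.mem_degreeLT]
      refine lt_of_le_of_lt (Polynomial.degree_C_mul_X_pow_le _ _) ?_
      have : p - (j : ℕ) < p := by omega
      exact_mod_cast this
  · rw [Polynomial.mem_degreeLT]
    refine lt_of_le_of_lt Polynomial.degree_C_le ?_
    exact_mod_cast hp

theorem gpoly_monic (hp : 0 < p) (i : Fin r) : (gpoly p c f i).Monic :=
  Polynomial.monic_X_pow_add (degree_qpoly_lt p c f hp i)

theorem gpoly_natDegree [Nontrivial A] (hp : 0 < p) (i : Fin r) :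
    (gpoly p c f i).natDegree ≠ 0 := by
  have h1 : (gpoly p c f i).degree = p := by
    rw [gpoly, Polynomial.degree_add_eq_left_of_degree_lt, Polynomial.degree_X_pow]
    rw [Polynomial.degree_X_pow]
    exact degree_qpoly_lt p c f hp i
  rw [Polynomial.natDegree_eq_of_degree_eq_some h1]
  exact hp.ne'

end Poly

section QRing

variable (A : Type u) [CommRing A] [IsLocalRing A]

/-- `A/𝔪²`, in the form used by Mathlib's `tensorKaehlerQuotKerSqEquiv`. -/
abbrev Q : Type u := A ⧸ (RingHom.ker (algebraMap A (ResidueField A)) ^ 2)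

theorem ker_eq : RingHom.ker (algebraMap A (ResidueField A)) = maximalIdeal A :=
  IsLocalRing.ker_residue

theorem nontrivial_Q : Nontrivial (Q A) := by
  refine Ideal.Quotient.nontrivial_iff.2 ?_
  rw [ker_eq]
  intro h
  have h1 : maximalIdeal A ^ 2 ≤ maximalIdeal A := Ideal.pow_le_self two_ne_zero
  rw [h] at h1
  exact (maximalIdeal.isMaximal A).ne_top (top_le_iff.1 h1)

theorem isLocalRing_Q : IsLocalRing (Q A) := by
  haveI := nontrivial_Q A
  exact IsLocalRing.of_surjective' (Ideal.Quotient.mk _) Ideal.Quotient.mk_surjective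

theorem maximalIdeal_Q_sq [IsLocalRing (Q A)] : maximalIdeal (Q A) ^ 2 = ⊥ := by
  have h := map_maximalIdeal_of_surjective
    (Ideal.Quotient.mk (RingHom.ker (algebraMap A (ResidueField A)) ^ 2))
    Ideal.Quotient.mk_surjective
  rw [← h, ← Ideal.map_pow, ← ker_eq A]
  exact Ideal.map_quotient_self _

theorem charP_Q [Nontrivial (Q A)] (p : ℕ) [Fact p.Prime] (hp : (p : A) ∈ maximalIdeal A ^ 2) :
    CharP (Q A) p := by
  refine (CharP.charP_iff_prime_eq_zero (Fact.out : p.Prime)).2 ?_
  have h1 : ((p : A) : A) ∈ RingHom.ker (algebraMap A (ResidueField A)) ^ 2 := by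
    rw [ker_eq]; exact hp
  have h2 := Ideal.Quotient.eq_zero_iff_mem.2 h1
  rwa [map_natCast] at h2

end QRing

section Main

open Groth.Agent.H96.PRoot Groth.Agent.H96.PRootIndex

/-- `PRootIndex.finrank_eq_iff` for an arbitrary `ℤ`-algebra instance. -/
theorem finrank_eq_iff' {A : Type u} [CommRing A] [IsLocalRing A] (p : ℕ) [Fact p.Prime]
    [CharP A p] {r : ℕ} (f : Fin r → A) [IsLocalRing (B p f)]
    [IsLocalHom (algebraMap A (B p f))] [IsNoetherianRing A] [inst : Algebra ℤ A] :
    Module.finrank (ResidueField A) (CotangentSpace A) =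
        Module.finrank (ResidueField (B p f)) (CotangentSpace (B p f)) ↔
      LinearIndependent (ResidueField A)
        (fun i => (1 : ResidueField A) ⊗ₜ[A] (D ℤ A (f i))) := by
  obtain rfl : inst = Ring.toIntAlgebra A := Subsingleton.elim _ _
  exact finrank_eq_iff p f

variable {A : Type u} [CommRing A] [IsRegularLocalRing A] (p : ℕ) [Fact p.Prime]
  [CharP (ResidueField A) p] {r : ℕ} (c : Fin r → Fin p → A) (f : Fin r → A)

theorem main (hp : (p : A) ∈ maximalIdeal A ^ 2) :
    IsLocalRing (MvPolynomial (Fin r) A ⧸ Ideal.span (Set.range (F p c f))) ∧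
      (IsRegularRing (MvPolynomial (Fin r) A ⧸ Ideal.span (Set.range (F p c f))) ↔
        LinearIndependent (ResidueField A)
          (fun i => (1 : ResidueField A) ⊗ₜ[A] D ℤ A (f i))) := by
  classical
  have hp0 : 0 < p := (Fact.out : p.Prime).pos
  have hn : RingHom.ker (algebraMap A (ResidueField A)) = maximalIdeal A := ker_eq A
  -- the ring `Q = A/𝔪²`
  haveI : Nontrivial (Q A) := nontrivial_Q A
  haveI : IsLocalRing (Q A) := isLocalRing_Q A
  have hmQ : maximalIdeal (Q A) ^ 2 = ⊥ := maximalIdeal_Q_sq A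
  haveI : CharP (Q A) p := charP_Q A p hp
  let mkQ : A →+* Q A := Ideal.Quotient.mk _
  have hmkQ : Function.Surjective mkQ := Ideal.Quotient.mk_surjective
  let f' : Fin r → Q A := fun i => mkQ (f i)
  -- the Artinian model `B'`
  haveI hlocB' : IsLocalRing (B p f') := isLocalRing_B p f' hmQ
  haveI : IsLocalHom (algebraMap (Q A) (B p f')) := isLocalHom_algebraMap p f' hmQ
  -- the ring `B`
  haveI hint : Algebra.IsIntegral A
      (MvPolynomial (Fin r) A ⧸ Ideal.span (Set.range (F p c f))) :=
    MonicQuot.isIntegral (gpoly p c f) (F p c f) (F_eq_aeval p c f) (gpoly_monic p c f hp0)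
  have hinj : Function.Injective
      (algebraMap A (MvPolynomial (Fin r) A ⧸ Ideal.span (Set.range (F p c f)))) :=
    MonicQuot.injective_algebraMap (gpoly p c f) (F p c f) (F_eq_aeval p c f)
      (gpoly_monic p c f hp0) (gpoly_natDegree p c f hp0)
  have hFG : ∀ i, MvPolynomial.map mkQ (F p c f i) =
      (MvPolynomial.X i ^ p - MvPolynomial.C (f' i) : MvPolynomial (Fin r) (Q A)) := by
    intro i
    rw [F, map_sub, map_add, map_mul, map_pow, MvPolynomial.map_X, map_natCast,
      MvPolynomial.map_C, PRootKaehler.natCast_mvPolynomial p, zero_mul, add_zero]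
  let π := MonicQuot.quotMap mkQ (F p c f)
    (fun i => (MvPolynomial.X i ^ p - MvPolynomial.C (f' i) : MvPolynomial (Fin r) (Q A))) hFG
  have hπs : Function.Surjective π := MonicQuot.quotMap_surjective mkQ hmkQ _ _ hFG
  have hkerπ : RingHom.ker π ≤ (RingHom.ker (algebraMap A (ResidueField A)) ^ 2).map
      (algebraMap A (MvPolynomial (Fin r) A ⧸ Ideal.span (Set.range (F p c f)))) := by
    have := MonicQuot.ker_quotMap_le mkQ hmkQ (F p c f) _ hFG
    rwa [Ideal.mk_ker] at this
  have hjac : (maximalIdeal A).map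
      (algebraMap A (MvPolynomial (Fin r) A ⧸ Ideal.span (Set.range (F p c f)))) ≤
      Ideal.jacobson ⊥ := LocalQuot.map_maximalIdeal_le_jacobson
  have hn2 : RingHom.ker (algebraMap A (ResidueField A)) ^ 2 ≤ maximalIdeal A := by
    rw [hn]; exact Ideal.pow_le_self two_ne_zero
  haveI hlocB : IsLocalRing (MvPolynomial (Fin r) A ⧸ Ideal.span (Set.range (F p c f))) :=
    LocalQuot.isLocalRing_of_surjective_of_ker_le_jacobson π hπs
      (hkerπ.trans ((Ideal.map_mono hn2).trans hjac))
  refine ⟨hlocB, ?_⟩
  haveI : IsNoetherianRing (MvPolynomial (Fin r) A ⧸ Ideal.span (Set.range (F p c f))) :=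
    inferInstance
  have hmB : (maximalIdeal A).map
      (algebraMap A (MvPolynomial (Fin r) A ⧸ Ideal.span (Set.range (F p c f)))) ≤
      maximalIdeal (MvPolynomial (Fin r) A ⧸ Ideal.span (Set.range (F p c f))) := by
    exact hjac.trans (le_of_eq (IsLocalRing.jacobson_eq_maximalIdeal ⊥ bot_ne_top))
  have hker2 : RingHom.ker π ≤
      maximalIdeal (MvPolynomial (Fin r) A ⧸ Ideal.span (Set.range (F p c f))) ^ 2 := by
    refine hkerπ.trans ?_
    rw [Ideal.map_pow, hn]
    exact Ideal.pow_right_mono hmB 2
  have hcotB := LocalQuot.finrank_cotangentSpace_eq_of_ker_le π hπs hker2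
  have hcotA := LocalQuot.finrank_cotangentSpace_eq_of_ker_le mkQ hmkQ
    (by rw [Ideal.mk_ker, hn])
  have hdim : ringKrullDim A =
      ringKrullDim (MvPolynomial (Fin r) A ⧸ Ideal.span (Set.range (F p c f))) :=
    Groth.Agent.H54.ringKrullDim_eq_of_isIntegral_of_injective hinj
  have hregA : (Module.finrank (ResidueField A) (CotangentSpace A) : WithBot ℕ∞) =
      ringKrullDim A := (IsRegularLocalRing.iff_finrank_cotangentSpace A).1 inferInstance
  have h1 : IsRegularRing (MvPolynomial (Fin r) A ⧸ Ideal.span (Set.range (F p c f))) ↔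
      IsRegularLocalRing (MvPolynomial (Fin r) A ⧸ Ideal.span (Set.range (F p c f))) :=
    ⟨fun h => IsRegularLocalRing.of_isRegularRing_of_isLocalRing _,
      fun h => isRegularRing_iff.2
        (fun q _ => Groth.Agent.Lead.RLR.isRegularLocalRing_localization _ q)⟩
  rw [h1, IsRegularLocalRing.iff_finrank_cotangentSpace, ← hdim, ← hregA, Nat.cast_inj, hcotB,
    hcotA, eq_comm, finrank_eq_iff' p f']
  -- compare the two models of the residue field of `Q`
  have hs₁ : Function.Surjective (algebraMap (Q A) (ResidueField (Q A))) :=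
    IsLocalRing.residue_surjective
  have hs₂ : Function.Surjective (algebraMap (Q A) (ResidueField A)) := by
    intro y
    obtain ⟨a, rfl⟩ := IsLocalRing.residue_surjective y
    exact ⟨mkQ a, rfl⟩
  have hk : RingHom.ker (algebraMap (Q A) (ResidueField (Q A))) =
      RingHom.ker (algebraMap (Q A) (ResidueField A)) := by
    rw [ker_eq (Q A)]
    haveI : (RingHom.ker (algebraMap (Q A) (ResidueField A))).IsMaximal :=
      RingHom.ker_isMaximal_of_surjective _ hs₂
    exact (IsLocalRing.eq_maximalIdeal inferInstance).symm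
  rw [LocalQuot.linearIndependent_one_tmul_iff (A := Q A) (k₁ := ResidueField (Q A))
    (k₂ := ResidueField A) hs₁ hs₂ hk (fun i => D ℤ (Q A) (f' i))]
  have hfun : (fun i => (1 : ResidueField A) ⊗ₜ[A] D ℤ A (f i)) =
      (tensorKaehlerQuotKerSqEquiv ℤ A (ResidueField A)).toLinearMap ∘
        (fun i => (1 : ResidueField A) ⊗ₜ[Q A] D ℤ (Q A) (f' i)) := by
    funext i
    exact (tensorKaehlerQuotKerSqEquiv_tmul_D 1 (f i)).symm
  rw [hfun, LinearMap.linearIndependent_iff _ (LinearEquiv.ker _)]

end Main

end Groth.Agent.H96.PPolyReg
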