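import Mathlib

/-!
# Determinants and characteristic polynomials of endomorphisms compatible with a perfect pairing

`B : V × W → K` perfect, `φ`, `ψ` endomorphisms with `B (φ v) (ψ w) = c * B v w`.

* `det_mul_det_of_pairing`: `det ψ * det φ = c ^ dim V`;
* `det_smul_reverse_charpoly_of_pairing`:
  `det φ • reverse (charpoly ψ) = (-1) ^ dim V * (charpoly φ).comp (C c * X)`;
* `finrank_eq_of_isPerfPair`;
* `even_finrank_of_skew`: a perfect skew-symmetric pairing lives on an even-dimensional space.
-/

set_option autoImplicit false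
set_option linter.style.haveILetI false
set_option linter.unusedSectionVars false
set_option linter.unusedVariables false

open Polynomial Matrix

namespace Groth.Agent.H96.PairDet

variable {K V W : Type*} [Field K] [AddCommGroup V] [Module K V] [AddCommGroup W] [Module K W]
  [Module.Finite K V] [Module.Finite K W] (B : V →ₗ[K] W →ₗ[K] K) [B.IsPerfPair]

/-- Dual bases for a perfect pairing. -/
theorem exists_dual_bases :
    ∃ (b : Module.Basis (Fin (Module.finrank K V)) K V)
      (b' : Module.Basis (Fin (Module.finrank K V)) K W),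
      ∀ i j, B (b i) (b' j) = if i = j then 1 else 0 := by
  let b := Module.finBasis K V
  refine ⟨b, b.dualBasis.map B.flip.toPerfPair.symm, fun i j => ?_⟩
  have h1 := LinearMap.apply_symm_toPerfPair_self B.flip (b.dualBasis j)
  have h2 := congrArg (fun ψ => ψ (b i)) h1
  simp only [Module.Basis.map_apply]
  rw [LinearMap.flip_apply] at h2
  rw [h2]
  simp only [Module.Basis.dualBasis_apply_self]

include B in
theorem finrank_eq_of_isPerfPair : Module.finrank K V = Module.finrank K W := by
  obtain ⟨b, b', -⟩ := exists_dual_bases B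
  have := Module.finrank_eq_card_basis b'
  rw [Fintype.card_fin] at this
  exact this.symm

variable (φ : V →ₗ[K] V) (ψ : W →ₗ[K] W) (c : K)

theorem transpose_mul_eq (b : Module.Basis (Fin (Module.finrank K V)) K V)
    (b' : Module.Basis (Fin (Module.finrank K V)) K W)
    (hbb : ∀ i j, B (b i) (b' j) = if i = j then 1 else 0)
    (h : ∀ v w, B (φ v) (ψ w) = c * B v w) :
    (LinearMap.toMatrix b b φ)ᵀ * LinearMap.toMatrix b' b' ψ =
      c • (1 : Matrix (Fin (Module.finrank K V)) (Fin (Module.finrank K V)) K) := by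
  have h1 : LinearMap.toMatrix₂ b b' B = 1 := by
    ext i j
    rw [LinearMap.toMatrix₂_apply, hbb, Matrix.one_apply]
  have h2 : B.compl₁₂ φ ψ = c • B := by
    ext v w
    simp only [LinearMap.compl₁₂_apply, LinearMap.smul_apply, smul_eq_mul]
    exact h v w
  have h3 := LinearMap.toMatrix₂_compl₁₂ b b' b b' B φ ψ
  rw [h1, Matrix.mul_one, h2] at h3
  rw [← h3]
  ext i j
  simp only [LinearMap.toMatrix₂_apply, LinearMap.smul_apply, hbb, Matrix.smul_apply,
    Matrix.one_apply]

theorem det_mul_det_of_pairing (h : ∀ v w, B (φ v) (ψ w) = c * B v w) :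
    LinearMap.det ψ * LinearMap.det φ = c ^ Module.finrank K V := by
  obtain ⟨b, b', hbb⟩ := exists_dual_bases B
  have h1 := congrArg Matrix.det (transpose_mul_eq B φ ψ c b b' hbb h)
  rw [Matrix.det_mul, Matrix.det_transpose, LinearMap.det_toMatrix, LinearMap.det_toMatrix,
    Matrix.det_smul, Matrix.det_one, mul_one, Fintype.card_fin] at h1
  rw [mul_comm]
  exact h1

theorem det_smul_reverse_charpoly_of_pairing (h : ∀ v w, B (φ v) (ψ w) = c * B v w) :
    LinearMap.det φ • (LinearMap.charpoly ψ).reverse =
      (-1 : K[X]) ^ Module.finrank K V * (LinearMap.charpoly φ).comp (C c * X) := by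
  obtain ⟨b, b', hbb⟩ := exists_dual_bases B
  have hAM := transpose_mul_eq B φ ψ c b b' hbb h
  set A := LinearMap.toMatrix b b φ with hA
  set M := LinearMap.toMatrix b' b' ψ with hM
  rw [← LinearMap.charpoly_toMatrix ψ b', ← LinearMap.charpoly_toMatrix φ b,
    ← LinearMap.det_toMatrix b φ, ← hA, ← hM, Matrix.reverse_charpoly, Matrix.charpolyRev]
  -- left side
  have hL : A.det • (1 - (X : K[X]) • M.map C).det =
      (Aᵀ.map C - (C c * X) • (1 : Matrix _ _ K[X])).det := by
    have h1 : (C A.det : K[X]) = (Aᵀ.map C).det := by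
      rw [← Matrix.det_transpose A]
      exact (RingHom.map_det C Aᵀ)
    rw [Polynomial.smul_eq_C_mul, h1, ← Matrix.det_mul]
    congr 1
    rw [Matrix.mul_sub, Matrix.mul_one, Matrix.mul_smul]
    have h2 : Aᵀ.map C * M.map C = (c • (1 : Matrix _ _ K)).map (C : K →+* K[X]) := by
      rw [← hAM, Matrix.map_mul]
    rw [h2]
    congr 1
    refine Matrix.ext fun i j => ?_
    simp only [Matrix.smul_apply, Matrix.map_apply, Matrix.one_apply, smul_eq_mul]
    by_cases hij : i = j
    · simp only [hij, if_true, mul_one]
      ring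
    · simp [hij]
  rw [hL]
  -- right side
  have hR : (A.charpoly).comp (C c * X) =
      ((C c * X) • (1 : Matrix _ _ K[X]) - A.map C).det := by
    rw [Matrix.charpoly, ← Polynomial.coe_compRingHom_apply, RingHom.map_det]
    congr 1
    refine Matrix.ext fun i j => ?_
    simp only [RingHom.mapMatrix_apply, Matrix.map_apply, charmatrix_apply, Matrix.sub_apply,
      Matrix.smul_apply, Matrix.one_apply, smul_eq_mul, Matrix.diagonal_apply]
    by_cases hij : i = j
    · simp [hij]
    · simp [hij]
  rw [hR]
  have h3 : Aᵀ.map C - (C c * X) • (1 : Matrix _ _ K[X]) =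
      -(((C c * X) • (1 : Matrix _ _ K[X]) - A.map C)ᵀ) := by
    rw [Matrix.transpose_sub, Matrix.transpose_smul, Matrix.transpose_one, neg_sub,
      Matrix.transpose_map]
  rw [h3, Matrix.det_neg, Matrix.det_transpose, Fintype.card_fin]

end Groth.Agent.H96.PairDet

namespace Groth.Agent.H96.PairDet

variable {K V : Type*} [Field K] [AddCommGroup V] [Module K V] [Module.Finite K V]

/-- A perfect skew-symmetric pairing lives on an even-dimensional space (`2 ≠ 0`). -/
theorem even_finrank_of_skew (B : V →ₗ[K] V →ₗ[K] K) [B.IsPerfPair] (h2 : (2 : K) ≠ 0)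
    (hskew : ∀ v w, B v w = - B w v) : Even (Module.finrank K V) := by
  obtain ⟨b, b', hbb⟩ := exists_dual_bases B
  set G := LinearMap.toMatrix₂ b b B with hG
  have hGP : G * b.toMatrix b' = 1 := by
    refine Matrix.ext fun i j => ?_
    rw [Matrix.mul_apply, Matrix.one_apply, ← hbb i j]
    conv_rhs => rw [← b.sum_toMatrix_smul_self b' j]
    rw [map_sum]
    refine Finset.sum_congr rfl fun l _ => ?_
    rw [map_smul, smul_eq_mul, mul_comm, hG, LinearMap.toMatrix₂_apply]
  have hdet : G.det ≠ 0 := by
    have := congrArg Matrix.det hGP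
    rw [Matrix.det_mul, Matrix.det_one] at this
    exact left_ne_zero_of_mul_eq_one this
  have hT : Gᵀ = -G := by
    refine Matrix.ext fun i j => ?_
    rw [Matrix.transpose_apply, Matrix.neg_apply, hG, LinearMap.toMatrix₂_apply,
      LinearMap.toMatrix₂_apply]
    exact hskew _ _
  have h3 := Matrix.det_transpose G
  rw [hT, Matrix.det_neg, Fintype.card_fin] at h3
  have h4 : ((-1 : K)) ^ Module.finrank K V = 1 := by
    have : ((-1 : K) ^ Module.finrank K V - 1) * G.det = 0 := by rw [sub_mul, h3, one_mul, sub_self]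
    rcases mul_eq_zero.mp this with h | h
    · exact sub_eq_zero.mp h
    · exact absurd h hdet
  by_contra hodd
  rw [Nat.not_even_iff_odd] at hodd
  rw [hodd.neg_one_pow] at h4
  apply h2
  have : (2 : K) = 1 - (-1) := by ring
  rw [this, h4, sub_self]

end Groth.Agent.H96.PairDet
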