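import Mathlib

set_option autoImplicit false

namespace Groth.Agent.H96.Pairing

/-- positions for `i` -/
def pi (e k : ℕ) : ℕ :=
  if k = 0 then 0 else if k = 1 then e else if k = 2 then 2 * e
  else if (k - 3) % 2 = 0 then (k - 3) / 2 + 1 else (k - 3) / 2 + 1 + e

/-- positions for `j` -/
def pj (e k : ℕ) : ℕ :=
  if k = 0 then e else if k = 1 then 2 * e else if k = 2 then 0
  else if (k - 3) % 2 = 0 then (k - 3) / 2 + 1 + e else (k - 3) / 2 + 1

lemma pi_lt (e k : ℕ) (he : 1 ≤ e) (hk : k < 2 * e + 1) : pi e k < 2 * e + 1 := by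
  unfold pi
  split_ifs <;> omega

lemma pj_lt (e k : ℕ) (he : 1 ≤ e) (hk : k < 2 * e + 1) : pj e k < 2 * e + 1 := by
  unfold pj
  split_ifs <;> omega

lemma pi_inj (e k l : ℕ) (he : 1 ≤ e) (hk : k < 2 * e + 1) (hl : l < 2 * e + 1)
    (h : pi e k = pi e l) : k = l := by
  unfold pi at h
  split_ifs at h <;> omega

lemma pj_inj (e k l : ℕ) (he : 1 ≤ e) (hk : k < 2 * e + 1) (hl : l < 2 * e + 1)
    (h : pj e k = pj e l) : k = l := by
  unfold pj at h
  split_ifs at h <;> omega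

lemma sep (e k : ℕ) (he : 1 ≤ e) (hk : k < 2 * e + 1) :
    pi e k + e ≤ pj e k ∨ pj e k + e ≤ pi e k := by
  unfold pi pj
  split_ifs <;> omega

end Groth.Agent.H96.Pairing
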