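import Mathlib

/-!
# Similitudes of positive definite rational forms: eigenvalue norms
-/

set_option autoImplicit false

namespace Groth.Agent.H96.PosInv

open scoped ComplexConjugate
open Matrix

/-- From `Mᵀ D M = q D` with `D` diagonal invertible, `q ≠ 0`, deduce `M D⁻¹ Mᵀ = q D⁻¹`. -/
lemma dual_similitude {n : Type*} [Fintype n] [DecidableEq n] (M : Matrix n n ℚ) (d : n → ℚ)
    (hd : ∀ i, d i ≠ 0) (q : ℚ) (hq : q ≠ 0)
    (h : M.transpose * Matrix.diagonal d * M = q • Matrix.diagonal d) :
    M * Matrix.diagonal (fun i => (d i)⁻¹) * M.transpose =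
      q • Matrix.diagonal (fun i => (d i)⁻¹) := by
  set D := Matrix.diagonal d with hD
  set D' := Matrix.diagonal (fun i => (d i)⁻¹) with hD'
  have hDD' : D' * D = 1 := by
    rw [hD, hD', Matrix.diagonal_mul_diagonal]
    have : (fun i => (d i)⁻¹ * d i) = fun _ => (1 : ℚ) := by
      funext i; exact inv_mul_cancel₀ (hd i)
    rw [this, Matrix.diagonal_one]
  have hD'D : D * D' = 1 := by
    rw [hD, hD', Matrix.diagonal_mul_diagonal]
    have : (fun i => d i * (d i)⁻¹) = fun _ => (1 : ℚ) := by
      funext i; exact mul_inv_cancel₀ (hd i)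
    rw [this, Matrix.diagonal_one]
  have h1 : (q⁻¹ • (D' * M.transpose * D)) * M = 1 := by
    rw [Matrix.smul_mul, Matrix.mul_assoc, Matrix.mul_assoc, ← Matrix.mul_assoc M.transpose, h,
      Matrix.mul_smul, hDD', smul_smul, inv_mul_cancel₀ hq, one_smul]
  have h2 : M * (q⁻¹ • (D' * M.transpose * D)) = 1 := mul_eq_one_comm.mp h1
  have h3 : M * D' * M.transpose * D = q • (1 : Matrix n n ℚ) := by
    rw [← h2, Matrix.mul_smul, smul_smul, mul_inv_cancel₀ hq, one_smul]
    simp only [Matrix.mul_assoc]
  calc M * D' * M.transpose = M * D' * M.transpose * (D * D') := by rw [hD'D, Matrix.mul_one]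
    _ = (M * D' * M.transpose * D) * D' := by simp only [Matrix.mul_assoc]
    _ = q • D' := by rw [h3, Matrix.smul_mul, Matrix.one_mul]

theorem eigen_norm {V : Type*} [AddCommGroup V] [Module ℚ V] [Module.Finite ℚ V]
    (B : LinearMap.BilinForm ℚ V) (hsymm : B.IsSymm) (hposdef : ∀ x, x ≠ 0 → 0 < B x x)
    (T : V →ₗ[ℚ] V) (q : ℚ) (hq : q ≠ 0) (hT : ∀ x y, B (T x) (T y) = q * B x y)
    (w : V →ₗ[ℚ] ℂ) (hw : w ≠ 0) (lam : ℂ) (hlam : ∀ x, w (T x) = lam * w x) :
    lam * conj lam = (q : ℂ) := by
  classical
  letI : Invertible (2 : ℚ) := invertibleOfNonzero two_ne_zero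
  obtain ⟨e, he⟩ := LinearMap.BilinForm.exists_orthogonal_basis (LinearMap.BilinForm.isSymm_iff.mp hsymm)
  rw [LinearMap.isOrthoᵢ_def] at he
  set d : Fin (Module.finrank ℚ V) → ℚ := fun i => B (e i) (e i) with hd
  have hdpos : ∀ i, 0 < d i := fun i => hposdef _ (e.ne_zero i)
  set M : Matrix (Fin (Module.finrank ℚ V)) (Fin (Module.finrank ℚ V)) ℚ := LinearMap.toMatrix e e T with hM
  have hTe : ∀ j, T (e j) = ∑ i, M i j • e i := by
    intro j
    rw [← e.sum_repr (T (e j))]
    simp [hM, LinearMap.toMatrix_apply]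
  have hBe : ∀ i i', B (e i) (e i') = if i = i' then d i else 0 := by
    intro i i'
    by_cases h : i = i'
    · subst h; simp [hd]
    · simp [h, he i i' h]
  have hstar : M.transpose * Matrix.diagonal d * M = q • Matrix.diagonal d := by
    ext j l
    have h1 := hT (e j) (e l)
    rw [hTe j, hTe l] at h1
    simp only [map_sum, LinearMap.sum_apply, map_smul, LinearMap.smul_apply, smul_eq_mul, hBe] at h1
    simp only [Matrix.mul_apply, Matrix.transpose_apply, Matrix.diagonal_apply, Matrix.smul_apply,
      smul_eq_mul]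
    rw [← h1]
    simp only [mul_ite, mul_zero, Finset.sum_ite_eq, Finset.sum_ite_eq', Finset.mem_univ, if_true]
    apply Finset.sum_congr rfl
    intro i _
    ring
  have hdual := dual_similitude M d (fun i => (hdpos i).ne') q hq hstar
  -- pass to ℂ
  set f : ℚ →+* ℂ := algebraMap ℚ ℂ with hf
  set Mc : Matrix (Fin (Module.finrank ℚ V)) (Fin (Module.finrank ℚ V)) ℂ := M.map f with hMc
  set D'c : Matrix (Fin (Module.finrank ℚ V)) (Fin (Module.finrank ℚ V)) ℂ :=
    Matrix.diagonal (fun i => ((d i)⁻¹ : ℂ)) with hD'c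
  have hdualc : Mc * D'c * Mc.transpose = (q : ℂ) • D'c := by
    have := congrArg (fun X : Matrix _ _ ℚ => X.map f) hdual
    simp only [Matrix.map_mul, Matrix.transpose_map] at this
    rw [hMc, hD'c]
    convert this using 1
    · congr 2
      ext i j
      simp [Matrix.diagonal_apply, hf]
      split_ifs <;> simp
    · ext i j
      simp [Matrix.diagonal_apply, hf]
      split_ifs <;> simp
  set u : Fin (Module.finrank ℚ V) → ℂ := fun j => w (e j) with hu
  set ub : Fin (Module.finrank ℚ V) → ℂ := fun j => conj (w (e j)) with hub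
  have hlamu : lam • u = Mc.transpose *ᵥ u := by
    funext j
    simp only [Pi.smul_apply, smul_eq_mul, hu, Matrix.mulVec, dotProduct, Matrix.transpose_apply, hMc,
      Matrix.map_apply]
    rw [← hlam, hTe, map_sum]
    apply Finset.sum_congr rfl
    intro i _
    rw [map_smul, Rat.smul_def]
    rfl
  have hlamub : conj lam • ub = Mc.transpose *ᵥ ub := by
    funext j
    have := congrArg conj (congrFun hlamu j)
    simp only [Pi.smul_apply, smul_eq_mul, map_mul, Matrix.mulVec, dotProduct, map_sum,
      Matrix.transpose_apply, hMc, Matrix.map_apply] at this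
    simp only [Pi.smul_apply, smul_eq_mul, hub, Matrix.mulVec, dotProduct, Matrix.transpose_apply, hMc,
      Matrix.map_apply]
    rw [show conj lam * conj (w (e j)) = conj lam * conj (u j) from rfl, this]
    apply Finset.sum_congr rfl
    intro i _
    congr 1
    simp [hf]
  set N : ℂ := u ⬝ᵥ (D'c *ᵥ ub) with hN
  have hkey : (lam * conj lam) * N = (q : ℂ) * N := by
    have h1 : (lam • u) ⬝ᵥ (D'c *ᵥ (conj lam • ub)) = (lam * conj lam) * N := by
      rw [Matrix.mulVec_smul, smul_dotProduct, dotProduct_smul, hN]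
      simp only [smul_eq_mul]
      ring
    rw [← h1, hlamu, hlamub]
    rw [Matrix.mulVec_mulVec, Matrix.mulVec_transpose, Matrix.dotProduct_mulVec,
      Matrix.vecMul_vecMul, ← Matrix.dotProduct_mulVec, ← Matrix.mul_assoc, hdualc,
      Matrix.smul_mulVec, dotProduct_smul, smul_eq_mul]
  have hNne : N ≠ 0 := by
    have hNre : N = ((∑ j, Complex.normSq (w (e j)) * ((d j)⁻¹ : ℝ) : ℝ) : ℂ) := by
      rw [hN]
      simp only [dotProduct, Matrix.mulVec, hD'c, Matrix.diagonal_apply, hu, hub]
      push_cast
      apply Finset.sum_congr rfl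
      intro j _
      simp only [ite_mul, zero_mul, Finset.sum_ite_eq, Finset.mem_univ, if_true]
      rw [← Complex.mul_conj]
      ring
    rw [hNre]
    norm_cast
    apply ne_of_gt
    obtain ⟨j0, hj0⟩ : ∃ j, w (e j) ≠ 0 := by
      by_contra hcon
      push Not at hcon
      apply hw
      apply e.ext
      intro i
      simp [hcon i]
    apply Finset.sum_pos'
    · intro j _
      have := hdpos j
      have h2 : (0 : ℝ) < (((d j)⁻¹ : ℚ) : ℝ) := by
        exact_mod_cast inv_pos.mpr this
      exact mul_nonneg (Complex.normSq_nonneg _) h2.le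
    · refine ⟨j0, Finset.mem_univ _, ?_⟩
      have := hdpos j0
      have h2 : (0 : ℝ) < (((d j0)⁻¹ : ℚ) : ℝ) := by
        exact_mod_cast inv_pos.mpr this
      exact mul_pos (Complex.normSq_pos.mpr hj0) h2
  exact mul_right_cancel₀ hNne hkey

theorem main (R : Type*) [Ring R] [Algebra ℚ R] [Module.Finite ℚ R] [StarRing R] [StarModule ℚ R]
    (σ : R →ₗ[ℚ] ℚ) (hpos : ∀ x : R, x ≠ 0 → 0 < σ (x * star x))
    (α : R) (q : ℚ) (hα : α * star α = algebraMap ℚ R q) :
    ∃ hmem : star α ∈ Algebra.adjoin ℚ ({α} : Set R),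
      ∀ ρ : Algebra.adjoin ℚ ({α} : Set R) →ₐ[ℚ] ℂ,
        ρ ⟨star α, hmem⟩ = starRingEnd ℂ (ρ ⟨α, Algebra.self_mem_adjoin_singleton ℚ α⟩) ∧
          ‖ρ ⟨α, Algebra.self_mem_adjoin_singleton ℚ α⟩‖ ^ 2 = (q : ℝ) := by
  classical
  by_cases hα0 : α = 0
  · subst hα0
    refine ⟨by rw [star_zero]; exact Subalgebra.zero_mem _, ?_⟩
    intro ρ
    have hR : Nontrivial R := by
      by_contra hne
      rw [not_nontrivial_iff_subsingleton] at hne
      have h10 : (1 : Algebra.adjoin ℚ ({0} : Set R)) = 0 := Subtype.ext (Subsingleton.elim _ _)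
      have := congrArg ρ h10
      simp at this
    have hq0 : q = 0 := by
      rw [zero_mul] at hα
      exact (algebraMap ℚ R).injective (hα.symm.trans (map_zero _).symm)
    have e1 : (⟨star (0 : R), by rw [star_zero]; exact Subalgebra.zero_mem _⟩ :
        Algebra.adjoin ℚ ({0} : Set R)) = 0 := Subtype.ext (star_zero R)
    have e2 : (⟨(0 : R), Algebra.self_mem_adjoin_singleton ℚ 0⟩ :
        Algebra.adjoin ℚ ({0} : Set R)) = 0 := rfl
    rw [e1, e2, map_zero, map_zero, hq0]
    simp
  · set S := Algebra.adjoin ℚ ({α} : Set R) with hS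
    have hαS : α ∈ S := Algebra.self_mem_adjoin_singleton ℚ α
    have hcomm : ∀ x ∈ S, ∀ y ∈ S, x * y = y * x := by
      intro x hx y hy
      have h1 : Commute α x := Algebra.commute_of_mem_adjoin_self hx
      exact (Algebra.commute_of_mem_adjoin_of_forall_mem_commute hy (by
        intro b hb
        rw [Set.mem_singleton_iff] at hb
        subst hb
        exact h1.symm)).eq
    have hR : Nontrivial R := ⟨⟨α, 0, hα0⟩⟩
    have hσ1 : 0 < σ 1 := by
      have := hpos 1 one_ne_zero
      simpa using this
    have hqpos : 0 < q := by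
      have := hpos α hα0
      rw [hα, Algebra.algebraMap_eq_smul_one, map_smul, smul_eq_mul] at this
      by_contra hq
      push Not at hq
      nlinarith
    let a : S := ⟨α, hαS⟩
    let T : S →ₗ[ℚ] S := LinearMap.mulLeft ℚ a
    have hTapp : ∀ s : S, ((T s : S) : R) = α * (s : R) := fun s => rfl
    have hTinj : Function.Injective T := by
      rw [← LinearMap.ker_eq_bot, LinearMap.ker_eq_bot']
      intro s hs
      have h1 : α * (s : R) = 0 := by rw [← hTapp, hs]; rfl
      have h2 : (s : R) * α = 0 := by rw [← hcomm _ hαS _ s.2]; exact h1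
      have h3 : (s : R) * (α * star α) = 0 := by rw [← mul_assoc, h2, zero_mul]
      rw [hα, Algebra.algebraMap_eq_smul_one, mul_smul_comm, mul_one] at h3
      have := (smul_eq_zero.mp h3).resolve_left hqpos.ne'
      exact Subtype.ext this
    have hTsurj : Function.Surjective T := LinearMap.surjective_of_injective hTinj
    obtain ⟨b, hb⟩ := hTsurj 1
    have hαb : α * (b : R) = 1 := by rw [← hTapp, hb]; rfl
    have hbα : (b : R) * α = 1 := by rw [← hcomm _ hαS _ b.2]; exact hαb
    have hstar : star α = q • (b : R) := by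
      have : (b : R) * (α * star α) = q • (b : R) := by
        rw [hα, Algebra.algebraMap_eq_smul_one, mul_smul_comm, mul_one]
      rw [← this, ← mul_assoc, hbα, one_mul]
    have hmem : star α ∈ S := by rw [hstar]; exact S.smul_mem b.2 q
    refine ⟨hmem, ?_⟩
    have hstarS : ∀ x ∈ S, star x ∈ S := by
      intro x hx
      induction hx using Algebra.adjoin_induction with
      | mem x hx =>
        rw [Set.mem_singleton_iff] at hx
        subst hx
        exact hmem
      | algebraMap r =>
        rw [Algebra.algebraMap_eq_smul_one, star_smul, star_one, star_trivial]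
        exact S.smul_mem S.one_mem r
      | add x y _ _ hx hy => rw [star_add]; exact S.add_mem hx hy
      | mul x y _ _ hx hy => rw [star_mul]; exact S.mul_mem hy hx
    let B : LinearMap.BilinForm ℚ S := LinearMap.mk₂ ℚ
      (fun x y : S => σ ((x : R) * star (y : R)) + σ ((y : R) * star (x : R)))
      (by intro x x' y; simp only [Subalgebra.coe_add, add_mul, star_add, mul_add, map_add]; ring)
      (by
        intro c x y
        simp only [Subalgebra.coe_smul, smul_mul_assoc, star_smul, star_trivial, mul_smul_comm,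
          map_smul, smul_eq_mul]
        ring)
      (by intro x y y'; simp only [Subalgebra.coe_add, add_mul, star_add, mul_add, map_add]; ring)
      (by
        intro c x y
        simp only [Subalgebra.coe_smul, smul_mul_assoc, star_smul, star_trivial, mul_smul_comm,
          map_smul, smul_eq_mul]
        ring)
    have hBapp : ∀ x y : S, B x y = σ ((x : R) * star (y : R)) + σ ((y : R) * star (x : R)) :=
      fun x y => rfl
    have hsymm : B.IsSymm := ⟨fun x y => by rw [hBapp, hBapp, add_comm]⟩
    have hposdef : ∀ x : S, x ≠ 0 → 0 < B x x := by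
      intro x hx
      have hx' : (x : R) ≠ 0 := fun h => hx (Subtype.ext h)
      have := hpos _ hx'
      rw [hBapp]
      linarith
    have hmulq : ∀ x y : R, x ∈ S → y ∈ S → (α * x) * star (α * y) = q • (x * star y) := by
      intro x y hx hy
      have hxy : x * star y ∈ S := S.mul_mem hx (hstarS y hy)
      rw [star_mul, mul_assoc α x, ← mul_assoc x, ← mul_assoc α, hcomm α hαS _ hxy, mul_assoc, hα,
        Algebra.algebraMap_eq_smul_one, mul_smul_comm, mul_one]
    have hT : ∀ x y : S, B (T x) (T y) = q * B x y := by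
      intro x y
      rw [hBapp, hBapp, hTapp, hTapp, hmulq _ _ x.2 y.2, hmulq _ _ y.2 x.2, map_smul, map_smul,
        smul_eq_mul, smul_eq_mul]
      ring
    intro ρ
    have hρ0 : ρ.toLinearMap ≠ 0 := by
      intro h
      have := LinearMap.congr_fun h 1
      simp at this
    have hlam : ∀ x : S, ρ.toLinearMap (T x) = ρ a * ρ.toLinearMap x := by
      intro x
      change ρ (a * x) = ρ a * ρ x
      exact map_mul ρ a x
    have hkey := eigen_norm B hsymm hposdef T q hqpos.ne' hT ρ.toLinearMap hρ0 (ρ a) hlam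
    have hprod : ρ a * ρ ⟨star α, hmem⟩ = (q : ℂ) := by
      rw [← map_mul]
      have : a * (⟨star α, hmem⟩ : S) = algebraMap ℚ S q := Subtype.ext hα
      rw [this, AlgHom.commutes]
      rfl
    have hne : ρ a ≠ 0 := by
      intro h
      rw [h, zero_mul] at hkey
      exact hqpos.ne' (by exact_mod_cast hkey.symm)
    constructor
    · exact mul_left_cancel₀ hne (hprod.trans hkey.symm)
    · rw [Complex.mul_conj, Complex.normSq_eq_norm_sq] at hkey
      have : ((‖ρ a‖ ^ 2 : ℝ) : ℂ) = ((q : ℝ) : ℂ) := by
        rw [hkey]; simp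
      exact Complex.ofReal_injective this

end Groth.Agent.H96.PosInv
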