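import Groth.Prelude.Def_W4c6intromoduliQuartic
import Mathlib.Tactic.Ring
import Mathlib.Tactic.NormNum
import Mathlib.Algebra.Polynomial.Coeff
import Mathlib.Algebra.BigOperators.Fin
import Mathlib.Tactic.LinearCombination
import Mathlib.Tactic.FinCases

set_option autoImplicit false

open Polynomial

namespace Groth.Agent.H96
variable {R : Type*} [CommRing R]

theorem coeff_quartic (a0 a1 a2 a3 a4 : R) :
    let q : R[X] := C a0 + C a1 * X + C a2 * X ^ 2 + C a3 * X ^ 3 + C a4 * X ^ 4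
    q.coeff 0 = a0 ∧ q.coeff 1 = a1 ∧ q.coeff 2 = a2 ∧ q.coeff 3 = a3 ∧ q.coeff 4 = a4 := by
  intro q
  simp only [q, coeff_add, coeff_C_mul, coeff_X_pow, coeff_C, coeff_X]
  norm_num

theorem rootPoly_eq (la mu : Fin 4 → R) :
    W4c6intromoduli.rootPoly la mu =
      (C (mu 0) - C (la 0) * X) * (C (mu 1) - C (la 1) * X) * (C (mu 2) - C (la 2) * X) *
        (C (mu 3) - C (la 3) * X) := by
  unfold W4c6intromoduli.rootPoly
  simp [Fin.prod_univ_four]

theorem rootPoly_eq' (la mu : Fin 4 → R) :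
    W4c6intromoduli.rootPoly la mu =
      C (mu 0 * mu 1 * mu 2 * mu 3)
      + C (-(la 0 * mu 1 * mu 2 * mu 3 + mu 0 * la 1 * mu 2 * mu 3 + mu 0 * mu 1 * la 2 * mu 3 +
          mu 0 * mu 1 * mu 2 * la 3)) * X
      + C (la 0 * la 1 * mu 2 * mu 3 + la 0 * mu 1 * la 2 * mu 3 + la 0 * mu 1 * mu 2 * la 3 +
          mu 0 * la 1 * la 2 * mu 3 + mu 0 * la 1 * mu 2 * la 3 + mu 0 * mu 1 * la 2 * la 3) * X ^ 2
      + C (-(la 0 * la 1 * la 2 * mu 3 + la 0 * la 1 * mu 2 * la 3 + la 0 * mu 1 * la 2 * la 3 +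
          mu 0 * la 1 * la 2 * la 3)) * X ^ 3
      + C (la 0 * la 1 * la 2 * la 3) * X ^ 4 := by
  rw [rootPoly_eq]
  simp only [map_add, map_mul, map_neg]
  ring

theorem quartic_coefs (la mu : Fin 4 → R) :
    W4c6intromoduli.coef la mu 0 = mu 0 * mu 1 * mu 2 * mu 3 ∧
    W4c6intromoduli.coef la mu 1 =
      -(la 0 * mu 1 * mu 2 * mu 3 + mu 0 * la 1 * mu 2 * mu 3 + mu 0 * mu 1 * la 2 * mu 3 +
        mu 0 * mu 1 * mu 2 * la 3) ∧
    W4c6intromoduli.coef la mu 2 =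
      la 0 * la 1 * mu 2 * mu 3 + la 0 * mu 1 * la 2 * mu 3 + la 0 * mu 1 * mu 2 * la 3 +
        mu 0 * la 1 * la 2 * mu 3 + mu 0 * la 1 * mu 2 * la 3 + mu 0 * mu 1 * la 2 * la 3 ∧
    W4c6intromoduli.coef la mu 3 =
      -(la 0 * la 1 * la 2 * mu 3 + la 0 * la 1 * mu 2 * la 3 + la 0 * mu 1 * la 2 * la 3 +
        mu 0 * la 1 * la 2 * la 3) ∧
    W4c6intromoduli.coef la mu 4 = la 0 * la 1 * la 2 * la 3 := by
  unfold W4c6intromoduli.coef
  rw [rootPoly_eq']
  exact coeff_quartic _ _ _ _ _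

theorem quartic_disc_eq (la mu : Fin 4 → R) : W4c6intromoduli.disc la mu =
    (la 1 * mu 0 - la 0 * mu 1) ^ 2 * (la 2 * mu 0 - la 0 * mu 2) ^ 2 *
      (la 3 * mu 0 - la 0 * mu 3) ^ 2 * (la 2 * mu 1 - la 1 * mu 2) ^ 2 *
      (la 3 * mu 1 - la 1 * mu 3) ^ 2 * (la 3 * mu 2 - la 2 * mu 3) ^ 2 := by
  unfold W4c6intromoduli.disc
  have : (Finset.univ.filter fun p : Fin 4 × Fin 4 => p.1 < p.2) =
      {(0,1), (0,2), (0,3), (1,2), (1,3), (2,3)} := by decide
  rw [this]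
  simp [Finset.prod_insert]
  ring

theorem quartic_disc_identity (la mu : Fin 4 → R) :
    27 * W4c6intromoduli.disc la mu =
      4 * W4c6intromoduli.invI (W4c6intromoduli.coef la mu) ^ 3
        - W4c6intromoduli.invJ (W4c6intromoduli.coef la mu) ^ 2 := by
  obtain ⟨h0, h1, h2, h3, h4⟩ := quartic_coefs la mu
  rw [quartic_disc_eq]
  unfold W4c6intromoduli.invI W4c6intromoduli.invJ
  rw [h0, h1, h2, h3, h4]
  generalize la 0 = a0
  generalize la 1 = a1
  generalize la 2 = a2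
  generalize la 3 = a3
  generalize mu 0 = b0
  generalize mu 1 = b1
  generalize mu 2 = b2
  generalize mu 3 = b3
  ring

section ABC

variable {R : Type*} [CommRing R]

/-- bracket -/
def brk (la mu : Fin 4 → R) (i j : Fin 4) : R := la i * mu j - la j * mu i

theorem invI_eq_ABC (la mu : Fin 4 → R) :
    2 * W4c6intromoduli.invI (W4c6intromoduli.coef la mu) =
      (brk la mu 0 1 * brk la mu 2 3) ^ 2 + (brk la mu 0 2 * brk la mu 3 1) ^ 2 +
        (brk la mu 0 3 * brk la mu 1 2) ^ 2 := by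
  obtain ⟨h0, h1, h2, h3, h4⟩ := quartic_coefs la mu
  unfold W4c6intromoduli.invI brk
  rw [h0, h1, h2, h3, h4]
  generalize la 0 = a0
  generalize la 1 = a1
  generalize la 2 = a2
  generalize la 3 = a3
  generalize mu 0 = b0
  generalize mu 1 = b1
  generalize mu 2 = b2
  generalize mu 3 = b3
  ring

theorem invJ_eq_ABC (la mu : Fin 4 → R) :
    W4c6intromoduli.invJ (W4c6intromoduli.coef la mu) =
      (brk la mu 0 1 * brk la mu 2 3 - brk la mu 0 2 * brk la mu 3 1) *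
      (brk la mu 0 2 * brk la mu 3 1 - brk la mu 0 3 * brk la mu 1 2) *
      (brk la mu 0 3 * brk la mu 1 2 - brk la mu 0 1 * brk la mu 2 3) := by
  obtain ⟨h0, h1, h2, h3, h4⟩ := quartic_coefs la mu
  unfold W4c6intromoduli.invJ brk
  rw [h0, h1, h2, h3, h4]
  generalize la 0 = a0
  generalize la 1 = a1
  generalize la 2 = a2
  generalize la 3 = a3
  generalize mu 0 = b0
  generalize mu 1 = b1
  generalize mu 2 = b2
  generalize mu 3 = b3
  ring

theorem ABC_sum (la mu : Fin 4 → R) :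
    brk la mu 0 1 * brk la mu 2 3 + brk la mu 0 2 * brk la mu 3 1 +
      brk la mu 0 3 * brk la mu 1 2 = 0 := by
  unfold brk
  ring

end ABC

end Groth.Agent.H96
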