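import Groth.Agent.H96.Quartic
import Mathlib.Tactic.FieldSimp
import Mathlib.LinearAlgebra.Matrix.Notation
import Mathlib.LinearAlgebra.Matrix.Determinant.Basic
import Mathlib.Algebra.MvPolynomial.CommRing

/-!
# Binary quartics with proportional invariants are `GL₂`-equivalent
-/

set_option autoImplicit false

namespace Groth.Agent.H96.QE

open MvPolynomial W4c6intromoduli

variable {k : Type*} [Field k]

/-- the linear form `m X₀ - l X₁` with root point `(l, m)` -/
noncomputable def lin (l m : k) : MvPolynomial (Fin 2) k := C m * X 0 - C l * X 1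

lemma binForm_eq_prod (la mu : Fin 4 → k) : binForm la mu = ∏ i, lin (la i) (mu i) := rfl

lemma subst_lin (M : Matrix (Fin 2) (Fin 2) k) (l m : k) :
    subst M (lin l m) = lin (l * M 1 1 - m * M 0 1) (m * M 0 0 - l * M 1 0) := by
  unfold subst lin
  simp only [map_sub, map_mul, aeval_C, aeval_X, Fin.sum_univ_two, algebraMap_eq, C_sub, C_mul]
  ring

lemma lin_smul (ν l m : k) : lin (ν * l) (ν * m) = C ν * lin l m := by
  unfold lin
  simp only [C_mul]
  ring

/-- The algebraic identity behind the six-fold cover by the cross-ratio. -/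
lemma sixfold_identity (A B a b : k) :
    (A ^ 2 + B ^ 2 + (A + B) ^ 2) ^ 3 * ((a - b) * (b - (-a - b)) * ((-a - b) - a)) ^ 2 -
      (a ^ 2 + b ^ 2 + (a + b) ^ 2) ^ 3 * ((A - B) * (B - (-A - B)) * ((-A - B) - A)) ^ 2 =
    -216 * ((A * b - B * a) * (A * a - B * b) * (A * (-a - b) - B * a) * (A * a - B * (-a - b)) *
      (A * (-a - b) - B * b) * (A * b - B * (-a - b))) := by
  ring

/-- main lemma: matching cross-ratios give an equivalence -/
theorem equiv_of_cross (la mu la' mu' : Fin 4 → k)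
    (h01 : brk la mu 0 1 ≠ 0) (h20 : brk la mu 2 0 ≠ 0) (h21 : brk la mu 2 1 ≠ 0)
    (h01' : brk la' mu' 0 1 ≠ 0) (h20' : brk la' mu' 2 0 ≠ 0) (h21' : brk la' mu' 2 1 ≠ 0)
    (hne3 : la 3 ≠ 0 ∨ mu 3 ≠ 0) (hne3' : la' 3 ≠ 0 ∨ mu' 3 ≠ 0)
    (hrel : (brk la mu 0 2 * brk la mu 3 1) * (brk la' mu' 0 3 * brk la' mu' 1 2) =
            (brk la mu 0 3 * brk la mu 1 2) * (brk la' mu' 0 2 * brk la' mu' 3 1)) :
    ∃ (M : Matrix (Fin 2) (Fin 2) k) (c : k), IsUnit M.det ∧ c ≠ 0 ∧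
      binForm la' mu' = C c * subst M (binForm la mu) := by
  set α := brk la mu 2 0 * brk la' mu' 2 1 with hα
  set β := brk la mu 2 1 * brk la' mu' 2 0 with hβ
  have hα0 : α ≠ 0 := mul_ne_zero h20 h21'
  have hβ0 : β ≠ 0 := mul_ne_zero h21 h20'
  set N00 := mu 1 * α * la' 0 - mu 0 * β * la' 1 with hN00
  set N01 := -la 1 * α * la' 0 + la 0 * β * la' 1 with hN01
  set N10 := mu 1 * α * mu' 0 - mu 0 * β * mu' 1 with hN10
  set N11 := -la 1 * α * mu' 0 + la 0 * β * mu' 1 with hN11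
  set M : Matrix (Fin 2) (Fin 2) k := !![N11, -N01; -N10, N00] with hM
  have hdet : M.det = brk la mu 0 1 * α * β * brk la' mu' 0 1 := by
    rw [hM, Matrix.det_fin_two_of, hN00, hN01, hN10, hN11]
    unfold brk
    ring
  have hdet0 : M.det ≠ 0 := by
    rw [hdet]
    exact mul_ne_zero (mul_ne_zero (mul_ne_zero h01 hα0) hβ0) h01'
  -- the transformed root points
  set newl : Fin 4 → k := fun i => la i * N00 + mu i * N01 with hnewl
  set newm : Fin 4 → k := fun i => mu i * N11 + la i * N10 with hnewm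
  have hsub : ∀ i, subst M (lin (la i) (mu i)) = lin (newl i) (newm i) := by
    intro i
    rw [subst_lin]
    congr 1
    · simp [hM, hnewl]
    · simp [hM, hnewm]
  have e0 : newl 0 = (brk la mu 0 1 * α) * la' 0 ∧ newm 0 = (brk la mu 0 1 * α) * mu' 0 := by
    constructor
    · simp only [hnewl, hN00, hN01]; unfold brk; ring
    · simp only [hnewm, hN10, hN11]; unfold brk; ring
  have e1 : newl 1 = (brk la mu 0 1 * β) * la' 1 ∧ newm 1 = (brk la mu 0 1 * β) * mu' 1 := by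
    constructor
    · simp only [hnewl, hN00, hN01]; unfold brk; ring
    · simp only [hnewm, hN10, hN11]; unfold brk; ring
  have e2 : newl 2 = (brk la mu 2 0 * brk la mu 2 1 * brk la' mu' 0 1) * la' 2 ∧
      newm 2 = (brk la mu 2 0 * brk la mu 2 1 * brk la' mu' 0 1) * mu' 2 := by
    constructor
    · simp only [hnewl, hN00, hN01, hα, hβ]; unfold brk; ring
    · simp only [hnewm, hN10, hN11, hα, hβ]; unfold brk; ring
  have hdet3 : newl 3 * mu' 3 - newm 3 * la' 3 = 0 := by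
    simp only [hnewl, hnewm, hN00, hN01, hN10, hN11, hα, hβ]
    unfold brk at hrel ⊢
    linear_combination hrel
  have hadj1 : N11 * newl 3 - N01 * newm 3 = M.det * la 3 := by
    rw [hM, Matrix.det_fin_two_of]
    simp only [hnewl, hnewm]
    ring
  have hadj2 : -N10 * newl 3 + N00 * newm 3 = M.det * mu 3 := by
    rw [hM, Matrix.det_fin_two_of]
    simp only [hnewl, hnewm]
    ring
  obtain ⟨ν3, hν3l, hν3m⟩ : ∃ ν3 : k, newl 3 = ν3 * la' 3 ∧ newm 3 = ν3 * mu' 3 := by
    rcases hne3' with hl | hm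
    · refine ⟨newl 3 / la' 3, ?_, ?_⟩
      · field_simp
      · field_simp
        linear_combination -hdet3
    · refine ⟨newm 3 / mu' 3, ?_, ?_⟩
      · field_simp
        linear_combination hdet3
      · field_simp
  have hν3 : ν3 ≠ 0 := by
    rintro rfl
    rw [zero_mul] at hν3l hν3m
    rw [hν3l, hν3m, mul_zero, mul_zero, sub_zero] at hadj1
    rw [hν3l, hν3m, mul_zero, mul_zero, add_zero] at hadj2
    rcases hne3 with hl | hm
    · exact hl ((mul_eq_zero.mp hadj1.symm).resolve_left hdet0)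
    · exact hm ((mul_eq_zero.mp hadj2.symm).resolve_left hdet0)
  set ν : Fin 4 → k := ![brk la mu 0 1 * α, brk la mu 0 1 * β,
    brk la mu 2 0 * brk la mu 2 1 * brk la' mu' 0 1, ν3] with hν
  have hνall : ∀ i, newl i = ν i * la' i ∧ newm i = ν i * mu' i := by
    intro i
    fin_cases i
    · exact e0
    · exact e1
    · exact e2
    · exact ⟨hν3l, hν3m⟩
  have hν0 : ∀ i, ν i ≠ 0 := by
    intro i
    fin_cases i
    · exact mul_ne_zero h01 hα0
    · exact mul_ne_zero h01 hβ0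
    · exact mul_ne_zero (mul_ne_zero h20 h21) h01'
    · exact hν3
  have hprod0 : ∏ i, ν i ≠ 0 := Finset.prod_ne_zero_iff.mpr (fun i _ => hν0 i)
  refine ⟨M, (∏ i, ν i)⁻¹, isUnit_iff_ne_zero.mpr hdet0, inv_ne_zero hprod0, ?_⟩
  have hmain : subst M (binForm la mu) = C (∏ i, ν i) * binForm la' mu' := by
    rw [binForm_eq_prod, binForm_eq_prod, map_prod, map_prod, ← Finset.prod_mul_distrib]
    apply Finset.prod_congr rfl
    intro i _
    rw [hsub, (hνall i).1, (hνall i).2, lin_smul]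
  rw [hmain, ← mul_assoc, ← C_mul, inv_mul_cancel₀ hprod0, C_1, one_mul]

lemma brk_ne_zero_of_disc (la mu : Fin 4 → k) (hd : disc la mu ≠ 0) :
    ∀ i j : Fin 4, i ≠ j → brk la mu i j ≠ 0 := by
  have key : ∀ i j : Fin 4, i < j → brk la mu j i ≠ 0 := by
    intro i j hij
    unfold disc at hd
    have := Finset.prod_ne_zero_iff.mp hd (i, j) (by simp [hij])
    exact pow_ne_zero_iff (two_ne_zero) |>.mp this
  intro i j hij
  rcases lt_or_gt_of_ne hij with h | h
  · have := key i j h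
    intro h0
    apply this
    unfold brk at h0 ⊢
    linear_combination -h0
  · exact key j i h

lemma brk_comp (la mu : Fin 4 → k) (σ : Equiv.Perm (Fin 4)) (i j : Fin 4) :
    brk (la ∘ σ) (mu ∘ σ) i j = brk la mu (σ i) (σ j) := rfl

theorem equiv_of_perm (la mu la' mu' : Fin 4 → k)
    (hb : ∀ i j : Fin 4, i ≠ j → brk la mu i j ≠ 0)
    (hb' : ∀ i j : Fin 4, i ≠ j → brk la' mu' i j ≠ 0)
    (hne : ∀ i, la i ≠ 0 ∨ mu i ≠ 0) (hne' : ∀ i, la' i ≠ 0 ∨ mu' i ≠ 0)
    (σ : Equiv.Perm (Fin 4))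
    (hrel : (brk la mu 0 2 * brk la mu 3 1) *
        (brk la' mu' (σ 0) (σ 3) * brk la' mu' (σ 1) (σ 2)) =
      (brk la mu 0 3 * brk la mu 1 2) * (brk la' mu' (σ 0) (σ 2) * brk la' mu' (σ 3) (σ 1))) :
    ∃ (M : Matrix (Fin 2) (Fin 2) k) (c : k), IsUnit M.det ∧ c ≠ 0 ∧
      binForm la' mu' = C c * subst M (binForm la mu) := by
  have hσ : ∀ i j : Fin 4, i ≠ j → σ i ≠ σ j := fun i j h hσ => h (σ.injective hσ)
  obtain ⟨M, c, hM, hc, hform⟩ := equiv_of_cross la mu (la' ∘ σ) (mu' ∘ σ)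
    (hb 0 1 (by decide)) (hb 2 0 (by decide)) (hb 2 1 (by decide))
    (by rw [brk_comp]; exact hb' _ _ (hσ _ _ (by decide)))
    (by rw [brk_comp]; exact hb' _ _ (hσ _ _ (by decide)))
    (by rw [brk_comp]; exact hb' _ _ (hσ _ _ (by decide)))
    (hne 3) (hne' (σ 3))
    (by simp only [brk_comp]; exact hrel)
  refine ⟨M, c, hM, hc, ?_⟩
  rw [← hform, binForm_eq_prod, binForm_eq_prod]
  exact (Equiv.prod_comp σ (fun i => lin (la' i) (mu' i))).symm

theorem main (h2 : (2 : k) ≠ 0) (h3 : (3 : k) ≠ 0) (la mu la' mu' : Fin 4 → k)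
    (hne : ∀ i, la i ≠ 0 ∨ mu i ≠ 0) (hne' : ∀ i, la' i ≠ 0 ∨ mu' i ≠ 0)
    (hd : disc la mu ≠ 0) (hd' : disc la' mu' ≠ 0)
    (h : invI (coef la mu) ^ 3 * invJ (coef la' mu') ^ 2 =
        invI (coef la' mu') ^ 3 * invJ (coef la mu) ^ 2) :
    ∃ (M : Matrix (Fin 2) (Fin 2) k) (c : k), IsUnit M.det ∧ c ≠ 0 ∧
      binForm la' mu' = C c * subst M (binForm la mu) := by
  have hb := brk_ne_zero_of_disc la mu hd
  have hb' := brk_ne_zero_of_disc la' mu' hd'
  set A := brk la mu 0 1 * brk la mu 2 3 with hA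
  set B := brk la mu 0 2 * brk la mu 3 1 with hB
  set Cc := brk la mu 0 3 * brk la mu 1 2 with hC
  set a := brk la' mu' 0 1 * brk la' mu' 2 3 with ha
  set b := brk la' mu' 0 2 * brk la' mu' 3 1 with hb_
  set c := brk la' mu' 0 3 * brk la' mu' 1 2 with hc
  have hsum : A + B + Cc = 0 := ABC_sum la mu
  have hsum' : a + b + c = 0 := ABC_sum la' mu'
  have hCc : Cc = -A - B := by linear_combination hsum
  have hcc : c = -a - b := by linear_combination hsum'
  have hI := invI_eq_ABC la mu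
  have hJ := invJ_eq_ABC la mu
  have hI' := invI_eq_ABC la' mu'
  have hJ' := invJ_eq_ABC la' mu'
  rw [← hA, ← hB, ← hC] at hI hJ
  rw [← ha, ← hb_, ← hc] at hI' hJ'
  have h8 : (2 * invI (coef la mu)) ^ 3 * invJ (coef la' mu') ^ 2 =
      (2 * invI (coef la' mu')) ^ 3 * invJ (coef la mu) ^ 2 := by
    linear_combination 8 * h
  rw [hI, hJ, hI', hJ', hCc, hcc] at h8
  have hprod : (A * b - B * a) * (A * a - B * b) * (A * (-a - b) - B * a) * (A * a - B * (-a - b)) *
      (A * (-a - b) - B * b) * (A * b - B * (-a - b)) = 0 := by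
    have hid := sixfold_identity A B a b
    have h216 : (216 : k) ≠ 0 := by
      have : (216 : k) = 2 ^ 3 * 3 ^ 3 := by norm_num
      rw [this]
      exact mul_ne_zero (pow_ne_zero _ h2) (pow_ne_zero _ h3)
    have : (-216 : k) * ((A * b - B * a) * (A * a - B * b) * (A * (-a - b) - B * a) *
        (A * a - B * (-a - b)) * (A * (-a - b) - B * b) * (A * b - B * (-a - b))) = 0 := by
      rw [← hid]
      linear_combination h8
    exact (mul_eq_zero.mp this).resolve_left (neg_ne_zero.mpr h216)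
  simp only [mul_eq_zero] at hprod
  rcases hprod with ((((h1 | h1) | h1) | h1) | h1) | h1
  · -- (p, q) = (a, b) : identity
    apply equiv_of_perm la mu la' mu' hb hb' hne hne' (Equiv.refl _)
    simp only [Equiv.refl_apply]
    rw [← hB, ← hC, ← hb_, ← hc, hCc, hcc]
    linear_combination h1
  · -- (p, q) = (b, a)
    apply equiv_of_perm la mu la' mu' hb hb' hne hne' (Equiv.swap (1 : Fin 4) 2)
    have e0 : (Equiv.swap (1 : Fin 4) 2 : Equiv.Perm (Fin 4)) 0 = 0 := by decide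
    have e1 : (Equiv.swap (1 : Fin 4) 2 : Equiv.Perm (Fin 4)) 1 = 2 := by decide
    have e2 : (Equiv.swap (1 : Fin 4) 2 : Equiv.Perm (Fin 4)) 2 = 1 := by decide
    have e3 : (Equiv.swap (1 : Fin 4) 2 : Equiv.Perm (Fin 4)) 3 = 3 := by decide
    rw [e0, e1, e2, e3]
    rw [hA, hB, ha, hb_] at h1
    unfold brk at h1 ⊢
    first | linear_combination h1 | linear_combination -h1
  · -- (p, q) = (a, c)
    apply equiv_of_perm la mu la' mu' hb hb' hne hne' (Equiv.swap (2 : Fin 4) 3)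
    have e0 : (Equiv.swap (2 : Fin 4) 3 : Equiv.Perm (Fin 4)) 0 = 0 := by decide
    have e1 : (Equiv.swap (2 : Fin 4) 3 : Equiv.Perm (Fin 4)) 1 = 1 := by decide
    have e2 : (Equiv.swap (2 : Fin 4) 3 : Equiv.Perm (Fin 4)) 2 = 3 := by decide
    have e3 : (Equiv.swap (2 : Fin 4) 3 : Equiv.Perm (Fin 4)) 3 = 2 := by decide
    rw [e0, e1, e2, e3]
    rw [hA, hB, ha, hb_] at h1
    unfold brk at h1 ⊢
    first | linear_combination h1 | linear_combination -h1
  · -- (p, q) = (c, a)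
    apply equiv_of_perm la mu la' mu' hb hb' hne hne' (Equiv.swap (1 : Fin 4) 2 * Equiv.swap (1 : Fin 4) 3)
    have e0 : (Equiv.swap (1 : Fin 4) 2 * Equiv.swap (1 : Fin 4) 3 : Equiv.Perm (Fin 4)) 0 = 0 := by decide
    have e1 : (Equiv.swap (1 : Fin 4) 2 * Equiv.swap (1 : Fin 4) 3 : Equiv.Perm (Fin 4)) 1 = 3 := by decide
    have e2 : (Equiv.swap (1 : Fin 4) 2 * Equiv.swap (1 : Fin 4) 3 : Equiv.Perm (Fin 4)) 2 = 1 := by decide
    have e3 : (Equiv.swap (1 : Fin 4) 2 * Equiv.swap (1 : Fin 4) 3 : Equiv.Perm (Fin 4)) 3 = 2 := by decide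
    rw [e0, e1, e2, e3]
    rw [hA, hB, ha, hb_] at h1
    unfold brk at h1 ⊢
    first | linear_combination h1 | linear_combination -h1
  · -- (p, q) = (b, c)
    apply equiv_of_perm la mu la' mu' hb hb' hne hne' (Equiv.swap (1 : Fin 4) 3 * Equiv.swap (1 : Fin 4) 2)
    have e0 : (Equiv.swap (1 : Fin 4) 3 * Equiv.swap (1 : Fin 4) 2 : Equiv.Perm (Fin 4)) 0 = 0 := by decide
    have e1 : (Equiv.swap (1 : Fin 4) 3 * Equiv.swap (1 : Fin 4) 2 : Equiv.Perm (Fin 4)) 1 = 2 := by decide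
    have e2 : (Equiv.swap (1 : Fin 4) 3 * Equiv.swap (1 : Fin 4) 2 : Equiv.Perm (Fin 4)) 2 = 3 := by decide
    have e3 : (Equiv.swap (1 : Fin 4) 3 * Equiv.swap (1 : Fin 4) 2 : Equiv.Perm (Fin 4)) 3 = 1 := by decide
    rw [e0, e1, e2, e3]
    rw [hA, hB, ha, hb_] at h1
    unfold brk at h1 ⊢
    first | linear_combination h1 | linear_combination -h1
  · -- (p, q) = (c, b)
    apply equiv_of_perm la mu la' mu' hb hb' hne hne' (Equiv.swap (1 : Fin 4) 3)
    have e0 : (Equiv.swap (1 : Fin 4) 3 : Equiv.Perm (Fin 4)) 0 = 0 := by decide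
    have e1 : (Equiv.swap (1 : Fin 4) 3 : Equiv.Perm (Fin 4)) 1 = 3 := by decide
    have e2 : (Equiv.swap (1 : Fin 4) 3 : Equiv.Perm (Fin 4)) 2 = 2 := by decide
    have e3 : (Equiv.swap (1 : Fin 4) 3 : Equiv.Perm (Fin 4)) 3 = 1 := by decide
    rw [e0, e1, e2, e3]
    rw [hA, hB, ha, hb_] at h1
    unfold brk at h1 ⊢
    first | linear_combination h1 | linear_combination -h1

end Groth.Agent.H96.QE
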