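import Groth.Prelude.Def_W4c6instabfans3FanCvx
import Groth.Agent.H96.FanClosed

/-!
# Integer linear maps `ℤ^k → ℤ^N`: real extension, fibre points, Carathéodory for rational cones
-/

set_option autoImplicit false

open CategoryTheory Opposite Instab

namespace Groth.Agent.H96.RFanCore

open Groth.Agent.H96.ConeCore Groth.Agent.H96.FanCore Groth.Agent.H96.FanBdd
  Groth.Agent.H96.FanTop

variable {k k' N : ℕ}

/-- matrix entries of an integer linear map -/
def lent (L : (Fin k → ℤ) →ₗ[ℤ] (Fin N → ℤ)) (r : Fin N) (i : Fin k) : ℤ :=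
  L (Pi.single i 1) r

lemma L_apply (L : (Fin k → ℤ) →ₗ[ℤ] (Fin N → ℤ)) (x : Fin k → ℤ) (r : Fin N) :
    L x r = ∑ i, lent L r i * x i := by
  have h := LinearMap.pi_apply_eq_sum_univ L x
  rw [h]
  simp only [Finset.sum_apply, Pi.smul_apply, smul_eq_mul, lent]
  apply Finset.sum_congr rfl
  intro i _
  rw [mul_comm]
  have : (fun j => if i = j then (1:ℤ) else 0) = Pi.single i 1 := by
    funext j
    simp [Pi.single_apply, eq_comm]
  rw [this]

/-- the real extension of an integer linear map -/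
def lreal (L : (Fin k → ℤ) →ₗ[ℤ] (Fin N → ℤ)) (v : Fin k → ℝ) : Fin N → ℝ :=
  fun r => ∑ i, (lent L r i : ℝ) * v i

lemma lreal_apply (L : (Fin k → ℤ) →ₗ[ℤ] (Fin N → ℤ)) (v : Fin k → ℝ) (r : Fin N) :
    lreal L v r = ∑ i, (lent L r i : ℝ) * v i := rfl

lemma lreal_smul (L : (Fin k → ℤ) →ₗ[ℤ] (Fin N → ℤ)) (s : ℝ) (v : Fin k → ℝ) :
    lreal L (s • v) = s • lreal L v := by
  funext r
  simp only [lreal_apply, Pi.smul_apply, smul_eq_mul, Finset.mul_sum]
  apply Finset.sum_congr rfl
  intro i _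
  ring

/-- the real extension as a linear map -/
noncomputable def lrealLin (L : (Fin k → ℤ) →ₗ[ℤ] (Fin N → ℤ)) :
    (Fin k → ℝ) →ₗ[ℝ] (Fin N → ℝ) where
  toFun := lreal L
  map_add' x y := by
    funext r
    simp only [lreal_apply, Pi.add_apply, mul_add, Finset.sum_add_distrib]
  map_smul' c x := by
    rw [lreal_smul]
    rfl

lemma lreal_zero (L : (Fin k → ℤ) →ₗ[ℤ] (Fin N → ℤ)) : lreal L 0 = 0 := (lrealLin L).map_zero

lemma lreal_intCast (L : (Fin k → ℤ) →ₗ[ℤ] (Fin N → ℤ)) (x : Fin k → ℤ) :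
    lreal L (fun i => (x i : ℝ)) = fun r => ((L x r : ℤ) : ℝ) := by
  funext r
  rw [lreal_apply, L_apply]
  push_cast
  rfl

lemma lent_comp {m : ℕ} (A : (Fin m → ℤ) →ₗ[ℤ] (Fin k → ℤ)) (L : (Fin k → ℤ) →ₗ[ℤ] (Fin N → ℤ))
    (r : Fin N) (j : Fin m) : lent (L.comp A) r j = ∑ i, lent L r i * lent A i j := by
  unfold lent
  rw [LinearMap.comp_apply, L_apply]
  rfl

lemma lreal_comp {m : ℕ} (A : (Fin m → ℤ) →ₗ[ℤ] (Fin k → ℤ)) (L : (Fin k → ℤ) →ₗ[ℤ] (Fin N → ℤ))
    (v : Fin m → ℝ) : lreal (L.comp A) v = lreal L (lreal A v) := by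
  funext r
  simp only [lreal_apply, lent_comp, Finset.mul_sum]
  push_cast
  simp only [Finset.sum_mul]
  rw [Finset.sum_comm]
  apply Finset.sum_congr rfl
  intro i _
  apply Finset.sum_congr rfl
  intro j _
  ring

lemma lreal_toLin {m n : ICone} (α : m ⟶ n) (v : Fin m.dim → ℝ) :
    lreal α.toLin v = α.realMap v := rfl

/-- an injective integer linear map is injective on real vectors -/
theorem lreal_eq_zero (L : (Fin k → ℤ) →ₗ[ℤ] (Fin N → ℤ)) (hL : Function.Injective L)
    (x : Fin k → ℝ) (hx : lreal L x = 0) : x = 0 := by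
  classical
  let a : Fin N → (Fin k ⊕ Fin k) → ℤ :=
    fun r => Sum.elim (fun i => lent L r i) (fun i => - lent L r i)
  let p : (Fin k ⊕ Fin k) → ℝ := Sum.elim (fun i => max (x i) 0) (fun i => max (- x i) 0)
  have hp0 : ∀ i, 0 ≤ p i := by
    rintro (i | i)
    · exact le_max_right _ _
    · exact le_max_right _ _
  have hsplit : ∀ t : ℝ, max t 0 - max (-t) 0 = t := by
    intro t
    rcases le_total 0 t with h | h
    · rw [max_eq_left h, max_eq_right (by linarith)]; ring
    · rw [max_eq_right h, max_eq_left (by linarith)]; ring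
  have hsol : IsSolR a p := by
    intro r
    rw [Fintype.sum_sum_type]
    have h1 := congr_fun hx r
    rw [lreal_apply, Pi.zero_apply] at h1
    simp only [a, p, Sum.elim_inl, Sum.elim_inr, Int.cast_neg, neg_mul, Finset.sum_neg_distrib]
    rw [← sub_eq_add_neg, ← Finset.sum_sub_distrib]
    refine Eq.trans ?_ h1
    apply Finset.sum_congr rfl
    intro i _
    rw [← mul_sub, hsplit]
  obtain ⟨u, hu0, husol, husupp⟩ := exists_int_sol_full_support a p hp0 hsol
  have heq : L (fun i => u (Sum.inl i)) = L (fun i => u (Sum.inr i)) := by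
    funext r
    rw [L_apply, L_apply]
    have hj := husol r
    rw [Fintype.sum_sum_type] at hj
    simp only [a, Sum.elim_inl, Sum.elim_inr, neg_mul, Finset.sum_neg_distrib] at hj
    linarith
  have heq' := hL heq
  funext i
  have hi : u (Sum.inl i) = u (Sum.inr i) := congr_fun heq' i
  by_contra hne
  change x i ≠ 0 at hne
  rcases lt_or_gt_of_ne hne with hneg | hpos
  · have h1 : p (Sum.inr i) ≠ 0 := by
      simp only [p, Sum.elim_inr]
      rw [max_eq_left (by linarith)]
      linarith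
    have h2 : p (Sum.inl i) = 0 := by
      simp only [p, Sum.elim_inl]
      exact max_eq_right hneg.le
    have h3 := (husupp (Sum.inr i)).mpr h1
    have h4 : u (Sum.inl i) = 0 := by
      by_contra h5
      exact (husupp (Sum.inl i)).mp h5 h2
    exact h3 (hi ▸ h4)
  · have h1 : p (Sum.inl i) ≠ 0 := by
      simp only [p, Sum.elim_inl]
      rw [max_eq_left hpos.le]
      exact hpos.ne'
    have h2 : p (Sum.inr i) = 0 := by
      simp only [p, Sum.elim_inr]
      exact max_eq_right (by linarith)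
    have h3 := (husupp (Sum.inl i)).mpr h1
    have h4 : u (Sum.inr i) = 0 := by
      by_contra h5
      exact (husupp (Sum.inr i)).mp h5 h2
    exact h3 (hi.symm ▸ h4)

lemma ker_lrealLin (L : (Fin k → ℤ) →ₗ[ℤ] (Fin N → ℤ)) (hL : Function.Injective L) :
    LinearMap.ker (lrealLin L) = ⊥ := by
  rw [LinearMap.ker_eq_bot']
  intro x hx
  exact lreal_eq_zero L hL x hx

lemma lreal_injective (L : (Fin k → ℤ) →ₗ[ℤ] (Fin N → ℤ)) (hL : Function.Injective L) :
    Function.Injective (lreal L) :=
  LinearMap.ker_eq_bot.mp (ker_lrealLin L hL)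

theorem isClosedEmbedding_lreal (L : (Fin k → ℤ) →ₗ[ℤ] (Fin N → ℤ)) (hL : Function.Injective L) :
    Topology.IsClosedEmbedding (lreal L) :=
  LinearMap.isClosedEmbedding_of_injective (ker_lrealLin L hL)

lemma continuous_lreal (L : (Fin k → ℤ) →ₗ[ℤ] (Fin N → ℤ)) : Continuous (lreal L) :=
  (lrealLin L).continuous_of_finiteDimensional

/-- **Fibre product of two integer cones at a real point.** -/
theorem exists_fiber_point' {n n' : ICone} (L : (Fin n.dim → ℤ) →ₗ[ℤ] (Fin N → ℤ))
    (L' : (Fin n'.dim → ℤ) →ₗ[ℤ] (Fin N → ℤ))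
    (hL : Function.Injective L) (hL' : Function.Injective L')
    (y : Fin n.dim → ℝ) (y' : Fin n'.dim → ℝ) (hy : ∀ i, 0 ≤ y i) (hy0 : y ≠ 0)
    (hy' : ∀ i, 0 ≤ y' i) (h : lreal L y = lreal L' y') :
    ∃ (m : ICone) (α : m ⟶ n) (β : m ⟶ n') (z : Fan.Orth m),
      L.comp α.toLin = L'.comp β.toLin ∧ α.realMap z.1 = y ∧ β.realMap z.1 = y' := by
  classical
  let a : Fin N → (Fin n.dim ⊕ Fin n'.dim) → ℤ :=
    fun r => Sum.elim (fun i => lent L r i) (fun i => - lent L' r i)
  let p : (Fin n.dim ⊕ Fin n'.dim) → ℝ := Sum.elim y y'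
  have hp0 : ∀ i, 0 ≤ p i := by
    rintro (i | i)
    · exact hy i
    · exact hy' i
  have hsol : IsSolR a p := by
    intro r
    rw [Fintype.sum_sum_type]
    have h1 := congr_fun h r
    rw [lreal_apply, lreal_apply] at h1
    simp only [a, p, Sum.elim_inl, Sum.elim_inr, Int.cast_neg, neg_mul, Finset.sum_neg_distrib]
    rw [h1]
    ring
  obtain ⟨m₀, u, t, hu0, husol, ht, hpt, -, hind⟩ := exists_decomp a _ p rfl hp0 hsol
  have hm₀ : 0 < m₀ := by
    rcases Nat.eq_zero_or_pos m₀ with h0 | h0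
    · exfalso
      subst h0
      apply hy0
      funext i
      have := hpt (Sum.inl i)
      simpa [p] using this
    · exact h0
  obtain ⟨m, rfl⟩ : ∃ m : ICone, (m.dim : ℕ) = m₀ := ⟨⟨⟨m₀, hm₀⟩⟩, rfl⟩
  let A : Fin n.dim → Fin m.dim → ℤ := fun i j => u j (Sum.inl i)
  let B : Fin n'.dim → Fin m.dim → ℤ := fun i j => u j (Sum.inr i)
  have hkey : ∀ c : Fin m.dim → ℤ, L (matLin A c) = L' (matLin B c) := by
    intro c
    funext r
    rw [L_apply, L_apply]
    simp only [matLin_apply, A, B, Finset.mul_sum]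
    rw [Finset.sum_comm]
    conv_rhs => rw [Finset.sum_comm]
    apply Finset.sum_congr rfl
    intro j _
    have hj := husol j r
    rw [Fintype.sum_sum_type] at hj
    simp only [a, Sum.elim_inl, Sum.elim_inr, neg_mul, Finset.sum_neg_distrib] at hj
    have hj' : ∑ i, lent L r i * u j (Sum.inl i) = ∑ i, lent L' r i * u j (Sum.inr i) := by linarith
    calc ∑ i, lent L r i * (u j (Sum.inl i) * c j)
        = (∑ i, lent L r i * u j (Sum.inl i)) * c j := by
          rw [Finset.sum_mul]; apply Finset.sum_congr rfl; intro i _; ring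
      _ = (∑ i, lent L' r i * u j (Sum.inr i)) * c j := by rw [hj']
      _ = ∑ i, lent L' r i * (u j (Sum.inr i) * c j) := by
          rw [Finset.sum_mul]; apply Finset.sum_congr rfl; intro i _; ring
  have hzero : ∀ c : Fin m.dim → ℤ, matLin A c = 0 → matLin B c = 0 → c = 0 := by
    intro c hA hB
    funext j
    apply hind c _ j
    rintro (i | i)
    · have := congr_fun hA i
      rw [matLin_apply] at this
      simp only [A, Pi.zero_apply] at this
      rw [← this]
      apply Finset.sum_congr rfl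
      intro j _
      ring
    · have := congr_fun hB i
      rw [matLin_apply] at this
      simp only [B, Pi.zero_apply] at this
      rw [← this]
      apply Finset.sum_congr rfl
      intro j _
      ring
  have hAinj : Function.Injective (matLin A) := by
    rw [← LinearMap.ker_eq_bot, LinearMap.ker_eq_bot']
    intro c hc
    apply hzero c hc
    apply hL'
    rw [← hkey c, hc, map_zero, map_zero]
  have hBinj : Function.Injective (matLin B) := by
    rw [← LinearMap.ker_eq_bot, LinearMap.ker_eq_bot']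
    intro c hc
    apply hzero c _ hc
    apply hL
    rw [hkey c, hc, map_zero, map_zero]
  let α : m ⟶ n := ofMatrix A (fun i j => hu0 j _) hAinj
  let β : m ⟶ n' := ofMatrix B (fun i j => hu0 j _) hBinj
  have ht0 : t ≠ 0 := by
    intro h0
    have := ht ⟨0, hm₀⟩
    change 0 < (t : Fin m.dim → ℝ) ⟨0, hm₀⟩ at this
    rw [h0] at this
    simp at this
  refine ⟨m, α, β, ⟨t, fun j => (ht j).le, ht0⟩, ?_, ?_, ?_⟩
  · apply LinearMap.ext
    intro c
    exact hkey c
  · funext i
    rw [realMap_apply]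
    have := hpt (Sum.inl i)
    simp only [p, Sum.elim_inl] at this
    rw [this]
    apply Finset.sum_congr rfl
    intro j _
    rw [ent_ofMatrix]
    ring
  · funext i
    rw [realMap_apply]
    have := hpt (Sum.inr i)
    simp only [p, Sum.elim_inr] at this
    rw [this]
    apply Finset.sum_congr rfl
    intro j _
    rw [ent_ofMatrix]
    ring

/-! ## Carathéodory for rational cones -/

/-- an integer vector as a real vector -/
def rv (g : Fin N → ℤ) : Fin N → ℝ := fun j => (g j : ℝ)

/-- the cone spanned by a finite set of integer vectors -/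
def coneOf (s : Finset (Fin N → ℤ)) : Set (Fin N → ℝ) :=
  {x | ∃ c : (Fin N → ℤ) → ℝ, (∀ g, 0 ≤ c g) ∧ x = Finset.sum s fun g => c g • fun j => (g j : ℝ)}

theorem caratheodory_aux (n : ℕ) : ∀ (B : Finset (Fin N → ℤ)) (t : (Fin N → ℤ) → ℝ), B.card = n →
    (∀ g ∈ B, 0 < t g) →
    ∃ B' ⊆ B, LinearIndepOn ℝ (rv (N := N)) (B' : Set (Fin N → ℤ)) ∧ ∃ t' : (Fin N → ℤ) → ℝ,
      (∀ g ∈ B', 0 < t' g) ∧ ∑ g ∈ B, t g • rv g = ∑ g ∈ B', t' g • rv g := by
  classical
  induction n using Nat.strong_induction_on with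
  | _ n ih =>
    intro B t hcard htpos
    by_cases hli : LinearIndepOn ℝ (rv (N := N)) (B : Set (Fin N → ℤ))
    · exact ⟨B, subset_rfl, hli, t, htpos, rfl⟩
    · rw [linearIndepOn_finset_iff] at hli
      push Not at hli
      obtain ⟨f₀, hf₀sum, g₁, hg₁B, hg₁⟩ := hli
      obtain ⟨f, hfsum, g₂, hg₂B, hg₂⟩ : ∃ f : (Fin N → ℤ) → ℝ, ∑ g ∈ B, f g • rv g = 0 ∧
          ∃ g ∈ B, 0 < f g := by
        rcases lt_or_gt_of_ne hg₁ with hneg | hpos
        · refine ⟨fun g => - f₀ g, ?_, g₁, hg₁B, by simpa using hneg⟩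
          simp only [neg_smul, Finset.sum_neg_distrib, hf₀sum, neg_zero]
        · exact ⟨f₀, hf₀sum, g₁, hg₁B, hpos⟩
      have hPne : (B.filter (fun g => 0 < f g)).Nonempty := ⟨g₂, by simp [hg₂B, hg₂]⟩
      obtain ⟨g₀, hg₀P, hmin⟩ := Finset.exists_min_image _ (fun g => t g / f g) hPne
      have hg₀B : g₀ ∈ B := (Finset.mem_filter.mp hg₀P).1
      have hfg₀ : 0 < f g₀ := (Finset.mem_filter.mp hg₀P).2
      set θ : ℝ := t g₀ / f g₀ with hθ
      have hθpos : 0 < θ := div_pos (htpos g₀ hg₀B) hfg₀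
      let t' : (Fin N → ℤ) → ℝ := fun g => t g - θ * f g
      have ht'0 : ∀ g ∈ B, 0 ≤ t' g := by
        intro g hg
        by_cases hfg : 0 < f g
        · have h1 := hmin g (by simp [hg, hfg])
          simp only [t', sub_nonneg]
          calc θ * f g ≤ t g / f g * f g := mul_le_mul_of_nonneg_right h1 hfg.le
            _ = t g := by field_simp
        · have h1 : f g ≤ 0 := not_lt.mp hfg
          have h2 : θ * f g ≤ 0 := mul_nonpos_of_nonneg_of_nonpos hθpos.le h1
          simp only [t']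
          linarith [htpos g hg]
      have ht'g₀ : t' g₀ = 0 := by
        simp only [t', hθ]
        field_simp
        ring
      let B₁ := B.filter (fun g => 0 < t' g)
      have hB₁sub : B₁ ⊆ B := Finset.filter_subset _ _
      have hB₁card : B₁.card < n := by
        rw [← hcard]
        apply Finset.card_lt_card
        refine ⟨hB₁sub, fun hsub => ?_⟩
        have := hsub hg₀B
        simp only [B₁, Finset.mem_filter] at this
        rw [ht'g₀] at this
        exact lt_irrefl _ this.2
      have hsum1 : ∑ g ∈ B, t g • rv g = ∑ g ∈ B, t' g • rv g := by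
        have : ∑ g ∈ B, t' g • rv g = ∑ g ∈ B, t g • rv g - θ • ∑ g ∈ B, f g • rv g := by
          rw [Finset.smul_sum, ← Finset.sum_sub_distrib]
          apply Finset.sum_congr rfl
          intro g _
          simp only [t', sub_smul, mul_smul]
        rw [this, hfsum, smul_zero, sub_zero]
      have hsum2 : ∑ g ∈ B, t' g • rv g = ∑ g ∈ B₁, t' g • rv g := by
        symm
        apply Finset.sum_subset hB₁sub
        intro g hgB hgB₁
        have h1 : ¬ 0 < t' g := fun h => hgB₁ (by simp [B₁, hgB, h])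
        have h2 : t' g = 0 := le_antisymm (not_lt.mp h1) (ht'0 g hgB)
        rw [h2, zero_smul]
      obtain ⟨B', hB'sub, hB'li, t'', ht''pos, hsum3⟩ := ih B₁.card hB₁card B₁ t' rfl
        (fun g hg => (Finset.mem_filter.mp hg).2)
      exact ⟨B', hB'sub.trans hB₁sub, hB'li, t'', ht''pos, by rw [hsum1, hsum2, hsum3]⟩

theorem caratheodory (s : Finset (Fin N → ℤ)) (x : Fin N → ℝ) (hx : x ∈ coneOf s) :
    ∃ B ⊆ s, LinearIndepOn ℝ (rv (N := N)) (B : Set (Fin N → ℤ)) ∧ ∃ t : (Fin N → ℤ) → ℝ,
      (∀ g ∈ B, 0 < t g) ∧ x = ∑ g ∈ B, t g • rv g := by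
  classical
  obtain ⟨c, hc0, rfl⟩ := hx
  let B₀ := s.filter (fun g => 0 < c g)
  have h0 : (Finset.sum s fun g => c g • fun j => (g j : ℝ)) = ∑ g ∈ B₀, c g • rv g := by
    symm
    apply Finset.sum_subset (Finset.filter_subset _ _)
    intro g hgs hgB
    have h1 : ¬ 0 < c g := fun h => hgB (by simp [B₀, hgs, h])
    have h2 : c g = 0 := le_antisymm (not_lt.mp h1) (hc0 g)
    rw [h2, zero_smul]
  obtain ⟨B, hBsub, hBli, t, htpos, hsum⟩ := caratheodory_aux B₀.card B₀ c rfl
    (fun g hg => (Finset.mem_filter.mp hg).2)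
  exact ⟨B, hBsub.trans (Finset.filter_subset _ _), hBli, t, htpos, by rw [h0, hsum]⟩

/-! ## simplicial cones -/

lemma lent_matLin {m : ℕ} (A : Fin N → Fin m → ℤ) (r : Fin N) (i : Fin m) :
    lent (matLin A) r i = A r i := by
  unfold lent
  rw [matLin_apply]
  simp [Pi.single_apply]

lemma coneOf_mono {s s' : Finset (Fin N → ℤ)} (h : s ⊆ s') : coneOf s ⊆ coneOf s' := by
  classical
  rintro x ⟨c, hc, rfl⟩
  refine ⟨fun g => if g ∈ s then c g else 0, fun g => ?_, ?_⟩
  · dsimp only
    split_ifs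
    · exact hc g
    · exact le_rfl
  · symm
    rw [← Finset.sum_subset h]
    · apply Finset.sum_congr rfl
      intro g hg
      simp [hg]
    · intro g _ hg
      simp [hg]

lemma smul_mem_coneOf {s : Finset (Fin N → ℤ)} {x : Fin N → ℝ} (hx : x ∈ coneOf s) {c : ℝ}
    (hc : 0 ≤ c) : c • x ∈ coneOf s := by
  obtain ⟨d, hd, rfl⟩ := hx
  refine ⟨fun g => c * d g, fun g => mul_nonneg hc (hd g), ?_⟩
  rw [Finset.smul_sum]
  apply Finset.sum_congr rfl
  intro g _
  rw [smul_smul]

/-- a linearly independent finite set of integer vectors spans a simplicial cone: the image of the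
orthant under an injective integer linear map -/
theorem exists_simplicial (B : Finset (Fin N → ℤ)) (hB : B.Nonempty)
    (hli : LinearIndepOn ℝ (rv (N := N)) (B : Set (Fin N → ℤ))) :
    ∃ (n : ICone) (L : (Fin n.dim → ℤ) →ₗ[ℤ] (Fin N → ℤ)), Function.Injective L ∧
      lreal L '' {v | ∀ i, 0 ≤ v i} = coneOf B := by
  classical
  obtain ⟨n, hn⟩ : ∃ n : ICone, (n.dim : ℕ) = B.card :=
    ⟨⟨⟨B.card, Finset.card_pos.mpr hB⟩⟩, rfl⟩
  let e : Fin n.dim ≃ B := (finCongr hn).trans B.equivFin.symm
  let b : Fin n.dim → (Fin N → ℤ) := fun i => (e i).1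
  let L : (Fin n.dim → ℤ) →ₗ[ℤ] (Fin N → ℤ) := matLin (fun r i => b i r)
  have hlreal : ∀ v : Fin n.dim → ℝ, lreal L v = ∑ i, v i • rv (b i) := by
    intro v
    funext r
    rw [lreal_apply, Finset.sum_apply]
    apply Finset.sum_congr rfl
    intro i _
    rw [lent_matLin, Pi.smul_apply, smul_eq_mul, mul_comm]
    rfl
  have hsumB : ∀ f : (Fin N → ℤ) → (Fin N → ℝ), ∑ g ∈ B, f g = ∑ i, f (b i) := by
    intro f
    rw [← Finset.sum_coe_sort B f]
    exact (Equiv.sum_comp e (fun x : B => f x.1)).symm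
  have hlib : LinearIndependent ℝ (fun i => rv (b i)) := by
    have h1 : LinearIndependent ℝ (fun x : B => rv (N := N) x.1) := hli
    exact h1.comp e e.injective
  refine ⟨n, L, ?_, ?_⟩
  · rw [← LinearMap.ker_eq_bot, LinearMap.ker_eq_bot']
    intro x hx
    have h1 : lreal L (fun i => (x i : ℝ)) = 0 := by
      rw [lreal_intCast, hx]
      funext r
      simp
    rw [hlreal] at h1
    have h2 := Fintype.linearIndependent_iff.mp hlib (fun i => (x i : ℝ)) h1
    funext i
    exact_mod_cast h2 i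
  · ext x
    constructor
    · rintro ⟨v, hv, rfl⟩
      refine ⟨fun g => if h : g ∈ B then v (e.symm ⟨g, h⟩) else 0, fun g => ?_, ?_⟩
      · dsimp only
        split_ifs
        · exact hv _
        · exact le_rfl
      · rw [hlreal]
        have := hsumB (fun g => (if h : g ∈ B then v (e.symm ⟨g, h⟩) else 0) • rv g)
        change _ = ∑ g ∈ B, (if h : g ∈ B then v (e.symm ⟨g, h⟩) else 0) • rv g
        rw [this]
        apply Finset.sum_congr rfl
        intro i _
        have hbi : b i ∈ B := (e i).2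
        simp only [hbi, dite_true]
        congr 2
        simp [b]
    · rintro ⟨c, hc, rfl⟩
      refine ⟨fun i => c (b i), fun i => hc _, ?_⟩
      rw [hlreal]
      exact (hsumB (fun g => c g • rv g)).symm

lemma isClosed_coneOf_of_linearIndepOn (B : Finset (Fin N → ℤ))
    (hli : LinearIndepOn ℝ (rv (N := N)) (B : Set (Fin N → ℤ))) : IsClosed (coneOf B) := by
  rcases B.eq_empty_or_nonempty with rfl | hB
  · have : coneOf (∅ : Finset (Fin N → ℤ)) = {0} := by
      ext x
      constructor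
      · rintro ⟨c, -, rfl⟩
        simp
      · intro hx
        rw [Set.mem_singleton_iff] at hx
        subst hx
        exact ⟨fun _ => 0, fun _ => le_rfl, by simp⟩
    rw [this]
    exact isClosed_singleton
  · obtain ⟨n, L, hL, himg⟩ := exists_simplicial B hB hli
    rw [← himg]
    exact (isClosedEmbedding_lreal L hL).isClosedMap _ (isClosed_orthant _)

open Classical in
/-- **Carathéodory**: a rational cone is the union of its simplicial subcones -/
theorem coneOf_eq_iUnion (s : Finset (Fin N → ℤ)) :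
    coneOf s = ⋃ B ∈ s.powerset.filter
      (fun B : Finset (Fin N → ℤ) => LinearIndepOn ℝ (rv (N := N)) (B : Set (Fin N → ℤ))),
        coneOf B := by
  classical
  ext x
  simp only [Set.mem_iUnion, Finset.mem_filter, Finset.mem_powerset, exists_prop]
  constructor
  · intro hx
    obtain ⟨B, hBs, hBli, t, htpos, rfl⟩ := caratheodory s x hx
    refine ⟨B, ⟨hBs, hBli⟩, fun g => if g ∈ B then t g else 0, fun g => ?_, ?_⟩
    · dsimp only
      split_ifs with h
      · exact (htpos g h).le
      · exact le_rfl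
    · apply Finset.sum_congr rfl
      intro g hg
      simp only [hg, if_true]
      rfl
  · rintro ⟨B, ⟨hBs, -⟩, hx⟩
    exact coneOf_mono hBs hx

theorem isClosed_coneOf (s : Finset (Fin N → ℤ)) : IsClosed (coneOf s) := by
  classical
  rw [coneOf_eq_iUnion]
  refine isClosed_biUnion_finset fun B hB => ?_
  exact isClosed_coneOf_of_linearIndepOn B (Finset.mem_filter.mp hB).2

end Groth.Agent.H96.RFanCore
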