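import Groth.Prelude.Def_W4c6instabfans3FanCvx
import Groth.Agent.H96.RFanCore

/-!
# The projective realization of the fan `R(K)` of a family of rational polyhedral cones
-/

set_option autoImplicit false

open CategoryTheory Opposite Instab

namespace Groth.Agent.H96.RFanMain

open Groth.Agent.H96.ConeCore Groth.Agent.H96.FanCore Groth.Agent.H96.FanBdd
  Groth.Agent.H96.FanTop Groth.Agent.H96.FanClosed Groth.Agent.H96.RFanCore

variable {N : ℕ} {ι : Type} (K : ι → Set (Fin N → ℝ))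

lemma toVec_eq (n : ICone) (φ : RFan.Cone K n) (v : Fin n.dim → ℝ) :
    RFan.toVec K n φ v = lreal φ.1 v := rfl

lemma toVec_ne_zero (n : ICone) (φ : RFan.Cone K n) (v : Fan.Orth n) :
    RFan.toVec K n φ v.1 ≠ 0 :=
  fun h => v.2.2 (lreal_eq_zero φ.1 φ.2.1 v.1 h)

lemma ray_eq_iff (v w : {v : Fin N → ℝ // v ≠ 0}) :
    (Quot.mk _ v : Fan.Rays N) = Quot.mk _ w ↔ ∃ c : ℝ, 0 < c ∧ w.1 = c • v.1 := by
  have heqv : Equivalence (fun v w : {v : Fin N → ℝ // v ≠ 0} => ∃ c : ℝ, 0 < c ∧ w.1 = c • v.1) := by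
    refine ⟨fun v => ⟨1, one_pos, by rw [one_smul]⟩, ?_, ?_⟩
    · rintro v w ⟨c, hc, h⟩
      refine ⟨c⁻¹, inv_pos.mpr hc, ?_⟩
      rw [h, smul_smul, inv_mul_cancel₀ hc.ne', one_smul]
    · rintro u v w ⟨c, hc, h⟩ ⟨d, hd, h'⟩
      exact ⟨d * c, mul_pos hd hc, by rw [h', h, smul_smul]⟩
  constructor
  · intro h
    exact heqv.eqvGen_iff.mp (Quot.eqvGen_exact h)
  · intro h
    exact Quot.sound h

lemma map_val {k n : ICone} (ψ : k ⟶ n) (ξ : RFan.Cone K n) :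
    ((RFan K).map ψ.op ξ).1 = ξ.1.comp ψ.toLin := rfl

/-- the map on the disjoint union of orthants -/
noncomputable def gpt (p : Fan.Pt (RFan K)) : Fan.Rays N :=
  Quot.mk _ ⟨RFan.toVec K p.1.1 p.1.2 p.2.1, toVec_ne_zero K p.1.1 p.1.2 p.2⟩

lemma gpt_rel (p q : Fan.Pt (RFan K)) (h : Fan.Rel (RFan K) p q) : gpt K p = gpt K q := by
  obtain ⟨ψ, ξ, v, w, c, hc, hw⟩ := h
  apply Quot.sound
  refine ⟨c, hc, ?_⟩
  change RFan.toVec K _ ξ w.1 = c • RFan.toVec K _ ((RFan K).map ψ.op ξ) v.1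
  rw [toVec_eq, toVec_eq, map_val, lreal_comp, hw, lreal_smul]
  rfl

/-- the canonical map to the space of rays -/
noncomputable def g : Fan.P (RFan K) → Fan.Rays N := Quot.lift (gpt K) (gpt_rel K)

lemma g_mk (n : ICone) (φ : RFan.Cone K n) (v : Fan.Orth n) (h : RFan.toVec K n φ v.1 ≠ 0) :
    g K (Fan.P.mk (F := RFan K) φ v) = Quot.mk _ ⟨RFan.toVec K n φ v.1, h⟩ := rfl

lemma continuous_g : Continuous (g K) := by
  apply continuous_quot_lift
  apply continuous_sigma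
  rintro ⟨n, φ⟩
  apply continuous_quot_mk.comp
  apply Continuous.subtype_mk
  exact (continuous_lreal φ.1).comp (continuous_orth_val n)

lemma g_injective : Function.Injective (g K) := by
  intro x x' hxx'
  obtain ⟨n, φ, v, rfl⟩ := exists_rep x
  obtain ⟨n', φ', v', rfl⟩ := exists_rep x'
  rw [g_mk K n φ v (toVec_ne_zero K n φ v), g_mk K n' φ' v' (toVec_ne_zero K n' φ' v')] at hxx'
  obtain ⟨c, hc, h⟩ := (ray_eq_iff _ _).mp hxx'
  change RFan.toVec K n' φ' v'.1 = c • RFan.toVec K n φ v.1 at h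
  rw [toVec_eq, toVec_eq, ← lreal_smul] at h
  have hnn : ∀ i, 0 ≤ (c • v.1) i := fun i => by
    rw [Pi.smul_apply, smul_eq_mul]; exact mul_nonneg hc.le (v.2.1 i)
  have hne : c • v.1 ≠ 0 := by
    intro h0
    rcases smul_eq_zero.mp h0 with h1 | h1
    · exact hc.ne' h1
    · exact v.2.2 h1
  obtain ⟨m, α, β, z, hαβ, hαz, hβz⟩ := exists_fiber_point' φ.1 φ'.1 φ.2.1 φ'.2.1 (c • v.1) v'.1
    hnn hne v'.2.1 h.symm
  have e : (RFan K).map α.op φ = (RFan K).map β.op φ' := Subtype.ext hαβ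
  have h1 : Fan.P.mk (F := RFan K) ((RFan K).map α.op φ) z = Fan.P.mk (F := RFan K) φ v := by
    apply mk_eq_of_glue (F := RFan K) α φ z v c⁻¹ (inv_pos.mpr hc)
    rw [hαz, smul_smul, inv_mul_cancel₀ hc.ne', one_smul]
  have h2 : Fan.P.mk (F := RFan K) ((RFan K).map β.op φ') z = Fan.P.mk (F := RFan K) φ' v' := by
    apply mk_eq_of_glue (F := RFan K) β φ' z v' 1 one_pos
    rw [hβz, one_smul]
  rw [← h1, ← h2, e]

/-! ## using the polyhedral structure of the `K a` -/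

variable {K}

lemma isClosed_K {a : ι} {m : ℕ} {gen : Fin m → Finset (Fin N → ℤ)}
    (h : K a = ⋃ l, coneOf (gen l)) : IsClosed (K a) := by
  rw [h]
  exact isClosed_iUnion_of_finite fun l => isClosed_coneOf _

lemma smul_mem_K {a : ι} {m : ℕ} {gen : Fin m → Finset (Fin N → ℤ)}
    (h : K a = ⋃ l, coneOf (gen l)) {x : Fin N → ℝ} (hx : x ∈ K a) {c : ℝ} (hc : 0 ≤ c) :
    c • x ∈ K a := by
  rw [h] at hx ⊢
  obtain ⟨l, hl⟩ := Set.mem_iUnion.mp hx
  exact Set.mem_iUnion.mpr ⟨l, smul_mem_coneOf hl hc⟩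

/-- real points of a cone of `R(K)` map into the corresponding `K a` -/
lemma toVec_mem_K (hK : ∀ a, ∃ (m : ℕ) (gen : Fin m → Finset (Fin N → ℤ)), K a = ⋃ l, coneOf (gen l))
    (n : ICone) (φ : RFan.Cone K n) :
    ∃ a, ∀ v : Fan.Orth n, RFan.toVec K n φ v.1 ∈ K a := by
  obtain ⟨a, ha⟩ := φ.2.2
  obtain ⟨m, gen, hgen⟩ := hK a
  refine ⟨a, ?_⟩
  have hV : IsClosed {v : Fan.Orth n | lreal φ.1 v.1 ∈ K a} :=
    (isClosed_K hgen).preimage ((continuous_lreal φ.1).comp (continuous_orth_val n))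
  have huniv := eq_univ_of_isClosed_of_rational _ hV (by
    intro u hu hu0 c hc v hv
    change lreal φ.1 v.1 ∈ K a
    rw [hv, lreal_smul]
    apply smul_mem_K hgen _ hc.le
    have := lreal_intCast φ.1 u
    change lreal φ.1 (fun i => (u i : ℝ)) ∈ K a
    rw [this]
    exact ha u hu)
  intro v
  have : v ∈ {v : Fan.Orth n | lreal φ.1 v.1 ∈ K a} := by
    rw [huniv]; exact Set.mem_univ v
  exact this

/-- every nonzero point of a simplicial subcone of some `K a` comes from a cone of `R(K)` -/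
lemma exists_cone_of_simplicial (B : Finset (Fin N → ℤ)) (hB : B.Nonempty)
    (hli : LinearIndepOn ℝ (rv (N := N)) (B : Set (Fin N → ℤ))) (a : ι) (ha : coneOf B ⊆ K a) :
    ∃ (n : ICone) (φ : RFan.Cone K n), lreal φ.1 '' {v | ∀ i, 0 ≤ v i} = coneOf B := by
  obtain ⟨n, L, hL, himg⟩ := exists_simplicial B hB hli
  refine ⟨n, ⟨L, hL, a, fun v hv => ?_⟩, himg⟩
  apply ha
  rw [← himg]
  refine ⟨fun i => (v i : ℝ), fun i => by dsimp only; exact_mod_cast hv i, ?_⟩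
  rw [lreal_intCast]

open Classical in
/-- a finite family of cones of `R(K)` covering `⋃ K a` -/
theorem exists_finite_cover [Finite ι]
    (hK : ∀ a, ∃ (m : ℕ) (gen : Fin m → Finset (Fin N → ℤ)), K a = ⋃ l, coneOf (gen l)) :
    ∃ (J : Type) (_ : Finite J) (n : J → ICone) (φ : ∀ j, RFan.Cone K (n j)),
      ∀ w : Fin N → ℝ, w ≠ 0 → w ∈ Set.iUnion K →
        ∃ j, ∃ v : Fan.Orth (n j), RFan.toVec K (n j) (φ j) v.1 = w := by
  choose m gen hgen using hK
  let T : ∀ a : ι, Fin (m a) → Finset (Finset (Fin N → ℤ)) := fun a l =>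
    (gen a l).powerset.filter (fun B : Finset (Fin N → ℤ) =>
      B.Nonempty ∧ LinearIndepOn ℝ (rv (N := N)) (B : Set (Fin N → ℤ)))
  let J : Type := Σ a : ι, Σ l : Fin (m a), {B // B ∈ T a l}
  have hJ : ∀ j : J, ∃ (n : ICone) (φ : RFan.Cone K n),
      lreal φ.1 '' {v | ∀ i, 0 ≤ v i} = coneOf j.2.2.1 := by
    rintro ⟨a, l, B, hB⟩
    have hB' := Finset.mem_filter.mp hB
    apply exists_cone_of_simplicial B hB'.2.1 hB'.2.2 a
    intro x hx
    rw [hgen a]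
    exact Set.mem_iUnion.mpr ⟨l, coneOf_mono (Finset.mem_powerset.mp hB'.1) hx⟩
  choose n φ himg using hJ
  refine ⟨J, inferInstance, n, φ, ?_⟩
  intro w hw0 hw
  obtain ⟨a, hwa⟩ := Set.mem_iUnion.mp hw
  rw [hgen a] at hwa
  obtain ⟨l, hwl⟩ := Set.mem_iUnion.mp hwa
  obtain ⟨B, hBs, hBli, t, htpos, hwB⟩ := caratheodory (gen a l) w hwl
  have hBne : B.Nonempty := by
    rcases B.eq_empty_or_nonempty with rfl | h
    · exfalso
      apply hw0
      rw [hwB]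
      simp
    · exact h
  have hBT : B ∈ T a l := Finset.mem_filter.mpr ⟨Finset.mem_powerset.mpr hBs, hBne, hBli⟩
  let j : J := ⟨a, l, B, hBT⟩
  have hwcone : w ∈ coneOf B := by
    refine ⟨fun g => if g ∈ B then t g else 0, fun g => ?_, ?_⟩
    · dsimp only
      split_ifs with h
      · exact (htpos g h).le
      · exact le_rfl
    · rw [hwB]
      apply Finset.sum_congr rfl
      intro g hg
      simp only [hg, if_true]
      rfl
  have : w ∈ lreal (φ j).1 '' {v | ∀ i, 0 ≤ v i} := by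
    rw [himg j]
    exact hwcone
  obtain ⟨v, hv, hvw⟩ := this
  have hv0 : v ≠ 0 := by
    rintro rfl
    rw [lreal_zero] at hvw
    exact hw0 hvw.symm
  exact ⟨j, ⟨v, hv, hv0⟩, hvw⟩

lemma mem_of_mem_closure_val {k : ICone} (Y : Set (Fan.Orth k)) (hY : IsClosed Y)
    (y : Fin k.dim → ℝ) (hy : y ∈ closure ((fun w : Fan.Orth k => w.1) '' Y)) (hy0 : y ≠ 0) :
    ∃ v ∈ Y, v.1 = y := by
  obtain ⟨C, hC, hCY⟩ := isClosed_induced_iff.mp hY
  have hsub : closure ((fun w : Fan.Orth k => w.1) '' Y) ⊆ {y | ∀ i, 0 ≤ y i} ∩ C := by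
    apply closure_minimal _ ((isClosed_orthant _).inter hC)
    rintro _ ⟨w, hw, rfl⟩
    refine ⟨w.2.1, ?_⟩
    rw [← hCY] at hw
    exact hw
  have hy' := hsub hy
  refine ⟨⟨y, hy'.1, hy0⟩, ?_, rfl⟩
  rw [← hCY]
  exact hy'.2

theorem isClosedMap_g [Finite ι]
    (hK : ∀ a, ∃ (m : ℕ) (gen : Fin m → Finset (Fin N → ℤ)), K a = ⋃ l, coneOf (gen l)) :
    IsClosedMap (g K) := by
  obtain ⟨J, hJfin, n, φ, hcover⟩ := exists_finite_cover hK
  intro Z hZ
  have hquot : IsClosed (g K '' Z) ↔ IsClosed ((Quot.mk _ : {w : Fin N → ℝ // w ≠ 0} → Fan.Rays N) ⁻¹'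
      (g K '' Z)) := (isQuotientMap_quot_mk).isCoinducing.isClosed_preimage.symm
  rw [hquot]
  have heq : (Quot.mk _ : {w : Fin N → ℝ // w ≠ 0} → Fan.Rays N) ⁻¹' (g K '' Z) =
      ⋃ j, (fun w : {w : Fin N → ℝ // w ≠ 0} => w.1) ⁻¹' (lreal (φ j).1 ''
        closure ((fun v : Fan.Orth (n j) => v.1) ''
          {v | Fan.P.mk (F := RFan K) (φ j) v ∈ Z})) := by
    ext w
    simp only [Set.mem_preimage, Set.mem_image, Set.mem_iUnion]
    constructor
    · rintro ⟨z, hzZ, hz⟩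
      obtain ⟨k, ψ, v, rfl⟩ := exists_rep z
      obtain ⟨a, ha⟩ := toVec_mem_K hK k ψ
      rw [g_mk K k ψ v (toVec_ne_zero K k ψ v)] at hz
      obtain ⟨c, hc, hcw⟩ := (ray_eq_iff _ _).mp hz
      obtain ⟨m, gen, hgen⟩ := hK a
      have hwK : w.1 ∈ Set.iUnion K := by
        refine Set.mem_iUnion.mpr ⟨a, ?_⟩
        rw [hcw]
        exact smul_mem_K hgen (ha v) hc.le
      obtain ⟨j, v', hv'⟩ := hcover w.1 w.2 hwK
      have hgz : g K (Fan.P.mk (F := RFan K) (φ j) v') = g K (Fan.P.mk (F := RFan K) ψ v) := by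
        rw [g_mk K _ (φ j) v' (toVec_ne_zero K _ (φ j) v'), g_mk K k ψ v (toVec_ne_zero K k ψ v)]
        refine Eq.trans ?_ hz.symm
        congr 1
        exact Subtype.ext hv'
      have hmem : Fan.P.mk (F := RFan K) (φ j) v' ∈ Z := by
        rw [g_injective K hgz]
        exact hzZ
      exact ⟨j, v'.1, subset_closure ⟨v', hmem, rfl⟩, hv'⟩
    · rintro ⟨j, y, hy, hyw⟩
      have hy0 : y ≠ 0 := by
        rintro rfl
        rw [lreal_zero] at hyw
        exact w.2 hyw.symm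
      have hYclosed : IsClosed {v : Fan.Orth (n j) | Fan.P.mk (F := RFan K) (φ j) v ∈ Z} :=
        isClosed_preimage_mk (F := RFan K) (φ j) Z hZ
      obtain ⟨v', hv'Z, hv'y⟩ := mem_of_mem_closure_val _ hYclosed y hy hy0
      refine ⟨_, hv'Z, ?_⟩
      rw [g_mk K _ (φ j) v' (toVec_ne_zero K _ (φ j) v')]
      congr 1
      apply Subtype.ext
      change RFan.toVec K _ (φ j) v'.1 = w.1
      rw [toVec_eq, hv'y, hyw]
  rw [heq]
  refine isClosed_iUnion_of_finite fun j => ?_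
  exact ((isClosedEmbedding_lreal (φ j).1 (φ j).2.1).isClosedMap _ isClosed_closure).preimage
    continuous_subtype_val

theorem main [Finite ι] (K : ι → Set (Fin N → ℝ))
    (hK : ∀ a, ∃ (m : ℕ) (gen : Fin m → Finset (Fin N → ℤ)),
      K a = Set.iUnion fun l => {x | ∃ c : (Fin N → ℤ) → ℝ, (∀ g, 0 ≤ c g) ∧
        x = Finset.sum (gen l) fun g => c g • fun j => (g j : ℝ)}) :
    ∃ g : Fan.P (RFan K) → Fan.Rays N,
      (∀ (n : ICone) (φ : (RFan K).obj (op n)) (v : Fan.Orth n) (h : RFan.toVec K n φ v.1 ≠ 0),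
        g (Fan.P.mk φ v) = Quot.mk _ ⟨RFan.toVec K n φ v.1, h⟩) ∧
      Topology.IsEmbedding g ∧
      Set.range g = {r | ∃ w : {w : Fin N → ℝ // w ≠ 0}, r = Quot.mk _ w ∧ w.1 ∈ Set.iUnion K} := by
  have hK' : ∀ a, ∃ (m : ℕ) (gen : Fin m → Finset (Fin N → ℤ)), K a = ⋃ l, coneOf (gen l) := hK
  refine ⟨g K, fun n φ v h => g_mk K n φ v h, ?_, ?_⟩
  · exact (Topology.IsClosedEmbedding.of_continuous_injective_isClosedMap (continuous_g K)
      (g_injective K) (isClosedMap_g hK')).isEmbedding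
  · obtain ⟨J, hJfin, n, φ, hcover⟩ := exists_finite_cover hK'
    ext r
    constructor
    · rintro ⟨z, rfl⟩
      obtain ⟨k, ψ, v, rfl⟩ := exists_rep z
      obtain ⟨a, ha⟩ := toVec_mem_K hK' k ψ
      exact ⟨⟨RFan.toVec K k ψ v.1, toVec_ne_zero K k ψ v⟩, rfl, Set.mem_iUnion.mpr ⟨a, ha v⟩⟩
    · rintro ⟨w, rfl, hw⟩
      obtain ⟨j, v', hv'⟩ := hcover w.1 w.2 hw
      refine ⟨Fan.P.mk (F := RFan K) (φ j) v', ?_⟩
      rw [g_mk K _ (φ j) v' (toVec_ne_zero K _ (φ j) v')]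
      congr 1
      exact Subtype.ext hv'

end Groth.Agent.H96.RFanMain
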