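import Mathlib

/-!
# The residue field of a point of a fibre product is generated by the residue fields of its
projections
-/

set_option autoImplicit false
set_option linter.style.haveILetI false
set_option linter.unusedSectionVars false
set_option linter.unusedVariables false

universe u

open CategoryTheory AlgebraicGeometry

namespace Groth.Agent.H96.ResFieldGen

theorem epi_SpecMap_of_field {K L : Type u} [Field K] [Field L] (j : K →+* L) :
    Epi (Spec.map (CommRingCat.ofHom j)) := by
  have hflat : Flat (Spec.map (CommRingCat.ofHom j)) := by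
    rw [Flat.SpecMap_iff]
    algebraize [j]
    change Module.Flat K L
    infer_instance
  have hsurj : Surjective (Spec.map (CommRingCat.ofHom j)) := by
    refine ⟨fun y => ⟨IsLocalRing.closedPoint L, Subsingleton.elim _ _⟩⟩
  exact Flat.epi_of_flat_of_surjective _

/-- A subfield of `κ(t)`, `t` a point of a fibre product, containing the images of the residue
fields of both projections of `t`, is everything. -/
theorem subfield_eq_top {P X Y S : Scheme.{u}} {fst : P ⟶ X} {snd : P ⟶ Y} {f : X ⟶ S}
    {g : Y ⟶ S} (hP : IsPullback fst snd f g) (t : P) (G : Subfield (P.residueField t))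
    (h1 : ∀ b, (fst.residueFieldMap t).hom b ∈ G) (h2 : ∀ c, (snd.residueFieldMap t).hom c ∈ G) :
    G = ⊤ := by
  let Gc : CommRingCat.{u} := CommRingCat.of ↥G
  let j : Gc ⟶ P.residueField t := CommRingCat.ofHom G.subtype
  let u : X.residueField (fst t) ⟶ Gc :=
    CommRingCat.ofHom ((fst.residueFieldMap t).hom.codRestrict G h1)
  let v : Y.residueField (snd t) ⟶ Gc :=
    CommRingCat.ofHom ((snd.residueFieldMap t).hom.codRestrict G h2)
  have huj : u ≫ j = fst.residueFieldMap t := by
    ext b; rfl
  have hvj : v ≫ j = snd.residueFieldMap t := by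
    ext b; rfl
  let α : Spec Gc ⟶ X := Spec.map u ≫ X.fromSpecResidueField (fst t)
  let β : Spec Gc ⟶ Y := Spec.map v ≫ Y.fromSpecResidueField (snd t)
  have ha1 : Spec.map j ≫ α = P.fromSpecResidueField t ≫ fst := by
    change Spec.map j ≫ Spec.map u ≫ _ = _
    rw [← Spec.map_comp_assoc, huj, Scheme.Hom.SpecMap_residueFieldMap_fromSpecResidueField]
  have ha2 : Spec.map j ≫ β = P.fromSpecResidueField t ≫ snd := by
    change Spec.map j ≫ Spec.map v ≫ _ = _
    rw [← Spec.map_comp_assoc, hvj, Scheme.Hom.SpecMap_residueFieldMap_fromSpecResidueField]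
  have hepi : Epi (Spec.map j) := epi_SpecMap_of_field G.subtype
  clear_value α β
  have hcompat : α ≫ f = β ≫ g := by
    rw [← cancel_epi (Spec.map j), ← Category.assoc, ← Category.assoc, ha1, ha2, Category.assoc,
      Category.assoc, hP.w]
  let h : Spec Gc ⟶ P := hP.lift α β hcompat
  have hh : Spec.map j ≫ h = P.fromSpecResidueField t := by
    apply hP.hom_ext
    · rw [Category.assoc, hP.lift_fst, ha1]
    · rw [Category.assoc, hP.lift_snd, ha2]
  obtain ⟨t', ψ, hψ⟩ : ∃ (t' : P) (ψ : P.residueField t' ⟶ Gc),
      h = Spec.map ψ ≫ P.fromSpecResidueField t' :=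
    ⟨_, _, (Scheme.descResidueField_stalkClosedPointTo_fromSpecResidueField (↥G) P h).symm⟩
  have ht : t' = t := by
    have h3 := congrArg (fun m : Spec (P.residueField t) ⟶ P =>
      m (IsLocalRing.closedPoint (P.residueField t))) hh
    simp only [hψ, Scheme.Hom.comp_apply, Scheme.fromSpecResidueField_apply] at h3
    exact h3
  subst ht
  rw [hψ, ← Category.assoc, ← Spec.map_comp] at hh
  have hmono : Mono (P.fromSpecResidueField t') := inferInstance
  have h4 : Spec.map (ψ ≫ j) = 𝟙 _ := by
    rw [← cancel_mono (P.fromSpecResidueField t'), hh, Category.id_comp]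
  have h5 : ψ ≫ j = 𝟙 _ := by
    apply Spec.map_injective
    rw [h4, Spec.map_id]
  rw [eq_top_iff]
  intro z _
  have h6 := congrArg (fun m : P.residueField t' ⟶ P.residueField t' => m.hom z) h5
  simp only [CommRingCat.hom_comp, RingHom.comp_apply, CommRingCat.hom_id, RingHom.id_apply] at h6
  rw [← h6]
  exact (ψ.hom z).2

end Groth.Agent.H96.ResFieldGen
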