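import Groth.Agent.H96.OrbitCl

/-!
# Semisimple endomorphisms over an algebraically closed field with the same characteristic
polynomial are conjugate; characteristic polynomial is constant on orbit closures
-/

set_option autoImplicit false
set_option linter.unusedSectionVars false

namespace Groth.Agent.H96.SSConj

open Matrix Module

section Eigenbasis

variable {k : Type*} [Field k] [IsAlgClosed k] {V : Type*} [AddCommGroup V] [Module k V]
  [FiniteDimensional k V]

theorem exists_eigenbasis (f : End k V) (hf : f.IsSemisimple) :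
    ∃ (b : Basis (Fin (finrank k V)) k V) (d : Fin (finrank k V) → k), ∀ j, f (b j) = d j • b j := by
  classical
  have hindep := f.eigenspaces_iSupIndep
  have htop := hf.iSup_eigenspace_eq_top
  have hint := DirectSum.isInternal_submodule_of_iSupIndep_of_iSup_eq_top hindep htop
  let v : ∀ μ : k, Basis (Basis.ofVectorSpaceIndex k (f.eigenspace μ)) k (f.eigenspace μ) :=
    fun μ => Basis.ofVectorSpace k (f.eigenspace μ)
  let B := hint.collectedBasis v
  haveI : Finite (Σ μ : k, Basis.ofVectorSpaceIndex k (f.eigenspace μ)) :=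
    Module.Finite.finite_basis B
  haveI : Fintype (Σ μ : k, Basis.ofVectorSpaceIndex k (f.eigenspace μ)) := Fintype.ofFinite _
  have hcard : Fintype.card (Σ μ : k, Basis.ofVectorSpaceIndex k (f.eigenspace μ)) =
      finrank k V := (Module.finrank_eq_card_basis B).symm
  let e := Fintype.equivFinOfCardEq hcard
  refine ⟨B.reindex e, fun j => (e.symm j).1, ?_⟩
  intro j
  rw [Basis.reindex_apply]
  have hmem : B (e.symm j) ∈ f.eigenspace (e.symm j).1 := hint.collectedBasis_mem v _
  exact Module.End.mem_eigenspace_iff.mp hmem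

theorem charpoly_eq_prod_of_eigenbasis (f : End k V) {ι : Type*} [Fintype ι] [DecidableEq ι]
    (b : Basis ι k V) (d : ι → k) (h : ∀ j, f (b j) = d j • b j) :
    f.charpoly = ∏ j, (Polynomial.X - Polynomial.C (d j)) := by
  rw [← LinearMap.charpoly_toMatrix f b, ← Matrix.charpoly_diagonal]
  congr 1
  ext i j
  rw [LinearMap.toMatrix_apply, h, map_smul, Basis.repr_self, Finsupp.smul_apply,
    Finsupp.single_apply, Matrix.diagonal_apply]
  by_cases hij : i = j
  · subst hij
    simp
  · have hji : ¬ j = i := fun h => hij h.symm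
    simp [hij, hji]

theorem exists_equiv_of_charpoly_eq {W : Type*} [AddCommGroup W] [Module k W]
    [FiniteDimensional k W] (f : End k V) (g : End k W) (hf : f.IsSemisimple)
    (hg : g.IsSemisimple) (hdim : finrank k V = finrank k W) (hc : f.charpoly = g.charpoly) :
    ∃ A : V ≃ₗ[k] W, A.toLinearMap ∘ₗ f = g ∘ₗ A.toLinearMap := by
  classical
  obtain ⟨b₁, d₁, h₁⟩ := exists_eigenbasis f hf
  obtain ⟨b₂, d₂, h₂⟩ := exists_eigenbasis g hg
  have hc₁ := charpoly_eq_prod_of_eigenbasis f b₁ d₁ h₁
  have hc₂ := charpoly_eq_prod_of_eigenbasis g b₂ d₂ h₂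
  have hroots : ∀ {n : ℕ} (d : Fin n → k),
      (∏ j, (Polynomial.X - Polynomial.C (d j))).roots = Finset.univ.val.map d := by
    intro n d
    rw [Finset.prod_eq_multiset_prod, ← Polynomial.roots_multiset_prod_X_sub_C (Finset.univ.val.map d),
      Multiset.map_map]
    rfl
  have hms : (Finset.univ.val.map d₁ : Multiset k) = Finset.univ.val.map d₂ := by
    rw [← hroots, ← hroots, ← hc₁, ← hc₂, hc]
  have hfib : ∀ a : k, Fintype.card {j // d₁ j = a} = Fintype.card {j // d₂ j = a} := by
    intro a
    have h1 := congrArg (Multiset.count a) hms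
    rw [Multiset.count_map, Multiset.count_map] at h1
    rw [Fintype.card_subtype, Fintype.card_subtype]
    have e1 : ∀ {n : ℕ} (d : Fin n → k),
        Multiset.card (Multiset.filter (fun j => a = d j) Finset.univ.val) =
        (Finset.univ.filter (fun j => d j = a)).card := by
      intro n d
      rw [← Finset.filter_val, Finset.card_val]
      congr 1
      ext j
      simp [eq_comm]
    rw [e1, e1] at h1
    exact h1
  let σ : Fin (finrank k V) ≃ Fin (finrank k W) :=
    Equiv.ofFiberEquiv (fun a => Fintype.equivOfCardEq (hfib a))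
  have hσ : ∀ j, d₂ (σ j) = d₁ j := fun j => Equiv.ofFiberEquiv_map _ j
  refine ⟨b₁.equiv b₂ σ, ?_⟩
  apply b₁.ext
  intro j
  simp only [LinearMap.comp_apply, LinearEquiv.coe_coe, h₁, map_smul, Basis.equiv_apply, h₂, hσ]

end Eigenbasis

section Charpoly

variable {k : Type*} [Field k] {n : Type*} [Fintype n] [DecidableEq n]

open Groth.Agent.H96.OrbitCl

/-- coefficient of the characteristic polynomial as a polynomial in the entries -/
noncomputable def cpCoeff (j : ℕ) : MvPolynomial (n × n) k :=
  (Matrix.mvPolynomialX n n k).charpoly.coeff j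

lemma ev_cpCoeff (M : Matrix n n k) (j : ℕ) : ev M (cpCoeff j) = M.charpoly.coeff j := by
  unfold ev cpCoeff
  have h1 := Matrix.charpoly_map (Matrix.mvPolynomialX n n k)
    (MvPolynomial.eval fun p : n × n => M p.1 p.2)
  have h2 : (Matrix.mvPolynomialX n n k).map (MvPolynomial.eval fun p : n × n => M p.1 p.2) = M :=
    Matrix.mvPolynomialX_mapMatrix_eval M
  rw [h2] at h1
  rw [h1, Polynomial.coeff_map]

lemma charpoly_conj (A B : Matrix n n k) (hA : IsUnit A.det) :
    (A * B * A⁻¹).charpoly = B.charpoly := by
  have hAu : IsUnit A := (Matrix.isUnit_iff_isUnit_det A).mpr hA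
  obtain ⟨u, rfl⟩ := hAu
  exact Matrix.charpoly_units_conj u B

theorem charpoly_eq_of_inCl {B C : Matrix n n k} (h : InCl B C) : C.charpoly = B.charpoly := by
  ext j
  have h1 := h (cpCoeff j - MvPolynomial.C (B.charpoly.coeff j)) (by
    intro A hA
    unfold ev
    rw [map_sub, MvPolynomial.eval_C]
    have := ev_cpCoeff (A * B * A⁻¹) j
    unfold ev at this
    rw [this, charpoly_conj A B hA, sub_self])
  unfold ev at h1
  rw [map_sub, MvPolynomial.eval_C] at h1
  have := ev_cpCoeff C j
  unfold ev at this
  rw [this] at h1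
  exact sub_eq_zero.mp h1

end Charpoly

end Groth.Agent.H96.SSConj
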