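import Groth.Agent.H96.SigmaLin
import Mathlib.FieldTheory.IsAlgClosed.Basic
import Mathlib.FieldTheory.Perfect
import Mathlib.Algebra.Polynomial.RingDivision
import Mathlib.Algebra.Polynomial.Roots
import Mathlib.FieldTheory.Finite.Basic

set_option autoImplicit false
universe u v w

open Polynomial

namespace Groth.Agent.H96.SigmaLin

section Roots

variable {k : Type u} [Field k] [IsAlgClosed k]

/-- A polynomial over an algebraically closed field with two nonzero coefficients has a nonzero
root. -/
theorem exists_ne_zero_root (P : k[X]) (e1 e2 : ℕ) (hne : e1 ≠ e2) (h1 : P.coeff e1 ≠ 0)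
    (h2 : P.coeff e2 ≠ 0) : ∃ z : k, z ≠ 0 ∧ P.eval z = 0 := by
  have hP0 : P ≠ 0 := by
    rintro rfl
    simp at h1
  obtain ⟨Q, hPQ, hndvd⟩ := exists_eq_pow_rootMultiplicity_mul_and_not_dvd P hP0 (0 : k)
  set m := rootMultiplicity (0 : k) P with hm
  simp only [map_zero, sub_zero] at hPQ hndvd
  have hdeg : Q.degree ≠ 0 := by
    intro hd
    have hQ : Q = C (Q.coeff 0) := eq_C_of_degree_eq_zero hd
    rw [hQ] at hPQ
    have hc : ∀ e, P.coeff e = if e = m then Q.coeff 0 else 0 := by
      intro e
      rw [hPQ, mul_comm, coeff_C_mul, coeff_X_pow]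
      split_ifs <;> simp
    rw [hc] at h1 h2
    have e1m : e1 = m := by
      by_contra h
      rw [if_neg h] at h1
      exact h1 rfl
    have e2m : e2 = m := by
      by_contra h
      rw [if_neg h] at h2
      exact h2 rfl
    exact hne (e1m.trans e2m.symm)
  obtain ⟨z, hz⟩ := IsAlgClosed.exists_root Q hdeg
  refine ⟨z, ?_, ?_⟩
  · rintro rfl
    apply hndvd
    have := (dvd_iff_isRoot (p := Q) (a := (0 : k))).mpr hz
    simpa using this
  · rw [hPQ, eval_mul, hz.eq_zero, mul_zero]

end Roots

section FrobInv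

variable (p : ℕ) [hp : Fact p.Prime] {k : Type u} [Field k] [CharP k p] [IsAlgClosed k]

theorem iterate_frobInv_pow (z : k) (j l : ℕ) :
    (⇑(frobeniusEquiv k p).symm)^[j] (z ^ p ^ (j + l)) = z ^ p ^ l := by
  induction j with
  | zero => simp
  | succ j ih =>
    rw [Function.iterate_succ_apply]
    have : z ^ p ^ (j + 1 + l) = (z ^ p ^ (j + l)) ^ p := by
      rw [← pow_mul, ← pow_succ]
      congr 2
      omega
    rw [this, frobeniusEquiv_symm_pow, ih]

theorem solv_frobInv : Solv ((frobeniusEquiv k p).symm.toRingHom : k →+* k) := by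
  intro n b hb
  have hcoe : ⇑((frobeniusEquiv k p).symm.toRingHom : k →+* k) = ⇑(frobeniusEquiv k p).symm := rfl
  rw [hcoe]
  set σ := ⇑(frobeniusEquiv k p).symm with hσ
  have hσinj : ∀ i, Function.Injective (σ^[i]) := fun i =>
    (frobeniusEquiv k p).symm.injective.iterate i
  set β : Fin (n + 1) → k := fun i => σ^[i.val] (b (Fin.rev i)) with hβ
  obtain ⟨j, hj⟩ : ∃ j, b j ≠ 0 := by
    by_contra hall
    push Not at hall
    exact hb (funext hall)
  have hβ0 : β (Fin.rev j) ≠ 0 := by
    simp only [hβ, Fin.rev_rev]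
    intro h0
    apply hj
    apply hσinj (Fin.rev j).val
    rw [h0, iterate_map_zero]
  set i0 := Fin.rev j with hi0
  have hp2 : 2 ≤ p := hp.out.two_le
  have hpinj := Nat.pow_right_injective hp2
  let P : k[X] := X ^ p ^ (n + 1) - ∑ i : Fin (n + 1), C (β i) * X ^ p ^ (n - i.val)
  have hc1 : P.coeff (p ^ (n + 1)) ≠ 0 := by
    have : P.coeff (p ^ (n + 1)) = 1 := by
      simp only [P, coeff_sub, coeff_X_pow, if_true, finset_sum_coeff, coeff_C_mul_X_pow]
      rw [Finset.sum_eq_zero, sub_zero]
      intro i _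
      rw [if_neg]
      intro h
      have := hpinj h
      omega
    rw [this]; exact one_ne_zero
  have hc2 : P.coeff (p ^ (n - i0.val)) ≠ 0 := by
    have : P.coeff (p ^ (n - i0.val)) = - β i0 := by
      simp only [P, coeff_sub, coeff_X_pow, finset_sum_coeff, coeff_C_mul_X_pow]
      rw [if_neg, zero_sub, Finset.sum_eq_single i0]
      · rw [if_pos rfl]
      · intro i _ hi
        rw [if_neg]
        intro h
        have := hpinj h
        apply hi
        apply Fin.ext
        have h1 := i.isLt
        have h2 := i0.isLt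
        omega
      · intro h; exact absurd (Finset.mem_univ _) h
      · intro h
        have := hpinj h
        omega
    rw [this]; exact neg_ne_zero.mpr hβ0
  have hne : p ^ (n + 1) ≠ p ^ (n - i0.val) := by
    intro h
    have := hpinj h
    omega
  obtain ⟨z, hz0, hz⟩ := exists_ne_zero_root P _ _ hne hc1 hc2
  refine ⟨z ^ p ^ (n + 1), pow_ne_zero _ hz0, ?_⟩
  simp only [P, eval_sub, eval_pow, eval_X, eval_finset_sum, eval_mul, eval_C] at hz
  rw [sub_eq_zero] at hz
  rw [hz]
  apply Finset.sum_congr rfl
  intro i _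
  have hi := i.isLt
  have e : n + 1 = (i.val + 1) + (n - i.val) := by omega
  have := iterate_frobInv_pow p z (i.val + 1) (n - i.val)
  rw [← e] at this
  rw [← hz, this, mul_comm]

theorem h3_frobInv (c : k) :
    ∃ y : k, ((frobeniusEquiv k p).symm.toRingHom : k →+* k) y - y + c = 0 := by
  have hdeg : (X - X ^ p + C c : k[X]).degree ≠ 0 := by
    have h1 : (X - X ^ p + C c : k[X]) = -(X ^ p) + (X + C c) := by ring
    have hlt : (X + C c : k[X]).degree < (-(X ^ p) : k[X]).degree := by
      rw [degree_neg, degree_X_pow, degree_X_add_C]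
      exact_mod_cast hp.out.one_lt
    rw [h1, degree_add_eq_left_of_degree_lt hlt, degree_neg, degree_X_pow]
    exact_mod_cast hp.out.ne_zero
  obtain ⟨z, hz⟩ := IsAlgClosed.exists_root _ hdeg
  refine ⟨z ^ p, ?_⟩
  have : ((frobeniusEquiv k p).symm.toRingHom : k →+* k) (z ^ p) = z :=
    frobeniusEquiv_symm_pow k p z
  rw [this]
  simpa using hz

end FrobInv

section Transfer

variable {K : Type u} [Field K] {K' : Type v} [Field K'] (e : K' ≃+* K) (f : K →+* K)

/-- transport of an endomorphism along a ring isomorphism -/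
def conj : K' →+* K' := e.symm.toRingHom.comp (f.comp e.toRingHom)

theorem conj_apply (x : K') : conj e f x = e.symm (f (e x)) := rfl

theorem conj_iterate (i : ℕ) (x : K') : (⇑(conj e f))^[i] x = e.symm ((⇑f)^[i] (e x)) := by
  induction i generalizing x with
  | zero => simp
  | succ i ih =>
    rw [Function.iterate_succ_apply, ih, conj_apply, RingEquiv.apply_symm_apply,
      Function.iterate_succ_apply]

theorem conj_surjective (hf : Function.Surjective f) : Function.Surjective (conj e f) := by
  intro y
  obtain ⟨x, hx⟩ := hf (e y)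
  exact ⟨e.symm x, by rw [conj_apply, RingEquiv.apply_symm_apply, hx, RingEquiv.symm_apply_apply]⟩

theorem solv_conj (h : Solv f) : Solv (conj e f) := by
  intro n b hb
  have hb' : (fun i => e (b i)) ≠ 0 := by
    intro h0
    apply hb
    funext i
    have := congrFun h0 i
    simpa using this
  obtain ⟨x, hx0, hx⟩ := h n (fun i => e (b i)) hb'
  refine ⟨e.symm x, by simpa using hx0, ?_⟩
  conv_lhs => rw [hx]
  rw [map_sum]
  apply Finset.sum_congr rfl
  intro i _
  rw [map_mul, conj_iterate, conj_iterate, RingEquiv.apply_symm_apply]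

theorem h3_conj (h : ∀ c : K, ∃ y : K, f y - y + c = 0) :
    ∀ c : K', ∃ y : K', conj e f y - y + c = 0 := by
  intro c
  obtain ⟨y, hy⟩ := h (e c)
  refine ⟨e.symm y, ?_⟩
  apply e.injective
  rw [map_add, map_sub, conj_apply, RingEquiv.apply_symm_apply, RingEquiv.apply_symm_apply, hy,
    map_zero]

end Transfer

section Frob

variable (p : ℕ) [hp : Fact p.Prime] {k : Type u} [Field k] [CharP k p] [IsAlgClosed k]

theorem solv_frob : Solv (frobenius k p) := by
  intro n b hb
  set σ := ⇑(frobenius k p) with hσ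
  have hσinj : ∀ i, Function.Injective (σ^[i]) := fun i =>
    (frobenius_inj k p).iterate i
  set β : Fin (n + 1) → k := fun i => σ^[i.val] (b (Fin.rev i)) with hβ
  obtain ⟨j, hj⟩ : ∃ j, b j ≠ 0 := by
    by_contra hall
    push Not at hall
    exact hb (funext hall)
  have hβ0 : β (Fin.rev j) ≠ 0 := by
    simp only [hβ, Fin.rev_rev]
    intro h0
    apply hj
    apply hσinj (Fin.rev j).val
    rw [h0, iterate_map_zero]
  set i0 := Fin.rev j with hi0
  have hp2 : 2 ≤ p := hp.out.two_le
  have hpinj := Nat.pow_right_injective hp2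
  let P : k[X] := ∑ i : Fin (n + 1), C (β i) * X ^ p ^ (i.val + 1) - X
  have hc1 : P.coeff 1 ≠ 0 := by
    have : P.coeff 1 = -1 := by
      simp only [P, coeff_sub, coeff_X_one, finset_sum_coeff, coeff_C_mul_X_pow]
      rw [Finset.sum_eq_zero, zero_sub]
      intro i _
      rw [if_neg]
      intro h
      have h1 : p ^ 0 = p ^ (i.val + 1) := by rw [pow_zero]; exact h
      have := hpinj h1
      omega
    rw [this]; exact neg_ne_zero.mpr one_ne_zero
  have hne : (1 : ℕ) ≠ p ^ (i0.val + 1) := by
    intro h
    have h1 : p ^ 0 = p ^ (i0.val + 1) := by rw [pow_zero]; exact h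
    have := hpinj h1
    omega
  have hc2 : P.coeff (p ^ (i0.val + 1)) ≠ 0 := by
    have : P.coeff (p ^ (i0.val + 1)) = β i0 := by
      simp only [P, coeff_sub, finset_sum_coeff, coeff_C_mul_X_pow, coeff_X]
      rw [if_neg hne, sub_zero, Finset.sum_eq_single i0]
      · rw [if_pos rfl]
      · intro i _ hi
        rw [if_neg]
        intro h
        have := hpinj h
        apply hi
        apply Fin.ext
        omega
      · intro h; exact absurd (Finset.mem_univ _) h
    rw [this]; exact hβ0
  obtain ⟨z, hz0, hz⟩ := exists_ne_zero_root P _ _ hne hc1 hc2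
  refine ⟨z, hz0, ?_⟩
  simp only [P, eval_sub, eval_pow, eval_X, eval_finset_sum, eval_mul, eval_C] at hz
  rw [sub_eq_zero] at hz
  conv_lhs => rw [← hz]
  apply Finset.sum_congr rfl
  intro i _
  rw [hσ, ← coe_iterateFrobenius, iterateFrobenius_def, mul_comm]

theorem h3_frob (c : k) : ∃ y : k, frobenius k p y - y + c = 0 := by
  have hdeg : (X ^ p - X + C c : k[X]).degree ≠ 0 := by
    have h1 : (X ^ p - X + C c : k[X]) = X ^ p + (-X + C c) := by ring
    have hlt : (-X + C c : k[X]).degree < (X ^ p : k[X]).degree := by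
      rw [degree_X_pow]
      calc (-X + C c : k[X]).degree ≤ max (-X : k[X]).degree (C c : k[X]).degree := degree_add_le _ _
        _ ≤ 1 := by
          rw [degree_neg, degree_X]
          exact max_le le_rfl (degree_C_le.trans (by norm_num))
        _ < (p : WithBot ℕ) := by exact_mod_cast hp.out.one_lt
    rw [h1, degree_add_eq_left_of_degree_lt hlt, degree_X_pow]
    exact_mod_cast hp.out.ne_zero
  obtain ⟨z, hz⟩ := IsAlgClosed.exists_root _ hdeg
  refine ⟨z, ?_⟩
  rw [frobenius_def]
  simpa using hz

end Frob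

section FrobFixed

variable (p : ℕ) [hp : Fact p.Prime] {k : Type u} [Field k] [CharP k p]

theorem exists_natCast_of_pow_eq (y : k) (hy : y ^ p = y) : ∃ m : ℕ, (m : k) = y := by
  classical
  have hp1 : 1 < p := hp.out.one_lt
  set P : k[X] := X ^ p - X with hP
  have hP0 : P ≠ 0 := FiniteField.X_pow_card_sub_X_ne_zero k hp1
  have hdeg : P.natDegree = p := FiniteField.X_pow_card_sub_X_natDegree_eq k hp1
  set S : Finset k := (Finset.range p).image (fun i : ℕ => (i : k)) with hS
  have hScard : S.card = p := by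
    rw [hS, Finset.card_image_of_injOn, Finset.card_range]
    intro a ha b hb hab
    exact CharP.natCast_injOn_Iio k p (by simpa using ha) (by simpa using hb) hab
  have hsub : S ⊆ P.roots.toFinset := by
    intro z hz
    rw [hS, Finset.mem_image] at hz
    obtain ⟨i, -, rfl⟩ := hz
    rw [Multiset.mem_toFinset, mem_roots hP0, IsRoot, hP, eval_sub, eval_pow, eval_X, sub_eq_zero]
    have := map_natCast (frobenius k p) i
    rwa [frobenius_def] at this
  have hle : P.roots.toFinset.card ≤ S.card := by
    rw [hScard]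
    calc P.roots.toFinset.card ≤ Multiset.card P.roots := Multiset.toFinset_card_le _
      _ ≤ P.natDegree := card_roots' P
      _ = p := hdeg
  have heq := Finset.eq_of_subset_of_card_le hsub hle
  have hy' : y ∈ P.roots.toFinset := by
    rw [Multiset.mem_toFinset, mem_roots hP0, IsRoot, hP, eval_sub, eval_pow, eval_X, hy, sub_self]
  rw [← heq, hS, Finset.mem_image] at hy'
  obtain ⟨m, -, hm⟩ := hy'
  exact ⟨m, hm⟩

theorem finite_frob_fixed : {y : k | y ^ p = y}.Finite := by
  apply Set.Finite.subset (Set.finite_range (fun i : Fin p => ((i : ℕ) : k)))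
  intro y hy
  obtain ⟨m, rfl⟩ := exists_natCast_of_pow_eq p y hy
  refine ⟨⟨m % p, Nat.mod_lt _ hp.out.pos⟩, ?_⟩
  simp only
  rw [CharP.natCast_eq_natCast k p]
  exact Nat.mod_modEq m p

end FrobFixed

end Groth.Agent.H96.SigmaLin
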