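import Mathlib.LinearAlgebra.FiniteDimensional.Lemmas
import Mathlib.LinearAlgebra.Dimension.Constructions
import Mathlib.LinearAlgebra.Basis.VectorSpace
import Mathlib.RingTheory.Artinian.Module
import Mathlib.RingTheory.Noetherian.Basic
import Mathlib.Algebra.Ring.Hom.Defs
import Mathlib.LinearAlgebra.LinearIndependent.Lemmas
import Mathlib.Algebra.BigOperators.Fin
import Mathlib.LinearAlgebra.Dimension.StrongRankCondition
import Mathlib.LinearAlgebra.Quotient.Basic
import Mathlib.Tactic.LinearCombination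

set_option autoImplicit false
universe u v w

namespace Groth.Agent.H96.SigmaLin

variable {k : Type u} [Field k] {σ : k →+* k} {V : Type v} [AddCommGroup V] [Module k V]

/-- The `n`-th iterate of a `σ`-semilinear map, as a `σ ^ n`-semilinear map. -/
def iter (T : V →ₛₗ[σ] V) (n : ℕ) : V →ₛₗ[σ ^ n] V where
  toFun := (⇑T)^[n]
  map_add' x y := by
    induction n with
    | zero => simp
    | succ n ih =>
      simp only [Function.iterate_succ_apply'] at ih ⊢
      rw [ih, map_add]
  map_smul' c x := by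
    induction n with
    | zero => simp
    | succ n ih =>
      simp only [Function.iterate_succ_apply'] at ih ⊢
      rw [ih, LinearMap.map_smulₛₗ, pow_succ']
      rfl

@[simp] theorem iter_apply (T : V →ₛₗ[σ] V) (n : ℕ) (v : V) : iter T n v = (⇑T)^[n] v := rfl

/-- The span of the image of the `n`-th iterate. -/
def I (T : V →ₛₗ[σ] V) (n : ℕ) : Submodule k V := Submodule.span k (Set.range ((⇑T)^[n]))

/-- The kernel of the `n`-th iterate. -/
def K (T : V →ₛₗ[σ] V) (n : ℕ) : Submodule k V := LinearMap.ker (iter T n)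

theorem mem_K (T : V →ₛₗ[σ] V) (n : ℕ) (v : V) : v ∈ K T n ↔ (⇑T)^[n] v = 0 := by
  rw [K, LinearMap.mem_ker, iter_apply]

theorem I_succ_le (T : V →ₛₗ[σ] V) (n : ℕ) : I T (n + 1) ≤ I T n := by
  apply Submodule.span_mono
  rintro _ ⟨w, rfl⟩
  exact ⟨T w, by rw [Function.iterate_succ_apply]⟩

theorem I_antitone (T : V →ₛₗ[σ] V) : Antitone (I T) := antitone_nat_of_succ_le (I_succ_le T)

theorem K_le_succ (T : V →ₛₗ[σ] V) (n : ℕ) : K T n ≤ K T (n + 1) := by
  intro v hv
  rw [mem_K] at hv ⊢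
  rw [Function.iterate_succ_apply', hv, map_zero]

theorem K_monotone (T : V →ₛₗ[σ] V) : Monotone (K T) := monotone_nat_of_le_succ (K_le_succ T)

theorem iterate_mem_I (T : V →ₛₗ[σ] V) (n m : ℕ) (v : V) (hv : v ∈ I T n) :
    (⇑T)^[m] v ∈ I T (n + m) := by
  unfold I at hv
  induction hv using Submodule.span_induction with
  | mem x hx =>
    obtain ⟨w, rfl⟩ := hx
    apply Submodule.subset_span
    exact ⟨w, by rw [add_comm, Function.iterate_add_apply]⟩
  | zero =>
    rw [← iter_apply, map_zero]; exact Submodule.zero_mem _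
  | add x y _ _ hx hy =>
    rw [← iter_apply, map_add]; exact Submodule.add_mem _ hx hy
  | smul c x _ hx =>
    rw [← iter_apply, LinearMap.map_smulₛₗ]; exact Submodule.smul_mem _ _ hx

theorem map_mem_I (T : V →ₛₗ[σ] V) (n : ℕ) (v : V) (hv : v ∈ I T n) : T v ∈ I T (n + 1) :=
  iterate_mem_I T n 1 v hv

section Rank

variable {k : Type u} [Field k] {τ : k →+* k} {U : Type v} [AddCommGroup U] [Module k U]
  {U' : Type w} [AddCommGroup U'] [Module k U'] [FiniteDimensional k U]

/-- Rank inequality for semilinear maps. -/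
theorem finrank_span_range_add_finrank_ker_le (f : U →ₛₗ[τ] U') :
    Module.finrank k (Submodule.span k (Set.range f)) + Module.finrank k (LinearMap.ker f) ≤
      Module.finrank k U := by
  obtain ⟨C, hC⟩ := Submodule.exists_isCompl (LinearMap.ker f)
  let b := Module.finBasis k C
  have hle : Submodule.span k (Set.range f) ≤
      Submodule.span k (Set.range (fun i => f (b i : U))) := by
    apply Submodule.span_le.mpr
    rintro _ ⟨u, rfl⟩
    obtain ⟨a, ha, c, hc, rfl⟩ : ∃ a ∈ LinearMap.ker f, ∃ c ∈ C, a + c = u := by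
      have : u ∈ LinearMap.ker f ⊔ C := by rw [hC.sup_eq_top]; trivial
      exact Submodule.mem_sup.mp this
    rw [map_add, LinearMap.mem_ker.mp ha, zero_add]
    have hrepr : c = ∑ i, (b.repr ⟨c, hc⟩ i) • (b i : U) := by
      have := congrArg (fun x : C => (x : U)) (b.sum_repr ⟨c, hc⟩)
      simp only [Submodule.coe_sum, Submodule.coe_smul] at this
      exact this.symm
    rw [hrepr, map_sum]
    apply Submodule.sum_mem
    intro i _
    rw [LinearMap.map_smulₛₗ]
    exact Submodule.smul_mem _ _ (Submodule.subset_span ⟨i, rfl⟩)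
  have h1 : Module.finrank k (Submodule.span k (Set.range f)) ≤ Module.finrank k C := by
    have hfin : FiniteDimensional k (Submodule.span k (Set.range (fun i => f (b i : U)))) :=
      FiniteDimensional.span_of_finite k (Set.finite_range _)
    calc Module.finrank k (Submodule.span k (Set.range f))
        ≤ Module.finrank k (Submodule.span k (Set.range (fun i => f (b i : U)))) :=
          Submodule.finrank_mono hle
      _ ≤ Fintype.card (Fin (Module.finrank k C)) := finrank_range_le_card _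
      _ = Module.finrank k C := Fintype.card_fin _
  have h2 := Submodule.finrank_add_eq_of_isCompl hC
  omega

end Rank

section Stab

variable {k : Type u} [Field k] {σ : k →+* k} {V : Type v} [AddCommGroup V] [Module k V]
  [FiniteDimensional k V]

theorem I_stabilizes (T : V →ₛₗ[σ] V) : ∃ N, ∀ m, N ≤ m → I T m = I T N := by
  have := IsArtinian.monotone_stabilizes (R := k) (M := V)
    ⟨fun n => OrderDual.toDual (I T n), fun a b hab => I_antitone T hab⟩
  obtain ⟨N, hN⟩ := this
  exact ⟨N, fun m hm => (hN m hm).symm⟩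

theorem K_stabilizes (T : V →ₛₗ[σ] V) : ∃ N, ∀ m, N ≤ m → K T m = K T N := by
  have := monotone_stabilizes_iff_noetherian.mpr (inferInstance : IsNoetherian k V)
    ⟨K T, K_monotone T⟩
  obtain ⟨N, hN⟩ := this
  exact ⟨N, fun m hm => (hN m hm).symm⟩

theorem iInf_I_eq (T : V →ₛₗ[σ] V) (N : ℕ) (hN : ∀ m, N ≤ m → I T m = I T N) :
    ⨅ n, I T n = I T N := by
  apply le_antisymm (iInf_le _ N)
  apply le_iInf
  intro n
  rcases le_total N n with h | h
  · rw [hN n h]
  · exact I_antitone T h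

/-- S19229: generalized nilpotent part and the stable image meet trivially. -/
theorem eq_zero_of_nil_of_mem_I (T : V →ₛₗ[σ] V) (v : V) (hnil : ∃ n : ℕ, (⇑T)^[n] v = 0)
    (hss : ∀ n : ℕ, v ∈ I T n) : v = 0 := by
  obtain ⟨n, hn⟩ := hnil
  obtain ⟨N, hN⟩ := I_stabilizes T
  let f : I T N →ₛₗ[σ ^ n] V := (iter T n).domRestrict (I T N)
  have hspan : Submodule.span k (Set.range f) = I T N := by
    apply le_antisymm
    · apply Submodule.span_le.mpr
      rintro _ ⟨u, rfl⟩
      have := iterate_mem_I T N n u u.2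
      rw [hN (N + n) (Nat.le_add_right _ _)] at this
      exact this
    · refine le_trans (hN (N + n) (Nat.le_add_right _ _)).symm.le ?_
      apply Submodule.span_mono
      rintro _ ⟨w, rfl⟩
      refine ⟨⟨(⇑T)^[N] w, Submodule.subset_span ⟨w, rfl⟩⟩, ?_⟩
      change (⇑T)^[n] ((⇑T)^[N] w) = _
      rw [← Function.iterate_add_apply, add_comm]
  have hrank := finrank_span_range_add_finrank_ker_le f
  rw [hspan] at hrank
  have hker : LinearMap.ker f = ⊥ := by
    apply Submodule.finrank_eq_zero.mp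
    omega
  have hv : (⟨v, hss N⟩ : I T N) ∈ LinearMap.ker f := by
    rw [LinearMap.mem_ker]
    exact hn
  rw [hker, Submodule.mem_bot] at hv
  exact congrArg Subtype.val hv

end Stab

section Decomp

variable {k : Type u} [Field k] {σ : k →+* k} {V : Type v} [AddCommGroup V] [Module k V]
  [FiniteDimensional k V]

theorem exists_stable (T : V →ₛₗ[σ] V) :
    ∃ N, (∀ m, N ≤ m → I T m = I T N) ∧ (∀ m, N ≤ m → K T m = K T N) := by
  obtain ⟨N1, h1⟩ := I_stabilizes T
  obtain ⟨N2, h2⟩ := K_stabilizes T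
  refine ⟨max N1 N2, fun m hm => ?_, fun m hm => ?_⟩
  · rw [h1 m (le_trans (le_max_left _ _) hm), h1 (max N1 N2) (le_max_left _ _)]
  · rw [h2 m (le_trans (le_max_right _ _) hm), h2 (max N1 N2) (le_max_right _ _)]

theorem K_eq_setOf (T : V →ₛₗ[σ] V) (N : ℕ) (hK : ∀ m, N ≤ m → K T m = K T N) :
    (K T N : Set V) = {v : V | ∃ n : ℕ, (⇑T)^[n] v = 0} := by
  ext v
  simp only [SetLike.mem_coe, Set.mem_ofPred_eq]
  constructor
  · intro hv
    exact ⟨N, (mem_K T N v).mp hv⟩
  · rintro ⟨n, hn⟩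
    have : v ∈ K T (max n N) := K_monotone T (le_max_left n N) ((mem_K T n v).mpr hn)
    rwa [hK _ (le_max_right n N)] at this

theorem disjoint_K_I (T : V →ₛₗ[σ] V) (N : ℕ) (hI : ∀ m, N ≤ m → I T m = I T N) (M : ℕ) :
    Disjoint (K T M) (I T N) := by
  rw [Submodule.disjoint_def]
  intro v hvK hvI
  apply eq_zero_of_nil_of_mem_I T v ⟨M, (mem_K T M v).mp hvK⟩
  intro n
  rcases le_total N n with h | h
  · rwa [hI n h]
  · exact I_antitone T h hvI

/-- with `σ` surjective, every element of `I (n+m)` is `T^m` of an element of `I n`. -/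
theorem exists_preimage_of_mem_I (hσ : Function.Surjective σ) (T : V →ₛₗ[σ] V) (n m : ℕ) (u : V)
    (hu : u ∈ I T (n + m)) : ∃ w ∈ I T n, (⇑T)^[m] w = u := by
  have : RingHomSurjective (σ ^ m) := ⟨by rw [RingHom.coe_pow]; exact hσ.iterate m⟩
  have hle : I T (n + m) ≤ Submodule.map (iter T m) (I T n) := by
    apply Submodule.span_le.mpr
    rintro _ ⟨w, rfl⟩
    refine ⟨(⇑T)^[n] w, Submodule.subset_span ⟨w, rfl⟩, ?_⟩
    rw [iter_apply, ← Function.iterate_add_apply, add_comm]
  obtain ⟨w, hw, hwu⟩ := hle hu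
  exact ⟨w, hw, hwu⟩

theorem isCompl_K_I (hσ : Function.Surjective σ) (T : V →ₛₗ[σ] V) (N : ℕ)
    (hI : ∀ m, N ≤ m → I T m = I T N) : IsCompl (K T N) (I T N) := by
  refine ⟨disjoint_K_I T N hI N, ?_⟩
  rw [codisjoint_iff, eq_top_iff]
  intro v _
  have h1 : (⇑T)^[N] v ∈ I T (N + N) := by
    rw [hI (N + N) (Nat.le_add_right _ _)]
    exact Submodule.subset_span ⟨v, rfl⟩
  obtain ⟨w, hw, hwv⟩ := exists_preimage_of_mem_I hσ T N N _ h1
  have h2 : v - w ∈ K T N := by
    rw [mem_K, ← iter_apply, map_sub, iter_apply, iter_apply, hwv, sub_self]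
  have : v = (v - w) + w := by abel
  rw [this]
  exact Submodule.add_mem_sup h2 hw

theorem bijOn_iInter_I (hσ : Function.Surjective σ) (T : V →ₛₗ[σ] V) :
    Set.BijOn (⇑T) (⋂ n : ℕ, (I T n : Set V)) (⋂ n : ℕ, (I T n : Set V)) := by
  obtain ⟨N, hI⟩ := I_stabilizes T
  refine ⟨?_, ?_, ?_⟩
  · intro v hv
    rw [Set.mem_iInter] at hv ⊢
    intro n
    exact I_succ_le T n (map_mem_I T n v (hv n))
  · intro v hv v' hv' h
    rw [Set.mem_iInter] at hv hv'
    have h0 : v - v' = 0 := by
      apply eq_zero_of_nil_of_mem_I T (v - v') ⟨1, ?_⟩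
      · intro n
        exact Submodule.sub_mem _ (hv n) (hv' n)
      · rw [Function.iterate_one, map_sub, h, sub_self]
    exact sub_eq_zero.mp h0
  · intro u hu
    rw [Set.mem_iInter] at hu
    obtain ⟨w, hw, hwu⟩ := exists_preimage_of_mem_I hσ T N 1 u (hu (N + 1))
    refine ⟨w, ?_, by simpa using hwu⟩
    rw [Set.mem_iInter]
    intro n
    rcases le_total N n with h | h
    · rw [hI n h]; exact hw
    · exact I_antitone T h hw

end Decomp

section Fixed

variable {k : Type u} [Field k] {σ : k →+* k} {V : Type v} [AddCommGroup V] [Module k V]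
  [FiniteDimensional k V]

/-- linear independence of an initial segment, if no element is in the span of the previous. -/
theorem linearIndependent_initial (E : ℕ → V) (d : ℕ)
    (h : ∀ d' < d, E d' ∉ Submodule.span k (Set.range (fun i : Fin d' => E i))) :
    LinearIndependent k (fun i : Fin d => E i) := by
  induction d with
  | zero => exact linearIndependent_empty_type
  | succ d ih =>
    have ih' := ih (fun d' hd' => h d' (Nat.lt_succ_of_lt hd'))
    have : (fun i : Fin (d + 1) => E i) = Fin.snoc (fun i : Fin d => E i) (E d) := by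
      ext i
      refine Fin.lastCases ?_ (fun j => ?_) i
      · simp
      · simp
    rw [this, linearIndependent_finSnoc]
    exact ⟨ih', h d (Nat.lt_succ_self d)⟩

theorem exists_dependence (E : ℕ → V) (hE0 : E 0 ≠ 0) :
    ∃ n : ℕ, LinearIndependent k (fun i : Fin (n + 1) => E i) ∧
      E (n + 1) ∈ Submodule.span k (Set.range (fun i : Fin (n + 1) => E i)) := by
  classical
  have hex : ∃ d, E d ∈ Submodule.span k (Set.range (fun i : Fin d => E i)) := by
    by_contra hcon
    push Not at hcon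
    have hli := linearIndependent_initial E (Module.finrank k V + 1) (fun d' _ => hcon d')
    have := hli.fintype_card_le_finrank
    simp at this
  have hmin : ∀ m, m < Nat.find hex → ¬ (E m ∈ Submodule.span k (Set.range (fun i : Fin m => E i))) :=
    fun m hm => Nat.find_min hex hm
  have hspec := Nat.find_spec hex
  have hpos : Nat.find hex ≠ 0 := by
    intro h0
    rw [h0] at hspec
    have : Set.range (fun i : Fin 0 => E i) = ∅ := Set.range_eq_empty _
    rw [this, Submodule.span_empty, Submodule.mem_bot] at hspec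
    exact hE0 hspec
  obtain ⟨n, hn⟩ := Nat.exists_eq_succ_of_ne_zero hpos
  refine ⟨n, ?_, ?_⟩
  · apply linearIndependent_initial E (n + 1)
    intro d' hd'
    exact hmin d' (by rw [hn]; exact hd')
  · rw [hn] at hspec
    exact hspec

end Fixed

section Fixed2

variable {k : Type u} [Field k] {σ : k →+* k} {V : Type v} [AddCommGroup V] [Module k V]

/-- The hypothesis (i) on `σ`. -/
def Solv (σ : k →+* k) : Prop :=
  ∀ (n : ℕ) (b : Fin (n + 1) → k), b ≠ 0 →
    ∃ x : k, x ≠ 0 ∧ x = ∑ i : Fin (n + 1), (⇑σ)^[i.val + 1] x * (⇑σ)^[i.val] (b (Fin.rev i))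

/-- The coefficients of the fixed vector. -/
def coefX (σ : k →+* k) (x : k) (b' : ℕ → k) (j : ℕ) : k :=
  ∑ i ∈ Finset.range (j + 1), (⇑σ)^[i + 1] x * (⇑σ)^[i] (b' (j - i))

theorem coefX_zero (x : k) (b' : ℕ → k) : coefX σ x b' 0 = σ x * b' 0 := by
  simp [coefX]

theorem coefX_succ (x : k) (b' : ℕ → k) (j : ℕ) :
    coefX σ x b' (j + 1) = σ (coefX σ x b' j) + σ x * b' (j + 1) := by
  unfold coefX
  rw [Finset.sum_range_succ' _ (j + 1), map_sum]
  simp only [Function.iterate_zero, id_eq, Nat.sub_zero, Function.iterate_succ, Function.comp_apply,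
    Nat.add_sub_add_right, map_mul]
  congr 1
  apply Finset.sum_congr rfl
  intro i _
  rw [← Function.iterate_succ_apply' σ, ← Function.iterate_succ_apply' σ,
    Function.iterate_succ_apply, Function.iterate_succ_apply]

/-- Key computation: a fixed vector from a solution of the equation. -/
theorem fixed_of_solution (T : V →ₛₗ[σ] V) (E : ℕ → V) (hE : ∀ m, T (E m) = E (m + 1)) (n : ℕ)
    (b' : ℕ → k) (hb : E (n + 1) = ∑ j ∈ Finset.range (n + 1), b' j • E j) (x : k)
    (hx : coefX σ x b' n = x) :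
    T (∑ j ∈ Finset.range (n + 1), coefX σ x b' j • E j) =
      ∑ j ∈ Finset.range (n + 1), coefX σ x b' j • E j := by
  rw [map_sum]
  simp only [LinearMap.map_smulₛₗ, hE]
  rw [Finset.sum_range_succ, hx, hb, Finset.smul_sum]
  rw [Finset.sum_range_succ' (fun j => coefX σ x b' j • E j) n]
  simp only [coefX_succ, coefX_zero, add_smul, Finset.sum_add_distrib, smul_smul]
  rw [add_assoc]
  congr 1
  rw [Finset.sum_range_succ' (fun j => (σ x * b' j) • E j) n]

end Fixed2

section Fixed3

variable {k : Type u} [Field k] {σ : k →+* k} {V : Type v} [AddCommGroup V] [Module k V]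
  [FiniteDimensional k V]

theorem exists_fixed (T : V →ₛₗ[σ] V) (h2 : Solv σ) (e : V) (he : ∀ m : ℕ, (⇑T)^[m] e ≠ 0) :
    ∃ v ∈ Submodule.span k (Set.range (fun m : ℕ => (⇑T)^[m] e)), v ≠ 0 ∧ T v = v := by
  set E : ℕ → V := fun m => (⇑T)^[m] e with hEdef
  have hE : ∀ m, T (E m) = E (m + 1) := fun m => (Function.iterate_succ_apply' T m e).symm
  obtain ⟨n, hli, hmem⟩ := exists_dependence (k := k) E (he 0)
  obtain ⟨b, hb⟩ := (Submodule.mem_span_range_iff_exists_fun k).mp hmem
  have hb0 : b ≠ 0 := by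
    rintro rfl
    simp only [Pi.zero_apply, zero_smul, Finset.sum_const_zero] at hb
    exact he (n + 1) hb.symm
  obtain ⟨x, hx0, hx⟩ := h2 n b hb0
  set b' : ℕ → k := fun m => if h : m < n + 1 then b ⟨m, h⟩ else 0 with hb'def
  have hb' : E (n + 1) = ∑ j ∈ Finset.range (n + 1), b' j • E j := by
    rw [← hb, Finset.sum_range]
    apply Finset.sum_congr rfl
    intro i _
    simp only [hb'def, dif_pos i.isLt, Fin.eta]
  have hxn : coefX σ x b' n = x := by
    conv_rhs => rw [hx]
    unfold coefX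
    rw [Finset.sum_range]
    apply Finset.sum_congr rfl
    intro i _
    have h1 : n - (i : ℕ) < n + 1 := by omega
    have h2 : (⟨n - (i : ℕ), h1⟩ : Fin (n + 1)) = Fin.rev i := by
      apply Fin.ext
      rw [Fin.val_rev]
      simp
    simp only [hb'def, dif_pos h1, h2]
  refine ⟨∑ j ∈ Finset.range (n + 1), coefX σ x b' j • E j, ?_, ?_,
    fixed_of_solution T E hE n b' hb' x hxn⟩
  · apply Submodule.sum_mem
    intro j _
    exact Submodule.smul_mem _ _ (Submodule.subset_span ⟨j, rfl⟩)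
  · intro h0
    rw [Finset.sum_range] at h0
    have := (Fintype.linearIndependent_iff.mp hli) (fun j : Fin (n + 1) => coefX σ x b' j) h0
      (Fin.last n)
    simp only [Fin.val_last] at this
    rw [hxn] at this
    exact hx0 this

end Fixed3

section FixedSpan

variable {k : Type u} [Field k] {σ : k →+* k} {V : Type v} [AddCommGroup V] [Module k V]

/-- The span of the fixed vectors. -/
def U (T : V →ₛₗ[σ] V) : Submodule k V := Submodule.span k {v : V | T v = v}

theorem T_mem_U (T : V →ₛₗ[σ] V) (u : V) (hu : u ∈ U T) : T u ∈ U T := by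
  unfold U at hu ⊢
  induction hu using Submodule.span_induction with
  | mem x hx => rw [hx]; exact Submodule.subset_span hx
  | zero => rw [map_zero]; exact Submodule.zero_mem _
  | add x y _ _ hx hy => rw [map_add]; exact Submodule.add_mem _ hx hy
  | smul c x _ hx => rw [LinearMap.map_smulₛₗ]; exact Submodule.smul_mem _ _ hx

theorem U_le_comap (T : V →ₛₗ[σ] V) : U T ≤ (U T).comap T := fun u hu => T_mem_U T u hu

theorem exists_sub_eq_smul (T : V →ₛₗ[σ] V) (h3 : ∀ c : k, ∃ y : k, σ y - y + c = 0) (u : V)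
    (hu : u ∈ U T) : ∀ c : k, ∃ u' ∈ U T, u' - T u' = c • u := by
  unfold U at hu
  induction hu using Submodule.span_induction with
  | mem x hx =>
    intro c
    obtain ⟨y, hy⟩ := h3 c
    refine ⟨y • x, Submodule.smul_mem _ _ (Submodule.subset_span hx), ?_⟩
    have hx' : T x = x := hx
    rw [LinearMap.map_smulₛₗ, hx', ← sub_smul]
    congr 1
    linear_combination -hy
  | zero =>
    intro c
    exact ⟨0, Submodule.zero_mem _, by simp⟩
  | add x y _ _ hx hy =>
    intro c
    obtain ⟨a, ha, ha'⟩ := hx c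
    obtain ⟨b, hb, hb'⟩ := hy c
    refine ⟨a + b, Submodule.add_mem _ ha hb, ?_⟩
    rw [map_add, smul_add, ← ha', ← hb']
    abel
  | smul d x _ hx =>
    intro c
    obtain ⟨a, ha, ha'⟩ := hx (c * d)
    exact ⟨a, ha, by rw [ha', mul_smul]⟩

variable [FiniteDimensional k V]

theorem I_eq_top_of_span_range (T : V →ₛₗ[σ] V) (h1 : Submodule.span k (Set.range ⇑T) = ⊤)
    (n : ℕ) : I T n = ⊤ := by
  induction n with
  | zero =>
    unfold I
    simp
  | succ n ih =>
    rw [eq_top_iff, ← h1]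
    apply Submodule.span_le.mpr
    rintro _ ⟨w, rfl⟩
    exact map_mem_I T n w (by rw [ih]; trivial)

theorem U_eq_top (T : V →ₛₗ[σ] V) (h1 : Submodule.span k (Set.range ⇑T) = ⊤) (h2 : Solv σ)
    (h3 : ∀ c : k, ∃ y : k, σ y - y + c = 0) : U T = ⊤ := by
  by_contra hne
  let Tq : (V ⧸ U T) →ₛₗ[σ] (V ⧸ U T) := (U T).mapQ (U T) T (U_le_comap T)
  have hTq : ∀ w : V, Tq ((U T).mkQ w) = (U T).mkQ (T w) := fun w => by
    simp [Tq]
  have h1q : Submodule.span k (Set.range ⇑Tq) = ⊤ := by
    rw [eq_top_iff]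
    have : (⊤ : Submodule k (V ⧸ U T)) = Submodule.map (U T).mkQ ⊤ := by
      rw [Submodule.map_top, Submodule.range_mkQ]
    rw [this, ← h1, Submodule.map_span]
    apply Submodule.span_mono
    rintro _ ⟨_, ⟨w, rfl⟩, rfl⟩
    exact ⟨(U T).mkQ w, hTq w⟩
  obtain ⟨q, hq⟩ : ∃ q : V ⧸ U T, q ≠ 0 := by
    by_contra hall
    push Not at hall
    apply hne
    rw [eq_top_iff]
    intro w _
    exact (Submodule.Quotient.mk_eq_zero (U T)).mp (hall (Submodule.Quotient.mk w))
  have hqnil : ∀ m : ℕ, (⇑Tq)^[m] q ≠ 0 := by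
    intro m hm
    apply hq
    apply eq_zero_of_nil_of_mem_I Tq q ⟨m, hm⟩
    intro n
    rw [I_eq_top_of_span_range Tq h1q n]
    trivial
  obtain ⟨wq, -, hwq0, hwqfix⟩ := exists_fixed Tq h2 q hqnil
  obtain ⟨w, rfl⟩ := (U T).mkQ_surjective wq
  rw [hTq, ← sub_eq_zero, ← map_sub, Submodule.mkQ_apply, Submodule.Quotient.mk_eq_zero] at hwqfix
  obtain ⟨u', hu', hu'eq⟩ := exists_sub_eq_smul T h3 _ hwqfix 1
  rw [one_smul] at hu'eq
  have hfix : T (w + u') = w + u' := by
    rw [map_add]
    have : T u' = u' - (T w - w) := by rw [← hu'eq]; abel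
    rw [this]; abel
  have hmem : w + u' ∈ U T := Submodule.subset_span hfix
  have hw : w ∈ U T := by
    have := Submodule.sub_mem _ hmem hu'
    simpa using this
  apply hwq0
  rw [Submodule.mkQ_apply, Submodule.Quotient.mk_eq_zero]
  exact hw

theorem exists_fixed_basis_of_U_eq_top (T : V →ₛₗ[σ] V) (hU : U T = ⊤) :
    ∃ b : Module.Basis (Fin (Module.finrank k V)) k V, ∀ i, T (b i) = b i := by
  have hs : ⊤ ≤ Submodule.span k {v : V | T v = v} := by
    rw [← hU]; rfl
  let b0 := Module.Basis.ofSpan hs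
  let eqv := b0.indexEquiv (Module.finBasis k V)
  refine ⟨b0.reindex eqv, fun i => ?_⟩
  have : (b0.reindex eqv) i ∈ {v : V | T v = v} := by
    apply Module.Basis.ofSpan_subset hs
    rw [Module.Basis.reindex_apply]
    exact ⟨_, rfl⟩
  exact this

theorem exists_fixed_basis (T : V →ₛₗ[σ] V) (h1 : Submodule.span k (Set.range ⇑T) = ⊤)
    (h2 : Solv σ) (h3 : ∀ c : k, ∃ y : k, σ y - y + c = 0) :
    ∃ b : Module.Basis (Fin (Module.finrank k V)) k V, ∀ i, T (b i) = b i :=
  exists_fixed_basis_of_U_eq_top T (U_eq_top T h1 h2 h3)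

theorem surjective_sub_of_U_eq_top (T : V →ₛₗ[σ] V) (hU : U T = ⊤)
    (h3 : ∀ c : k, ∃ y : k, σ y - y + c = 0) : Function.Surjective (fun v : V => v - T v) := by
  intro v
  obtain ⟨u', -, hu'⟩ := exists_sub_eq_smul T h3 v (by rw [hU]; trivial) 1
  exact ⟨u', by simpa using hu'⟩

end FixedSpan

section General

variable {k : Type u} [Field k] {σ : k →+* k} {V : Type v} [AddCommGroup V] [Module k V]
  [FiniteDimensional k V]

/-- the stable part -/
def J (T : V →ₛₗ[σ] V) : Submodule k V := ⨅ n : ℕ, I T n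

theorem J_coe (T : V →ₛₗ[σ] V) : (J T : Set V) = ⋂ n : ℕ, (I T n : Set V) := by
  unfold J
  simp

theorem T_mem_J (T : V →ₛₗ[σ] V) (v : V) (hv : v ∈ J T) : T v ∈ J T := by
  unfold J at hv ⊢
  rw [Submodule.mem_iInf] at hv ⊢
  intro n
  exact I_succ_le T n (map_mem_I T n v (hv n))

/-- restriction of `T` to the stable part -/
def TJ (T : V →ₛₗ[σ] V) : J T →ₛₗ[σ] J T :=
  (T.domRestrict (J T)).codRestrict (J T) (fun x => T_mem_J T x x.2)

@[simp] theorem TJ_coe (T : V →ₛₗ[σ] V) (x : J T) : ((TJ T x : J T) : V) = T x := rfl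

theorem TJ_surjective (hσ : Function.Surjective σ) (T : V →ₛₗ[σ] V) :
    Function.Surjective (TJ T) := by
  intro y
  have hbij := bijOn_iInter_I hσ T
  rw [← J_coe] at hbij
  obtain ⟨w, hw, hwy⟩ := hbij.surjOn y.2
  exact ⟨⟨w, hw⟩, Subtype.ext hwy⟩

theorem J_fixed_basis_and_surj (hσ : Function.Surjective σ) (T : V →ₛₗ[σ] V) (h2 : Solv σ)
    (h3 : ∀ c : k, ∃ y : k, σ y - y + c = 0) :
    (∃ b : Module.Basis (Fin (Module.finrank k (J T))) k (J T), ∀ i, T (b i : V) = (b i : V)) ∧
      ∀ u ∈ J T, ∃ u' ∈ J T, u' - T u' = u := by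
  have h1 : Submodule.span k (Set.range ⇑(TJ T)) = ⊤ := by
    rw [(TJ_surjective hσ T).range_eq, Submodule.span_univ]
  have hU := U_eq_top (TJ T) h1 h2 h3
  refine ⟨?_, ?_⟩
  · obtain ⟨b, hb⟩ := exists_fixed_basis_of_U_eq_top (TJ T) hU
    exact ⟨b, fun i => congrArg Subtype.val (hb i)⟩
  · intro u hu
    obtain ⟨u', hu'⟩ := surjective_sub_of_U_eq_top (TJ T) hU h3 ⟨u, hu⟩
    refine ⟨u', u'.2, ?_⟩
    have := congrArg Subtype.val hu'
    simpa using this

theorem nil_sub_surj (T : V →ₛₗ[σ] V) (N : ℕ) (w : V) (hw : (⇑T)^[N] w = 0) :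
    ∃ w', w' - T w' = w := by
  refine ⟨∑ i ∈ Finset.range N, (⇑T)^[i] w, ?_⟩
  rw [map_sum, ← Finset.sum_sub_distrib]
  have : ∀ i ∈ Finset.range N, (⇑T)^[i] w - T ((⇑T)^[i] w) = (⇑T)^[i] w - (⇑T)^[i + 1] w := by
    intro i _
    rw [Function.iterate_succ_apply']
  rw [Finset.sum_congr rfl this, Finset.sum_range_sub', hw]
  simp

theorem surjective_sub (hσ : Function.Surjective σ) (T : V →ₛₗ[σ] V) (h2 : Solv σ)
    (h3 : ∀ c : k, ∃ y : k, σ y - y + c = 0) : Function.Surjective (fun v : V => v - T v) := by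
  intro v
  obtain ⟨N, hI, hK⟩ := exists_stable T
  have hc := isCompl_K_I hσ T N hI
  have hJ : J T = I T N := iInf_I_eq T N hI
  have hv : v ∈ K T N ⊔ I T N := by rw [hc.sup_eq_top]; trivial
  obtain ⟨w, hw, u, hu, rfl⟩ := Submodule.mem_sup.mp hv
  obtain ⟨w', hw'⟩ := nil_sub_surj T N w ((mem_K T N w).mp hw)
  obtain ⟨u', -, hu'⟩ := (J_fixed_basis_and_surj hσ T h2 h3).2 u (by rw [hJ]; exact hu)
  refine ⟨w' + u', ?_⟩
  simp only [map_add]
  rw [← hw', ← hu']
  abel

end General

section FixedRepr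

variable {k : Type u} [Field k] {σ : k →+* k} {V : Type v} [AddCommGroup V] [Module k V]
  [FiniteDimensional k V]

theorem fixed_mem_J (T : V →ₛₗ[σ] V) (q : V) (hq : T q = q) : q ∈ J T := by
  unfold J
  rw [Submodule.mem_iInf]
  intro n
  apply Submodule.subset_span
  exact ⟨q, Function.iterate_fixed hq n⟩

theorem fixed_repr (hσ : Function.Surjective σ) (T : V →ₛₗ[σ] V) (h2 : Solv σ)
    (h3 : ∀ c : k, ∃ y : k, σ y - y + c = 0) :
    ∃ (d : ℕ) (b : Fin d → V), (∀ i, T (b i) = b i) ∧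
      ∀ q, T q = q → ∃ c : Fin d → k, (∀ i, σ (c i) = c i) ∧ q = ∑ i, c i • b i := by
  obtain ⟨b, hb⟩ := (J_fixed_basis_and_surj hσ T h2 h3).1
  refine ⟨_, fun i => (b i : V), hb, fun q hq => ?_⟩
  have hqJ := fixed_mem_J T q hq
  refine ⟨fun i => b.repr ⟨q, hqJ⟩ i, ?_, ?_⟩
  · have h1 : (⟨q, hqJ⟩ : J T) = ∑ i, b.repr ⟨q, hqJ⟩ i • b i := (b.sum_repr _).symm
    have h2' : TJ T ⟨q, hqJ⟩ = ⟨q, hqJ⟩ := Subtype.ext hq
    have h3' : TJ T ⟨q, hqJ⟩ = ∑ i, σ (b.repr ⟨q, hqJ⟩ i) • b i := by
      conv_lhs => rw [h1]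
      rw [map_sum]
      apply Finset.sum_congr rfl
      intro i _
      rw [LinearMap.map_smulₛₗ]
      congr 1
      exact Subtype.ext (hb i)
    intro i
    have h4 : ∑ i, σ (b.repr ⟨q, hqJ⟩ i) • b i = ∑ i, b.repr ⟨q, hqJ⟩ i • b i := by
      rw [← h3', h2', ← h1]
    have h5 := congrArg (fun x => (b.repr x : Fin _ → k)) h4
    simp only [Module.Basis.repr_sum_self] at h5
    exact congrFun h5 i
  · have h1 : (⟨q, hqJ⟩ : J T) = ∑ i, b.repr ⟨q, hqJ⟩ i • b i := (b.sum_repr _).symm
    have := congrArg Subtype.val h1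
    rw [Submodule.coe_sum] at this
    simp only [Submodule.coe_smul] at this
    exact this

end FixedRepr

end Groth.Agent.H96.SigmaLin
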