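import Groth.Agent.H96.SigmaLin
import Mathlib.RingTheory.LocalRing.ResidueField.Basic
import Mathlib.Algebra.Module.Torsion.Basic
import Mathlib.RingTheory.Ideal.Operations
import Mathlib.RingTheory.Finiteness.Basic
import Mathlib.Algebra.Module.Submodule.Pointwise

set_option autoImplicit false
universe u v w

open IsLocalRing

namespace Groth.Agent.H96.SigmaLin

section Quot

variable {R : Type u} [CommRing R] [IsLocalRing R] {σ : R →+* R}
  {σbar : ResidueField R →+* ResidueField R}
  (hσbar : ∀ r : R, σbar (residue R r) = residue R (σ r))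
  {M : Type v} [AddCommGroup M] [Module R M]

/-- The quotient `M / 𝔪 M`. -/
abbrev QM (R : Type u) [CommRing R] [IsLocalRing R] (M : Type v) [AddCommGroup M] [Module R M] :
    Type v := M ⧸ (maximalIdeal R • ⊤ : Submodule R M)

noncomputable instance : Module (ResidueField R) (QM R M) :=
  inferInstanceAs (Module (R ⧸ maximalIdeal R) (M ⧸ (maximalIdeal R • ⊤ : Submodule R M)))

theorem residue_smul_mk (r : R) (m : M) :
    (residue R r) • (Submodule.Quotient.mk m : QM R M) = Submodule.Quotient.mk (r • m) := rfl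

instance : IsScalarTower R (ResidueField R) (QM R M) := by
  apply IsScalarTower.of_algebraMap_smul
  intro r q
  obtain ⟨m, rfl⟩ := Submodule.Quotient.mk_surjective _ q
  rfl

include hσbar in
theorem sigma_mem_maximalIdeal (a : R) (ha : a ∈ maximalIdeal R) : σ a ∈ maximalIdeal R := by
  rw [← residue_eq_zero_iff] at ha ⊢
  rw [← hσbar, ha, map_zero]

include hσbar in
theorem T_mem_smul_top (T : M →ₛₗ[σ] M) :
    (maximalIdeal R • ⊤ : Submodule R M) ≤ (maximalIdeal R • ⊤ : Submodule R M).comap T := by
  intro x hx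
  rw [Submodule.mem_comap]
  refine Submodule.smul_induction_on hx (fun a ha m _ => ?_) (fun x y hx hy => ?_)
  · rw [LinearMap.map_smulₛₗ]
    exact Submodule.smul_mem_smul (sigma_mem_maximalIdeal hσbar a ha) trivial
  · rw [map_add]
    exact Submodule.add_mem _ hx hy

/-- The induced `σbar`-semilinear map on `M / 𝔪 M`. -/
noncomputable def Tbar (T : M →ₛₗ[σ] M) : QM R M →ₛₗ[σbar] QM R M where
  toFun := Submodule.mapQ _ _ T (T_mem_smul_top hσbar T)
  map_add' := map_add _
  map_smul' c q := by
    obtain ⟨r, rfl⟩ := residue_surjective c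
    obtain ⟨m, rfl⟩ := Submodule.Quotient.mk_surjective _ q
    rw [residue_smul_mk, hσbar]
    simp only [Submodule.mapQ_apply, LinearMap.map_smulₛₗ]
    rfl

theorem Tbar_mk (T : M →ₛₗ[σ] M) (m : M) :
    Tbar hσbar T (Submodule.Quotient.mk m) = Submodule.Quotient.mk (T m) := rfl

end Quot

section Devissage

variable {R : Type u} [CommRing R] [IsLocalRing R] {σ : R →+* R}
  {σbar : ResidueField R →+* ResidueField R}
  (hσbar : ∀ r : R, σbar (residue R r) = residue R (σ r))

/-- restriction of `T` to `𝔪 M`. -/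
noncomputable def Tsub {M : Type v} [AddCommGroup M] [Module R M] (T : M →ₛₗ[σ] M) :
    (maximalIdeal R • ⊤ : Submodule R M) →ₛₗ[σ] (maximalIdeal R • ⊤ : Submodule R M) :=
  (T.domRestrict _).codRestrict _ (fun x => T_mem_smul_top hσbar T x.2)

theorem Tsub_coe {M : Type v} [AddCommGroup M] [Module R M] (T : M →ₛₗ[σ] M)
    (x : (maximalIdeal R • ⊤ : Submodule R M)) : ((Tsub hσbar T x : _) : M) = T x := rfl

/-- dévissage step for surjectivity of `1 - T`. -/
theorem surj_of_sub_of_quot {M : Type v} [AddCommGroup M] [Module R M] (T : M →ₛₗ[σ] M)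
    (h1 : Function.Surjective (fun x : (maximalIdeal R • ⊤ : Submodule R M) => x - Tsub hσbar T x))
    (h2 : Function.Surjective (fun q : QM R M => q - Tbar hσbar T q)) :
    Function.Surjective (fun m : M => m - T m) := by
  intro m
  obtain ⟨q, hq⟩ := h2 (Submodule.Quotient.mk m)
  obtain ⟨q, rfl⟩ := Submodule.Quotient.mk_surjective _ q
  simp only [Tbar_mk, ← Submodule.Quotient.mk_sub] at hq
  have hmem : m - (q - T q) ∈ (maximalIdeal R • ⊤ : Submodule R M) := by
    rw [← Submodule.Quotient.mk_eq_zero, Submodule.Quotient.mk_sub, hq, sub_self]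
  obtain ⟨x, hx⟩ := h1 ⟨_, hmem⟩
  have hx' := congrArg Subtype.val hx
  simp only [Submodule.coe_sub, Tsub_coe] at hx'
  refine ⟨q + x, ?_⟩
  simp only [map_add]
  rw [← sub_eq_zero]
  have : q + ↑x - (T q + T ↑x) - m = (↑x - T ↑x) - (m - (q - T q)) := by abel
  rw [this, hx', sub_self]

end Devissage

section Induction

variable {R : Type u} [CommRing R] [IsLocalRing R] {σ : R →+* R}
  {σbar : ResidueField R →+* ResidueField R}
  (hσbar : ∀ r : R, σbar (residue R r) = residue R (σ r))

theorem mem_smul_top_iff (p : ℕ) (hmax : maximalIdeal R = Ideal.span {(p : R)})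
    {M : Type v} [AddCommGroup M] [Module R M] (x : M) :
    x ∈ (maximalIdeal R • ⊤ : Submodule R M) ↔ ∃ y : M, (p : R) • y = x := by
  rw [hmax, Submodule.ideal_span_singleton_smul, Submodule.mem_smul_pointwise_iff_exists]
  simp

theorem finite_smul_top (p : ℕ) (hmax : maximalIdeal R = Ideal.span {(p : R)})
    {M : Type v} [AddCommGroup M] [Module R M] [Module.Finite R M] :
    Module.Finite R (maximalIdeal R • ⊤ : Submodule R M) := by
  rw [Module.Finite.iff_fg, hmax, Submodule.ideal_span_singleton_smul]
  exact Submodule.FG.map _ Module.Finite.fg_top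

instance finite_QM {M : Type v} [AddCommGroup M] [Module R M] [Module.Finite R M] :
    Module.Finite (ResidueField R) (QM R M) :=
  Module.Finite.of_restrictScalars_finite R (ResidueField R) (QM R M)

include hσbar in
theorem surj_local (p : ℕ) (hmax : maximalIdeal R = Ideal.span {(p : R)})
    (hsurj : Function.Surjective σbar) (h2 : Solv σbar)
    (h3 : ∀ c : ResidueField R, ∃ y : ResidueField R, σbar y - y + c = 0) (j : ℕ) :
    ∀ (M : Type v) [AddCommGroup M] [Module R M] [Module.Finite R M] (T : M →ₛₗ[σ] M),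
      (∀ m : M, (p : R) ^ j • m = 0) → Function.Surjective (fun m : M => m - T m) := by
  induction j with
  | zero =>
    intro M _ _ _ T hM m
    have : ∀ m : M, m = 0 := fun m => by simpa using hM m
    exact ⟨0, by rw [this m]; simp⟩
  | succ j ih =>
    intro M _ _ _ T hM
    have := finite_smul_top p hmax (M := M)
    apply surj_of_sub_of_quot hσbar T
    · apply ih _ (Tsub hσbar T)
      intro x
      obtain ⟨y, hy⟩ := (mem_smul_top_iff p hmax x.1).mp x.2
      apply Subtype.ext
      rw [Submodule.coe_smul, ← hy, smul_smul, ← pow_succ, hM]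
      rfl
    · exact surjective_sub hsurj (Tbar hσbar T) h2 h3

end Induction

section FixedGen

variable {R : Type u} [CommRing R] [IsLocalRing R] {σ : R →+* R}
  {σbar : ResidueField R →+* ResidueField R}
  (hσbar : ∀ r : R, σbar (residue R r) = residue R (σ r))

/-- the fixed subring -/
def R0 (σ : R →+* R) : Subring R := RingHom.eqLocus σ (RingHom.id R)

theorem mem_R0 (r : R) : r ∈ R0 σ ↔ σ r = r := by
  unfold R0
  rw [RingHom.mem_eqLocus]
  rfl

include hσbar in
theorem fixed_gen (p : ℕ) (hmax : maximalIdeal R = Ideal.span {(p : R)})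
    (hsurj : Function.Surjective σbar) (h2 : Solv σbar)
    (h3 : ∀ c : ResidueField R, ∃ y : ResidueField R, σbar y - y + c = 0)
    (hlift : ∀ x : ResidueField R, σbar x = x → ∃ r : R, σ r = r ∧ residue R r = x) (j : ℕ) :
    ∀ (M : Type v) [AddCommGroup M] [Module R M] [Module.Finite R M] (T : M →ₛₗ[σ] M),
      (∀ m : M, (p : R) ^ j • m = 0) →
      ∃ s : Set M, s.Finite ∧ (∀ x ∈ s, T x = x) ∧
        ∀ m, T m = m → m ∈ Submodule.span (R0 σ) s := by
  induction j with
  | zero =>
    intro M _ _ _ T hM
    have : ∀ m : M, m = 0 := fun m => by simpa using hM m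
    refine ⟨∅, Set.finite_empty, fun x hx => absurd hx (Set.notMem_empty x), fun m _ => ?_⟩
    rw [this m]; exact Submodule.zero_mem _
  | succ j ih =>
    intro M _ _ _ T hM
    have hfin := finite_smul_top p hmax (M := M)
    have hkill : ∀ x : (maximalIdeal R • ⊤ : Submodule R M), (p : R) ^ j • x = 0 := by
      intro x
      obtain ⟨y, hy⟩ := (mem_smul_top_iff p hmax x.1).mp x.2
      apply Subtype.ext
      rw [Submodule.coe_smul, ← hy, smul_smul, ← pow_succ, hM]
      rfl
    obtain ⟨s', hs'fin, hs'fix, hs'gen⟩ := ih _ (Tsub hσbar T) hkill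
    have hsub := surj_local hσbar p hmax hsurj h2 h3 j _ (Tsub hσbar T) hkill
    obtain ⟨d, b, hbfix, hbrepr⟩ := fixed_repr hsurj (Tbar hσbar T) h2 h3
    -- fixed lifts
    have hl : ∀ i : Fin d, ∃ mt : M, T mt = mt ∧ (Submodule.Quotient.mk mt : QM R M) = b i := by
      intro i
      obtain ⟨m0, hm0⟩ := Submodule.Quotient.mk_surjective _ (b i)
      have h1 := hbfix i
      rw [← hm0, Tbar_mk, ← sub_eq_zero, ← Submodule.Quotient.mk_sub,
        Submodule.Quotient.mk_eq_zero] at h1
      obtain ⟨x, hx⟩ := hsub ⟨_, h1⟩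
      have hx' := congrArg Subtype.val hx
      simp only [Submodule.coe_sub, Tsub_coe] at hx'
      refine ⟨m0 + x, ?_, ?_⟩
      · rw [map_add]
        have : T ↑x = ↑x - (T m0 - m0) := by rw [← hx']; abel
        rw [this]; abel
      · rw [Submodule.Quotient.mk_add, hm0, (Submodule.Quotient.mk_eq_zero _).mpr x.2, add_zero]
    choose mt hmtfix hmtmk using hl
    refine ⟨(Subtype.val '' s') ∪ Set.range mt, (hs'fin.image _).union (Set.finite_range _), ?_, ?_⟩
    · rintro x (⟨y, hy, rfl⟩ | ⟨i, rfl⟩)
      · exact congrArg Subtype.val (hs'fix y hy)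
      · exact hmtfix i
    · intro m hm
      have hmq : Tbar hσbar T (Submodule.Quotient.mk m) = Submodule.Quotient.mk m := by
        rw [Tbar_mk, hm]
      obtain ⟨c, hcfix, hc⟩ := hbrepr _ hmq
      have hr : ∀ i, ∃ r : R, σ r = r ∧ residue R r = c i := fun i => hlift _ (hcfix i)
      choose r hrfix hrc using hr
      set m' : M := m - ∑ i, r i • mt i with hm'
      have hm'mem : m' ∈ (maximalIdeal R • ⊤ : Submodule R M) := by
        rw [← Submodule.Quotient.mk_eq_zero, hm', Submodule.Quotient.mk_sub, hc, sub_eq_zero]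
        have : (Submodule.Quotient.mk (∑ i, r i • mt i) : QM R M) =
            ∑ i, (Submodule.Quotient.mk (r i • mt i) : QM R M) :=
          map_sum (Submodule.mkQ _) _ _
        rw [this]
        apply Finset.sum_congr rfl
        intro i _
        rw [← hrc i, ← hmtmk i, residue_smul_mk]
      have hm'fix : T m' = m' := by
        rw [hm', map_sub, hm, map_sum]
        congr 1
        apply Finset.sum_congr rfl
        intro i _
        rw [LinearMap.map_smulₛₗ, hrfix, hmtfix]
      have h1 : (⟨m', hm'mem⟩ : (maximalIdeal R • ⊤ : Submodule R M)) ∈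
          Submodule.span (R0 σ) s' := hs'gen _ (Subtype.ext hm'fix)
      have h2' : m' ∈ Submodule.span (R0 σ) (Subtype.val '' s') := by
        have := Submodule.apply_mem_span_image_of_mem_span
          (((maximalIdeal R • ⊤ : Submodule R M).subtype).restrictScalars (R0 σ)) h1
        exact this
      have hm_eq : m = m' + ∑ i, r i • mt i := by rw [hm']; abel
      rw [hm_eq]
      apply Submodule.add_mem
      · exact Submodule.span_mono Set.subset_union_left h2'
      · apply Submodule.sum_mem
        intro i _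
        have : r i • mt i = (⟨r i, (mem_R0 (r i)).mpr (hrfix i)⟩ : R0 σ) • mt i := rfl
        rw [this]
        exact Submodule.smul_mem _ _ (Submodule.subset_span (Or.inr ⟨i, rfl⟩))

end FixedGen

end Groth.Agent.H96.SigmaLin
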