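import Groth.Agent.H42.SpSeq
import Mathlib.Algebra.Homology.ShortComplex.ModuleCat
import Mathlib.LinearAlgebra.FiniteDimensional.Lemmas
import Mathlib.Algebra.Category.ModuleCat.Kernels
import Mathlib.Data.Int.Interval
import Mathlib.Algebra.Order.BigOperators.Group.Finset

set_option autoImplicit false
universe v u
open CategoryTheory CategoryTheory.Limits

namespace Groth.Agent.H96.SpSeqDim

variable {K : Type u} [Field K]

section LinAlg

/-- an isomorphism in `ModuleCat K` preserves finiteness -/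
lemma finite_of_iso {M N : ModuleCat.{v} K} (e : M ≅ N) [Module.Finite K M] : Module.Finite K N :=
  Module.Finite.equiv e.toLinearEquiv

lemma finrank_eq_of_iso {M N : ModuleCat.{v} K} (e : M ≅ N) :
    Module.finrank K M = Module.finrank K N :=
  LinearEquiv.finrank_eq e.toLinearEquiv

variable (S : ShortComplex (ModuleCat.{v} K)) [Module.Finite K S.X₂]

lemma finite_homology : Module.Finite K S.homology := by
  have : Module.Finite K S.moduleCatLeftHomologyData.H := by
    show Module.Finite K (LinearMap.ker S.g.hom ⧸ LinearMap.range S.moduleCatToCycles)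
    infer_instance
  exact finite_of_iso S.moduleCatHomologyIso.symm

lemma finrank_homology_add :
    Module.finrank K S.homology + Module.finrank K (LinearMap.range S.moduleCatToCycles) =
      Module.finrank K (LinearMap.ker S.g.hom) := by
  rw [finrank_eq_of_iso S.moduleCatHomologyIso]
  exact Submodule.finrank_quotient_add_finrank (LinearMap.range S.moduleCatToCycles)

lemma finrank_homology_le : Module.finrank K S.homology ≤ Module.finrank K S.X₂ := by
  have h1 := finrank_homology_add S
  have h2 : Module.finrank K (LinearMap.ker S.g.hom) ≤ Module.finrank K S.X₂ :=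
    Submodule.finrank_le _
  omega

lemma eq_zero_of_finrank_homology_eq (h : Module.finrank K S.homology = Module.finrank K S.X₂) :
    S.f = 0 ∧ S.g = 0 := by
  have h1 := finrank_homology_add S
  have h2 : Module.finrank K (LinearMap.ker S.g.hom) ≤ Module.finrank K S.X₂ :=
    Submodule.finrank_le _
  have h3 : Module.finrank K (LinearMap.ker S.g.hom) = Module.finrank K S.X₂ := by omega
  have h4 : Module.finrank K (LinearMap.range S.moduleCatToCycles) = 0 := by omega
  have hker : LinearMap.ker S.g.hom = ⊤ := Submodule.eq_top_of_finrank_eq h3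
  have hrange : LinearMap.range S.moduleCatToCycles = ⊥ := Submodule.finrank_eq_zero.mp h4
  constructor
  · ext x
    have hx : S.moduleCatToCycles x ∈ LinearMap.range S.moduleCatToCycles := ⟨x, rfl⟩
    rw [hrange, Submodule.mem_bot] at hx
    exact congrArg Subtype.val hx
  · ext x
    have : x ∈ LinearMap.ker S.g.hom := by rw [hker]; trivial
    simpa using this

end LinAlg

section Pages

variable {r₀ : ℤ} (E : CohomologicalSpectralSequence (ModuleCat.{v} K) r₀)

lemma prev_eq (r : ℤ) (pq : ℤ × ℤ) :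
    (ComplexShape.up' (⟨r, 1 - r⟩ : ℤ × ℤ)).prev pq = pq - (r, 1 - r) :=
  (ComplexShape.up' (⟨r, 1 - r⟩ : ℤ × ℤ)).prev_eq' (by
    show pq - (r, 1 - r) + (r, 1 - r) = pq
    abel)

lemma next_eq (r : ℤ) (pq : ℤ × ℤ) :
    (ComplexShape.up' (⟨r, 1 - r⟩ : ℤ × ℤ)).next pq = pq + (r, 1 - r) :=
  (ComplexShape.up' (⟨r, 1 - r⟩ : ℤ × ℤ)).next_eq' (by
    show pq + (r, 1 - r) = pq + (r, 1 - r)
    rfl)

lemma finite_page_succ (r : ℤ) (hr : r₀ ≤ r) (pq : ℤ × ℤ)
    (h : Module.Finite K ((E.page r hr).X pq)) :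
    Module.Finite K ((E.page (r + 1) (hr.trans (Int.le_add_one le_rfl))).X pq) := by
  have : Module.Finite K ((E.page r hr).sc pq).X₂ := h
  have h2 : Module.Finite K ((E.page r hr).homology pq) := finite_homology ((E.page r hr).sc pq)
  exact finite_of_iso (E.iso r (r + 1) pq rfl hr)

lemma finite_page (hfd : ∀ pq : ℤ × ℤ, Module.Finite K ((E.page r₀ le_rfl).X pq))
    (r : ℤ) (hr : r₀ ≤ r) (pq : ℤ × ℤ) : Module.Finite K ((E.page r hr).X pq) := by
  induction r, hr using Int.leInduction with
  | base => exact hfd pq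
  | succ k hk ih => exact finite_page_succ E k hk pq ih

lemma finrank_page_succ_le (r : ℤ) (hr : r₀ ≤ r) (pq : ℤ × ℤ)
    (h : Module.Finite K ((E.page r hr).X pq)) :
    Module.finrank K ((E.page (r + 1) (hr.trans (Int.le_add_one le_rfl))).X pq) ≤
      Module.finrank K ((E.page r hr).X pq) := by
  have : Module.Finite K ((E.page r hr).sc pq).X₂ := h
  rw [← finrank_eq_of_iso (E.iso r (r + 1) pq rfl hr)]
  exact finrank_homology_le ((E.page r hr).sc pq)

lemma d_eq_zero_of_finrank_page_succ_eq (r : ℤ) (hr : r₀ ≤ r) (pq : ℤ × ℤ)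
    (h : Module.Finite K ((E.page r hr).X pq))
    (heq : Module.finrank K ((E.page (r + 1) (hr.trans (Int.le_add_one le_rfl))).X pq) =
      Module.finrank K ((E.page r hr).X pq)) :
    (E.page r hr).d (pq - (r, 1 - r)) pq = 0 ∧ (E.page r hr).d pq (pq + (r, 1 - r)) = 0 := by
  have : Module.Finite K ((E.page r hr).sc pq).X₂ := h
  rw [← finrank_eq_of_iso (E.iso r (r + 1) pq rfl hr)] at heq
  obtain ⟨h1, h2⟩ := eq_zero_of_finrank_homology_eq ((E.page r hr).sc pq) heq
  constructor
  · have : (E.page r hr).d ((ComplexShape.up' (⟨r, 1 - r⟩ : ℤ × ℤ)).prev pq) pq = 0 := h1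
    rwa [prev_eq] at this
  · have : (E.page r hr).d pq ((ComplexShape.up' (⟨r, 1 - r⟩ : ℤ × ℤ)).next pq) = 0 := h2
    rwa [next_eq] at this

/-- dimensions decrease along the pages; equality forces the intermediate differentials to vanish -/
lemma finrank_page_le (hfd : ∀ pq : ℤ × ℤ, Module.Finite K ((E.page r₀ le_rfl).X pq))
    (r : ℤ) (hr : r₀ ≤ r) (pq : ℤ × ℤ) (k : ℤ) (hk : r ≤ k) :
    Module.finrank K ((E.page k (hr.trans hk)).X pq) ≤ Module.finrank K ((E.page r hr).X pq) ∧
    (Module.finrank K ((E.page k (hr.trans hk)).X pq) = Module.finrank K ((E.page r hr).X pq) →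
      ∀ (r' : ℤ) (h₀ : r₀ ≤ r'), r ≤ r' → r' < k →
        (E.page r' h₀).d (pq - (r', 1 - r')) pq = 0 ∧ (E.page r' h₀).d pq (pq + (r', 1 - r')) = 0) := by
  induction k, hk using Int.leInduction with
  | base =>
    refine ⟨le_rfl, fun _ r' h₀ h1 h2 => ?_⟩
    omega
  | succ k hk ih =>
    obtain ⟨ih1, ih2⟩ := ih
    have hfin := finite_page E hfd k (hr.trans hk) pq
    have hle := finrank_page_succ_le E k (hr.trans hk) pq hfin
    refine ⟨hle.trans ih1, fun heq r' h₀ h1 h2 => ?_⟩
    have e1 : Module.finrank K ((E.page k (hr.trans hk)).X pq) =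
        Module.finrank K ((E.page r hr).X pq) := le_antisymm ih1 (heq ▸ hle)
    have e2 : Module.finrank K ((E.page (k + 1) ((hr.trans hk).trans (Int.le_add_one le_rfl))).X pq) =
        Module.finrank K ((E.page k (hr.trans hk)).X pq) := heq.trans e1.symm
    rcases (show r' < k ∨ r' = k by omega) with h3 | h3
    · exact ih2 e1 r' h₀ h1 h3
    · subst h3
      exact d_eq_zero_of_finrank_page_succ_eq E r' h₀ pq hfin e2

end Pages

section Fil

variable {X : ModuleCat.{v} K}

lemma finite_step [Module.Finite K X] (Y : Subobject X) : Module.Finite K (Y : ModuleCat.{v} K) :=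
  Module.Finite.of_injective Y.arrow.hom ((ModuleCat.mono_iff_injective _).mp inferInstance)

lemma finrank_cokernel_add {A B : ModuleCat.{v} K} [Module.Finite K B] (f : A ⟶ B) [Mono f] :
    Module.finrank K (cokernel f : ModuleCat.{v} K) + Module.finrank K A = Module.finrank K B := by
  rw [finrank_eq_of_iso (ModuleCat.cokernelIsoRangeQuotient f)]
  have h1 := Submodule.finrank_quotient_add_finrank (LinearMap.range f.hom)
  have h2 := LinearMap.finrank_range_of_inj ((ModuleCat.mono_iff_injective f).mp inferInstance)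
  rw [h2] at h1
  exact h1

variable [Module.Finite K X] (F : ℤ → Subobject X) (hF : Antitone F)

lemma finrank_grPiece_add (p : ℤ) :
    Module.finrank K (SpSeq.grPiece F hF p : ModuleCat.{v} K) +
      Module.finrank K (F (p + 1) : ModuleCat.{v} K) = Module.finrank K (F p : ModuleCat.{v} K) := by
  haveI := finite_step (F p)
  exact finrank_cokernel_add ((F (p + 1)).ofLE (F p) (hF (Int.le_add_one le_rfl)))

lemma finrank_of_eq_top {Y : Subobject X} (h : Y = ⊤) :
    Module.finrank K (Y : ModuleCat.{v} K) = Module.finrank K X := by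
  have : IsIso Y.arrow := (Subobject.isIso_arrow_iff_eq_top Y).mpr h
  exact finrank_eq_of_iso (asIso Y.arrow)

lemma finrank_of_eq_bot {Y : Subobject X} (h : Y = ⊥) :
    Module.finrank K (Y : ModuleCat.{v} K) = 0 := by
  subst h
  have hz : IsZero ((⊥ : Subobject X) : ModuleCat.{v} K) :=
    IsZero.of_iso (isZero_zero _) Subobject.botCoeIsoZero
  have : Subsingleton ((⊥ : Subobject X) : ModuleCat.{v} K) := ModuleCat.subsingleton_of_isZero hz
  exact Module.finrank_zero_of_subsingleton

lemma sum_Ico_finrank_grPiece_add (lo hi : ℤ) (h : lo ≤ hi) :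
    ∑ p ∈ Finset.Ico lo hi, Module.finrank K (SpSeq.grPiece F hF p : ModuleCat.{v} K) +
      Module.finrank K (F hi : ModuleCat.{v} K) = Module.finrank K (F lo : ModuleCat.{v} K) := by
  induction hi, h using Int.leInduction with
  | base => simp
  | succ k hk ih =>
    have e : Finset.Ico lo (k + 1) = insert k (Finset.Ico lo k) := by
      ext x
      simp only [Finset.mem_Ico, Finset.mem_insert]
      omega
    rw [e, Finset.sum_insert (by simp)]
    have := finrank_grPiece_add F hF k
    omega

lemma sum_Ico_finrank_grPiece (a b : ℤ) (ha : F a = ⊤) (hb : F b = ⊥) (lo hi : ℤ)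
    (hlo : lo ≤ a) (hhi : b ≤ hi) (hlohi : lo ≤ hi) :
    ∑ p ∈ Finset.Ico lo hi, Module.finrank K (SpSeq.grPiece F hF p : ModuleCat.{v} K) =
      Module.finrank K X := by
  have h1 := sum_Ico_finrank_grPiece_add F hF lo hi hlohi
  have h2 : F lo = ⊤ := top_le_iff.mp (ha ▸ hF hlo)
  have h3 : F hi = ⊥ := le_bot_iff.mp (hb ▸ hF hhi)
  rw [finrank_of_eq_top h2, finrank_of_eq_bot h3] at h1
  omega

end Fil

section Main

variable {r₀ : ℤ} (E : CohomologicalSpectralSequence (ModuleCat.{v} K) r₀)
  (H : ℤ → ModuleCat.{v} K) (a : SpSeq.Abutment E H)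

lemma finrank_grPiece_congr (m n : ℤ) (h : m = n) (s : ℤ) :
    Module.finrank K (SpSeq.grPiece (a.fil m) (a.anti m) s : ModuleCat.{v} K) =
      Module.finrank K (SpSeq.grPiece (a.fil n) (a.anti n) s : ModuleCat.{v} K) := by
  subst h; rfl

lemma finrank_zero_of_isZero {M : ModuleCat.{v} K} (h : IsZero M) : Module.finrank K M = 0 := by
  have : Subsingleton M := ModuleCat.subsingleton_of_isZero h
  exact Module.finrank_zero_of_subsingleton

theorem main (n : ℤ) (hfin : a.IsFinite n)
    (hquad : ∀ pq : ℤ × ℤ, pq.1 < 0 ∨ pq.2 < 0 → IsZero ((E.page r₀ le_rfl).X pq))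
    (hfd : ∀ pq : ℤ × ℤ, Module.Finite K ((E.page r₀ le_rfl).X pq))
    (hH : Module.Finite K (H n))
    (hsum : ∑ s ∈ Finset.Icc (0 : ℤ) n, Module.finrank K ((E.page r₀ le_rfl).X (s, n - s)) =
      Module.finrank K (H n)) :
    ∀ s : ℤ, SpSeq.StationaryAt E (s, n - s) r₀ := by
  -- vanishing outside the first quadrant, on all pages
  have hzero : ∀ s : ℤ, s ∉ Finset.Icc (0 : ℤ) n → ∀ (r : ℤ) (hr : r₀ ≤ r),
      IsZero ((E.page r hr).X (s, n - s)) := by
    intro s hs r hr
    have h0 : IsZero ((E.page r₀ le_rfl).X (s, n - s)) := by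
      apply hquad
      simp only [Finset.mem_Icc, not_and_or, not_le] at hs
      rcases hs with hs | hs
      · exact Or.inl hs
      · exact Or.inr (by show n - s < 0; omega)
    exact Groth.Agent.H42.isZero_page_of_le E r₀ le_rfl _ h0 r hr
  -- the limit terms
  have hβ : ∀ s : ℤ, Module.finrank K
      ((E.page (a.rk (s, n - s)) (a.stat (s, n - s)).1).X (s, n - s)) =
      Module.finrank K (SpSeq.grPiece (a.fil n) (a.anti n) s : ModuleCat.{v} K) := by
    intro s
    rw [finrank_eq_of_iso (a.β (s, n - s))]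
    exact finrank_grPiece_congr E H a _ n (by show s + (n - s) = n; ring) s
  have hle : ∀ s : ℤ, Module.finrank K
      ((E.page (a.rk (s, n - s)) (a.stat (s, n - s)).1).X (s, n - s)) ≤
      Module.finrank K ((E.page r₀ le_rfl).X (s, n - s)) :=
    fun s => (finrank_page_le E hfd r₀ le_rfl (s, n - s) _ (a.stat (s, n - s)).1).1
  -- the sum of the graded pieces
  obtain ⟨⟨a0, ha0⟩, ⟨b0, hb0⟩⟩ := hfin
  have ha0' : a.fil n a0 = ⊤ := ha0
  have hb0' : a.fil n b0 = ⊥ := hb0
  have hsumgr := sum_Ico_finrank_grPiece (a.fil n) (a.anti n) a0 b0 ha0' hb0'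
    (min a0 (min b0 0)) (max b0 (n + 1)) (min_le_left _ _) (le_max_left _ _)
    (((min_le_right _ _).trans (min_le_left _ _)).trans (le_max_left _ _))
  have hsub : Finset.Icc (0 : ℤ) n ⊆ Finset.Ico (min a0 (min b0 0)) (max b0 (n + 1)) := by
    intro s hs
    rw [Finset.mem_Icc] at hs
    rw [Finset.mem_Ico]
    constructor
    · exact ((min_le_right _ _).trans (min_le_right _ _)).trans hs.1
    · exact lt_of_lt_of_le (by omega : s < n + 1) (le_max_right _ _)
  have hsum2 : ∑ s ∈ Finset.Icc (0 : ℤ) n, Module.finrank K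
      ((E.page (a.rk (s, n - s)) (a.stat (s, n - s)).1).X (s, n - s)) = Module.finrank K (H n) := by
    rw [← hsumgr, ← Finset.sum_subset hsub]
    · exact Finset.sum_congr rfl (fun s _ => hβ s)
    · intro s _ hs
      rw [← hβ s]
      exact finrank_zero_of_isZero (hzero s hs _ _)
  -- termwise equality
  have heq : ∀ s ∈ Finset.Icc (0 : ℤ) n, Module.finrank K
      ((E.page (a.rk (s, n - s)) (a.stat (s, n - s)).1).X (s, n - s)) =
      Module.finrank K ((E.page r₀ le_rfl).X (s, n - s)) :=
    (Finset.sum_eq_sum_iff_of_le (fun s _ => hle s)).mp (hsum2.trans hsum.symm)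
  intro s
  refine ⟨le_rfl, fun r' h₀ _ => ?_⟩
  by_cases hs : s ∈ Finset.Icc (0 : ℤ) n
  · rcases lt_or_ge r' (a.rk (s, n - s)) with hlt | hge
    · exact (finrank_page_le E hfd r₀ le_rfl (s, n - s) _ (a.stat (s, n - s)).1).2 (heq s hs)
        r' h₀ h₀ hlt
    · exact (a.stat (s, n - s)).2 r' h₀ hge
  · have hz := hzero s hs r' h₀
    exact ⟨hz.eq_of_tgt _ _, hz.eq_of_src _ _⟩

end Main

end Groth.Agent.H96.SpSeqDim
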