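import Groth.Prelude.Def_SpSeq
import Groth.Agent.H42.SpSeq

/-!
# Spectral sequences: a monomorphism criterion for degeneration
-/

set_option autoImplicit false
universe v u
open CategoryTheory CategoryTheory.Limits

namespace Groth.Agent.H96.SpSeqMono

variable {C : Type u} [Category.{v} C] [Abelian C]

lemma mono_homologyMap_of_zeros {ι : Type*} {c : ComplexShape ι} {K K' : HomologicalComplex C c}
    (φ : K ⟶ K') (i : ι)
    (hf : (K.sc i).f = 0) (hg : (K.sc i).g = 0) (hf' : (K'.sc i).f = 0) (hg' : (K'.sc i).g = 0)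
    (hm : Mono (φ.f i)) : Mono (HomologicalComplex.homologyMap φ i) := by
  let γ := ShortComplex.LeftHomologyMapData.ofZeros
    ((HomologicalComplex.shortComplexFunctor C c i).map φ) hf hg hf' hg'
  obtain ⟨e1, e2, h⟩ : ∃ (e1 : K.homology i ≅ K.X i) (e2 : K'.homology i ≅ K'.X i),
      HomologicalComplex.homologyMap φ i = e1.hom ≫ φ.f i ≫ e2.inv :=
    ⟨(ShortComplex.LeftHomologyData.ofZeros (K.sc i) hf hg).homologyIso,
      (ShortComplex.LeftHomologyData.ofZeros (K'.sc i) hf' hg').homologyIso, γ.homologyMap_eq⟩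
  rw [h]
  have h2 : Mono (φ.f i ≫ e2.inv) := mono_comp _ _
  exact mono_comp _ _

variable {r₀ : ℤ}

lemma prev_eq (r : ℤ) (pq : ℤ × ℤ) :
    (ComplexShape.up' (⟨r, 1 - r⟩ : ℤ × ℤ)).prev pq = pq - (r, 1 - r) :=
  (ComplexShape.up' (⟨r, 1 - r⟩ : ℤ × ℤ)).prev_eq' (by
    show pq - (r, 1 - r) + (r, 1 - r) = pq
    abel)

lemma next_eq (r : ℤ) (pq : ℤ × ℤ) :
    (ComplexShape.up' (⟨r, 1 - r⟩ : ℤ × ℤ)).next pq = pq + (r, 1 - r) :=
  (ComplexShape.up' (⟨r, 1 - r⟩ : ℤ × ℤ)).next_eq' (by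
    show pq + (r, 1 - r) = pq + (r, 1 - r)
    rfl)

lemma sc_f_eq_zero (E : CohomologicalSpectralSequence C r₀) (r : ℤ) (hr : r₀ ≤ r) (pq : ℤ × ℤ)
    (h : (E.page r hr).d (pq - (r, 1 - r)) pq = 0) : ((E.page r hr).sc pq).f = 0 := by
  show (E.page r hr).d _ pq = 0
  rw [prev_eq]; exact h

lemma sc_g_eq_zero (E : CohomologicalSpectralSequence C r₀) (r : ℤ) (hr : r₀ ≤ r) (pq : ℤ × ℤ)
    (h : (E.page r hr).d pq (pq + (r, 1 - r)) = 0) : ((E.page r hr).sc pq).g = 0 := by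
  show (E.page r hr).d pq _ = 0
  rw [next_eq]; exact h

/-- if all four differentials at `pq` vanish on page `r`, a monomorphism at `pq` on page `r`
stays a monomorphism on page `r + 1` -/
lemma mono_succ (E E' : CohomologicalSpectralSequence C r₀) (φ : E ⟶ E') (r : ℤ) (hr : r₀ ≤ r)
    (pq : ℤ × ℤ)
    (h1 : (E.page r hr).d (pq - (r, 1 - r)) pq = 0) (h2 : (E.page r hr).d pq (pq + (r, 1 - r)) = 0)
    (h1' : (E'.page r hr).d (pq - (r, 1 - r)) pq = 0)
    (h2' : (E'.page r hr).d pq (pq + (r, 1 - r)) = 0)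
    (hm : Mono ((φ.hom r hr).f pq)) :
    Mono ((φ.hom (r + 1) (hr.trans (Int.le_add_one le_rfl))).f pq) := by
  have hH : Mono (HomologicalComplex.homologyMap (φ.hom r hr) pq) :=
    mono_homologyMap_of_zeros (φ.hom r hr) pq (sc_f_eq_zero E r hr pq h1) (sc_g_eq_zero E r hr pq h2)
      (sc_f_eq_zero E' r hr pq h1') (sc_g_eq_zero E' r hr pq h2') hm
  have hcomm := φ.comm r (r + 1) pq rfl hr
  have : (φ.hom (r + 1) (hr.trans (Int.le_add_one le_rfl))).f pq =
      (E.iso r (r + 1) pq rfl hr).inv ≫ HomologicalComplex.homologyMap (φ.hom r hr) pq ≫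
        (E'.iso r (r + 1) pq rfl hr).hom := by
    rw [hcomm, Iso.inv_hom_id_assoc]
  rw [this]
  infer_instance

theorem main (E E' : E₂CohomologicalSpectralSequence C) (φ : E ⟶ E')
    (hE : ∀ pq : ℤ × ℤ, pq.1 < 0 ∨ pq.2 < 0 → IsZero ((E.page 2 le_rfl).X pq))
    (hd' : ∀ (r : ℤ) (hr : 2 ≤ r) (pq : ℤ × ℤ), pq.1 ≠ 0 →
      (E'.page r hr).d pq (pq + (r, 1 - r)) = 0)
    (hφd : ∀ (r : ℤ) (hr : 2 ≤ r) (pq : ℤ × ℤ),
      (φ.hom r hr).f pq ≫ (E'.page r hr).d pq (pq + (r, 1 - r)) = 0)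
    (hmono : ∀ pq : ℤ × ℤ, Mono ((φ.hom 2 le_rfl).f pq)) :
    SpSeq.Degenerates E 2 := by
  -- differentials vanish as soon as `φ` is mono in columns `≥ r`
  have hstep : ∀ (r : ℤ) (hr : 2 ≤ r),
      (∀ pq : ℤ × ℤ, r ≤ pq.1 → Mono ((φ.hom r hr).f pq)) →
      ∀ pq pq' : ℤ × ℤ, (E.page r hr).d pq pq' = 0 := by
    intro r hr hm pq pq'
    by_cases hrel : (ComplexShape.up' (⟨r, 1 - r⟩ : ℤ × ℤ)).Rel pq pq'
    · have hpq' : pq + (r, 1 - r) = pq' := hrel
      subst hpq'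
      by_cases hneg : pq.1 < 0
      · have hz : IsZero ((E.page r hr).X pq) :=
          Groth.Agent.H42.isZero_page_of_le E 2 le_rfl pq (hE pq (Or.inl hneg)) r hr
        exact hz.eq_of_src _ _
      · have hge : r ≤ (pq + (r, 1 - r)).1 := by
          change r ≤ pq.1 + r
          omega
        have := hm _ hge
        rw [← cancel_mono ((φ.hom r hr).f (pq + (r, 1 - r))), zero_comp,
          ← (φ.hom r hr).comm pq (pq + (r, 1 - r))]
        exact hφd r hr pq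
    · exact (E.page r hr).shape _ _ hrel
  have hind : ∀ (r : ℤ) (hr : 2 ≤ r), ∀ pq : ℤ × ℤ, r ≤ pq.1 → Mono ((φ.hom r hr).f pq) := by
    intro r hr
    induction r, hr using Int.leInduction with
    | base => exact fun pq _ => hmono pq
    | succ r hr ih =>
      intro pq hpq
      have hd := hstep r hr ih
      apply mono_succ E E' φ r hr pq (hd _ _) (hd _ _)
      · have h3 := hd' r hr (pq - (r, 1 - r)) (by
          change pq.1 - r ≠ 0
          omega)
        rwa [sub_add_cancel] at h3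
      · apply hd' r hr
        omega
      · exact ih pq (by omega)
  exact ⟨le_rfl, fun r' h₀ _ pq pq' => hstep r' h₀ (hind r' h₀) pq pq'⟩

end Groth.Agent.H96.SpSeqMono
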