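import Mathlib
import Groth.Agent.H96.GLinPts

/-!
# Strongly étale equivariant maps (Luna), Hopf form: basic consequences (helper96)

`X = Spec R → Y = Spec S` equivariant with `R = S ⊗_{S₀} R₀` (`S₀`, `R₀` the invariants).
-/

set_option autoImplicit false
set_option linter.style.haveILetI false
set_option linter.unusedSectionVars false
set_option linter.unusedVariables false
universe u
open TensorProduct

namespace Groth.Agent.H96.StrongEtale

section Top

/-- If `S → R/𝔟` is surjective, a subset of `V(𝔟) ⊆ Spec R` is closed iff its image in `Spec S`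
is closed. -/
theorem isClosed_iff_image_comap {S R : Type*} [CommRing S] [CommRing R] (ι : S →+* R)
    (𝔟 : Ideal R) (hsurj : Function.Surjective ((Ideal.Quotient.mk 𝔟).comp ι))
    (Z : Set (PrimeSpectrum R)) (hZ : Z ⊆ PrimeSpectrum.zeroLocus (𝔟 : Set R)) :
    IsClosed Z ↔ IsClosed (PrimeSpectrum.comap ι '' Z) := by
  have h1 := PrimeSpectrum.isClosedEmbedding_comap_of_surjective (R ⧸ 𝔟) (Ideal.Quotient.mk 𝔟)
    Ideal.Quotient.mk_surjective
  have h2 := PrimeSpectrum.isClosedEmbedding_comap_of_surjective (R ⧸ 𝔟) _ hsurj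
  set Z' := PrimeSpectrum.comap (Ideal.Quotient.mk 𝔟) ⁻¹' Z with hZ'def
  have hZ' : PrimeSpectrum.comap (Ideal.Quotient.mk 𝔟) '' Z' = Z := by
    rw [hZ'def, Set.image_preimage_eq_inter_range,
      range_comap_of_surjective _ _ Ideal.Quotient.mk_surjective, Ideal.mk_ker]
    exact Set.inter_eq_left.2 hZ
  have hc : PrimeSpectrum.comap ι '' Z =
      PrimeSpectrum.comap ((Ideal.Quotient.mk 𝔟).comp ι) '' Z' := by
    rw [← hZ', Set.image_image]
    rfl
  rw [hc, ← h2.isClosed_iff_image_isClosed, ← hZ', ← h1.isClosed_iff_image_isClosed]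

end Top

section Orbit

variable {k : Type u} [Field k] {A : Type u} [CommRing A] [HopfAlgebra k A]
variable {S : Type u} [CommRing S] [Algebra k S] [HopfRep.Comod k A S] [GLin.IsCoactAlg k A S]
variable {R : Type u} [CommRing R] [Algebra k R] [HopfRep.Comod k A R] [GLin.IsCoactAlg k A R]

theorem orbitHom_of_mem_invariants (x : R →ₐ[k] k) {f : R} (hf : f ∈ GLin.invariants k A R) :
    GLin.orbitHom k A x f = algebraMap k A (x f) := by
  have hf' : HopfRep.Comod.coact (k := k) (A := A) f = f ⊗ₜ[k] (1 : A) := hf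
  rw [Groth.Agent.H96.GLinPts.orbitHom_apply, hf', Algebra.TensorProduct.map_tmul]
  simp [Algebra.algebraMap_eq_smul_one]

variable [Algebra S R] [IsScalarTower k S R]

theorem orbitHom_comp
    (hequiv : ∀ s : S, HopfRep.Comod.coact (k := k) (A := A) (algebraMap S R s) =
      Algebra.TensorProduct.map (IsScalarTower.toAlgHom k S R) (AlgHom.id k A)
        (HopfRep.Comod.coact (k := k) (A := A) s))
    (x : R →ₐ[k] k) :
    GLin.orbitHom k A (x.comp (IsScalarTower.toAlgHom k S R)) =
      (GLin.orbitHom k A x).comp (IsScalarTower.toAlgHom k S R) := by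
  apply AlgHom.ext
  intro s
  change GLin.orbitHom k A (x.comp (IsScalarTower.toAlgHom k S R)) s =
    GLin.orbitHom k A x (algebraMap S R s)
  rw [Groth.Agent.H96.GLinPts.orbitHom_apply, Groth.Agent.H96.GLinPts.orbitHom_apply, hequiv s]
  congr 1
  rw [← AlgHom.comp_apply, ← Algebra.TensorProduct.map_comp, AlgHom.comp_id]

end Orbit

section Strong

variable {k : Type u} [Field k] {A : Type u} [CommRing A] [HopfAlgebra k A]
variable {S : Type u} [CommRing S] [Algebra k S] [HopfRep.Comod k A S] [GLin.IsCoactAlg k A S]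
variable {R : Type u} [CommRing R] [Algebra k R] [HopfRep.Comod k A R] [GLin.IsCoactAlg k A R]
variable [Algebra S R] [IsScalarTower k S R]
variable {S₀ : Type u} [CommRing S₀] [Algebra k S₀] [Algebra S₀ S] [IsScalarTower k S₀ S]
variable {R₀ : Type u} [CommRing R₀] [Algebra k R₀] [Algebra R₀ R] [IsScalarTower k R₀ R]
variable [Algebra S₀ R₀] [Algebra S₀ R] [IsScalarTower S₀ S R] [IsScalarTower S₀ R₀ R]

/-- `R = S ⊗_{S₀} R₀` with `R₀` étale over `S₀` is étale over `S`. -/
theorem etale_of_cart (het₀ : Algebra.Etale S₀ R₀)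
    (hcart : Function.Bijective (Algebra.TensorProduct.productMap
      (IsScalarTower.toAlgHom S₀ S R) (IsScalarTower.toAlgHom S₀ R₀ R))) :
    Algebra.Etale S R := by
  let f : S ⊗[S₀] R₀ →ₐ[S] R :=
    Algebra.TensorProduct.productLeftAlgHom (Algebra.ofId S R) (IsScalarTower.toAlgHom S₀ R₀ R)
  have hf : Function.Bijective f := hcart
  exact Algebra.Etale.of_equiv (AlgEquiv.ofBijective f hf)

/-- every element of `R` is a sum of products of elements of `S` and `R₀`. -/
theorem induction_of_cart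
    (hcart : Function.Surjective (Algebra.TensorProduct.productMap
      (IsScalarTower.toAlgHom S₀ S R) (IsScalarTower.toAlgHom S₀ R₀ R)))
    {motive : R → Prop}
    (hmul : ∀ (s : S) (r₀ : R₀), motive (algebraMap S R s * algebraMap R₀ R r₀))
    (hadd : ∀ a b, motive a → motive b → motive (a + b)) (h0 : motive 0) (r : R) : motive r := by
  obtain ⟨t, rfl⟩ := hcart r
  induction t using TensorProduct.induction_on with
  | zero => rw [map_zero]; exact h0
  | tmul s r₀ => exact hmul s r₀
  | add a b ha hb => rw [map_add]; exact hadd _ _ ha hb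

theorem exists_sub_mem
    (hcart : Function.Surjective (Algebra.TensorProduct.productMap
      (IsScalarTower.toAlgHom S₀ S R) (IsScalarTower.toAlgHom S₀ R₀ R)))
    (x₀ : R₀ →ₐ[k] k) (r : R) :
    ∃ s : S, r - algebraMap S R s ∈ Ideal.map (algebraMap R₀ R) (RingHom.ker x₀) := by
  induction r using induction_of_cart (S := S) (R₀ := R₀) (S₀ := S₀) hcart with
  | hmul s r₀ =>
    refine ⟨x₀ r₀ • s, ?_⟩
    have h1 : r₀ - algebraMap k R₀ (x₀ r₀) ∈ RingHom.ker x₀ := by
      rw [RingHom.mem_ker, map_sub, AlgHom.commutes]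
      simp
    have h2 : algebraMap S R s * algebraMap R₀ R r₀ - algebraMap S R (x₀ r₀ • s) =
        algebraMap S R s * algebraMap R₀ R (r₀ - algebraMap k R₀ (x₀ r₀)) := by
      rw [map_sub, ← IsScalarTower.algebraMap_apply k R₀ R, Algebra.smul_def, map_mul,
        ← IsScalarTower.algebraMap_apply k S R]
      ring
    rw [h2]
    exact Ideal.mul_mem_left _ _ (Ideal.mem_map_of_mem _ h1)
  | hadd a b ha hb =>
    obtain ⟨sa, hsa⟩ := ha
    obtain ⟨sb, hsb⟩ := hb
    refine ⟨sa + sb, ?_⟩
    have : a + b - algebraMap S R (sa + sb) = (a - algebraMap S R sa) + (b - algebraMap S R sb) := by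
      rw [map_add]; ring
    rw [this]
    exact Ideal.add_mem _ hsa hsb
  | h0 => exact ⟨0, by simp⟩

variable
    (hequiv : ∀ s : S, HopfRep.Comod.coact (k := k) (A := A) (algebraMap S R s) =
      Algebra.TensorProduct.map (IsScalarTower.toAlgHom k S R) (AlgHom.id k A)
        (HopfRep.Comod.coact (k := k) (A := A) s))
    (hR₀ : (IsScalarTower.toAlgHom k R₀ R).range = GLin.invariants k A R)
include hequiv hR₀

theorem orbitHom_algebraMap_R₀ (x : R →ₐ[k] k) (r₀ : R₀) :
    GLin.orbitHom k A x (algebraMap R₀ R r₀) = algebraMap k A (x (algebraMap R₀ R r₀)) := by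
  apply orbitHom_of_mem_invariants
  rw [← hR₀]
  exact ⟨r₀, rfl⟩

/-- a point of the group fixing the image of `x` fixes `x`. -/
theorem actPt_eq_of_actPt_comp_eq
    (hcart : Function.Surjective (Algebra.TensorProduct.productMap
      (IsScalarTower.toAlgHom S₀ S R) (IsScalarTower.toAlgHom S₀ R₀ R)))
    (x : R →ₐ[k] k) (g : A →ₐ[k] k)
    (hg : GLin.actPt k g (x.comp (IsScalarTower.toAlgHom k S R)) =
      x.comp (IsScalarTower.toAlgHom k S R)) :
    GLin.actPt k g x = x := by
  apply AlgHom.ext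
  intro r
  induction r using induction_of_cart (S := S) (R₀ := R₀) (S₀ := S₀) hcart with
  | hmul s r₀ =>
    rw [map_mul, map_mul]
    congr 1
    · have h1 := DFunLike.congr_fun hg s
      rw [Groth.Agent.H96.GLinPts.actPt_apply, orbitHom_comp hequiv] at h1
      exact h1
    · rw [Groth.Agent.H96.GLinPts.actPt_apply, orbitHom_algebraMap_R₀ hequiv hR₀, AlgHom.commutes]
      rfl
  | hadd a b ha hb => rw [map_add, map_add, ha, hb]
  | h0 => rw [map_zero, map_zero]

/-- the orbit of `x` is closed iff the orbit of its image is closed. -/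
theorem isClosedOrbit_iff
    (hcart : Function.Surjective (Algebra.TensorProduct.productMap
      (IsScalarTower.toAlgHom S₀ S R) (IsScalarTower.toAlgHom S₀ R₀ R)))
    (x : R →ₐ[k] k) :
    GLin.IsClosedOrbit k A x ↔
      GLin.IsClosedOrbit k A (x.comp (IsScalarTower.toAlgHom k S R)) := by
  let x₀ : R₀ →ₐ[k] k := x.comp (IsScalarTower.toAlgHom k R₀ R)
  let 𝔟 : Ideal R := Ideal.map (algebraMap R₀ R) (RingHom.ker x₀)
  have hsurj : Function.Surjective ((Ideal.Quotient.mk 𝔟).comp (algebraMap S R)) := by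
    intro y
    obtain ⟨r, rfl⟩ := Ideal.Quotient.mk_surjective y
    obtain ⟨s, hs⟩ := exists_sub_mem (S := S) (S₀ := S₀) hcart x₀ r
    refine ⟨s, ?_⟩
    change Ideal.Quotient.mk 𝔟 (algebraMap S R s) = Ideal.Quotient.mk 𝔟 r
    rw [Ideal.Quotient.eq]
    have := (Ideal.neg_mem_iff _).2 hs
    rwa [neg_sub] at this
  have hZ : Set.range (PrimeSpectrum.comap (GLin.orbitHom k A x).toRingHom) ⊆
      PrimeSpectrum.zeroLocus (𝔟 : Set R) := by
    rintro _ ⟨q, rfl⟩
    rw [PrimeSpectrum.mem_zeroLocus, SetLike.coe_subset_coe]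
    change 𝔟 ≤ Ideal.comap (GLin.orbitHom k A x).toRingHom q.asIdeal
    rw [Ideal.map_le_iff_le_comap]
    intro r₀ hr₀
    rw [Ideal.mem_comap, Ideal.mem_comap]
    change GLin.orbitHom k A x (algebraMap R₀ R r₀) ∈ q.asIdeal
    rw [orbitHom_algebraMap_R₀ hequiv hR₀]
    have : x (algebraMap R₀ R r₀) = 0 := (RingHom.mem_ker).1 hr₀
    rw [this, map_zero]
    exact Ideal.zero_mem _
  have himg : Set.range (PrimeSpectrum.comap
      (GLin.orbitHom k A (x.comp (IsScalarTower.toAlgHom k S R))).toRingHom) =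
      PrimeSpectrum.comap (algebraMap S R) ''
        Set.range (PrimeSpectrum.comap (GLin.orbitHom k A x).toRingHom) := by
    rw [orbitHom_comp hequiv, ← Set.range_comp]
    rfl
  unfold GLin.IsClosedOrbit
  rw [himg]
  exact isClosed_iff_image_comap (algebraMap S R) 𝔟 hsurj _ hZ

end Strong

end Groth.Agent.H96.StrongEtale
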