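import Mathlib
import Groth.Agent.H96.StrongEtale
import Groth.Agent.H93.ReynoldsAlg

/-!
# Strongly étale maps restrict to closed invariant subschemes (helper96)
-/

set_option autoImplicit false
set_option linter.style.haveILetI false
set_option linter.unusedSectionVars false
set_option linter.unusedVariables false
universe u
open TensorProduct

namespace Groth.Agent.H96.StrongEtaleBC

open Groth.Agent.H93

section Reyn

variable {k : Type u} [Field k] {A : Type u} [CommRing A] [HopfAlgebra k A]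
variable {R : Type u} [CommRing R] [Algebra k R] [HopfRep.Comod k A R] [GLin.IsCoactAlg k A R]
variable {R' : Type u} [CommRing R'] [Algebra k R'] [HopfRep.Comod k A R'] [GLin.IsCoactAlg k A R']

/-- the Reynolds operator is natural for equivariant algebra maps. -/
theorem reyn_map (α : A →ₗ[k] k) (f : R →ₐ[k] R')
    (hf : ∀ r, HopfRep.Comod.coact (k := k) (A := A) (f r) =
      Algebra.TensorProduct.map f (AlgHom.id k A) (HopfRep.Comod.coact (k := k) (A := A) r))
    (r : R) : reyn R' α (f r) = f (reyn R α r) := by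
  change slice R' (reynFun k A α) (HopfRep.Comod.coact (k := k) (A := A) (f r)) =
    f (slice R (reynFun k A α) (HopfRep.Comod.coact (k := k) (A := A) r))
  rw [hf r]
  generalize HopfRep.Comod.coact (k := k) (A := A) r = t
  induction t using TensorProduct.induction_on with
  | zero => simp
  | add x y hx hy => simp only [map_add, hx, hy]
  | tmul x a => simp

/-- for a linearly reductive group, invariants lift along equivariant surjections. -/
theorem exists_invariant_lift (hG : HopfRep.IsLinearlyReductive k A) (f : R →ₐ[k] R')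
    (hf : ∀ r, HopfRep.Comod.coact (k := k) (A := A) (f r) =
      Algebra.TensorProduct.map f (AlgHom.id k A) (HopfRep.Comod.coact (k := k) (A := A) r))
    (hsurj : Function.Surjective f) {t : R'} (ht : t ∈ GLin.invariants k A R') :
    ∃ r ∈ GLin.invariants k A R, f r = t := by
  obtain ⟨α, hαint, h1⟩ := exists_integral_of_linRed hG
  have hα := (isComodHom_iff_isInt α).2 hαint
  obtain ⟨r', rfl⟩ := hsurj t
  refine ⟨reyn R α r', reyn_mem_fixedPts α hα r', ?_⟩
  rw [← reyn_map α f hf]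
  exact reyn_of_mem_fixedPts α h1 _ ht

end Reyn

section Factor

variable {k : Type u} [Field k]

/-- factoring an algebra map through an injective one whose range contains its image. -/
theorem exists_factor {T T₁ U : Type u} [CommRing T] [Algebra k T] [CommRing T₁] [Algebra k T₁]
    [CommRing U] [Algebra k U] (i : T₁ →ₐ[k] T) (hi : Function.Injective i) (f : U →ₐ[k] T)
    (hf : ∀ u, f u ∈ i.range) : ∃ g : U →ₐ[k] T₁, ∀ u, i (g u) = f u := by
  let e : T₁ ≃ₐ[k] i.range := AlgEquiv.ofInjective i hi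
  refine ⟨(e.symm : i.range →ₐ[k] T₁).comp (f.codRestrict i.range hf), fun u => ?_⟩
  have h1 : ∀ y : i.range, i (e.symm y) = (y : T) := by
    intro y
    have h2 : ∀ z : T₁, (e z : T) = i z := fun z => rfl
    rw [← h2, e.apply_symm_apply]
  exact h1 _

end Factor

section Key

variable {k : Type u} [Field k] {A : Type u} [CommRing A] [HopfAlgebra k A]
variable {S : Type u} [CommRing S] [Algebra k S] [HopfRep.Comod k A S] [GLin.IsCoactAlg k A S]
variable {R : Type u} [CommRing R] [Algebra k R] [HopfRep.Comod k A R] [GLin.IsCoactAlg k A R]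
variable [Algebra S R] [IsScalarTower k S R]
variable {S₀ : Type u} [CommRing S₀] [Algebra k S₀] [Algebra S₀ S] [IsScalarTower k S₀ S]
variable {R₀ : Type u} [CommRing R₀] [Algebra k R₀] [Algebra R₀ R] [IsScalarTower k R₀ R]
variable [Algebra S₀ R₀] [Algebra S₀ R] [IsScalarTower S₀ S R] [IsScalarTower S₀ R₀ R]

/-- `JR` is additively generated by the products `φ(j) · r₀`. -/
theorem map_le_closure
    (hcart : Function.Surjective (Algebra.TensorProduct.productMap
      (IsScalarTower.toAlgHom S₀ S R) (IsScalarTower.toAlgHom S₀ R₀ R)))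
    (J : Ideal S) {m : R} (hm : m ∈ J.map (algebraMap S R)) :
    m ∈ AddSubgroup.closure {x : R | ∃ j ∈ J, ∃ r₀ : R₀, x = algebraMap S R j * algebraMap R₀ R r₀} := by
  set N := AddSubgroup.closure
    {x : R | ∃ j ∈ J, ∃ r₀ : R₀, x = algebraMap S R j * algebraMap R₀ R r₀} with hN
  have hmul : ∀ (r : R) (n : R), n ∈ N → r * n ∈ N := by
    intro r
    induction r using Groth.Agent.H96.StrongEtale.induction_of_cart
      (S := S) (R₀ := R₀) (S₀ := S₀) hcart with
    | hmul s r₀ =>
      intro n hn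
      induction hn using AddSubgroup.closure_induction with
      | mem x hx =>
        obtain ⟨j, hj, r₀', rfl⟩ := hx
        apply AddSubgroup.subset_closure
        refine ⟨s * j, J.mul_mem_left s hj, r₀ * r₀', ?_⟩
        rw [map_mul, map_mul]; ring
      | zero => rw [mul_zero]; exact N.zero_mem
      | add x y _ _ hx hy => rw [mul_add]; exact N.add_mem hx hy
      | neg x _ hx => rw [mul_neg]; exact N.neg_mem hx
    | hadd a b ha hb =>
      intro n hn
      rw [add_mul]
      exact N.add_mem (ha n hn) (hb n hn)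
    | h0 =>
      intro n _
      rw [zero_mul]; exact N.zero_mem
  let I : Ideal R :=
    { carrier := N
      add_mem' := fun ha hb => N.add_mem ha hb
      zero_mem' := N.zero_mem
      smul_mem' := fun c x hx => hmul c x hx }
  have hle : J.map (algebraMap S R) ≤ I := by
    rw [Ideal.map_le_iff_le_comap]
    intro j hj
    rw [Ideal.mem_comap]
    change algebraMap S R j ∈ N
    apply AddSubgroup.subset_closure
    exact ⟨j, hj, 1, by rw [map_one, mul_one]⟩
  exact hle hm

variable
    (hequiv : ∀ s : S, HopfRep.Comod.coact (k := k) (A := A) (algebraMap S R s) =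
      Algebra.TensorProduct.map (IsScalarTower.toAlgHom k S R) (AlgHom.id k A)
        (HopfRep.Comod.coact (k := k) (A := A) s))
    (hS₀ : (IsScalarTower.toAlgHom k S₀ S).range = GLin.invariants k A S)
    (hR₀i : Function.Injective (algebraMap R₀ R))
    (hR₀ : (IsScalarTower.toAlgHom k R₀ R).range = GLin.invariants k A R)
include hequiv hS₀ hR₀i hR₀

/-- Key: the invariants in `JR` are generated by the invariants in `J`. -/
theorem mem_map_comap_of_algebraMap_mem (hG : HopfRep.IsLinearlyReductive k A)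
    (hcart : Function.Surjective (Algebra.TensorProduct.productMap
      (IsScalarTower.toAlgHom S₀ S R) (IsScalarTower.toAlgHom S₀ R₀ R)))
    (J : Ideal S) (hJ : HopfRep.IsSubcomod (k := k) (A := A) (J.restrictScalars k))
    (r₀ : R₀) (hr₀ : algebraMap R₀ R r₀ ∈ J.map (algebraMap S R)) :
    r₀ ∈ (J.comap (algebraMap S₀ S)).map (algebraMap S₀ R₀) := by
  obtain ⟨α, hαint, h1⟩ := exists_integral_of_linRed hG
  have hα := (isComodHom_iff_isInt α).2 hαint
  set K : Ideal R₀ := (J.comap (algebraMap S₀ S)).map (algebraMap S₀ R₀) with hK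
  have hinvR : ∀ r₀ : R₀, algebraMap R₀ R r₀ ∈ GLin.invariants k A R := by
    intro r₀
    rw [← hR₀]
    exact ⟨r₀, rfl⟩
  have key : ∀ n ∈ AddSubgroup.closure
      {x : R | ∃ j ∈ J, ∃ r₀ : R₀, x = algebraMap S R j * algebraMap R₀ R r₀},
      ∃ t ∈ K, reyn R α n = algebraMap R₀ R t := by
    intro n hn
    induction hn using AddSubgroup.closure_induction with
    | mem x hx =>
      obtain ⟨j, hj, r₀', rfl⟩ := hx
      have e1 : reyn R α (algebraMap S R j * algebraMap R₀ R r₀') =
          algebraMap R₀ R r₀' * reyn R α (algebraMap S R j) := by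
        rw [mul_comm]
        exact reyn_mul_of_mem_invariants α _ (hinvR r₀') _
      have e2 : reyn R α (algebraMap S R j) = algebraMap S R (reyn S α j) :=
        reyn_map α (IsScalarTower.toAlgHom k S R) hequiv j
      have e3 : reyn S α j ∈ GLin.invariants k A S := reyn_mem_fixedPts α hα j
      have e4 : reyn S α j ∈ J :=
        dualAct_mem_of_isSubcomod (U := J.restrictScalars k) hJ _ hj
      rw [← hS₀] at e3
      obtain ⟨j₀, hj₀⟩ := e3
      have hj₀' : algebraMap S₀ S j₀ = reyn S α j := hj₀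
      refine ⟨r₀' * algebraMap S₀ R₀ j₀, ?_, ?_⟩
      · apply Ideal.mul_mem_left
        apply Ideal.mem_map_of_mem
        rw [Ideal.mem_comap, hj₀']
        exact e4
      · rw [e1, e2, ← hj₀', map_mul, ← IsScalarTower.algebraMap_apply S₀ S R,
          ← IsScalarTower.algebraMap_apply S₀ R₀ R]
    | zero => exact ⟨0, K.zero_mem, by rw [map_zero, map_zero]⟩
    | add x y _ _ hx hy =>
      obtain ⟨tx, htx, ex⟩ := hx
      obtain ⟨ty, hty, ey⟩ := hy
      exact ⟨tx + ty, K.add_mem htx hty, by rw [map_add, map_add, ex, ey]⟩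
    | neg x _ hx =>
      obtain ⟨tx, htx, ex⟩ := hx
      exact ⟨-tx, K.neg_mem htx, by rw [map_neg, map_neg, ex]⟩
  obtain ⟨t, ht, e⟩ := key _ (map_le_closure (S₀ := S₀) (R₀ := R₀) hcart J hr₀)
  have e' : reyn R α (algebraMap R₀ R r₀) = algebraMap R₀ R r₀ :=
    reyn_of_mem_fixedPts α h1 _ (hinvR r₀)
  rw [e'] at e
  rw [hR₀i e]
  exact ht

end Key

section EtaleQuot

theorem etale_quotient {A B : Type u} [CommRing A] [CommRing B] [Algebra A B] [Algebra.Etale A B]
    (I : Ideal A) : Algebra.Etale (A ⧸ I) (B ⧸ I.map (algebraMap A B)) :=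
  Algebra.Etale.of_equiv (Algebra.TensorProduct.quotIdealMapEquivQuotTensor B I).symm

/-- étaleness passes to compatible quotients `S₁ = S₀/I`, `R₁ = R₀/IR₀`. -/
theorem etale_of_surjective {S₀ R₀ S₁ R₁ : Type u} [CommRing S₀] [CommRing R₀] [CommRing S₁]
    [CommRing R₁] [Algebra S₀ R₀] [Algebra.Etale S₀ R₀] [Algebra S₁ R₁]
    (a : S₀ →+* S₁) (b : R₀ →+* R₁) (ha : Function.Surjective a) (hb : Function.Surjective b)
    (hab : b.comp (algebraMap S₀ R₀) = (algebraMap S₁ R₁).comp a)
    (hker : RingHom.ker b = (RingHom.ker a).map (algebraMap S₀ R₀)) :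
    Algebra.Etale S₁ R₁ := by
  set I := RingHom.ker a with hI
  have h1 : (algebraMap (S₀ ⧸ I) (R₀ ⧸ I.map (algebraMap S₀ R₀))).Etale := by
    rw [RingHom.etale_algebraMap]
    exact etale_quotient I
  let eS : S₀ ⧸ I ≃+* S₁ := RingHom.quotientKerEquivOfSurjective ha
  let eR : R₀ ⧸ I.map (algebraMap S₀ R₀) ≃+* R₁ :=
    (Ideal.quotEquivOfEq hker.symm).trans (RingHom.quotientKerEquivOfSurjective hb)
  have heS : ∀ s₀ : S₀, eS (Ideal.Quotient.mk I s₀) = a s₀ := fun s₀ => rfl
  have heR : ∀ r₀ : R₀, eR (Ideal.Quotient.mk _ r₀) = b r₀ := fun r₀ => rfl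
  have h2 : algebraMap S₁ R₁ = eR.toRingHom.comp
      ((algebraMap (S₀ ⧸ I) (R₀ ⧸ I.map (algebraMap S₀ R₀))).comp eS.symm.toRingHom) := by
    apply RingHom.ext
    intro s₁
    obtain ⟨s₀, rfl⟩ := ha s₁
    have e1 : eS.symm (a s₀) = Ideal.Quotient.mk I s₀ := by
      rw [← heS, RingEquiv.symm_apply_apply]
    change algebraMap S₁ R₁ (a s₀) = eR (algebraMap (S₀ ⧸ I) _ (eS.symm (a s₀)))
    rw [e1, Ideal.Quotient.algebraMap_quotient_map_quotient, heR]
    exact (DFunLike.congr_fun hab s₀).symm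
  rw [← RingHom.etale_algebraMap, h2]
  exact RingHom.Etale.respectsIso.1 _ eR (RingHom.Etale.respectsIso.2 _ eS.symm h1)

end EtaleQuot

section Cart

variable {S R S₀ R₀ : Type u} [CommRing S] [CommRing R] [CommRing S₀] [CommRing R₀]
  [Algebra S R] [Algebra S₀ S] [Algebra R₀ R] [Algebra S₀ R₀] [Algebra S₀ R]
  [IsScalarTower S₀ S R] [IsScalarTower S₀ R₀ R]

/-- ring maps out of `R = S ⊗_{S₀} R₀`. -/
theorem exists_ringHom_of_cart {T : Type u} [CommRing T] (f : S →+* T) (g : R₀ →+* T)
    (hfg : f.comp (algebraMap S₀ S) = g.comp (algebraMap S₀ R₀))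
    (hcart : Function.Bijective (Algebra.TensorProduct.productMap
      (IsScalarTower.toAlgHom S₀ S R) (IsScalarTower.toAlgHom S₀ R₀ R))) :
    ∃ ω : R →+* T, (∀ s, ω (algebraMap S R s) = f s) ∧ ∀ r₀, ω (algebraMap R₀ R r₀) = g r₀ := by
  letI : Algebra S₀ T := (f.comp (algebraMap S₀ S)).toAlgebra
  let fA : S →ₐ[S₀] T := { f with commutes' := fun _ => rfl }
  let gA : R₀ →ₐ[S₀] T := { g with commutes' := fun c => (DFunLike.congr_fun hfg c).symm }
  let e : S ⊗[S₀] R₀ ≃ₐ[S₀] R := AlgEquiv.ofBijective _ hcart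
  let ω : R →ₐ[S₀] T := (Algebra.TensorProduct.productMap fA gA).comp e.symm.toAlgHom
  refine ⟨ω.toRingHom, fun s => ?_, fun r₀ => ?_⟩
  · have h1 : e (s ⊗ₜ[S₀] (1 : R₀)) = algebraMap S R s := by
      change Algebra.TensorProduct.productMap _ _ (s ⊗ₜ[S₀] (1 : R₀)) = _
      simp
    change Algebra.TensorProduct.productMap fA gA (e.symm (algebraMap S R s)) = f s
    rw [← h1, AlgEquiv.symm_apply_apply]
    simp [fA, gA]
  · have h1 : e ((1 : S) ⊗ₜ[S₀] r₀) = algebraMap R₀ R r₀ := by
      change Algebra.TensorProduct.productMap _ _ ((1 : S) ⊗ₜ[S₀] r₀) = _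
      simp
    change Algebra.TensorProduct.productMap fA gA (e.symm (algebraMap R₀ R r₀)) = g r₀
    rw [← h1, AlgEquiv.symm_apply_apply]
    simp [fA, gA]

end Cart

section Inv

variable {k : Type u} [Field k] {A : Type u} [CommRing A] [HopfAlgebra k A]
variable {R : Type u} [CommRing R] [Algebra k R] [HopfRep.Comod k A R] [GLin.IsCoactAlg k A R]
variable {R' : Type u} [CommRing R'] [Algebra k R'] [HopfRep.Comod k A R'] [GLin.IsCoactAlg k A R']

theorem map_mem_invariants (f : R →ₐ[k] R')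
    (hf : ∀ r, HopfRep.Comod.coact (k := k) (A := A) (f r) =
      Algebra.TensorProduct.map f (AlgHom.id k A) (HopfRep.Comod.coact (k := k) (A := A) r))
    {r : R} (hr : r ∈ GLin.invariants k A R) : f r ∈ GLin.invariants k A R' := by
  have hr' : HopfRep.Comod.coact (k := k) (A := A) r = r ⊗ₜ[k] (1 : A) := hr
  change HopfRep.Comod.coact (k := k) (A := A) (f r) = f r ⊗ₜ[k] (1 : A)
  rw [hf r, hr', Algebra.TensorProduct.map_tmul]
  rfl

end Inv

section Main

variable {k : Type u} [Field k] {A : Type u} [CommRing A] [HopfAlgebra k A]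
variable {S : Type u} [CommRing S] [Algebra k S] [HopfRep.Comod k A S] [GLin.IsCoactAlg k A S]
variable {R : Type u} [CommRing R] [Algebra k R] [HopfRep.Comod k A R] [GLin.IsCoactAlg k A R]
variable [Algebra S R] [IsScalarTower k S R]
variable {S₀ : Type u} [CommRing S₀] [Algebra k S₀] [Algebra S₀ S] [IsScalarTower k S₀ S]
variable {R₀ : Type u} [CommRing R₀] [Algebra k R₀] [Algebra R₀ R] [IsScalarTower k R₀ R]
variable [Algebra S₀ R₀] [Algebra S₀ R] [IsScalarTower S₀ S R] [IsScalarTower S₀ R₀ R]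

theorem main (hG : HopfRep.IsLinearlyReductive k A)
    (hequiv : ∀ s : S, HopfRep.Comod.coact (k := k) (A := A) (algebraMap S R s) =
      Algebra.TensorProduct.map (IsScalarTower.toAlgHom k S R) (AlgHom.id k A)
        (HopfRep.Comod.coact (k := k) (A := A) s))
    (hS₀ : (IsScalarTower.toAlgHom k S₀ S).range = GLin.invariants k A S)
    (hR₀i : Function.Injective (algebraMap R₀ R))
    (hR₀ : (IsScalarTower.toAlgHom k R₀ R).range = GLin.invariants k A R)
    (het₀ : Algebra.Etale S₀ R₀)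
    (hcart : Function.Bijective (Algebra.TensorProduct.productMap
      (IsScalarTower.toAlgHom S₀ S R) (IsScalarTower.toAlgHom S₀ R₀ R)))
    (J : Ideal S) (hJ : HopfRep.IsSubcomod (k := k) (A := A) (J.restrictScalars k))
    [HopfRep.Comod k A (S ⧸ J)] [GLin.IsCoactAlg k A (S ⧸ J)]
    (hqS : ∀ s : S, HopfRep.Comod.coact (k := k) (A := A) ((Ideal.Quotient.mkₐ k J) s) =
        Algebra.TensorProduct.map (Ideal.Quotient.mkₐ k J) (AlgHom.id k A)
          (HopfRep.Comod.coact (k := k) (A := A) s))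
    [HopfRep.Comod k A (R ⧸ J.map (algebraMap S R))]
    [GLin.IsCoactAlg k A (R ⧸ J.map (algebraMap S R))]
    (hqR : ∀ s : R, HopfRep.Comod.coact (k := k) (A := A)
        ((Ideal.Quotient.mkₐ k (J.map (algebraMap S R))) s) =
        Algebra.TensorProduct.map (Ideal.Quotient.mkₐ k (J.map (algebraMap S R))) (AlgHom.id k A)
          (HopfRep.Comod.coact (k := k) (A := A) s))
    (S₁ : Type u) [CommRing S₁] [Algebra k S₁] [Algebra S₁ (S ⧸ J)] [IsScalarTower k S₁ (S ⧸ J)]
    (hS₁i : Function.Injective (algebraMap S₁ (S ⧸ J)))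
    (hS₁ : (IsScalarTower.toAlgHom k S₁ (S ⧸ J)).range = GLin.invariants k A (S ⧸ J))
    (R₁ : Type u) [CommRing R₁] [Algebra k R₁] [Algebra R₁ (R ⧸ J.map (algebraMap S R))]
    [IsScalarTower k R₁ (R ⧸ J.map (algebraMap S R))]
    (hR₁i : Function.Injective (algebraMap R₁ (R ⧸ J.map (algebraMap S R))))
    (hR₁ : (IsScalarTower.toAlgHom k R₁ (R ⧸ J.map (algebraMap S R))).range =
      GLin.invariants k A (R ⧸ J.map (algebraMap S R)))
    [Algebra S₁ R₁] [Algebra S₁ (R ⧸ J.map (algebraMap S R))]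
    [IsScalarTower S₁ (S ⧸ J) (R ⧸ J.map (algebraMap S R))]
    [IsScalarTower S₁ R₁ (R ⧸ J.map (algebraMap S R))] :
    Algebra.Etale S₁ R₁ ∧
      Function.Bijective (Algebra.TensorProduct.productMap
        (IsScalarTower.toAlgHom S₁ (S ⧸ J) (R ⧸ J.map (algebraMap S R)))
        (IsScalarTower.toAlgHom S₁ R₁ (R ⧸ J.map (algebraMap S R)))) := by
  classical
  -- the maps `a : S₀ → S₁`, `b : R₀ → R₁`
  obtain ⟨a, ha⟩ := exists_factor (IsScalarTower.toAlgHom k S₁ (S ⧸ J)) hS₁i
    ((Ideal.Quotient.mkₐ k J).comp (IsScalarTower.toAlgHom k S₀ S)) (fun s₀ => by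
      rw [hS₁]
      apply map_mem_invariants (Ideal.Quotient.mkₐ k J) hqS
      rw [← hS₀]
      exact ⟨s₀, rfl⟩)
  obtain ⟨b, hb⟩ := exists_factor (IsScalarTower.toAlgHom k R₁ (R ⧸ J.map (algebraMap S R))) hR₁i
    ((Ideal.Quotient.mkₐ k (J.map (algebraMap S R))).comp (IsScalarTower.toAlgHom k R₀ R)) (fun r₀ => by
      rw [hR₁]
      apply map_mem_invariants (Ideal.Quotient.mkₐ k (J.map (algebraMap S R))) hqR
      rw [← hR₀]
      exact ⟨r₀, rfl⟩)
  have ha' : ∀ s₀, algebraMap S₁ (S ⧸ J) (a s₀) = Ideal.Quotient.mk J (algebraMap S₀ S s₀) := ha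
  have hb' : ∀ r₀, algebraMap R₁ (R ⧸ J.map (algebraMap S R)) (b r₀) = Ideal.Quotient.mk (J.map (algebraMap S R)) (algebraMap R₀ R r₀) := hb
  have hasurj : Function.Surjective a := by
    intro s₁
    have h1 : algebraMap S₁ (S ⧸ J) s₁ ∈ GLin.invariants k A (S ⧸ J) := by
      rw [← hS₁]; exact ⟨s₁, rfl⟩
    obtain ⟨s, hs, hs'⟩ := exists_invariant_lift hG (Ideal.Quotient.mkₐ k J) hqS
      (Ideal.Quotient.mkₐ_surjective k J) h1
    rw [← hS₀] at hs
    obtain ⟨s₀, rfl⟩ := hs
    refine ⟨s₀, hS₁i ?_⟩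
    rw [ha']
    exact hs'
  have hbsurj : Function.Surjective b := by
    intro r₁
    have h1 : algebraMap R₁ (R ⧸ J.map (algebraMap S R)) r₁ ∈ GLin.invariants k A (R ⧸ J.map (algebraMap S R)) := by
      rw [← hR₁]; exact ⟨r₁, rfl⟩
    obtain ⟨r, hr, hr'⟩ := exists_invariant_lift hG (Ideal.Quotient.mkₐ k (J.map (algebraMap S R))) hqR
      (Ideal.Quotient.mkₐ_surjective k (J.map (algebraMap S R))) h1
    rw [← hR₀] at hr
    obtain ⟨r₀, rfl⟩ := hr
    refine ⟨r₀, hR₁i ?_⟩
    rw [hb']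
    exact hr'
  have hab : (b : R₀ →+* R₁).comp (algebraMap S₀ R₀) = (algebraMap S₁ R₁).comp (a : S₀ →+* S₁) := by
    apply RingHom.ext
    intro s₀
    apply hR₁i
    change algebraMap R₁ (R ⧸ J.map (algebraMap S R)) (b (algebraMap S₀ R₀ s₀)) =
      algebraMap R₁ (R ⧸ J.map (algebraMap S R)) (algebraMap S₁ R₁ (a s₀))
    rw [hb', ← IsScalarTower.algebraMap_apply S₁ R₁ (R ⧸ J.map (algebraMap S R)),
      IsScalarTower.algebraMap_apply S₁ (S ⧸ J) (R ⧸ J.map (algebraMap S R)), ha',
      Ideal.Quotient.algebraMap_quotient_map_quotient, ← IsScalarTower.algebraMap_apply S₀ R₀ R,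
      ← IsScalarTower.algebraMap_apply S₀ S R]
  have hkera : RingHom.ker (a : S₀ →+* S₁) = J.comap (algebraMap S₀ S) := by
    ext s₀
    rw [RingHom.mem_ker, Ideal.mem_comap, ← Ideal.Quotient.eq_zero_iff_mem, ← ha']
    constructor
    · intro h
      change a s₀ = 0 at h
      rw [h, map_zero]
    · intro h
      apply hS₁i
      rw [map_zero]
      exact h
  have hkerb : RingHom.ker (b : R₀ →+* R₁) =
      (RingHom.ker (a : S₀ →+* S₁)).map (algebraMap S₀ R₀) := by
    apply le_antisymm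
    · intro r₀ hr₀
      rw [hkera]
      apply mem_map_comap_of_algebraMap_mem hequiv hS₀ hR₀i hR₀ hG hcart.2 J hJ
      rw [← Ideal.Quotient.eq_zero_iff_mem, ← hb']
      have : b r₀ = 0 := hr₀
      rw [this, map_zero]
    · rw [Ideal.map_le_iff_le_comap]
      intro s₀ hs₀
      rw [Ideal.mem_comap, RingHom.mem_ker]
      have h1 := DFunLike.congr_fun hab s₀
      change b (algebraMap S₀ R₀ s₀) = algebraMap S₁ R₁ (a s₀) at h1
      change b (algebraMap S₀ R₀ s₀) = 0
      have h2 : a s₀ = 0 := hs₀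
      rw [h1, h2, map_zero]
  haveI := het₀
  refine ⟨etale_of_surjective (a : S₀ →+* S₁) (b : R₀ →+* R₁) hasurj hbsurj hab hkerb, ?_⟩
  -- the cartesian property
  set PM := Algebra.TensorProduct.productMap
    (IsScalarTower.toAlgHom S₁ (S ⧸ J) (R ⧸ J.map (algebraMap S R))) (IsScalarTower.toAlgHom S₁ R₁ (R ⧸ J.map (algebraMap S R))) with hPM
  have hPMt : ∀ (s : S) (r₀ : R₀), PM (Ideal.Quotient.mk J s ⊗ₜ[S₁] b r₀) =
      Ideal.Quotient.mk (J.map (algebraMap S R)) (algebraMap S R s * algebraMap R₀ R r₀) := by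
    intro s r₀
    rw [hPM, Algebra.TensorProduct.productMap_apply_tmul]
    change algebraMap (S ⧸ J) (R ⧸ J.map (algebraMap S R)) (Ideal.Quotient.mk J s) * algebraMap R₁ (R ⧸ J.map (algebraMap S R)) (b r₀) = _
    rw [hb', Ideal.Quotient.algebraMap_quotient_map_quotient, ← map_mul]
  constructor
  · -- injectivity via a left inverse
    let T := (S ⧸ J) ⊗[S₁] R₁
    let f : S →+* T :=
      (Algebra.TensorProduct.includeLeftRingHom : (S ⧸ J) →+* T).comp (Ideal.Quotient.mk J)
    let g : R₀ →+* T :=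
      ((Algebra.TensorProduct.includeRight : R₁ →ₐ[S₁] T) : R₁ →+* T).comp (b : R₀ →+* R₁)
    have hf : ∀ s, f s = Ideal.Quotient.mk J s ⊗ₜ[S₁] (1 : R₁) := fun s => rfl
    have hg : ∀ r₀, g r₀ = (1 : S ⧸ J) ⊗ₜ[S₁] b r₀ := fun r₀ => rfl
    have hfg : f.comp (algebraMap S₀ S) = g.comp (algebraMap S₀ R₀) := by
      apply RingHom.ext
      intro s₀
      change f (algebraMap S₀ S s₀) = g (algebraMap S₀ R₀ s₀)
      rw [hf, hg, ← ha', Algebra.TensorProduct.tmul_one_eq_one_tmul]
      congr 1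
      exact (DFunLike.congr_fun hab s₀).symm
    obtain ⟨ω, hωS, hωR⟩ := exists_ringHom_of_cart f g hfg hcart
    have hωM : J.map (algebraMap S R) ≤ RingHom.ker ω := by
      rw [Ideal.map_le_iff_le_comap]
      intro j hj
      rw [Ideal.mem_comap, RingHom.mem_ker, hωS, hf, Ideal.Quotient.eq_zero_iff_mem.2 hj,
        TensorProduct.zero_tmul]
    let ωbar : R ⧸ J.map (algebraMap S R) →+* T := Ideal.Quotient.lift (J.map (algebraMap S R)) ω (fun x hx => (RingHom.mem_ker).1 (hωM hx))
    have hinv : ∀ t : T, ωbar (PM t) = t := by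
      intro t
      induction t using TensorProduct.induction_on with
      | zero => rw [map_zero, map_zero]
      | tmul x y =>
        obtain ⟨s, rfl⟩ := Ideal.Quotient.mk_surjective x
        obtain ⟨r₀, rfl⟩ := hbsurj y
        rw [hPMt]
        change ω (algebraMap S R s * algebraMap R₀ R r₀) = _
        rw [map_mul, hωS, hωR, hf, hg, Algebra.TensorProduct.tmul_mul_tmul, mul_one, one_mul]
      | add x y hx hy => rw [map_add, map_add, hx, hy]
    intro t t' htt
    rw [← hinv t, ← hinv t', htt]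
  · -- surjectivity
    intro y
    obtain ⟨r, rfl⟩ := Ideal.Quotient.mk_surjective y
    induction r using Groth.Agent.H96.StrongEtale.induction_of_cart
      (S := S) (R₀ := R₀) (S₀ := S₀) hcart.2 with
    | hmul s r₀ => exact ⟨_, hPMt s r₀⟩
    | hadd x y hx hy =>
      obtain ⟨tx, hx⟩ := hx
      obtain ⟨ty, hy⟩ := hy
      exact ⟨tx + ty, by rw [map_add, map_add, hx, hy]⟩
    | h0 => exact ⟨0, by rw [map_zero, map_zero]⟩

end Main

end Groth.Agent.H96.StrongEtaleBC
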