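import Groth.Agent.H96.AdmExt
import Groth.Agent.H8.BlowUpExist
import Mathlib.Topology.Constructible

/-!
# Blowing up a sum of ideals (helper96)

* `exists_affine_ideal_eq`: if the sum `⨆ i, G i` of a family of ideal sheaves is effective
  Cartier, then locally one of the summands equals the sum.
* `isEffCartier_comap_of_support_le`: if `F` is of finite type, `F.comap b` is effective Cartier,
  `I` is effective Cartier and `supp I ⊆ supp F`, then `I.comap b` is effective Cartier.
* `isCompact_of_isConstructible`: constructible subsets of qcqs schemes are quasi-compact.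
-/

set_option autoImplicit false
set_option linter.style.haveILetI false
set_option linter.unusedSectionVars false
set_option linter.unusedVariables false
universe u
open CategoryTheory CategoryTheory.Limits AlgebraicGeometry TopologicalSpace Opposite Topology

namespace Groth.Agent.H96.SupBlowUp

open Scheme.IdealSheafData Groth.Agent.H96.FiniteTypeExt

variable {Y : Scheme.{u}}

lemma comap_iSup {S : Scheme.{u}} (b : Y ⟶ S) {ι : Type*} (F : ι → S.IdealSheafData) :
    (⨆ i, F i).comap b = ⨆ i, (F i).comap b :=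
  (map_gc b).l_iSup

lemma ideal_iSup_apply {ι : Type*} (G : ι → Y.IdealSheafData) (O : Y.affineOpens) :
    (⨆ i, G i).ideal O = ⨆ i, (G i).ideal O := by
  rw [ideal_iSup, iSup_apply]

/-- If a sum of ideal sheaves is effective Cartier, then locally one of the summands is equal to
the sum. -/
theorem exists_affine_ideal_eq {ι : Type*} (G : ι → Y.IdealSheafData)
    (h : BlowUp.IsEffCartierIdeal (⨆ i, G i)) (y : Y) :
    ∃ (O : Y.affineOpens) (i : ι), y ∈ O.1 ∧ (G i).ideal O = (⨆ i, G i).ideal O := by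
  classical
  obtain ⟨O, hyO, τ, hτ, hI⟩ := h y
  have hsup := ideal_iSup_apply G O
  have hτmem : τ ∈ ⨆ i, (G i).ideal O := by
    rw [← hsup, hI]
    exact Ideal.mem_span_singleton_self τ
  obtain ⟨a, ha, hsum⟩ := (Submodule.mem_iSup_iff_exists_finsupp _ _).mp hτmem
  have hc : ∀ i, ∃ c, c * τ = a i := fun i => Ideal.mem_span_singleton'.mp (by
    rw [← hI, hsup]
    exact le_iSup (fun i => (G i).ideal O) i (ha i))
  choose c hc using hc
  have h1 : (∑ i ∈ a.support, c i) * τ = 1 * τ := by
    rw [Finset.sum_mul, one_mul]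
    conv_rhs => rw [← hsum]
    rw [Finsupp.sum]
    exact Finset.sum_congr rfl fun i _ => hc i
  have h2 : ∑ i ∈ a.support, c i = 1 := (mul_cancel_right_mem_nonZeroDivisors hτ).mp h1
  have h3 : ∃ i ∈ a.support, y ∈ Y.basicOpen (c i) := by
    by_contra hcon
    push Not at hcon
    have h4 : ∀ i ∈ a.support, (Y.presheaf.germ O.1 y hyO).hom (c i) ∈
        IsLocalRing.maximalIdeal (Y.presheaf.stalk y) := by
      intro i hi
      rw [IsLocalRing.mem_maximalIdeal, mem_nonunits_iff]
      intro hu
      exact hcon i hi ((Y.mem_basicOpen (c i) y hyO).mpr hu)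
    have h5 : (Y.presheaf.germ O.1 y hyO).hom (∑ i ∈ a.support, c i) ∈
        IsLocalRing.maximalIdeal (Y.presheaf.stalk y) := by
      rw [map_sum]
      exact Ideal.sum_mem _ h4
    rw [h2, map_one] at h5
    exact (IsLocalRing.maximalIdeal.isMaximal _).ne_top
      ((Ideal.eq_top_iff_one _).mpr h5)
  obtain ⟨i, hi, hyi⟩ := h3
  have hge : (⨆ i, G i).ideal (Y.affineBasicOpen (c i)) ≤
      (G i).ideal (Y.affineBasicOpen (c i)) := ?_
  · exact ⟨Y.affineBasicOpen (c i), i, hyi,
      le_antisymm (le_iSup G i (Y.affineBasicOpen (c i))) hge⟩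
  rw [← (⨆ i, G i).map_ideal_basicOpen O (c i), hI, Ideal.map_span, Set.image_singleton]
  refine (Ideal.span_singleton_le_iff_mem _).mpr ?_
  have hu : IsUnit ((Y.presheaf.map (homOfLE (Y.basicOpen_le (c i))).op).hom (c i)) :=
    RingedSpace.isUnit_res_basicOpen Y.toRingedSpace (c i)
  have h6 : (Y.presheaf.map (homOfLE (Y.basicOpen_le (c i))).op).hom (a i) ∈
      (G i).ideal (Y.affineBasicOpen (c i)) := by
    rw [← (G i).map_ideal_basicOpen O (c i)]
    exact Ideal.mem_map_of_mem _ (ha i)
  rw [← hc i, map_mul] at h6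
  exact (Ideal.unit_mul_mem_iff_mem _ hu).mp h6

/-- If `F` is of finite type with `F.comap b` effective Cartier, and `I` is an effective Cartier
ideal with `supp I ⊆ supp F`, then `I.comap b` is effective Cartier. -/
theorem isEffCartier_comap_of_support_le {S : Scheme.{u}} (b : Y ⟶ S) (F I : S.IdealSheafData)
    (hF : BlowUp.IsEffCartierIdeal (F.comap b)) (hI : BlowUp.IsEffCartierIdeal I)
    (hfg : ∀ A : S.affineOpens, (F.ideal A).FG) (hsupp : I.support ≤ F.support) :
    BlowUp.IsEffCartierIdeal (I.comap b) := by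
  intro y
  obtain ⟨A, hxA, f, hf, hfI⟩ := hI (b y)
  obtain ⟨O₁, hyO₁, τ, hτ, hτF⟩ := hF y
  obtain ⟨r, hr, hyr⟩ := O₁.2.exists_basicOpen_le (V := b ⁻¹ᵁ A.1) ⟨y, hxA⟩ hyO₁
  obtain ⟨τ', hτ', hτF'⟩ := Groth.Agent.H8.isEffCartier_basicOpen (F.comap b) O₁ τ hτ hτF r
  have hle : (Y.affineBasicOpen r).1 ≤ b ⁻¹ᵁ A.1 := hr
  have e1 := Groth.Agent.H19.ComapAff.ideal_comap_appLE b F A (Y.affineBasicOpen r) hle
  have e2 := Groth.Agent.H19.ComapAff.ideal_comap_appLE b I A (Y.affineBasicOpen r) hle
  -- F ≤ rad I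
  have hrad : F.ideal A ≤ (I.ideal A).radical := by
    have h1 : F.radical ≤ I.radical := by
      rw [← vanishingIdeal_support, ← vanishingIdeal_support]
      exact vanishingIdeal_antimono hsupp
    have h2 := (le_radical F).trans h1 A
    rwa [radical_ideal] at h2
  obtain ⟨m, hm⟩ := Ideal.exists_pow_le_of_le_radical_of_fg hrad (hfg A)
  set φ := (b.appLE A.1 (Y.affineBasicOpen r).1 hle).hom with hφ
  have h3 : τ' ^ m ∈ Ideal.span {φ f} := by
    have h4 : τ' ∈ (F.ideal A).map φ := by
      rw [← e1, hτF']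
      exact Ideal.mem_span_singleton_self τ'
    have h5 : τ' ^ m ∈ ((F.ideal A).map φ) ^ m := Ideal.pow_mem_pow h4 m
    rw [← Ideal.map_pow] at h5
    have h6 := Ideal.map_mono (f := φ) hm h5
    rwa [hfI, Ideal.map_span, Set.image_singleton] at h6
  obtain ⟨g, hg⟩ := Ideal.mem_span_singleton'.mp h3
  have h7 : φ f ∈ nonZeroDivisors Γ(Y, (Y.affineBasicOpen r).1) := by
    have h8 : g * φ f ∈ nonZeroDivisors Γ(Y, (Y.affineBasicOpen r).1) := by
      rw [hg]
      exact pow_mem hτ' m
    exact (mul_mem_nonZeroDivisors.mp h8).2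
  refine ⟨Y.affineBasicOpen r, hyr, φ f, h7, ?_⟩
  rw [e2, hfI, Ideal.map_span, Set.image_singleton]

/-- Constructible subsets of a quasi-compact quasi-separated scheme are quasi-compact. -/
theorem isCompact_of_isConstructible (X : Scheme.{u}) [CompactSpace X] [QuasiSeparatedSpace X]
    {s : Set X} (hs : IsConstructible s) : IsCompact s := by
  have hne : Nonempty X.affineOpens := ⟨⟨⊥, isAffineOpen_bot X⟩⟩
  have hbasis : IsTopologicalBasis (Set.range fun A : X.affineOpens => (A.1 : Set X)) := by
    have := X.isBasis_affineOpens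
    rw [Opens.IsBasis] at this
    convert this using 1
    ext t
    constructor
    · rintro ⟨A, rfl⟩
      exact ⟨A.1, A.2, rfl⟩
    · rintro ⟨A, hA, rfl⟩
      exact ⟨⟨A, hA⟩, rfl⟩
  refine IsConstructible.induction_of_isTopologicalBasis
    (P := fun s _ => IsCompact s) (fun A : X.affineOpens => (A.1 : Set X)) hbasis
    (fun A => A.2.isCompact) ?_ ?_ s hs
  · intro A t ht
    exact A.2.isCompact.diff (isOpen_biUnion fun j _ => j.1.2)
  · intro s _ t _ hs ht
    exact hs.union ht

end Groth.Agent.H96.SupBlowUp
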