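import Mathlib

/-!
# Symmetric tensors in a free module: basis of orbit sums and trace formula

`Γ n M` is the submodule of `⨂^n M` fixed by all permutations of the factors.  Given a basis `b` of `M`
indexed by `ι` and a "complete invariant" `c : (Fin n → ι) → I` for the permutation action on index tuples,
with section `s`, we build a linear equivalence `Γ n M ≃ (I → A)` and compute the trace of the endomorphism
of `Γ n M` induced by `u^{⊗ n}` as a universal polynomial in the matrix entries of `u`.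
-/

set_option linter.style.haveILetI false
set_option linter.unusedSectionVars false
set_option linter.unusedVariables false

open TensorProduct PiTensorProduct Module

namespace Groth.Agent.H96.SymTensor

variable {A : Type*} [CommRing A] {M : Type*} [AddCommGroup M] [Module A M]

/-- Symmetric tensors: invariants of the tensor power under permutation of factors. -/
abbrev Γ (A : Type*) [CommRing A] (M : Type*) [AddCommGroup M] [Module A M] (n : ℕ) :
    Submodule A (⨂[A] _ : Fin n, M) :=
  ⨅ σ : Equiv.Perm (Fin n),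
    LinearMap.eqLocus ((PiTensorProduct.reindex A (fun _ : Fin n => M) σ).toLinearMap) LinearMap.id

lemma mem_Γ_iff {n : ℕ} (t : ⨂[A] _ : Fin n, M) :
    t ∈ Γ A M n ↔ ∀ σ : Equiv.Perm (Fin n), PiTensorProduct.reindex A (fun _ : Fin n => M) σ t = t := by
  simp [Γ, Submodule.mem_iInf, LinearMap.mem_eqLocus]

variable {ι : Type*} [Fintype ι] [DecidableEq ι] (b : Basis ι A M) (n : ℕ)

/-- The basis of the tensor power. -/
noncomputable abbrev tB : Basis (Fin n → ι) A (⨂[A] _ : Fin n, M) :=
  Basis.piTensorProduct (fun _ : Fin n => b)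

lemma reindex_tB (σ : Equiv.Perm (Fin n)) (x : Fin n → ι) :
    PiTensorProduct.reindex A (fun _ : Fin n => M) σ (tB b n x) = tB b n (x ∘ σ.symm) := by
  simp only [tB, Basis.piTensorProduct_apply]
  rw [PiTensorProduct.reindex_tprod]
  rfl

lemma repr_reindex (σ : Equiv.Perm (Fin n)) (t : ⨂[A] _ : Fin n, M) (y : Fin n → ι) :
    (tB b n).repr (PiTensorProduct.reindex A (fun _ : Fin n => M) σ t) y = (tB b n).repr t (y ∘ σ) := by
  have key : ∀ t : ⨂[A] _ : Fin n, M,
      ((Finsupp.lapply y : ((Fin n → ι) →₀ A) →ₗ[A] A) ∘ₗ (tB b n).repr.toLinearMap ∘ₗ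
        (PiTensorProduct.reindex A (fun _ : Fin n => M) σ).toLinearMap) t =
      ((Finsupp.lapply (y ∘ σ) : ((Fin n → ι) →₀ A) →ₗ[A] A) ∘ₗ (tB b n).repr.toLinearMap) t := by
    intro t
    congr 1
    refine (tB b n).ext fun x => ?_
    simp only [LinearMap.comp_apply, LinearEquiv.coe_coe, Finsupp.lapply_apply]
    rw [reindex_tB, Basis.repr_self, Basis.repr_self, Finsupp.single_apply, Finsupp.single_apply]
    have : x ∘ ⇑σ.symm = y ↔ x = y ∘ ⇑σ := by
      constructor
      · rintro rfl; ext k; simp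
      · rintro rfl; ext k; simp
    simp only [this]
  exact key t

variable {I : Type*} [Fintype I] [DecidableEq I] (c : (Fin n → ι) → I) (s : I → (Fin n → ι))

lemma repr_eq_of_mem (horb : ∀ x y, c x = c y → ∃ σ : Equiv.Perm (Fin n), y = x ∘ σ)
    {t : ⨂[A] _ : Fin n, M} (ht : t ∈ Γ A M n) {x y : Fin n → ι} (h : c x = c y) :
    (tB b n).repr t x = (tB b n).repr t y := by
  obtain ⟨σ, rfl⟩ := horb x y h
  rw [← repr_reindex, (mem_Γ_iff t).1 ht σ]

/-- The symmetric tensor with prescribed orbit coefficients. -/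
noncomputable def ofFun (φ : I → A) : ⨂[A] _ : Fin n, M := ∑ x, φ (c x) • tB b n x

lemma repr_ofFun (φ : I → A) (x : Fin n → ι) : (tB b n).repr (ofFun b n c φ) x = φ (c x) := by
  simp only [ofFun, map_sum, map_smul, Basis.repr_self, Finsupp.coe_finsetSum, Finsupp.coe_smul,
    Finset.sum_apply, Pi.smul_apply, smul_eq_mul, Finsupp.single_apply]
  simp

lemma ofFun_mem (horb' : ∀ (x : Fin n → ι) (σ : Equiv.Perm (Fin n)), c (x ∘ σ) = c x) (φ : I → A) :
    ofFun b n c φ ∈ Γ A M n := by
  rw [mem_Γ_iff]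
  intro σ
  apply (tB b n).repr.injective
  ext y
  rw [repr_reindex, repr_ofFun, repr_ofFun, horb']

/-- Symmetric tensors are free on the orbit sums. -/
noncomputable def eΓ (hcs : ∀ i, c (s i) = i)
    (horb : ∀ x y, c x = c y → ∃ σ : Equiv.Perm (Fin n), y = x ∘ σ)
    (horb' : ∀ (x : Fin n → ι) (σ : Equiv.Perm (Fin n)), c (x ∘ σ) = c x) :
    Γ A M n ≃ₗ[A] (I → A) where
  toFun t := fun i => (tB b n).repr (t : ⨂[A] _ : Fin n, M) (s i)
  map_add' t t' := by ext i; simp
  map_smul' a t := by ext i; simp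
  invFun φ := ⟨ofFun b n c φ, ofFun_mem b n c horb' φ⟩
  left_inv t := by
    apply Subtype.ext
    apply (tB b n).repr.injective
    ext x
    rw [repr_ofFun]
    exact repr_eq_of_mem b n c horb t.2 (by rw [hcs])
  right_inv φ := by
    ext i
    simp only [repr_ofFun, hcs]

theorem trace_eq (hcs : ∀ i, c (s i) = i)
    (horb : ∀ x y, c x = c y → ∃ σ : Equiv.Perm (Fin n), y = x ∘ σ)
    (horb' : ∀ (x : Fin n → ι) (σ : Equiv.Perm (Fin n)), c (x ∘ σ) = c x)
    (u : M →ₗ[A] M) (γ : Γ A M n →ₗ[A] Γ A M n)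
    (hγ : ∀ x : Γ A M n, (γ x : ⨂[A] _ : Fin n, M) =
      PiTensorProduct.map (fun _ : Fin n => u) (x : ⨂[A] _ : Fin n, M)) :
    LinearMap.trace A _ γ =
      ∑ i : I, ∑ x : Fin n → ι,
        if c x = i then ∏ k, LinearMap.toMatrix b b u (s i k) (x k) else 0 := by
  rw [LinearMap.trace_eq_matrix_trace A (Basis.ofEquivFun (eΓ b n c s hcs horb horb')) γ, Matrix.trace]
  refine Finset.sum_congr rfl fun i _ => ?_
  rw [Matrix.diag_apply, LinearMap.toMatrix_apply, Basis.ofEquivFun_repr_apply, Basis.coe_ofEquivFun]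
  show (tB b n).repr ((γ ((eΓ b n c s hcs horb horb').symm (Pi.single i 1)) : Γ A M n) :
    ⨂[A] _ : Fin n, M) (s i) = _
  rw [hγ]
  show (tB b n).repr (PiTensorProduct.map (fun _ : Fin n => u) (ofFun b n c (Pi.single i 1))) (s i) = _
  simp only [ofFun, map_sum, map_smul, Finsupp.coe_finsetSum, Finsupp.coe_smul, Finset.sum_apply,
    Pi.smul_apply, smul_eq_mul]
  refine Finset.sum_congr rfl fun x _ => ?_
  have h1 : (tB b n).repr (PiTensorProduct.map (fun _ : Fin n => u) (tB b n x)) (s i) =
      ∏ k, LinearMap.toMatrix b b u (s i k) (x k) := by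
    simp only [tB, Basis.piTensorProduct_apply, PiTensorProduct.map_tprod,
      Basis.piTensorProduct_repr_tprod_apply, LinearMap.toMatrix_apply]
  rw [h1]
  by_cases h : c x = i
  · simp [h]
  · simp [h]

end Groth.Agent.H96.SymTensor
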