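import Mathlib
import Groth.Prelude.Def_WeilCoh
import Groth.Prelude.Def_ChowOps
import Groth.Agent.H96.WeilKunneth

/-!
# Cycle classes and push-forward of cycles

* `delta_eq_pdim`: the weight function induced from weight `0` on `Spec k` is `pdim`;
* `mapCoeff_mul_tr`: the pointwise push-forward identity against an arbitrary class;
* `tr_clCyc_map_mul`: `tr_Y (cl (f_* α) · b) = tr_X (cl α · f^* b)`.
-/

set_option autoImplicit false
set_option linter.style.haveILetI false
set_option linter.unusedSectionVars false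
set_option linter.unusedVariables false

universe u v w

open CategoryTheory AlgebraicGeometry WeilCoh

namespace Groth.Agent.H96.WeilCyc

open Groth.Agent.H96.WeilPt Groth.Agent.H96.WeilDim Groth.Agent.H96.WeilGraph
  Groth.Agent.H96.WeilUnit Groth.Agent.H96.WeilKunneth Groth.Agent.H96.WeilPush

attribute [local instance] Curv2.stalkAlgebra Curv2.resAlgebra

variable {k : Type u} [Field k]

theorem finite_support {X : Scheme.{u}} [CompactSpace X] (α : AlgebraicCycle X ℤ) :
    (Function.support α).Finite := by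
  have := α.locallyFiniteSupport.finite_inter_support_of_isCompact isCompact_univ
  simpa using this

/-- The residue field of the point is algebraic over `k`. -/
theorem trdeg_pt (y : (pt k).obj.left) :
    letI : (pt k).obj.left.Over (Spec (CommRingCat.of k)) := ⟨(pt k).obj.hom⟩
    Algebra.trdeg k ((pt k).obj.left.residueField y) = 0 := by
  letI : (pt k).obj.left.Over (Spec (CommRingCat.of k)) := ⟨(pt k).obj.hom⟩
  have := isProper_hom (pt k)
  have : LocallyOfFiniteType ((pt k).obj.left ↘ Spec (CommRingCat.of k)) :=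
    inferInstanceAs (LocallyOfFiniteType (pt k).obj.hom)
  obtain ⟨n, hn⟩ := Groth.Agent.H79.SchChart.exists_trdeg_eq (k := k) y
  have h1 := pdim_eq_of_trdeg (pt k) y n hn
  rw [pdim_pt] at h1
  rw [hn, ← h1]
  rfl

/-- The weight function induced from weight `0` on `Spec k` is the dimension of the closure. -/
theorem delta_eq_pdim (X : Var k) (δ : ↥X.obj.left → ℤ)
    (hδ : Cyc.DeltaCompat X.obj.hom δ (fun _ => 0)) (x : X.obj.left) :
    δ x = (pdim X.obj.left x : ℤ) := by
  obtain ⟨n, hn, hδn⟩ := hδ x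
  rw [hδn, zero_add]
  congr 1
  symm
  apply pdim_eq_of_trdeg X x n
  letI : X.obj.left.Over (Spec (CommRingCat.of k)) := ⟨X.obj.hom⟩
  letI : (pt k).obj.left.Over (Spec (CommRingCat.of k)) := ⟨(pt k).obj.hom⟩
  have hf : sm (toPt X) ≫ ((pt k).obj.left ↘ Spec (CommRingCat.of k)) =
      (X.obj.left ↘ Spec (CommRingCat.of k)) := Over.w (toPt X).hom
  letI alg : Algebra ((pt k).obj.left.residueField (sm (toPt X) x)) (X.obj.left.residueField x) :=
    ((sm (toPt X)).residueFieldMap x).hom.toAlgebra
  have htower : IsScalarTower k ((pt k).obj.left.residueField (sm (toPt X) x))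
      (X.obj.left.residueField x) :=
    IsScalarTower.of_algebraMap_eq fun c =>
      (congrArg (fun φ => φ c) (Groth.Agent.H79.SchResMap.resMap_comp k (sm (toPt X)) hf x)).symm
  have h1 := _root_.trdeg_add_eq k ((pt k).obj.left.residueField (sm (toPt X) x))
    (A := X.obj.left.residueField x)
  rw [trdeg_pt, zero_add] at h1
  rw [← h1]
  exact hn

variable {K : Type v} [Field K] (T : TheoryOn.{u, v, w} k (IsVar k) K)

/-- Pointwise push-forward identity against an arbitrary class. -/
theorem mapCoeff_mul_tr {X Y : Var k} (f : X ⟶ Y)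
    (δX : ↥X.obj.left → ℤ) (hδX : Cyc.DeltaCompat X.obj.hom δX (fun _ => 0))
    (δY : ↥Y.obj.left → ℤ) (hδY : Cyc.DeltaCompat Y.obj.hom δY (fun _ => 0))
    (x : X.obj.left) (b : T.H Y) :
    ((AlgebraicCycle.mapCoeff (sm f) δX δY x : ℕ) : K) * T.tr Y (T.cl Y (sm f x) * b) =
      T.tr X (T.cl X x * T.pull f b) := by
  have hX := delta_eq_pdim X δX hδX x
  have hY := delta_eq_pdim Y δY hδY (sm f x)
  have hle : pdim X.obj.left x ≤ dim X.obj.left := pdim_le_dim X x
  have hle' : pdim Y.obj.left (sm f x) ≤ dim Y.obj.left := pdim_le_dim Y (sm f x)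
  have hc : (codim X.obj.left x : ℤ) = (dim X.obj.left : ℤ) - (pdim X.obj.left x : ℤ) := by
    unfold codim; omega
  have hc' : (codim Y.obj.left (sm f x) : ℤ) =
      (dim Y.obj.left : ℤ) - (pdim Y.obj.left (sm f x) : ℤ) := by
    unfold codim; omega
  have hcoef : AlgebraicCycle.mapCoeff (sm f) δX δY x =
      if pdim X.obj.left x = pdim Y.obj.left (sm f x) then (sm f).residueDegree x else 0 := by
    unfold AlgebraicCycle.mapCoeff
    have : (sm f).base x = sm f x := rfl
    rw [this, hX, hY]
    simp only [Nat.cast_inj]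
  refine homog_induction T Y (C := fun b => ((AlgebraicCycle.mapCoeff (sm f) δX δY x : ℕ) : K) *
    T.tr Y (T.cl Y (sm f x) * b) = T.tr X (T.cl X x * T.pull f b)) (by simp) ?_ ?_ b
  · intro a b ha hb
    rw [mul_add, map_add, mul_add, map_add, mul_add, map_add, ha, hb]
  · intro d b hb
    by_cases hd : d = 2 * (pdim X.obj.left x : ℤ)
    · subst hd
      rw [T.cl_push f x b hb, hcoef]
      split_ifs with h
      · rfl
      · have h0 : (sm f).residueDegree x = 0 := by
          by_contra hne
          exact h (pdim_eq_of_residueDegree_ne_zero f x hne).symm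
        rw [h0]
    · have hR : T.tr X (T.cl X x * T.pull f b) = 0 :=
        T.tr_vanish X _ _ (SetLike.mul_mem_graded (T.cl_mem X x) (T.pull_mem f d b hb)) (by omega)
      rw [hR, hcoef]
      split_ifs with h
      · rw [T.tr_vanish Y _ _ (SetLike.mul_mem_graded (T.cl_mem Y (sm f x)) hb) (by omega),
          mul_zero]
      · simp

/-- The cycle class of a cycle on a compact scheme as a finite sum. -/
theorem clCyc_eq_sum (X : Var k) (α : AlgebraicCycle X.obj.left ℤ) (S : Finset X.obj.left)
    (hS : Function.support α ⊆ S) :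
    T.clCyc X α = ∑ x ∈ S, ((α x : ℤ) : K) • T.cl X x := by
  unfold TheoryOn.clCyc
  apply finsum_eq_sum_of_support_subset
  intro x hx
  apply hS
  intro h0
  apply hx
  simp [h0]

/-- `tr_Y (cl (f_* α) · b) = tr_X (cl α · f^* b)`. -/
theorem tr_clCyc_map_mul {X Y : Var k} (f : X ⟶ Y) [QuasiCompact (sm f)]
    (δX : ↥X.obj.left → ℤ) (hδX : Cyc.DeltaCompat X.obj.hom δX (fun _ => 0))
    (δY : ↥Y.obj.left → ℤ) (hδY : Cyc.DeltaCompat Y.obj.hom δY (fun _ => 0))
    (α : AlgebraicCycle X.obj.left ℤ) (b : T.H Y) :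
    T.tr Y (T.clCyc Y (AlgebraicCycle.map (sm f) δX δY α) * b) =
      T.tr X (T.clCyc X α * T.pull f b) := by
  classical
  have := compactSpace X
  have := compactSpace Y
  have hfin := finite_support α
  set S := hfin.toFinset with hS
  have hSα : Function.support α ⊆ S := by
    intro x hx
    rw [hS, Set.Finite.coe_toFinset]
    exact hx
  have hβ : ∀ η : Y.obj.left, AlgebraicCycle.map (sm f) δX δY α η =
      ∑ x ∈ S with sm f x = η, α x * (AlgebraicCycle.mapCoeff (sm f) δX δY x : ℤ) := by
    intro η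
    change ∑ᶠ x ∈ (sm f) ⁻¹' {η}, α x * ((AlgebraicCycle.mapCoeff (sm f) δX δY x : ℕ) : ℤ) = _
    apply finsum_mem_eq_sum_of_inter_support_eq
    ext x
    simp only [Set.mem_inter_iff, Set.mem_preimage, Set.mem_singleton_iff, Function.mem_support,
      Finset.coe_filter, Set.mem_ofPred_eq, hS, Set.Finite.mem_toFinset]
    constructor
    · rintro ⟨h1, h2⟩
      exact ⟨⟨left_ne_zero_of_mul h2, h1⟩, h2⟩
    · rintro ⟨⟨-, h1⟩, h2⟩
      exact ⟨h1, h2⟩
  have hSβ : Function.support (AlgebraicCycle.map (sm f) δX δY α) ⊆ (S.image (sm f) : Finset _) := by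
    intro η hη
    rw [Function.mem_support, hβ η] at hη
    obtain ⟨x, hx, -⟩ := Finset.exists_ne_zero_of_sum_ne_zero hη
    rw [Finset.mem_filter] at hx
    rw [Finset.coe_image]
    exact ⟨x, hx.1, hx.2⟩
  rw [clCyc_eq_sum T Y _ _ hSβ, clCyc_eq_sum T X α S hSα, Finset.sum_mul, Finset.sum_mul, map_sum,
    map_sum]
  rw [← Finset.sum_fiberwise_of_maps_to (s := S) (t := S.image (sm f)) (g := sm f)
    (fun x hx => Finset.mem_image_of_mem _ hx)]
  refine Finset.sum_congr rfl fun η _ => ?_
  rw [hβ η, smul_mul_assoc, map_smul, smul_eq_mul, Int.cast_sum, Finset.sum_mul]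
  refine Finset.sum_congr rfl fun x hx => ?_
  rw [Finset.mem_filter] at hx
  rw [smul_mul_assoc, map_smul, smul_eq_mul, ← mapCoeff_mul_tr T f δX hδX δY hδY x b, hx.2]
  push_cast
  ring

end Groth.Agent.H96.WeilCyc
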