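import Mathlib
import Groth.Prelude.Def_WeilCoh
import Groth.Prelude.Def_ChowOps
import Groth.Agent.H96.WeilCyc
import Groth.Agent.H48.EnvelopeSurj

/-!
# Degree of zero-cycles and the trace of their classes
-/

set_option autoImplicit false
set_option linter.style.haveILetI false
set_option linter.unusedSectionVars false
set_option linter.unusedVariables false

universe u v w

open CategoryTheory AlgebraicGeometry WeilCoh

namespace Groth.Agent.H96.WeilDeg

open Groth.Agent.H96.WeilPt Groth.Agent.H96.WeilDim Groth.Agent.H96.WeilGraph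
  Groth.Agent.H96.WeilUnit Groth.Agent.H96.WeilKunneth Groth.Agent.H96.WeilPush
  Groth.Agent.H96.WeilCyc

variable {k : Type u} [Field k]

theorem deltaCompat_pt : Cyc.DeltaCompat (pt k).obj.hom (fun _ => (0 : ℤ)) (fun _ => 0) := by
  intro y
  refine ⟨0, ?_, by simp⟩
  have h := Groth.Agent.H48.EnvelopeSurj.trdeg_eq_zero_of_surjective (pt k).obj.hom y (by
    have h1 : (pt k).obj.hom.residueFieldMap y = 𝟙 _ := Scheme.residueFieldMap_id y
    rw [h1]
    exact Function.surjective_id)
  rw [h]
  rfl

variable {K : Type v} [Field K] (T : TheoryOn.{u, v, w} k (IsVar k) K)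

/-- The degree of a cycle is the trace of its class. -/
theorem deg_eq_tr (X : Var k) [QuasiCompact X.obj.hom] (δ : ↥X.obj.left → ℤ)
    (hδ : Cyc.DeltaCompat X.obj.hom δ (fun _ => 0)) (α : AlgebraicCycle X.obj.left ℤ) :
    (ChowOps.deg X.obj.hom δ α : K) = T.tr X (T.clCyc X α) := by
  classical
  have hq : QuasiCompact (sm (toPt X)) := ‹QuasiCompact X.obj.hom›
  have h := tr_clCyc_map_mul T (toPt X) δ hδ (fun _ => 0) deltaCompat_pt α 1
  rw [map_one, mul_one, mul_one] at h
  rw [← h]
  have hpt := T.point (pt k) dim_pt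
  have p0 : (pt k).obj.left := IsLocalRing.closedPoint k
  have hsub : Function.support (AlgebraicCycle.map (sm (toPt X)) δ (fun _ => (0 : ℤ)) α) ⊆
      (({p0} : Finset (pt k).obj.left) : Set (pt k).obj.left) := by
    intro η _
    rw [Finset.coe_singleton, Set.mem_singleton_iff]
    exact Subsingleton.elim _ _
  rw [clCyc_eq_sum T (pt k) _ _ hsub, Finset.sum_singleton, hpt.1, map_smul, hpt.2, smul_eq_mul,
    mul_one]
  have hp0 : p0 = (IsLocalRing.closedPoint k : (pt k).obj.left) := Subsingleton.elim _ _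
  rw [hp0]
  rfl

/-- The class of a zero-cycle lies in the top degree. -/
theorem clCyc_mem_top (X : Var k) (δ : ↥X.obj.left → ℤ)
    (hδ : Cyc.DeltaCompat X.obj.hom δ (fun _ => 0)) (α : AlgebraicCycle X.obj.left ℤ)
    (hα : α ∈ Cyc.Zk X.obj.left δ 0) :
    T.clCyc X α ∈ T.gr X (2 * (dim X.obj.left : ℤ)) := by
  classical
  have := compactSpace X
  have hfin := finite_support α
  have hSα : Function.support α ⊆ (hfin.toFinset : Set X.obj.left) := by
    intro x hx
    rw [Set.Finite.coe_toFinset]
    exact hx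
  rw [clCyc_eq_sum T X α _ hSα]
  refine Submodule.sum_mem _ fun x hx => ?_
  by_cases h0 : δ x = 0
  · refine Submodule.smul_mem _ _ ?_
    have hp : (pdim X.obj.left x : ℤ) = 0 := by rw [← delta_eq_pdim X δ hδ x, h0]
    have hc : (codim X.obj.left x : ℤ) = (dim X.obj.left : ℤ) := by
      unfold codim; omega
    have := T.cl_mem X x
    rw [hc] at this
    exact this
  · rw [hα x h0]
    simp

/-- A zero-cycle is homologically equivalent to zero iff its degree vanishes. -/
theorem isHomEquivZero_iff_deg_eq_zero [CharZero K] (X : Var k) [QuasiCompact X.obj.hom]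
    (δ : ↥X.obj.left → ℤ) (hδ : Cyc.DeltaCompat X.obj.hom δ (fun _ => 0))
    (α : AlgebraicCycle X.obj.left ℤ) (hα : α ∈ Cyc.Zk X.obj.left δ 0) :
    T.IsHomEquivZero X α ↔ ChowOps.deg X.obj.hom δ α = 0 := by
  have hdeg := deg_eq_tr T X δ hδ α
  constructor
  · intro h
    have h' : T.clCyc X α = 0 := h
    rw [h', map_zero] at hdeg
    exact_mod_cast hdeg
  · intro h
    rw [h, Int.cast_zero] at hdeg
    have hmem := clCyc_mem_top T X δ hδ α hα
    have hinj := (T.tr_bijective X).1
    have : (⟨T.clCyc X α, hmem⟩ : ↥(T.gr X (2 * (dim X.obj.left : ℤ)))) = 0 := by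
      apply hinj
      rw [map_zero]
      exact hdeg.symm
    exact congrArg Subtype.val this

end Groth.Agent.H96.WeilDeg
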