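import Mathlib
import Groth.Prelude.Def_WeilCoh
import Groth.Agent.H96.WeilFrob
import Groth.Agent.H96.ResFieldGen

/-!
# The Frobenius endomorphism: residue fields

* `frob_residueFieldMap_evaluation`: the residue field maps of the `q`-Frobenius are `q`-th powers;
* `fieldRange_frob`: at the generic point, the image of the residue field map of `F` is the field
  of `q`-th powers.
-/

set_option autoImplicit false
set_option linter.style.haveILetI false
set_option linter.unusedSectionVars false
set_option linter.unusedVariables false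

universe u v w

open CategoryTheory AlgebraicGeometry WeilCoh

namespace Groth.Agent.H96.WeilFrob

open Groth.Agent.H96.WeilPt Groth.Agent.H96.WeilDim Groth.Agent.H96.WeilGraph
  Groth.Agent.H96.WeilUnit

section Res

variable {k₀ : Type u} [Field k₀] [Finite k₀]
  {X : Scheme.{u}}
  (FX : X ⟶ X) (hFb : FX.base = 𝟙 _) (hle : ∀ U : X.Opens, U ≤ FX ⁻¹ᵁ U)
  (hFapp : ∀ (U : X.Opens) (s : Γ(X, U)), (FX.appLE U U (hle U)).hom s = s ^ Nat.card k₀)

/-- Every element of a residue field is the evaluation of a section. -/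
theorem exists_evaluation_eq (x : X) (b : X.residueField x) :
    ∃ (W : X.Opens) (hW : x ∈ W) (s : Γ(X, W)), (X.evaluation W x hW).hom s = b := by
  obtain ⟨g, rfl⟩ := X.residue_surjective x b
  obtain ⟨W, hW, s, rfl⟩ := X.presheaf.exists_germ_eq g
  exact ⟨W, hW, s, rfl⟩

include hle hFapp in
theorem frob_residueFieldMap_evaluation (x : X) (W : X.Opens) (hW : FX x ∈ W) (hW' : x ∈ W)
    (s : Γ(X, W)) :
    (FX.residueFieldMap x).hom ((X.evaluation W (FX x) hW).hom s) =
      ((X.evaluation W x hW').hom s) ^ Nat.card k₀ := by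
  rw [Scheme.evaluation_naturality_apply, ← map_pow, ← hFapp W s]
  simp only [Scheme.Hom.appLE, CommRingCat.hom_comp, RingHom.comp_apply]
  unfold Scheme.evaluation
  simp only [CommRingCat.hom_comp, RingHom.comp_apply]
  congr 1
  exact (X.presheaf.germ_res_apply (homOfLE (hle W)) x hW' (FX.app W s)).symm

include hFb hle hFapp in
theorem frob_residueFieldMap_eq_pow (x : X) (b' : X.residueField (FX x)) :
    ∃ b'' : X.residueField x, (FX.residueFieldMap x).hom b' = b'' ^ Nat.card k₀ := by
  obtain ⟨W, hW, s, rfl⟩ := exists_evaluation_eq (FX x) b'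
  have hW' : x ∈ W := by rw [← frob_apply FX hFb x]; exact hW
  exact ⟨_, frob_residueFieldMap_evaluation FX hle hFapp x W hW hW' s⟩

include hFb hle hFapp in
theorem pow_eq_frob_residueFieldMap (x : X) (b : X.residueField x) :
    ∃ b' : X.residueField (FX x), (FX.residueFieldMap x).hom b' = b ^ Nat.card k₀ := by
  obtain ⟨W, hW', s, rfl⟩ := exists_evaluation_eq x b
  have hW : FX x ∈ W := by rw [frob_apply FX hFb x]; exact hW'
  exact ⟨_, frob_residueFieldMap_evaluation FX hle hFapp x W hW hW' s⟩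

end Res

section Comp

theorem exists_tri {P Q R : Scheme.{u}} (a : P ⟶ Q) (b : Q ⟶ R) (c : P ⟶ R)
    (h : a ≫ b = c) (x : P) (r : R.residueField (c x)) :
    ∃ r' : R.residueField (b (a x)),
      (a.residueFieldMap x).hom ((b.residueFieldMap (a x)).hom r') =
        (c.residueFieldMap x).hom r := by
  subst h
  refine ⟨r, ?_⟩
  rw [Scheme.residueFieldMap_comp]
  rfl

theorem exists_tri' {P Q R : Scheme.{u}} (a : P ⟶ Q) (b : Q ⟶ R) (c : P ⟶ R)
    (h : a ≫ b = c) (x : P) (r' : R.residueField (b (a x))) :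
    ∃ r : R.residueField (c x),
      (a.residueFieldMap x).hom ((b.residueFieldMap (a x)).hom r') =
        (c.residueFieldMap x).hom r := by
  subst h
  refine ⟨r', ?_⟩
  rw [Scheme.residueFieldMap_comp]
  rfl

/-- Elements of residue fields can be chased around a commutative square. -/
theorem exists_sq {P Q Q' R : Scheme.{u}} (a : P ⟶ Q) (b : Q ⟶ R) (c : P ⟶ Q') (d : Q' ⟶ R)
    (h : a ≫ b = c ≫ d) (x : P) (r : R.residueField (b (a x))) :
    ∃ r' : R.residueField (d (c x)),
      (a.residueFieldMap x).hom ((b.residueFieldMap (a x)).hom r) =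
        (c.residueFieldMap x).hom ((d.residueFieldMap (c x)).hom r') := by
  obtain ⟨r1, h1⟩ := exists_tri' a b (c ≫ d) h x r
  obtain ⟨r2, h2⟩ := exists_tri c d (c ≫ d) rfl x r1
  exact ⟨r2, h1.trans h2.symm⟩

end Comp

section Range

variable {k₀ : Type u} [Field k₀] [Finite k₀] {k : Type u} [Field k] [IsAlgClosed k]
  [Algebra k₀ k]
  {X : Scheme.{u}} (f : X ⟶ Spec (CommRingCat.of k₀))
  (FX : X ⟶ X) (hFb : FX.base = 𝟙 _) (hle : ∀ U : X.Opens, U ≤ FX ⁻¹ᵁ U)
  (hFapp : ∀ (U : X.Opens) (s : Γ(X, U)), (FX.appLE U U (hle U)).hom s = s ^ Nat.card k₀)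
  (Xb : Var k) (π : Xb.obj.left ⟶ X)
  (hπ : IsPullback π Xb.obj.hom f (Spec.map (CommRingCat.ofHom (algebraMap k₀ k))))
  (F : Xb ⟶ Xb) (hF : sm F ≫ π = π ≫ FX)

/-- Residue fields of `Spec k`, `k` algebraically closed, have all roots. -/
theorem exists_pow_eq_residueField_Spec (y : (Spec (CommRingCat.of k) : Scheme.{u}))
    (c : (Spec (CommRingCat.of k) : Scheme.{u}).residueField y) (n : ℕ) (hn : 0 < n) :
    ∃ d, d ^ n = c := by
  have hy : IsClosed ({y} : Set (Spec (CommRingCat.of k) : Scheme.{u})) := by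
    have : ({y} : Set (Spec (CommRingCat.of k) : Scheme.{u})) = Set.univ := by
      ext z
      simp only [Set.mem_singleton_iff, Set.mem_univ, iff_true]
      exact Subsingleton.elim (α := PrimeSpectrum k) z y
    rw [this]
    exact isClosed_univ
  let e := (residueFieldIsoBase (𝟙 (Spec (CommRingCat.of k))) y hy).commRingCatIsoToRingEquiv
  obtain ⟨z, hz⟩ := IsAlgClosed.exists_pow_nat_eq (e c) hn
  refine ⟨e.symm z, ?_⟩
  rw [← map_pow, hz, RingEquiv.symm_apply_apply]

variable (p e : ℕ) (hq : Nat.card k₀ = p ^ e)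

include hFb hle hFapp hπ hF hq in
/-- Every element in the image of the residue field map of `F` is a `q`-th power. -/
theorem frob_residueFieldMap_mem (x : Xb.obj.left) [ExpChar (Xb.obj.left.residueField x) p]
    (w : Xb.obj.left.residueField (sm F x)) :
    ∃ z : Xb.obj.left.residueField x, ((sm F).residueFieldMap x).hom w = z ^ Nat.card k₀ := by
  have hq0 : 0 < Nat.card k₀ := Nat.card_pos
  let G : Subfield (Xb.obj.left.residueField (sm F x)) :=
    Subfield.comap ((sm F).residueFieldMap x).hom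
      (iterateFrobenius (Xb.obj.left.residueField x) p e).fieldRange
  have hG : ∀ w, w ∈ G ↔ ∃ z : Xb.obj.left.residueField x,
      ((sm F).residueFieldMap x).hom w = z ^ Nat.card k₀ := by
    intro w
    rw [hq]
    change (∃ z, iterateFrobenius _ p e z = _) ↔ _
    simp only [iterateFrobenius_def]
    exact ⟨fun ⟨z, hz⟩ => ⟨z, hz.symm⟩, fun ⟨z, hz⟩ => ⟨z, hz.symm⟩⟩
  have hGtop : G = ⊤ := by
    refine Groth.Agent.H96.ResFieldGen.subfield_eq_top hπ (sm F x) G ?_ ?_
    · intro b
      rw [hG]
      obtain ⟨b', hb'⟩ := exists_sq (sm F) π π FX hF x b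
      obtain ⟨b'', hb''⟩ := frob_residueFieldMap_eq_pow FX hFb hle hFapp (π x) b'
      refine ⟨(π.residueFieldMap x).hom b'', ?_⟩
      rw [hb', hb'', map_pow]
    · intro c
      rw [hG]
      have hw : sm F ≫ Xb.obj.hom = Xb.obj.hom := Over.w F.hom
      obtain ⟨c', hc'⟩ := exists_tri' (sm F) Xb.obj.hom Xb.obj.hom hw x c
      obtain ⟨d, hd⟩ := exists_pow_eq_residueField_Spec (Xb.obj.hom x) c' _ hq0
      refine ⟨(Xb.obj.hom.residueFieldMap x).hom d, ?_⟩
      rw [hc', ← hd, map_pow]
  have : w ∈ G := by rw [hGtop]; exact Subfield.mem_top w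
  exact (hG w).1 this

include hFb hle hFapp hπ hF hq in
/-- Every `q`-th power is in the image of the residue field map of `F`. -/
theorem pow_mem_range_frob_residueFieldMap (x : Xb.obj.left)
    [ExpChar (Xb.obj.left.residueField x) p] (z : Xb.obj.left.residueField x) :
    ∃ w : Xb.obj.left.residueField (sm F x), ((sm F).residueFieldMap x).hom w = z ^ Nat.card k₀ := by
  have hq0 : 0 < Nat.card k₀ := Nat.card_pos
  let G : Subfield (Xb.obj.left.residueField x) :=
    Subfield.comap (iterateFrobenius (Xb.obj.left.residueField x) p e)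
      ((sm F).residueFieldMap x).hom.fieldRange
  have hG : ∀ z, z ∈ G ↔ ∃ w : Xb.obj.left.residueField (sm F x),
      ((sm F).residueFieldMap x).hom w = z ^ Nat.card k₀ := by
    intro z
    rw [hq]
    change (∃ w, _ = iterateFrobenius _ p e z) ↔ _
    simp only [iterateFrobenius_def]
  have hGtop : G = ⊤ := by
    refine Groth.Agent.H96.ResFieldGen.subfield_eq_top hπ x G ?_ ?_
    · intro b
      rw [hG]
      obtain ⟨b', hb'⟩ := pow_eq_frob_residueFieldMap FX hFb hle hFapp (π x) b
      obtain ⟨b'', hb''⟩ := exists_sq π FX (sm F) π hF.symm x b'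
      refine ⟨(π.residueFieldMap (sm F x)).hom b'', ?_⟩
      rw [← hb'', hb', map_pow]
    · intro c
      rw [hG]
      have hw : sm F ≫ Xb.obj.hom = Xb.obj.hom := Over.w F.hom
      obtain ⟨c', hc'⟩ := exists_tri (sm F) Xb.obj.hom Xb.obj.hom hw x (c ^ Nat.card k₀)
      refine ⟨(Xb.obj.hom.residueFieldMap (sm F x)).hom c', ?_⟩
      rw [hc', map_pow]
  have : z ∈ G := by rw [hGtop]; exact Subfield.mem_top z
  exact (hG z).1 this

end Range

end Groth.Agent.H96.WeilFrob
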