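import Mathlib
import Groth.Prelude.Def_WeilCoh
import Groth.Agent.H96.WeilFrobRes
import Groth.Agent.H96.WeilPush
import Groth.Agent.H67.PDeg4
import Groth.Agent.H25.FTResidue

/-!
# The Frobenius endomorphism: degree

* `finrank_of_range_eq_pow`: a field `M` finitely generated of transcendence degree `r` over a
  perfect field has degree `q ^ r` over its subfield of `q`-th powers;
* `residueDegree_frob`: the degree of `F` at the generic point is `q ^ dim`;
* `tr_pull_frob`: `tr (F^* a) = q ^ dim * tr a` in top degree.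
-/

set_option autoImplicit false
set_option linter.style.haveILetI false
set_option linter.unusedSectionVars false
set_option linter.unusedVariables false

universe u v w

open CategoryTheory AlgebraicGeometry WeilCoh

namespace Groth.Agent.H96.WeilFrob

open Groth.Agent.H96.WeilPt Groth.Agent.H96.WeilDim Groth.Agent.H96.WeilGraph
  Groth.Agent.H96.WeilUnit

section Field

open Cardinal

theorem finrank_of_range_eq_pow {k L M : Type u} [Field k] [Field L] [Field M] [Algebra k M]
    (p e : ℕ) [ExpChar k p] [PerfectRing k p] [Algebra.EssFiniteType k M] (r : ℕ)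
    (hr : Algebra.trdeg k M = r) (φ : L →+* M) (h1 : ∀ w, ∃ z, φ w = z ^ p ^ e)
    (h2 : ∀ z, ∃ w, φ w = z ^ p ^ e) :
    letI := φ.toAlgebra
    Module.finrank L M = (p ^ e) ^ r := by
  haveI : ExpChar M p := expChar_of_injective_algebraMap (algebraMap k M).injective p
  obtain ⟨ι, x, hx⟩ := exists_isTranscendenceBasis' k M
  have hcard : #ι = (r : Cardinal) := by rw [hx.cardinalMk_eq_trdeg, hr]
  obtain ⟨eι⟩ := Cardinal.mk_eq_nat_iff.mp hcard
  have hs : IsTranscendenceBasis k (x ∘ eι.symm) := hx.comp_equiv eι.symm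
  have hmain := Groth.Agent.H67.PDeg.finrank_fieldRange_of_isTranscendenceBasis (F := k) (K := M)
    p e (Groth.Agent.H67.PDeg.isQBasis_of_perfect (k := k) p e) hs
  rw [one_mul] at hmain
  rw [← hmain]
  letI := φ.toAlgebra
  let ψ : L →+* ↥(iterateFrobenius M p e).fieldRange :=
    φ.codRestrict (iterateFrobenius M p e).fieldRange (fun w => by
      obtain ⟨z, hz⟩ := h1 w
      exact ⟨z, by rw [iterateFrobenius_def, hz]⟩)
  have hψ : Function.Bijective ψ := by
    refine ⟨ψ.injective, ?_⟩
    rintro ⟨y, z, hz⟩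
    obtain ⟨w, hw⟩ := h2 z
    refine ⟨w, Subtype.ext ?_⟩
    change φ w = y
    rw [hw, ← hz, iterateFrobenius_def]
  refine Algebra.finrank_eq_of_equiv_equiv (RingEquiv.ofBijective ψ hψ) (RingEquiv.refl M) ?_
  ext w
  rfl

end Field

attribute [local instance] Curv2.stalkAlgebra Curv2.resAlgebra

section Deg

variable {k₀ : Type u} [Field k₀] [Finite k₀] {k : Type u} [Field k] [IsAlgClosed k]
  [Algebra k₀ k]
  {X : Scheme.{u}} (f : X ⟶ Spec (CommRingCat.of k₀))
  (FX : X ⟶ X) (hFb : FX.base = 𝟙 _) (hle : ∀ U : X.Opens, U ≤ FX ⁻¹ᵁ U)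
  (hFapp : ∀ (U : X.Opens) (s : Γ(X, U)), (FX.appLE U U (hle U)).hom s = s ^ Nat.card k₀)
  (Xb : Var k) (π : Xb.obj.left ⟶ X)
  (hπ : IsPullback π Xb.obj.hom f (Spec.map (CommRingCat.ofHom (algebraMap k₀ k))))
  (F : Xb ⟶ Xb) (hF : sm F ≫ π = π ≫ FX)

include hFb hle hFapp hπ hF in
/-- The degree of the Frobenius endomorphism at the generic point is `q ^ dim`. -/
theorem residueDegree_frob :
    (sm F).residueDegree (gen Xb) = (Nat.card k₀) ^ dim Xb.obj.left := by
  letI : Xb.obj.left.Over (Spec (CommRingCat.of k)) := ⟨Xb.obj.hom⟩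
  have := isProper_hom Xb
  have : LocallyOfFiniteType (Xb.obj.left ↘ Spec (CommRingCat.of k)) :=
    inferInstanceAs (LocallyOfFiniteType Xb.obj.hom)
  -- characteristic
  have := Fintype.ofFinite k₀
  obtain ⟨p, hp⟩ := CharP.exists k₀
  have hprime : Fact p.Prime := ⟨CharP.char_is_prime k₀ p⟩
  obtain ⟨e, -, he⟩ := FiniteField.card k₀ p
  have hq : Nat.card k₀ = p ^ (e : ℕ) := by rw [Nat.card_eq_fintype_card, he]
  haveI : ExpChar k₀ p := ExpChar.prime hprime.out
  haveI : ExpChar k p := expChar_of_injective_algebraMap (algebraMap k₀ k).injective p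
  haveI : ExpChar (Xb.obj.left.residueField (gen Xb)) p :=
    expChar_of_injective_algebraMap
      (algebraMap k (Xb.obj.left.residueField (gen Xb))).injective p
  haveI : PerfectRing k p := inferInstance
  haveI : Algebra.EssFiniteType k (Xb.obj.left.residueField (gen Xb)) :=
    Groth.Agent.H25.FTResidue.essFiniteType_residueField k Xb.obj.left (gen Xb)
  obtain ⟨n, hn⟩ := Groth.Agent.H79.SchChart.exists_trdeg_eq (k := k) (gen Xb)
  have hdim : dim Xb.obj.left = n := by
    rw [← pdim_gen Xb]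
    exact Groth.Agent.H96.WeilPush.pdim_eq_of_trdeg Xb (gen Xb) n hn
  rw [hdim, hq]
  have h1 := frob_residueFieldMap_mem f FX hFb hle hFapp Xb π hπ F hF p e hq (gen Xb)
  have h2 := pow_mem_range_frob_residueFieldMap f FX hFb hle hFapp Xb π hπ F hF p e hq (gen Xb)
  rw [hq] at h1 h2
  exact finrank_of_range_eq_pow (k := k) p e n hn ((sm F).residueFieldMap (gen Xb)).hom h1 h2

variable {K : Type v} [Field K] (T : TheoryOn.{u, v, w} k (IsVar k) K)

include hFb hle hFapp hπ hF in
/-- `tr (F^* a) = q ^ dim * tr a` in top degree. -/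
theorem tr_pull_frob (a : T.H Xb) (ha : a ∈ T.gr Xb (2 * (dim Xb.obj.left : ℤ))) :
    T.tr Xb (T.pull F a) = ((Nat.card k₀ : K) ^ dim Xb.obj.left) * T.tr Xb a := by
  have h1 := T.cl_push F (gen Xb) a (by rw [pdim_gen Xb]; exact ha)
  rw [frob_gen f FX hFb hle hFapp Xb π hπ F hF, cl_gen_eq_one T Xb, one_mul, one_mul,
    residueDegree_frob f FX hFb hle hFapp Xb π hπ F hF, Nat.cast_pow] at h1
  exact h1

end Deg

end Groth.Agent.H96.WeilFrob
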