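import Mathlib
import Groth.Prelude.Def_WeilCoh
import Groth.Agent.H96.WeilFrobDeg
import Groth.Agent.H96.PairDet

/-!
# The Frobenius endomorphism on cohomology: determinants and characteristic polynomials
-/

set_option autoImplicit false
set_option linter.style.haveILetI false
set_option linter.unusedSectionVars false
set_option linter.unusedVariables false

universe u v w

open CategoryTheory AlgebraicGeometry WeilCoh

namespace Groth.Agent.H96.WeilFrob

open Groth.Agent.H96.WeilPt Groth.Agent.H96.WeilDim Groth.Agent.H96.WeilGraph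
  Groth.Agent.H96.WeilUnit

section Lin

variable {k₀ : Type u} [Field k₀] [Finite k₀] {k : Type u} [Field k] [IsAlgClosed k]
  [Algebra k₀ k]
  {X : Scheme.{u}} (f : X ⟶ Spec (CommRingCat.of k₀))
  (FX : X ⟶ X) (hFb : FX.base = 𝟙 _) (hle : ∀ U : X.Opens, U ≤ FX ⁻¹ᵁ U)
  (hFapp : ∀ (U : X.Opens) (s : Γ(X, U)), (FX.appLE U U (hle U)).hom s = s ^ Nat.card k₀)
  (Xb : Var k) (π : Xb.obj.left ⟶ X)
  (hπ : IsPullback π Xb.obj.hom f (Spec.map (CommRingCat.ofHom (algebraMap k₀ k))))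
  (F : Xb ⟶ Xb) (hF : sm F ≫ π = π ≫ FX)

variable {K : Type v} [Field K] (T : TheoryOn.{u, v, w} k (IsVar k) K)

include hFb hle hFapp hπ hF in
theorem pairing_frob (i j : ℤ) (hij : i + j = 2 * (dim Xb.obj.left : ℤ)) (v : T.gr Xb i)
    (w : T.gr Xb j) :
    pairing K (T.gr Xb i) (T.gr Xb j) (T.tr Xb) (T.pullDeg F i v) (T.pullDeg F j w) =
      ((Nat.card k₀ : K) ^ dim Xb.obj.left) *
        pairing K (T.gr Xb i) (T.gr Xb j) (T.tr Xb) v w := by
  rw [Groth.Agent.H77.pairing_apply, Groth.Agent.H77.pairing_apply]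
  change T.tr Xb (T.pull F (v : T.H Xb) * T.pull F (w : T.H Xb)) = _
  rw [← map_mul]
  exact tr_pull_frob f FX hFb hle hFapp Xb π hπ F hF T _
    (Groth.Agent.H77.mem_gr_of_eq T Xb (SetLike.mul_mem_graded v.2 w.2) hij)

include hFb hle hFapp hπ hF in
theorem det_mul_det (i : ℤ) :
    LinearMap.det (T.pullDeg F (2 * (dim Xb.obj.left : ℤ) - i)) * LinearMap.det (T.pullDeg F i) =
      (Nat.card k₀ : K) ^ (dim Xb.obj.left * Module.finrank K ↥(T.gr Xb i)) := by
  haveI := T.duality Xb i (2 * (dim Xb.obj.left : ℤ) - i) (by omega)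
  rw [pow_mul]
  exact Groth.Agent.H96.PairDet.det_mul_det_of_pairing
    (pairing K (T.gr Xb i) (T.gr Xb (2 * (dim Xb.obj.left : ℤ) - i)) (T.tr Xb))
    (T.pullDeg F i) (T.pullDeg F (2 * (dim Xb.obj.left : ℤ) - i)) _
    (pairing_frob f FX hFb hle hFapp Xb π hπ F hF T i _ (by omega))

include hFb hle hFapp hπ hF in
theorem det_smul_reverse_charpoly (i : ℤ) :
    LinearMap.det (T.pullDeg F i) •
        (LinearMap.charpoly (T.pullDeg F (2 * (dim Xb.obj.left : ℤ) - i))).reverse =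
      (-1 : Polynomial K) ^ Module.finrank K ↥(T.gr Xb i) *
        (LinearMap.charpoly (T.pullDeg F i)).comp
          (Polynomial.C ((Nat.card k₀ : K) ^ dim Xb.obj.left) * Polynomial.X) := by
  haveI := T.duality Xb i (2 * (dim Xb.obj.left : ℤ) - i) (by omega)
  exact Groth.Agent.H96.PairDet.det_smul_reverse_charpoly_of_pairing
    (pairing K (T.gr Xb i) (T.gr Xb (2 * (dim Xb.obj.left : ℤ) - i)) (T.tr Xb))
    (T.pullDeg F i) (T.pullDeg F (2 * (dim Xb.obj.left : ℤ) - i)) _
    (pairing_frob f FX hFb hle hFapp Xb π hπ F hF T i _ (by omega))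

end Lin

end Groth.Agent.H96.WeilFrob
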