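import Mathlib

/-!
# The functional equation of a zeta function, formally

Pure algebra in `RatFunc K`: from the relations between the characteristic polynomials in
complementary degrees to the functional equation.
-/

set_option autoImplicit false
set_option linter.style.haveILetI false
set_option linter.unusedSectionVars false
set_option linter.unusedVariables false

open Polynomial Finset

namespace Groth.Agent.H96.ZetaFE

variable {K : Type*} [Field K]

/-- The substitution `t ↦ 1/(c t)` on a reversed polynomial. -/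
theorem aeval_reverse (c : K) (hc : c ≠ 0) (χ P' : K[X]) (b : ℕ) (hb : χ.natDegree = b) (d : K)
    (h : d • P' = (-1 : K[X]) ^ b * χ.comp (C c * X)) :
    aeval ((RatFunc.X : RatFunc K)⁻¹ * RatFunc.C c⁻¹) χ.reverse =
      (-((RatFunc.X : RatFunc K)⁻¹ * RatFunc.C c⁻¹)) ^ b * RatFunc.C d *
        algebraMap K[X] (RatFunc K) P' := by
  set x : RatFunc K := RatFunc.C c * RatFunc.X with hx
  have hx0 : x ≠ 0 := mul_ne_zero (by simpa using hc) RatFunc.X_ne_zero
  have hy : (RatFunc.X : RatFunc K)⁻¹ * RatFunc.C c⁻¹ = x⁻¹ := by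
    rw [hx, mul_inv, map_inv₀, mul_comm]
  rw [hy]
  haveI : Invertible x := invertibleOfNonzero hx0
  have h1 := Polynomial.eval₂_reverse_mul_pow (algebraMap K (RatFunc K)) x χ
  rw [invOf_eq_inv, hb] at h1
  have h2 : eval₂ (algebraMap K (RatFunc K)) x χ =
      algebraMap K[X] (RatFunc K) (χ.comp (C c * X)) := by
    rw [← RatFunc.aeval_X_left_eq_algebraMap, Polynomial.aeval_comp, Polynomial.aeval_def]
    congr 1
    simp [hx]
  have h3 : algebraMap K[X] (RatFunc K) (χ.comp (C c * X)) =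
      (-1) ^ b * (RatFunc.C d * algebraMap K[X] (RatFunc K) P') := by
    have h4 := congrArg (algebraMap K[X] (RatFunc K)) h
    rw [Polynomial.smul_eq_C_mul, map_mul, map_mul, RatFunc.algebraMap_C, map_pow, map_neg,
      map_one] at h4
    rw [h4, ← mul_assoc, ← mul_pow]
    simp
  rw [Polynomial.aeval_def]
  have h5 : eval₂ (algebraMap K (RatFunc K)) x⁻¹ χ.reverse =
      eval₂ (algebraMap K (RatFunc K)) x χ * (x⁻¹) ^ b := by
    rw [← h1, mul_assoc, ← mul_pow, mul_inv_cancel₀ hx0, one_pow, mul_one]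
  rw [h5, h2, h3, neg_pow]
  ring

theorem alt_sum_split (n : ℕ) (B : ℕ → ℤ) :
    ∑ i ∈ range (2 * n + 1), (-1 : ℤ) ^ i * B i =
      ∑ i ∈ range (n + 1), B (2 * i) - ∑ i ∈ range n, B (2 * i + 1) := by
  induction n with
  | zero => simp
  | succ n ih =>
    have h1 : 2 * (n + 1) + 1 = (2 * n + 1) + 1 + 1 := by ring
    have h2 : ∑ i ∈ range (n + 1 + 1), B (2 * i) =
        ∑ i ∈ range (n + 1), B (2 * i) + B (2 * n + 1 + 1) := by
      rw [sum_range_succ]; rfl
    have h3 : ∑ i ∈ range (n + 1), B (2 * i + 1) =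
        ∑ i ∈ range n, B (2 * i + 1) + B (2 * n + 1) := sum_range_succ _ _
    rw [h1, sum_range_succ, sum_range_succ, ih, h2, h3]
    have e1 : (-1 : ℤ) ^ (2 * n + 1) = -1 := Odd.neg_one_pow ⟨n, rfl⟩
    have e2 : (-1 : ℤ) ^ (2 * n + 1 + 1) = 1 := Even.neg_one_pow ⟨n + 1, by ring⟩
    rw [e1, e2]
    ring

theorem sum_split (n : ℕ) (B : ℕ → ℤ) :
    ∑ i ∈ range (2 * n + 1), B i =
      ∑ i ∈ range (n + 1), B (2 * i) + ∑ i ∈ range n, B (2 * i + 1) := by
  induction n with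
  | zero => simp
  | succ n ih =>
    have h1 : 2 * (n + 1) + 1 = (2 * n + 1) + 1 + 1 := by ring
    have h2 : ∑ i ∈ range (n + 1 + 1), B (2 * i) =
        ∑ i ∈ range (n + 1), B (2 * i) + B (2 * n + 1 + 1) := by
      rw [sum_range_succ]; rfl
    have h3 : ∑ i ∈ range (n + 1), B (2 * i + 1) =
        ∑ i ∈ range n, B (2 * i + 1) + B (2 * n + 1) := sum_range_succ _ _
    rw [h1, sum_range_succ, sum_range_succ, ih, h2, h3]
    ring

theorem sum_symm (n : ℕ) (B : ℕ → ℤ) (hB : ∀ j ≤ 2 * n, B (2 * n - j) = B j) :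
    ∑ i ∈ range (2 * n + 1), B i = 2 * ∑ i ∈ range n, B i + B n := by
  have h1 : 2 * n + 1 = n + (n + 1) := by ring
  rw [h1, sum_range_add, sum_range_succ', add_zero]
  have h2 : ∑ x ∈ range n, B (n + (x + 1)) = ∑ x ∈ range n, B x := by
    rw [← sum_range_reflect]
    refine sum_congr rfl fun x hx => ?_
    have hx' := mem_range.mp hx
    have : n + (n - 1 - x + 1) = 2 * n - x := by omega
    rw [this]
    exact hB x (by omega)
  rw [h2]
  ring

/-- The alternating sum is congruent to the middle term mod 2. -/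
theorem exists_alt_sum_eq (n : ℕ) (B : ℕ → ℤ) (hB : ∀ j ≤ 2 * n, B (2 * n - j) = B j) :
    ∃ t : ℤ, ∑ i ∈ range (2 * n + 1), (-1 : ℤ) ^ i * B i = 2 * t + B n := by
  refine ⟨∑ i ∈ range n, B i - ∑ i ∈ range n, B (2 * i + 1), ?_⟩
  have h1 := alt_sum_split n B
  have h2 := sum_split n B
  have h3 := sum_symm n B hB
  linarith

end Groth.Agent.H96.ZetaFE

namespace Groth.Agent.H96.ZetaFE

variable {K : Type*} [Field K]

theorem prod_reflect_odd {M : Type*} [CommMonoid M] (n : ℕ) (g : ℕ → M) :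
    ∏ i ∈ range n, g (2 * n - (2 * i + 1)) = ∏ i ∈ range n, g (2 * i + 1) := by
  rw [← prod_range_reflect (fun i => g (2 * i + 1)) n]
  refine prod_congr rfl fun i hi => ?_
  have hi' := mem_range.mp hi
  congr 1
  omega

theorem prod_reflect_even {M : Type*} [CommMonoid M] (n : ℕ) (g : ℕ → M) :
    ∏ i ∈ range (n + 1), g (2 * n - 2 * i) = ∏ i ∈ range (n + 1), g (2 * i) := by
  rw [← prod_range_reflect (fun i => g (2 * i)) (n + 1)]
  refine prod_congr rfl fun i hi => ?_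
  have hi' := mem_range.mp hi
  congr 1
  omega

/-- The formal functional equation. -/
theorem zeta_fe_aux (n : ℕ) (q : K) (hq : q ≠ 0) (B : ℕ → ℕ) (d : ℕ → K) (P : ℕ → K[X])
    (hB : ∀ j ≤ 2 * n, B (2 * n - j) = B j)
    (hpar : Odd n → Even (B n))
    (hd : ∀ j ≤ 2 * n, d (2 * n - j) * d j = (q ^ n) ^ B j)
    (hP : ∀ j ≤ 2 * n, aeval ((RatFunc.X : RatFunc K)⁻¹ * RatFunc.C (q ^ n)⁻¹) (P j) =
      (-((RatFunc.X : RatFunc K)⁻¹ * RatFunc.C (q ^ n)⁻¹)) ^ B j * RatFunc.C (d j) *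
        algebraMap K[X] (RatFunc K) (P (2 * n - j))) :
    ∃ ε : K, (ε = 1 ∨ ε = -1) ∧
      aeval ((RatFunc.X : RatFunc K)⁻¹ * RatFunc.C (q ^ n)⁻¹) (∏ i ∈ range n, P (2 * i + 1)) /
        aeval ((RatFunc.X : RatFunc K)⁻¹ * RatFunc.C (q ^ n)⁻¹)
          (∏ i ∈ range (n + 1), P (2 * i)) =
      RatFunc.C ε * RatFunc.C q ^
          ((n : ℤ) * (∑ i ∈ range (2 * n + 1), (-1 : ℤ) ^ i * (B i : ℤ)) / 2) *
        (RatFunc.X : RatFunc K) ^ (∑ i ∈ range (2 * n + 1), (-1 : ℤ) ^ i * (B i : ℤ)) *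
        (algebraMap K[X] (RatFunc K) (∏ i ∈ range n, P (2 * i + 1)) /
         algebraMap K[X] (RatFunc K) (∏ i ∈ range (n + 1), P (2 * i))) := by
  set x : RatFunc K := RatFunc.C (q ^ n) * RatFunc.X with hx
  have hc0 : q ^ n ≠ 0 := pow_ne_zero _ hq
  have hCq0 : (RatFunc.C q : RatFunc K) ≠ 0 := by simpa using hq
  have hx0 : x ≠ 0 := mul_ne_zero (by simpa using hc0) RatFunc.X_ne_zero
  have hy : (RatFunc.X : RatFunc K)⁻¹ * RatFunc.C (q ^ n)⁻¹ = x⁻¹ := by
    rw [hx, mul_inv, map_inv₀, mul_comm]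
  rw [hy] at hP ⊢
  set E : ℤ := ∑ i ∈ range (2 * n + 1), (-1 : ℤ) ^ i * (B i : ℤ) with hE
  set So : ℕ := ∑ i ∈ range n, B (2 * i + 1) with hSo
  set Se : ℕ := ∑ i ∈ range (n + 1), B (2 * i) with hSe
  have hESS : E = (Se : ℤ) - So := by
    rw [hE, alt_sum_split n (fun i => (B i : ℤ)), hSe, hSo]
    push_cast
    rfl
  -- parity
  obtain ⟨t, ht⟩ := exists_alt_sum_eq n (fun i => (B i : ℤ))
    (fun j hj => by exact_mod_cast hB j hj)
  obtain ⟨m, hm⟩ : ∃ m : ℤ, (n : ℤ) * E = 2 * m := by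
    rcases Nat.even_or_odd n with hn | hn
    · obtain ⟨r, hr⟩ := hn
      exact ⟨r * E, by rw [hr]; push_cast; ring⟩
    · obtain ⟨r, hr⟩ := hpar hn
      refine ⟨n * t + n * r, ?_⟩
      rw [hE, ht]
      rw [hr]
      push_cast
      ring
  have hdiv : (n : ℤ) * E / 2 = m := by
    rw [hm]
    exact Int.mul_ediv_cancel_left m two_ne_zero
  rw [hdiv]
  -- the products
  set Do : K := ∏ i ∈ range n, d (2 * i + 1) with hDo
  set De : K := ∏ i ∈ range (n + 1), d (2 * i) with hDe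
  have hodd : aeval x⁻¹ (∏ i ∈ range n, P (2 * i + 1)) =
      ((-x⁻¹) ^ So * RatFunc.C Do) *
        algebraMap K[X] (RatFunc K) (∏ i ∈ range n, P (2 * i + 1)) := by
    rw [map_prod]
    have h1 : ∀ i ∈ range n, aeval x⁻¹ (P (2 * i + 1)) =
        ((-x⁻¹) ^ B (2 * i + 1) * RatFunc.C (d (2 * i + 1))) *
          algebraMap K[X] (RatFunc K) (P (2 * n - (2 * i + 1))) := by
      intro i hi
      have hi' := mem_range.mp hi
      exact hP (2 * i + 1) (by omega)
    rw [prod_congr rfl h1, prod_mul_distrib, prod_mul_distrib, prod_pow_eq_pow_sum, ← map_prod,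
      prod_reflect_odd n (fun j => algebraMap K[X] (RatFunc K) (P j)),
      map_prod (algebraMap K[X] (RatFunc K))]
  have heven : aeval x⁻¹ (∏ i ∈ range (n + 1), P (2 * i)) =
      ((-x⁻¹) ^ Se * RatFunc.C De) *
        algebraMap K[X] (RatFunc K) (∏ i ∈ range (n + 1), P (2 * i)) := by
    rw [map_prod]
    have h1 : ∀ i ∈ range (n + 1), aeval x⁻¹ (P (2 * i)) =
        ((-x⁻¹) ^ B (2 * i) * RatFunc.C (d (2 * i))) *
          algebraMap K[X] (RatFunc K) (P (2 * n - 2 * i)) := by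
      intro i hi
      have hi' := mem_range.mp hi
      exact hP (2 * i) (by omega)
    rw [prod_congr rfl h1, prod_mul_distrib, prod_mul_distrib, prod_pow_eq_pow_sum, ← map_prod,
      prod_reflect_even n (fun j => algebraMap K[X] (RatFunc K) (P j)),
      map_prod (algebraMap K[X] (RatFunc K))]
  have hDoDo : Do * Do = (q ^ n) ^ So := by
    have h0 : Do * Do = (∏ i ∈ range n, d (2 * n - (2 * i + 1))) * ∏ i ∈ range n, d (2 * i + 1) := by
      rw [prod_reflect_odd n d]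
    rw [h0, ← prod_mul_distrib, hSo, ← prod_pow_eq_pow_sum]
    refine prod_congr rfl fun i hi => ?_
    have hi' := mem_range.mp hi
    exact hd (2 * i + 1) (by omega)
  have hDeDe : De * De = (q ^ n) ^ Se := by
    have h0 : De * De = (∏ i ∈ range (n + 1), d (2 * n - 2 * i)) *
        ∏ i ∈ range (n + 1), d (2 * i) := by
      rw [prod_reflect_even n d]
    rw [h0, ← prod_mul_distrib, hSe, ← prod_pow_eq_pow_sum]
    refine prod_congr rfl fun i hi => ?_
    have hi' := mem_range.mp hi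
    exact hd (2 * i) (by omega)
  have hDo0 : Do ≠ 0 := by
    intro h0
    rw [h0, mul_zero] at hDoDo
    exact pow_ne_zero _ hc0 hDoDo.symm
  have hDe0 : De ≠ 0 := by
    intro h0
    rw [h0, mul_zero] at hDeDe
    exact pow_ne_zero _ hc0 hDeDe.symm
  -- the constant
  set w : K := q ^ m with hw
  have hw0 : w ≠ 0 := zpow_ne_zero _ hq
  have hww : w * w = (q ^ n) ^ Se / (q ^ n) ^ So := by
    rw [hw, ← zpow_add₀ hq, ← two_mul, ← hm, hESS, mul_sub, zpow_sub₀ hq, zpow_mul, zpow_mul,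
      zpow_natCast, zpow_natCast, zpow_natCast]
  have hDw : (Do / De * w) * (Do / De * w) = 1 := by
    have : (Do / De * w) * (Do / De * w) = (Do * Do) / (De * De) * (w * w) := by
      field_simp
    rw [this, hDoDo, hDeDe, hww]
    have h1 : (q ^ n) ^ So ≠ 0 := pow_ne_zero _ hc0
    have h2 : (q ^ n) ^ Se ≠ 0 := pow_ne_zero _ hc0
    field_simp
  have hε' : Do / De * w = 1 ∨ Do / De * w = -1 := mul_self_eq_one_iff.mp hDw
  -- the sign
  have hs : ((-1 : K) ^ E = 1 ∨ (-1 : K) ^ E = -1) := by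
    rcases Int.even_or_odd E with h | h
    · exact Or.inl h.neg_one_zpow
    · exact Or.inr h.neg_one_zpow
  refine ⟨(-1 : K) ^ E * (Do / De * w), ?_, ?_⟩
  · rcases hs with h | h <;> rcases hε' with h' | h' <;> rw [h, h'] <;> simp
  rw [hodd, heven, mul_div_mul_comm]
  congr 1
  -- the elementary factor
  have h1 : (-x⁻¹) ^ So / (-x⁻¹) ^ Se = (-1 : RatFunc K) ^ E * x ^ E := by
    have hnx : -x⁻¹ ≠ 0 := neg_ne_zero.mpr (inv_ne_zero hx0)
    rw [← zpow_natCast, ← zpow_natCast, ← zpow_sub₀ hnx, ← mul_zpow]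
    have : (So : ℤ) - Se = -E := by rw [hESS]; ring
    rw [this, zpow_neg, ← inv_zpow]
    congr 1
    rw [neg_one_mul, inv_neg, inv_inv]
  have h2 : x ^ E = RatFunc.C q ^ (2 * m) * (RatFunc.X : RatFunc K) ^ E := by
    rw [hx, mul_zpow, map_pow, ← zpow_natCast, ← zpow_mul, hm]
  have h3 : RatFunc.C ((-1 : K) ^ E * (Do / De * w)) =
      (-1 : RatFunc K) ^ E * (RatFunc.C Do / RatFunc.C De) * RatFunc.C q ^ m := by
    rw [map_mul, map_mul, map_div₀, map_zpow₀, map_neg, map_one, hw, map_zpow₀]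
    ring
  rw [mul_div_mul_comm, h1, h2, h3]
  have h4 : (RatFunc.C q : RatFunc K) ^ (2 * m) = RatFunc.C q ^ m * RatFunc.C q ^ m := by
    rw [← zpow_add₀ hCq0, two_mul]
  rw [h4]
  have h5 : (-1 : RatFunc K) ^ E * (-1 : RatFunc K) ^ E = 1 := by
    rw [← mul_zpow]; simp
  have hCDe : (RatFunc.C De : RatFunc K) ≠ 0 := by simpa using hDe0
  field_simp

end Groth.Agent.H96.ZetaFE
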