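import Mathlib
import Groth.Prelude.Def_WeilCoh
import Groth.Agent.H96.WeilFrobLin
import Groth.Agent.H96.ZetaFE

/-!
# The functional equation of the zeta function (cohomological form)
-/

set_option autoImplicit false
set_option linter.style.haveILetI false
set_option linter.unusedSectionVars false
set_option linter.unusedVariables false

universe u v w

open CategoryTheory AlgebraicGeometry WeilCoh

namespace Groth.Agent.H96.WeilFrob

open Groth.Agent.H96.WeilPt Groth.Agent.H96.WeilDim Groth.Agent.H96.WeilGraph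
  Groth.Agent.H96.WeilUnit

section Betti

variable {k : Type u} [Field k] {P : ObjectProperty (Over (Spec (CommRingCat.of k)))}
variable {K : Type v} [Field K] (T : TheoryOn.{u, v, w} k P K)

/-- Betti numbers are symmetric. -/
theorem finrank_gr_symm (X : P.FullSubcategory) (i j : ℤ) (hij : i + j = 2 * (dim X.obj.left : ℤ)) :
    Module.finrank K ↥(T.gr X i) = Module.finrank K ↥(T.gr X j) := by
  haveI := T.duality X i j hij
  exact Groth.Agent.H96.PairDet.finrank_eq_of_isPerfPair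
    (pairing K (T.gr X i) (T.gr X j) (T.tr X))

/-- The middle Betti number of an odd-dimensional variety is even. -/
theorem even_finrank_mid [CharZero K] (X : P.FullSubcategory) (hn : Odd (dim X.obj.left)) :
    Even (Module.finrank K ↥(T.gr X (dim X.obj.left : ℤ))) := by
  haveI := T.duality X (dim X.obj.left : ℤ) (dim X.obj.left : ℤ) (by ring)
  refine Groth.Agent.H96.PairDet.even_finrank_of_skew
    (pairing K (T.gr X (dim X.obj.left : ℤ)) (T.gr X (dim X.obj.left : ℤ)) (T.tr X))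
    two_ne_zero fun v w => ?_
  rw [Groth.Agent.H77.pairing_apply, Groth.Agent.H77.pairing_apply,
    T.gradedComm X _ _ _ _ v.2 w.2, map_smul, smul_eq_mul, Int.natAbs_natCast,
    (hn.mul hn).neg_one_pow]
  ring

end Betti

section Zeta

variable {k₀ : Type u} [Field k₀] [Finite k₀] {k : Type u} [Field k] [IsAlgClosed k]
  [Algebra k₀ k]
  {X : Scheme.{u}} (f : X ⟶ Spec (CommRingCat.of k₀))
  (FX : X ⟶ X) (hFb : FX.base = 𝟙 _) (hle : ∀ U : X.Opens, U ≤ FX ⁻¹ᵁ U)
  (hFapp : ∀ (U : X.Opens) (s : Γ(X, U)), (FX.appLE U U (hle U)).hom s = s ^ Nat.card k₀)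
  (Xb : Var k) (π : Xb.obj.left ⟶ X)
  (hπ : IsPullback π Xb.obj.hom f (Spec.map (CommRingCat.ofHom (algebraMap k₀ k))))
  (F : Xb ⟶ Xb) (hF : sm F ≫ π = π ≫ FX)

variable {K : Type v} [Field K] [CharZero K] (T : TheoryOn.{u, v, w} k (IsVar k) K)

include hFb hle hFapp hπ hF in
theorem zeta_fe :
    ∃ ε : K, (ε = 1 ∨ ε = -1) ∧
      Polynomial.aeval ((RatFunc.X : RatFunc K)⁻¹ *
          RatFunc.C ((Nat.card k₀ : K) ^ dim Xb.obj.left)⁻¹)
          (∏ i ∈ Finset.range (dim Xb.obj.left),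
            (LinearMap.charpoly (T.pullDeg F ((2 * i + 1 : ℕ) : ℤ))).reverse) /
        Polynomial.aeval ((RatFunc.X : RatFunc K)⁻¹ *
          RatFunc.C ((Nat.card k₀ : K) ^ dim Xb.obj.left)⁻¹)
          (∏ i ∈ Finset.range (dim Xb.obj.left + 1),
            (LinearMap.charpoly (T.pullDeg F ((2 * i : ℕ) : ℤ))).reverse) =
      RatFunc.C ε * RatFunc.C (Nat.card k₀ : K) ^ ((dim Xb.obj.left : ℤ) *
          (∑ i ∈ Finset.range (2 * dim Xb.obj.left + 1),
            (-1 : ℤ) ^ i * (Module.finrank K ↥(T.gr Xb (i : ℤ)) : ℤ)) / 2) *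
        (RatFunc.X : RatFunc K) ^ (∑ i ∈ Finset.range (2 * dim Xb.obj.left + 1),
          (-1 : ℤ) ^ i * (Module.finrank K ↥(T.gr Xb (i : ℤ)) : ℤ)) *
        (algebraMap (Polynomial K) (RatFunc K)
          (∏ i ∈ Finset.range (dim Xb.obj.left),
            (LinearMap.charpoly (T.pullDeg F ((2 * i + 1 : ℕ) : ℤ))).reverse) /
         algebraMap (Polynomial K) (RatFunc K)
          (∏ i ∈ Finset.range (dim Xb.obj.left + 1),
            (LinearMap.charpoly (T.pullDeg F ((2 * i : ℕ) : ℤ))).reverse)) := by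
  have hq : (Nat.card k₀ : K) ≠ 0 := by
    have : Nat.card k₀ ≠ 0 := Nat.card_pos.ne'
    exact_mod_cast this
  have hcast : ∀ j ≤ 2 * dim Xb.obj.left,
      ((2 * dim Xb.obj.left - j : ℕ) : ℤ) = 2 * (dim Xb.obj.left : ℤ) - (j : ℤ) := by
    intro j hj
    omega
  refine Groth.Agent.H96.ZetaFE.zeta_fe_aux (dim Xb.obj.left) (Nat.card k₀ : K) hq
    (fun j => Module.finrank K ↥(T.gr Xb (j : ℤ)))
    (fun j => LinearMap.det (T.pullDeg F (j : ℤ)))
    (fun j => (LinearMap.charpoly (T.pullDeg F (j : ℤ))).reverse) ?_ ?_ ?_ ?_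
  · intro j hj
    exact finrank_gr_symm T Xb _ _ (by rw [hcast j hj]; ring)
  · intro hn
    exact even_finrank_mid T Xb hn
  · intro j hj
    have h1 := det_mul_det f FX hFb hle hFapp Xb π hπ F hF T (j : ℤ)
    rw [← hcast j hj, pow_mul] at h1
    exact h1
  · intro j hj
    have h1 := det_smul_reverse_charpoly f FX hFb hle hFapp Xb π hπ F hF T (j : ℤ)
    rw [← hcast j hj] at h1
    refine Groth.Agent.H96.ZetaFE.aeval_reverse _ (pow_ne_zero _ hq) _ _ _
      (LinearMap.charpoly_natDegree _) _ h1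

end Zeta

end Groth.Agent.H96.WeilFrob
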