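import Mathlib.RingTheory.WittVector.Teichmuller
import Mathlib.RingTheory.WittVector.Truncated

set_option autoImplicit false

open WittVector

namespace Groth.Agent.H96
variable (p : ℕ) [hp : Fact p.Prime] {R S : Type*} [CommRing R] [CommRing S]

local notation "𝕎" => WittVector p

/-- coefficientwise twist by powers of `r` -/
def tmul (r : R) (x : 𝕎 R) : 𝕎 R := WittVector.mk p (fun n => r ^ p ^ n * x.coeff n)

theorem ghostComponent_tmul (r : R) (x : 𝕎 R) (n : ℕ) :
    ghostComponent n (tmul p r x) = r ^ p ^ n * ghostComponent n x := by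
  simp only [ghostComponent_apply, aeval_wittPolynomial, tmul, coeff_mk, Finset.mul_sum]
  apply Finset.sum_congr rfl
  intro i hi
  rw [Finset.mem_range] at hi
  rw [mul_pow, ← pow_mul, ← pow_add, Nat.add_sub_cancel' (Nat.lt_succ_iff.mp hi)]
  ring

theorem map_tmul (f : R →+* S) (r : R) (x : 𝕎 R) :
    WittVector.map f (tmul p r x) = tmul p (f r) (WittVector.map f x) := by
  ext n
  simp [tmul, map_coeff]

theorem tmul_aux₁ {σ : Type*} (r : MvPolynomial σ ℚ) (x : 𝕎 (MvPolynomial σ ℚ)) :
    teichmuller p r * x = tmul p r x := by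
  apply (ghostMap.bijective_of_invertible p (MvPolynomial σ ℚ)).1
  rw [map_mul]
  ext1 n
  simp only [Pi.mul_apply, ghostMap_apply, ghostComponent_teichmuller, ghostComponent_tmul]

theorem tmul_aux₂ {σ : Type*} (r : MvPolynomial σ ℤ) (x : 𝕎 (MvPolynomial σ ℤ)) :
    teichmuller p r * x = tmul p r x := by
  refine map_injective (MvPolynomial.map (Int.castRingHom ℚ))
    (MvPolynomial.map_injective _ Int.cast_injective) ?_
  simp only [map_mul, map_teichmuller, map_tmul, tmul_aux₁]

theorem teichmuller_mul_eq (r : R) (x : 𝕎 R) : teichmuller p r * x = tmul p r x := by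
  rcases MvPolynomial.counit_surjective R r with ⟨r, rfl⟩
  rcases WittVector.map_surjective _ (MvPolynomial.counit_surjective R) x with ⟨x, rfl⟩
  rw [← map_teichmuller, ← map_mul, tmul_aux₂, map_tmul]

theorem teichmuller_mul_coeff (r : R) (x : 𝕎 R) (n : ℕ) :
    (teichmuller p r * x).coeff n = r ^ p ^ n * x.coeff n := by
  rw [teichmuller_mul_eq]; rfl

theorem mul_teichmuller_coeff (r : R) (x : 𝕎 R) (n : ℕ) :
    (x * teichmuller p r).coeff n = x.coeff n * r ^ p ^ n := by
  rw [mul_comm, teichmuller_mul_coeff, mul_comm]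

theorem truncate_teichmuller_mul_coeff (m : ℕ) (r : R) (a : TruncatedWittVector p m R) (j : Fin m) :
    (WittVector.truncate m (teichmuller p r) * a).coeff j = r ^ p ^ (j : ℕ) * a.coeff j := by
  obtain ⟨x, rfl⟩ := WittVector.truncate_surjective p m R a
  rw [← map_mul, WittVector.coeff_truncate, WittVector.coeff_truncate, teichmuller_mul_coeff]

theorem mul_truncate_teichmuller_coeff (m : ℕ) (r : R) (a : TruncatedWittVector p m R) (j : Fin m) :
    (a * WittVector.truncate m (teichmuller p r)).coeff j = a.coeff j * r ^ p ^ (j : ℕ) := by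
  rw [mul_comm, truncate_teichmuller_mul_coeff, mul_comm]

end Groth.Agent.H96
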