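import Groth.Prelude.Def_W4c6katofiltaWFil
import Groth.Agent.H96.WittTeich
import Mathlib.RingTheory.WittVector.Identities
import Mathlib.RingTheory.WittVector.Domain
import Mathlib.RingTheory.Localization.Away.Basic
import Mathlib.RingTheory.IntegralClosure.IntegrallyClosed
import Mathlib.RingTheory.UniqueFactorizationDomain.Basic
import Mathlib.RingTheory.Localization.FractionRing
import Mathlib.Algebra.CharP.Algebra
import Mathlib.RingTheory.Polynomial.RationalRoot

set_option autoImplicit false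

open WittVector

namespace Groth.Agent.H96

universe u

section Root

variable {A B : Type*} [CommRing A] [IsDomain A] [CommRing B] [Algebra A B]

/-- In a localization `B` of an integrally closed domain `A`, an element whose power lies in `A`
lies in `A`. -/
theorem mem_range_of_pow_mem_range [IsIntegrallyClosed A] (M : Submonoid A) (hM : M ≤ nonZeroDivisors A)
    [IsLocalization M B] (z : B) (k : ℕ) (hk : 0 < k) (hz : z ^ k ∈ (algebraMap A B).range) :
    z ∈ (algebraMap A B).range := by
  let K := FractionRing A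
  let g : B →+* K := IsLocalization.map _ (T := nonZeroDivisors A) (RingHom.id A) hM
  have hg : ∀ a : A, g (algebraMap A B a) = algebraMap A K a := fun a =>
    IsLocalization.map_eq hM a
  let _ := g.toAlgebra
  have : IsScalarTower A B K := IsScalarTower.of_algebraMap_eq'
    (RingHom.ext fun a => (hg a).symm)
  have := IsFractionRing.isFractionRing_of_isDomain_of_isLocalization M B K
  have hinj : Function.Injective g := IsFractionRing.injective B K
  obtain ⟨a, ha⟩ := hz
  have hint : IsIntegral A (g z ^ k) := by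
    rw [← map_pow, ← ha, hg]
    exact isIntegral_algebraMap
  obtain ⟨y, hy⟩ := IsIntegrallyClosed.exists_algebraMap_eq_of_isIntegral_pow hk hint
  refine ⟨y, hinj ?_⟩
  rw [hg, hy]

end Root

section Range

variable (p : ℕ) [hp : Fact p.Prime] {A B : Type*} [CommRing A] [CommRing B] (f : A →+* B)

/-- Truncated Witt vectors all of whose coefficients lie in the range of `f` are exactly the image
of the Witt vectors of `A`. -/
theorem mem_range_truncate_map_iff (m : ℕ) (t : TruncatedWittVector p m B) :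
    t ∈ ((WittVector.truncate m).comp (WittVector.map f) : WittVector p A →+* _).range ↔
      ∀ j : Fin m, t.coeff j ∈ f.range := by
  constructor
  · rintro ⟨Y, rfl⟩ j
    refine ⟨Y.coeff j, ?_⟩
    simp [WittVector.coeff_truncate, WittVector.map_coeff]
  · intro h
    choose c hc using h
    refine ⟨WittVector.mk p (fun n => if hn : n < m then c ⟨n, hn⟩ else 0), ?_⟩
    ext j
    simp only [RingHom.coe_comp, Function.comp_apply, WittVector.coeff_truncate, WittVector.map_coeff,
      WittVector.coeff_mk, Fin.is_lt, dite_true, Fin.eta, hc]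

end Range

section Fil

variable (p : ℕ) [hp : Fact p.Prime] {A B : Type u} [CommRing A] [CommRing B] [Algebra A B]

/-- The key twist: `F^{m-1}(x) * [c]`. -/
noncomputable def filTwist [CharP B p] (m : ℕ) (c : B) (x : WittVector p B) : WittVector p B :=
  (WittVector.frobenius^[m - 1] x) * WittVector.teichmuller p c

theorem filTwist_coeff [CharP B p] (m : ℕ) (c : B) (x : WittVector p B) (j : ℕ) :
    (filTwist p m c x).coeff j = x.coeff j ^ p ^ (m - 1) * c ^ p ^ j := by
  rw [filTwist, mul_teichmuller_coeff, WittVector.iterate_frobenius_coeff]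

theorem filTwist_sub [CharP B p] (m : ℕ) (c : B) (x y : WittVector p B) :
    filTwist p m c (x - y) = filTwist p m c x - filTwist p m c y := by
  simp only [filTwist]
  rw [iterate_map_sub, sub_mul]

theorem filTwist_mul [CharP B p] (m : ℕ) (c c' : B) (x y : WittVector p B) :
    filTwist p m (c * c') (x * y) = filTwist p m c x * filTwist p m c' y := by
  simp only [filTwist]
  rw [iterate_map_mul, map_mul]
  ring

theorem filTwist_coeff_eq [CharP B p] (m : ℕ) (c : B) (x : WittVector p B) (j : Fin m) :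
    (filTwist p m c x).coeff j = (x.coeff j ^ p ^ (m - 1 - (j : ℕ)) * c) ^ p ^ (j : ℕ) := by
  rw [filTwist_coeff, mul_pow, ← pow_mul, ← pow_add]
  congr 3
  have := j.isLt
  omega

/-- Membership in `fil` in terms of the twist, assuming roots can be extracted. -/
theorem mem_fil_iff_twist [CharP B p]
    (hroot : ∀ (z : B) (k : ℕ), z ^ p ^ k ∈ (algebraMap A B).range → z ∈ (algebraMap A B).range)
    (m : ℕ) (c : B) (x : WittVector p B) :
    WittVector.truncate m x ∈ WittFil.fil p m (A := A) c ↔
      WittVector.truncate m (filTwist p m c x) ∈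
        ((WittVector.truncate m).comp (WittVector.map (algebraMap A B)) : WittVector p A →+* _).range := by
  rw [mem_range_truncate_map_iff]
  constructor
  · intro h j
    have hj := h j
    rw [WittVector.coeff_truncate] at hj ⊢
    rw [filTwist_coeff_eq]
    exact Subring.pow_mem _ hj _
  · intro h j
    have hj := h j
    rw [WittVector.coeff_truncate] at hj ⊢
    rw [filTwist_coeff_eq] at hj
    exact hroot _ _ hj

end Fil

section UFD

variable (p : ℕ) [hp : Fact p.Prime] {A B : Type u} [CommRing A] [IsDomain A]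
  [UniqueFactorizationMonoid A] [CommRing B] [Algebra A B]

theorem hroot_of_away (π : A) (hπ : π ≠ 0) [IsLocalization.Away π B] (z : B) (k : ℕ)
    (hz : z ^ p ^ k ∈ (algebraMap A B).range) : z ∈ (algebraMap A B).range :=
  mem_range_of_pow_mem_range (Submonoid.powers π) (powers_le_nonZeroDivisors_of_noZeroDivisors hπ)
    z (p ^ k) (pow_pos hp.out.pos k) hz

theorem injective_of_away (π : A) (hπ : π ≠ 0) [IsLocalization.Away π B] :
    Function.Injective (algebraMap A B) :=
  IsLocalization.injective B (powers_le_nonZeroDivisors_of_noZeroDivisors hπ)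

theorem charP_of_away [CharP A p] (π : A) (hπ : π ≠ 0) [IsLocalization.Away π B] : CharP B p :=
  charP_of_injective_algebraMap (injective_of_away π hπ) p

theorem prod_primes_ne_zero {r : ℕ} (x : Fin r → A) (hx : ∀ i, Prime (x i)) : ∏ i, x i ≠ 0 :=
  Finset.prod_ne_zero_iff.mpr fun i _ => (hx i).ne_zero

end UFD

section Star

variable {A B : Type u} [CommRing A] [IsDomain A] [UniqueFactorizationMonoid A] [CommRing B]
  [Algebra A B]

theorem pairwise_isRelPrime_of_primes {r : ℕ} (x : Fin r → A) (hx : ∀ i, Prime (x i))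
    (hxa : ∀ i j, Associated (x i) (x j) → i = j) : Pairwise (Function.onFun IsRelPrime x) := by
  intro i k hik
  apply ((hx i).irreducible.isRelPrime_iff_not_dvd).mpr
  intro hd
  exact hik (hxa i k ((hx i).associated_of_dvd (hx k) hd))

/-- If `w ^ q * ∏ x_i ^ s_i` lies in `A` with all `s_i < q`, then `w` lies in `A`. -/
theorem mem_range_of_pow_mul_prod_mem {r : ℕ} (x : Fin r → A) (hx : ∀ i, Prime (x i))
    (hxa : ∀ i j, Associated (x i) (x j) → i = j) [IsLocalization.Away (∏ i, x i) B]
    (w : B) (q : ℕ) (s : Fin r → ℕ) (hs : ∀ i, s i < q)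
    (hw : w ^ q * algebraMap A B (∏ i, x i ^ s i) ∈ (algebraMap A B).range) :
    w ∈ (algebraMap A B).range := by
  have hπ := prod_primes_ne_zero x hx
  have hinj := injective_of_away (B := B) (∏ i, x i) hπ
  by_cases hr : r = 0
  · subst hr
    obtain ⟨⟨y, t⟩, hy⟩ := IsLocalization.surj (Submonoid.powers (∏ i : Fin 0, x i)) w
    obtain ⟨k, hk⟩ := t.2
    simp only [Finset.univ_eq_empty, Finset.prod_empty, one_pow] at hk
    have ht : (t : A) = 1 := hk.symm
    simp only at hy
    rw [ht, map_one, mul_one] at hy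
    exact ⟨y, hy.symm⟩
  have hq : 0 < q := by
    obtain ⟨i⟩ : Nonempty (Fin r) := ⟨⟨0, Nat.pos_of_ne_zero hr⟩⟩
    exact lt_of_le_of_lt (Nat.zero_le _) (hs i)
  -- multiply by the complementary powers
  obtain ⟨γ, hγ⟩ := hw
  have h1 : (w * algebraMap A B (∏ i, x i)) ^ q ∈ (algebraMap A B).range := by
    refine ⟨γ * ∏ i, x i ^ (q - s i), ?_⟩
    rw [map_mul, hγ, mul_assoc, ← map_mul, ← Finset.prod_mul_distrib, mul_pow, ← map_pow,
      ← Finset.prod_pow]
    congr 3
    ext i
    rw [← pow_add, Nat.add_sub_cancel' (hs i).le]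
  obtain ⟨β, hβ⟩ := mem_range_of_pow_mem_range (Submonoid.powers (∏ i, x i))
    (powers_le_nonZeroDivisors_of_noZeroDivisors hπ) _ q hq h1
  have h2 : β ^ q * ∏ i, x i ^ s i = γ * (∏ i, x i) ^ q := by
    apply hinj
    rw [map_mul, map_mul, map_pow, map_pow, hβ, hγ, mul_pow]
    ring
  have hdvd : ∀ i, x i ∣ β := by
    intro i
    by_contra hnd
    have hnd' : ¬ x i ∣ β ^ q * ∏ k ∈ Finset.univ.erase i, x k ^ s k := by
      intro h
      rcases (hx i).dvd_or_dvd h with h | h
      · exact hnd ((hx i).dvd_of_dvd_pow h)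
      · obtain ⟨k, hk, hdk⟩ := (hx i).exists_mem_finset_dvd h
        have hki : k ≠ i := (Finset.mem_erase.mp hk).1
        have := (hx i).dvd_of_dvd_pow hdk
        exact hki (hxa i k ((hx i).associated_of_dvd (hx k) this)).symm
    have h3 : x i ^ q ∣ x i ^ s i * (β ^ q * ∏ k ∈ Finset.univ.erase i, x k ^ s k) := by
      have : x i ^ s i * (β ^ q * ∏ k ∈ Finset.univ.erase i, x k ^ s k) = β ^ q * ∏ k, x k ^ s k := by
        rw [← Finset.mul_prod_erase Finset.univ (fun k => x k ^ s k) (Finset.mem_univ i)]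
        ring
      rw [this, h2]
      apply Dvd.dvd.mul_left
      exact pow_dvd_pow_of_dvd (Finset.dvd_prod_of_mem _ (Finset.mem_univ i)) q
    have h4 := (hx i).pow_dvd_of_dvd_mul_right q hnd' h3
    have h5 := (pow_dvd_pow_iff (hx i).ne_zero (hx i).not_isUnit).mp h4
    exact absurd (hs i) (not_lt.mpr h5)
  obtain ⟨β', hβ'⟩ := Fintype.prod_dvd_of_isRelPrime (pairwise_isRelPrime_of_primes x hx hxa) hdvd
  refine ⟨β', ?_⟩
  have hu : IsUnit (algebraMap A B (∏ i, x i)) :=
    IsLocalization.Away.algebraMap_isUnit (∏ i, x i)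
  apply hu.mul_left_injective
  simp only
  rw [← hβ, hβ', map_mul, mul_comm]

end Star

section Zmon

variable {A B : Type u} [CommRing A] [CommRing B] [Algebra A B]

theorem zmon_decomp (p : ℕ) (hp : 0 < p) {r : ℕ} (x : Fin r → A) (u : Fin r → Bˣ)
    (hu : ∀ i, (u i : B) = algebraMap A B (x i)) (n : Fin r → ℤ) :
    WittFil.zmon u n = (WittFil.zmon u (fun i => n i / (p : ℤ))) ^ p *
      algebraMap A B (∏ i, x i ^ ((n i % (p : ℤ)).toNat)) := by
  have hp' : (0 : ℤ) < p := by exact_mod_cast hp
  unfold WittFil.zmon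
  rw [map_prod, ← Units.val_pow_eq_pow_val, ← Finset.prod_pow]
  have : ∀ i, algebraMap A B (x i ^ ((n i % (p : ℤ)).toNat)) =
      ((u i ^ ((n i % (p : ℤ)).toNat) : Bˣ) : B) := by
    intro i
    rw [map_pow, ← hu, Units.val_pow_eq_pow_val]
  simp only [this]
  rw [← Units.coe_prod, ← Units.val_mul, ← Finset.prod_mul_distrib]
  congr 2
  ext i
  congr 1
  rw [← zpow_natCast (u i ^ (n i / (p:ℤ))), ← zpow_mul, ← zpow_natCast (u i) ((n i % (p : ℤ)).toNat),
    ← zpow_add, Int.toNat_of_nonneg (Int.emod_nonneg _ hp'.ne'), mul_comm, Int.mul_ediv_add_emod]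

end Zmon

section ZmonUFD

variable {A B : Type u} [CommRing A] [IsDomain A] [UniqueFactorizationMonoid A] [CommRing B]
  [Algebra A B]

theorem pow_mul_zmon_mem_iff (p : ℕ) (hp : 0 < p) {r : ℕ} (x : Fin r → A) (hx : ∀ i, Prime (x i))
    (hxa : ∀ i j, Associated (x i) (x j) → i = j) [IsLocalization.Away (∏ i, x i) B]
    (u : Fin r → Bˣ) (hu : ∀ i, (u i : B) = algebraMap A B (x i)) (n : Fin r → ℤ) (z : B) :
    z ^ p * WittFil.zmon u n ∈ (algebraMap A B).range ↔
      z * WittFil.zmon u (fun i => n i / (p : ℤ)) ∈ (algebraMap A B).range := by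
  have hp' : (0 : ℤ) < p := by exact_mod_cast hp
  rw [zmon_decomp p hp x u hu n, ← mul_assoc, ← mul_pow]
  constructor
  · intro h
    refine mem_range_of_pow_mul_prod_mem x hx hxa _ p (fun i => (n i % (p : ℤ)).toNat) ?_ h
    intro i
    have := Int.emod_lt_of_pos (n i) hp'
    have h0 := Int.emod_nonneg (n i) hp'.ne'
    omega
  · intro h
    exact Subring.mul_mem _ (Subring.pow_mem _ h _) ⟨_, rfl⟩

end ZmonUFD

section Single

variable {A B : Type u} [CommRing A] [IsDomain A] [UniqueFactorizationMonoid A] [CommRing B]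
  [Algebra A B]

theorem single_prime_step (x : A) (hx : Prime x) [hloc : IsLocalization.Away x B] (u : Bˣ)
    (hu : (u : B) = algebraMap A B x) (q : ℕ) (hq : 0 < q) (n : ℤ) (hn : ¬ ((q : ℤ) ∣ n)) (z : B)
    (hz : z ^ q * ((u ^ n : Bˣ) : B) ∈ (algebraMap A B).range) :
    z ^ q * ((u ^ (n - 1) : Bˣ) : B) ∈ (algebraMap A B).range := by
  have hq' : (0 : ℤ) < q := by exact_mod_cast hq
  have hs0 : 0 < n % (q : ℤ) := by
    rcases Int.emod_pos_of_not_dvd hn with h | h
    · exact absurd h hq'.ne'
    · exact h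
  have hsq : n % (q : ℤ) < q := Int.emod_lt_of_pos n hq'
  obtain ⟨s, hs⟩ : ∃ s : ℕ, (s : ℤ) = n % (q : ℤ) := ⟨(n % (q : ℤ)).toNat, Int.toNat_of_nonneg hs0.le⟩
  have hs1 : 0 < s := by omega
  have hs2 : s < q := by omega
  have hn' : n = (n / (q : ℤ)) * q + s := by
    rw [hs, mul_comm, Int.mul_ediv_add_emod]
  have e1 : ((u ^ n : Bˣ) : B) = ((u ^ (n / (q : ℤ)) : Bˣ) : B) ^ q * algebraMap A B (x ^ s) := by
    rw [map_pow, ← hu, ← Units.val_pow_eq_pow_val, ← Units.val_pow_eq_pow_val, ← Units.val_mul]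
    congr 1
    conv_lhs => rw [hn']
    rw [zpow_add, zpow_mul, zpow_natCast, zpow_natCast]
  have e2 : ((u ^ (n - 1) : Bˣ) : B) =
      ((u ^ (n / (q : ℤ)) : Bˣ) : B) ^ q * algebraMap A B (x ^ (s - 1)) := by
    rw [map_pow, ← hu, ← Units.val_pow_eq_pow_val, ← Units.val_pow_eq_pow_val, ← Units.val_mul]
    congr 1
    have : n - 1 = (n / (q : ℤ)) * q + ((s - 1 : ℕ) : ℤ) := by
      rw [Nat.cast_sub hs1]; omega
    rw [this, zpow_add, zpow_mul, zpow_natCast, zpow_natCast]
  rw [e1, ← mul_assoc, ← mul_pow] at hz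
  let x' : Fin 1 → A := fun _ => x
  have hprod : ∏ i, x' i = x := by simp [x']
  have : IsLocalization.Away (∏ i, x' i) B := by rw [hprod]; exact hloc
  have hz' : (z * ((u ^ (n / (q : ℤ)) : Bˣ) : B)) ^ q *
      algebraMap A B (∏ i, x' i ^ (fun _ : Fin 1 => s) i) ∈ (algebraMap A B).range := by
    simpa [x'] using hz
  have hw := mem_range_of_pow_mul_prod_mem x' (fun _ => hx) (fun i j _ => Subsingleton.elim i j)
    (z * ((u ^ (n / (q : ℤ)) : Bˣ) : B)) q (fun _ => s) (fun _ => hs2) hz'
  rw [e2, ← mul_assoc, ← mul_pow]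
  exact Subring.mul_mem _ (Subring.pow_mem _ hw _) ⟨_, rfl⟩

end Single

end Groth.Agent.H96
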