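import Groth.Agent.H96.WittFil
import Mathlib.RingTheory.PowerSeries.Order
import Mathlib.RingTheory.PowerSeries.NoZeroDivisors
import Mathlib.RingTheory.WittVector.InitTail

set_option autoImplicit false
universe u
open WittVector

namespace Groth.Agent.H96

section Abstract

variable {A B : Type u} [CommRing A] [CommRing B] [Algebra A B]

/-- Abstract version of `single_prime_step`: only uses the root-extraction property `H`. -/
theorem single_step_of_star (x : A) (u : Bˣ) (hu : (u : B) = algebraMap A B x)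
    (H : ∀ (w : B) (q s : ℕ), s < q → w ^ q * algebraMap A B (x ^ s) ∈ (algebraMap A B).range →
      w ∈ (algebraMap A B).range)
    (q : ℕ) (hq : 0 < q) (n : ℤ) (hn : ¬ ((q : ℤ) ∣ n)) (z : B)
    (hz : z ^ q * ((u ^ n : Bˣ) : B) ∈ (algebraMap A B).range) :
    z ^ q * ((u ^ (n - 1) : Bˣ) : B) ∈ (algebraMap A B).range := by
  have hq' : (0 : ℤ) < q := by exact_mod_cast hq
  have hs0 : 0 < n % (q : ℤ) := by
    rcases Int.emod_pos_of_not_dvd hn with h | h
    · exact absurd h hq'.ne'
    · exact h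
  have hsq : n % (q : ℤ) < q := Int.emod_lt_of_pos n hq'
  obtain ⟨s, hs⟩ : ∃ s : ℕ, (s : ℤ) = n % (q : ℤ) := ⟨(n % (q : ℤ)).toNat, Int.toNat_of_nonneg hs0.le⟩
  have hs1 : 0 < s := by omega
  have hs2 : s < q := by omega
  have hn' : n = (n / (q : ℤ)) * q + s := by
    rw [hs, mul_comm, Int.mul_ediv_add_emod]
  have e1 : ((u ^ n : Bˣ) : B) = ((u ^ (n / (q : ℤ)) : Bˣ) : B) ^ q * algebraMap A B (x ^ s) := by
    rw [map_pow, ← hu, ← Units.val_pow_eq_pow_val, ← Units.val_pow_eq_pow_val, ← Units.val_mul]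
    congr 1
    conv_lhs => rw [hn']
    rw [zpow_add, zpow_mul, zpow_natCast, zpow_natCast]
  have e2 : ((u ^ (n - 1) : Bˣ) : B) =
      ((u ^ (n / (q : ℤ)) : Bˣ) : B) ^ q * algebraMap A B (x ^ (s - 1)) := by
    rw [map_pow, ← hu, ← Units.val_pow_eq_pow_val, ← Units.val_pow_eq_pow_val, ← Units.val_mul]
    congr 1
    have : n - 1 = (n / (q : ℤ)) * q + ((s - 1 : ℕ) : ℤ) := by
      rw [Nat.cast_sub hs1]; omega
    rw [this, zpow_add, zpow_mul, zpow_natCast, zpow_natCast]
  rw [e1, ← mul_assoc, ← mul_pow] at hz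
  have hw := H (z * ((u ^ (n / (q : ℤ)) : Bˣ) : B)) q s hs2 hz
  rw [e2, ← mul_assoc, ← mul_pow]
  exact Subring.mul_mem _ (Subring.pow_mem _ hw _) ⟨_, rfl⟩

end Abstract

section PS

variable {S B : Type u} [CommRing S] [IsDomain S] [CommRing B] [Algebra (PowerSeries S) B]
  [IsLocalization.Away (PowerSeries.X : PowerSeries S) B]

theorem ps_injective : Function.Injective (algebraMap (PowerSeries S) B) :=
  IsLocalization.injective B (powers_le_nonZeroDivisors_of_noZeroDivisors PowerSeries.X_ne_zero)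

theorem ps_mem_range (w : B) (q s : ℕ) (hs : s < q)
    (hw : w ^ q * algebraMap (PowerSeries S) B (PowerSeries.X ^ s) ∈
      (algebraMap (PowerSeries S) B).range) :
    w ∈ (algebraMap (PowerSeries S) B).range := by
  obtain ⟨⟨a, t⟩, hat⟩ := IsLocalization.surj (Submonoid.powers (PowerSeries.X : PowerSeries S)) w
  obtain ⟨N, hN⟩ := t.2
  simp only at hat hN
  have hu : IsUnit (algebraMap (PowerSeries S) B (PowerSeries.X ^ N)) := by
    rw [map_pow]
    exact (IsLocalization.Away.algebraMap_isUnit (PowerSeries.X : PowerSeries S)).pow N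
  rw [← hN] at hat
  by_cases ha : a = 0
  · rw [ha, map_zero] at hat
    have : w = 0 := (hu.mul_left_eq_zero).mp hat
    rw [this]; exact Subring.zero_mem _
  obtain ⟨γ, hγ⟩ := hw
  have h1 : a ^ q * PowerSeries.X ^ s = γ * PowerSeries.X ^ (N * q) := by
    apply ps_injective (B := B)
    rw [map_mul, map_mul, map_pow, ← hat, hγ, mul_pow, pow_mul,
      map_pow (algebraMap _ B) (PowerSeries.X ^ N) q]
    ring
  have h2 : (N * q : ℕ∞) ≤ q • a.order + s := by
    have := congrArg PowerSeries.order h1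
    rw [PowerSeries.order_mul, PowerSeries.order_mul, PowerSeries.order_pow,
      PowerSeries.order_X_pow, PowerSeries.order_X_pow] at this
    rw [this]
    push_cast
    exact le_add_self
  obtain ⟨k, hk⟩ : ∃ k : ℕ, a.order = k := ⟨a.order.toNat, (PowerSeries.coe_toNat_order ha).symm⟩
  rw [hk] at h2
  have h3 : N * q ≤ q * k + s := by
    have : ((N * q : ℕ) : ℕ∞) ≤ ((q * k + s : ℕ) : ℕ∞) := by
      push_cast
      simpa using h2
    exact_mod_cast this
  have h4 : N ≤ k := by
    by_contra hlt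
    rw [not_le] at hlt
    have : q * (k + 1) ≤ N * q := by
      rw [mul_comm N q]; exact Nat.mul_le_mul_left q hlt
    nlinarith
  have h5 : PowerSeries.X ^ N ∣ a := by
    have := PowerSeries.X_pow_order_dvd (φ := a)
    rw [hk] at this
    exact (pow_dvd_pow _ h4).trans (by simpa using this)
  obtain ⟨a', ha'⟩ := h5
  refine ⟨a', ?_⟩
  apply hu.mul_left_injective
  simp only
  rw [hat, ha', map_mul, mul_comm]

theorem ps_hroot (p : ℕ) [hp : Fact p.Prime] (z : B) (k : ℕ)
    (hz : z ^ p ^ k ∈ (algebraMap (PowerSeries S) B).range) :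
    z ∈ (algebraMap (PowerSeries S) B).range := by
  apply ps_mem_range z (p ^ k) 0 (pow_pos hp.out.pos k)
  rwa [pow_zero, map_one, mul_one]

theorem ps_charP (p : ℕ) [CharP S p] : CharP B p := by
  have : CharP (PowerSeries S) p := charP_of_injective_algebraMap
    (PowerSeries.C_injective (R := S)) p
  exact charP_of_injective_algebraMap (ps_injective (S := S) (B := B)) p

end PS

section FilMore

variable (p : ℕ) [hp : Fact p.Prime] {A B : Type u} [CommRing A] [CommRing B] [Algebra A B]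

theorem filTwist_add [CharP B p] (m : ℕ) (c : B) (x y : WittVector p B) :
    filTwist p m c (x + y) = filTwist p m c x + filTwist p m c y := by
  simp only [filTwist]
  rw [iterate_map_add, add_mul]

theorem fil_add_mem [CharP B p]
    (hroot : ∀ (z : B) (k : ℕ), z ^ p ^ k ∈ (algebraMap A B).range → z ∈ (algebraMap A B).range)
    (m : ℕ) (c : B) (x y : WittVector p B)
    (hx : WittVector.truncate m x ∈ WittFil.fil p m (A := A) c)
    (hy : WittVector.truncate m y ∈ WittFil.fil p m (A := A) c) :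
    WittVector.truncate m (x + y) ∈ WittFil.fil p m (A := A) c := by
  rw [mem_fil_iff_twist p hroot] at hx hy ⊢
  rw [filTwist_add, map_add]
  exact Subring.add_mem _ hx hy

theorem fil_sub_mem [CharP B p]
    (hroot : ∀ (z : B) (k : ℕ), z ^ p ^ k ∈ (algebraMap A B).range → z ∈ (algebraMap A B).range)
    (m : ℕ) (c : B) (x y : WittVector p B)
    (hx : WittVector.truncate m x ∈ WittFil.fil p m (A := A) c)
    (hy : WittVector.truncate m y ∈ WittFil.fil p m (A := A) c) :
    WittVector.truncate m (x - y) ∈ WittFil.fil p m (A := A) c := by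
  rw [mem_fil_iff_twist p hroot] at hx hy ⊢
  rw [filTwist_sub, map_sub]
  exact Subring.sub_mem _ hx hy

/-- coefficients of `V^s (c * [v])`. -/
theorem vShiftTeich_coeff_lt {S : Type u} [CommRing S] [Algebra S B] (m s : ℕ) (v : B)
    (c : WittVector p S) (j : Fin m) (hj : (j : ℕ) < s) :
    (WittFil.vShiftTeich p m s v c).coeff j = 0 := by
  unfold WittFil.vShiftTeich
  rw [WittVector.coeff_truncate, WittVector.iterate_verschiebung_coeff_eq_zero _ hj]

theorem vShiftTeich_coeff_ge {S : Type u} [CommRing S] [Algebra S B] (m s : ℕ) (v : B)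
    (c : WittVector p S) (j : Fin m) (hj : s ≤ (j : ℕ)) :
    (WittFil.vShiftTeich p m s v c).coeff j =
      algebraMap S B (c.coeff ((j : ℕ) - s)) * v ^ p ^ ((j : ℕ) - s) := by
  unfold WittFil.vShiftTeich
  rw [WittVector.coeff_truncate]
  obtain ⟨k, hk⟩ : ∃ k, (j : ℕ) = k + s := ⟨(j : ℕ) - s, (Nat.sub_add_cancel hj).symm⟩
  rw [hk, WittVector.iterate_verschiebung_coeff, Nat.add_sub_cancel, mul_teichmuller_coeff,
    WittVector.map_coeff]

end FilMore

section Key

variable {B : Type u} [CommRing B]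

/-- the unit bookkeeping: `(b * (u^i)^(p^(j-s)))^(p^(m-1-j)) * u^(-(p^(m-1-s) * i) + k) = b^(p^(m-1-j)) * u^k`. -/
theorem key_unit (p : ℕ) (u : Bˣ) (m s j : ℕ) (hsj : s ≤ j) (hjm : j < m) (i k : ℤ) (b : B) :
    (b * ((u ^ i : Bˣ) : B) ^ p ^ (j - s)) ^ p ^ (m - 1 - j) *
        ((u ^ (-((p : ℤ) ^ (m - 1 - s) * i) + k) : Bˣ) : B) =
      b ^ p ^ (m - 1 - j) * ((u ^ k : Bˣ) : B) := by
  have e : (p : ℤ) ^ (j - s) * (p : ℤ) ^ (m - 1 - j) = (p : ℤ) ^ (m - 1 - s) := by
    rw [← pow_add]; congr 1; omega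
  have hU : ((u ^ i) ^ p ^ (j - s)) ^ p ^ (m - 1 - j) * u ^ (-((p : ℤ) ^ (m - 1 - s) * i) + k) =
      u ^ k := by
    rw [← zpow_natCast, ← zpow_natCast, ← zpow_mul, ← zpow_mul, ← zpow_add]
    congr 1
    push_cast
    rw [← e]
    ring
  rw [mul_pow, mul_assoc, ← Units.val_pow_eq_pow_val, ← Units.val_pow_eq_pow_val, ← Units.val_mul,
    hU]

end Key

section PS2

variable {S B : Type u} [CommRing S] [IsDomain S] [CommRing B] [Algebra (PowerSeries S) B]
  [IsLocalization.Away (PowerSeries.X : PowerSeries S) B]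

theorem ps_const_eq_zero (u : Bˣ) (hu : (u : B) = algebraMap (PowerSeries S) B PowerSeries.X) (d : S)
    (h : algebraMap (PowerSeries S) B (PowerSeries.C d) * ((u ^ (-1 : ℤ) : Bˣ) : B) ∈
      (algebraMap (PowerSeries S) B).range) : d = 0 := by
  obtain ⟨a, ha⟩ := h
  have h1 : a * PowerSeries.X = PowerSeries.C d := by
    apply ps_injective (B := B)
    rw [map_mul, ha, ← hu, mul_assoc, ← Units.val_mul, zpow_neg_one, inv_mul_cancel, Units.val_one,
      mul_one]
  have := congrArg PowerSeries.constantCoeff h1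
  rw [map_mul, PowerSeries.constantCoeff_X, mul_zero, PowerSeries.constantCoeff_C] at this
  exact this.symm

/-- multiples of `X` raised to a positive power times `u⁻¹` are integral. -/
theorem ps_X_mul_pow_mem (u : Bˣ) (hu : (u : B) = algebraMap (PowerSeries S) B PowerSeries.X)
    (d : PowerSeries S) (q : ℕ) (hq : 0 < q) :
    (algebraMap (PowerSeries S) B (PowerSeries.X * d)) ^ q * ((u ^ (-1 : ℤ) : Bˣ) : B) ∈
      (algebraMap (PowerSeries S) B).range := by
  obtain ⟨q', rfl⟩ : ∃ q', q = q' + 1 := ⟨q - 1, by omega⟩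
  refine ⟨(PowerSeries.X * d) ^ q' * d, ?_⟩
  rw [map_mul, map_pow, pow_succ, mul_assoc]
  congr 1
  rw [map_mul, ← hu, mul_comm (u : B), mul_assoc, ← Units.val_mul, zpow_neg_one, mul_inv_cancel,
    Units.val_one, mul_one]

end PS2

section Key2

variable {B : Type u} [CommRing B]

theorem key_unit2 (p : ℕ) (u : Bˣ) (m s k : ℕ) (h : s + k < m) (i : ℤ) :
    (((u ^ (-i) : Bˣ) : B) ^ p ^ k) ^ p ^ (m - 1 - (s + k)) =
      ((u ^ (-((p : ℤ) ^ (m - 1 - s) * i)) : Bˣ) : B) := by
  have e : (p : ℤ) ^ k * (p : ℤ) ^ (m - 1 - (s + k)) = (p : ℤ) ^ (m - 1 - s) := by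
    rw [← pow_add]; congr 1; omega
  rw [← Units.val_pow_eq_pow_val, ← Units.val_pow_eq_pow_val]
  congr 1
  rw [← zpow_natCast, ← zpow_natCast, ← zpow_mul, ← zpow_mul]
  congr 1
  push_cast
  rw [← e]
  ring

theorem unit_pow_mul_cancel (p : ℕ) (u : Bˣ) (k : ℕ) (i : ℤ) :
    ((u ^ (-i) : Bˣ) : B) ^ p ^ k * ((u ^ i : Bˣ) : B) ^ p ^ k = 1 := by
  rw [← mul_pow, ← Units.val_mul, ← zpow_add, neg_add_cancel, zpow_zero, Units.val_one, one_pow]

end Key2

section InitTail

variable (p : ℕ) [hp : Fact p.Prime] {R : Type u} [CommRing R]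

theorem coeff_init' (x : WittVector p R) (n k : ℕ) :
    (WittVector.init n x).coeff k = if k < n then x.coeff k else 0 := by
  simp [WittVector.init, WittVector.select, WittVector.coeff_mk]

theorem coeff_tail' (x : WittVector p R) (n k : ℕ) :
    (WittVector.tail n x).coeff k = if n ≤ k then x.coeff k else 0 := by
  simp [WittVector.tail, WittVector.select, WittVector.coeff_mk]

theorem eq_init_add_iterate_verschiebung (x : WittVector p R) (n : ℕ) :
    x = WittVector.init n x + (WittVector.verschiebung)^[n] ((WittVector.tail n x).shift n) := by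
  have h : ∀ i < n, (WittVector.tail n x).coeff i = 0 := by
    intro i hi
    rw [coeff_tail', if_neg (by omega)]
  rw [← WittVector.eq_iterate_verschiebung h, WittVector.init_add_tail]

theorem shift_tail_coeff (x : WittVector p R) (n k : ℕ) :
    ((WittVector.tail n x).shift n).coeff k = x.coeff (n + k) := by
  rw [WittVector.shift_coeff, coeff_tail', if_pos (by omega)]

end InitTail

end Groth.Agent.H96
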