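import Groth.Agent.H96.WittTrunc
import Groth.Agent.H96.SigmaLocal
import Groth.Agent.H96.SigmaFrob
import Groth.Prelude.Def_WittGrp

set_option autoImplicit false
universe u v

open IsLocalRing

namespace Groth.Agent.H96.WittSigma

open Groth.Agent.H96.SigmaLin Groth.Agent.H96.WittTrunc

section Data

variable (p : ℕ) [hp : Fact p.Prime] (k : Type u) [Field k] [CharP k p] [IsAlgClosed k] (n : ℕ)

/-- the induced endomorphism of the residue field -/
noncomputable def sbar (f : k →+* k) :
    ResidueField (TruncatedWittVector p (n + 1) k) →+* ResidueField (TruncatedWittVector p (n + 1) k) :=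
  conj (resEquiv p k n) f

theorem sbar_residue (f : k →+* k) (r : TruncatedWittVector p (n + 1) k) :
    sbar p k n f (residue _ r) = residue _ (WittGrp.truncMap p (n + 1) f r) := by
  unfold sbar
  rw [conj_apply, resEquiv_residue]
  apply (resEquiv p k n).injective
  rw [RingEquiv.apply_symm_apply, resEquiv_residue, c0_apply, c0_apply, WittGrp.coeff_truncMap]

theorem frob_or_inv_fixed (f : k →+* k)
    (hf : f = frobenius k p ∨ f = (frobeniusEquiv k p).symm.toRingHom) (y : k) (hy : f y = y) :
    y ^ p = y := by
  rcases hf with rfl | rfl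
  · exact hy
  · have : (frobeniusEquiv k p).symm y = y := hy
    conv_lhs => rw [← this]
    exact frobeniusEquiv_symm_pow_p k p y

theorem data (f : k →+* k)
    (hf : f = frobenius k p ∨ f = (frobeniusEquiv k p).symm.toRingHom) :
    Function.Surjective (sbar p k n f) ∧ Solv (sbar p k n f) ∧
      (∀ c, ∃ y, sbar p k n f y - y + c = 0) ∧
      (∀ x, sbar p k n f x = x → ∃ r : TruncatedWittVector p (n + 1) k,
        WittGrp.truncMap p (n + 1) f r = r ∧ residue _ r = x) := by
  have hsurj : Function.Surjective f := by
    rcases hf with rfl | rfl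
    · exact (frobeniusEquiv k p).surjective
    · exact (frobeniusEquiv k p).symm.surjective
  have hsolv : Solv f := by
    rcases hf with rfl | rfl
    · exact solv_frob p
    · exact solv_frobInv p
  have hh3 : ∀ c : k, ∃ y : k, f y - y + c = 0 := by
    rcases hf with rfl | rfl
    · exact h3_frob p
    · exact h3_frobInv p
  refine ⟨conj_surjective _ f hsurj, solv_conj _ f hsolv, h3_conj _ f hh3, ?_⟩
  intro x hx
  unfold sbar at hx
  rw [conj_apply] at hx
  have h1 : f (resEquiv p k n x) = resEquiv p k n x := by
    have := congrArg (resEquiv p k n) hx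
    rwa [RingEquiv.apply_symm_apply] at this
  obtain ⟨m, hm⟩ := exists_natCast_of_pow_eq p _ (frob_or_inv_fixed p k f hf _ h1)
  refine ⟨(m : TruncatedWittVector p (n + 1) k), map_natCast _ m, ?_⟩
  apply (resEquiv p k n).injective
  rw [map_natCast, map_natCast, hm]

end Data

end Groth.Agent.H96.WittSigma
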