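import Mathlib
import Groth.Prelude.Def_W4c1zetahwZeta
import Groth.Prelude.Def_SgaExt
import Groth.Agent.H79.PtCountEq
import Groth.Agent.H85.ExpLog

/-!
# The zeta function of the affine line over a scheme of finite type over a finite field
-/

set_option autoImplicit false
set_option linter.style.haveILetI false
set_option linter.unusedSectionVars false
set_option linter.unusedVariables false

universe u

open CategoryTheory AlgebraicGeometry PowerSeries

namespace Groth.Agent.H96.ZetaAff

/-- A finite field has an extension of every positive degree in its own universe. -/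
theorem exists_ext (k : Type u) [Field k] [Finite k] (m : ℕ) (hm : 1 ≤ m) :
    ∃ (k' : Type u) (_ : Field k') (_ : Algebra k k') (_ : Finite k'),
      Module.finrank k k' = m := by
  obtain ⟨p, hp⟩ := CharP.exists k
  haveI : Fact p.Prime := ⟨CharP.char_is_prime k p⟩
  haveI : NeZero m := ⟨by omega⟩
  refine ⟨ULift.{u} (FiniteField.Extension k p m), inferInstance, inferInstance, inferInstance, ?_⟩
  rw [(ULift.moduleEquiv : ULift.{u} (FiniteField.Extension k p m) ≃ₗ[k] _).finrank_eq]
  exact FiniteField.finrank_extension k p m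

section Pts

variable {k : Type u} [Field k] {X : Scheme.{u}} (f : X ⟶ Spec (CommRingCat.of k))
  (k' : Type u) [Field k'] [Algebra k k']

open Groth.Agent.H79.PtCountEq

/-- `k'`-points of the affine line over `X`. -/
noncomputable def ptAffEquiv :
    Pt ((𝔸(PUnit.{u + 1}; X) ↘ X) ≫ f) k' ≃
      Pt f k' × (PUnit.{u + 1} → Γ(Spec (CommRingCat.of k'), ⊤)) where
  toFun h := (⟨h.1 ≫ (𝔸(PUnit.{u + 1}; X) ↘ X), by rw [Category.assoc]; exact h.2⟩,
    fun i => h.1.appTop (AffineSpace.coord X i))
  invFun gv := ⟨AffineSpace.homOfVector gv.1.1 gv.2, by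
    rw [← Category.assoc, AffineSpace.homOfVector_over]; exact gv.1.2⟩
  left_inv h := by
    apply Subtype.ext
    apply AffineSpace.hom_ext
    · rw [AffineSpace.homOfVector_over]
    · intro i
      rw [AffineSpace.homOfVector_appTop_coord]
  right_inv gv := by
    apply Prod.ext
    · apply Subtype.ext
      exact AffineSpace.homOfVector_over _ _
    · funext i
      exact AffineSpace.homOfVector_appTop_coord _ _ _

theorem pointCount_affineLine [Finite k'] :
    SgaExt.pointCount ((𝔸(PUnit.{u + 1}; X) ↘ X) ≫ f) k' =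
      SgaExt.pointCount f k' * Nat.card k' := by
  unfold SgaExt.pointCount
  change Nat.card (Pt ((𝔸(PUnit.{u + 1}; X) ↘ X) ≫ f) k') = Nat.card (Pt f k') * _
  rw [Nat.card_congr (ptAffEquiv f k'), Nat.card_prod]
  congr 1
  exact Nat.card_congr ((Equiv.funUnique PUnit.{u + 1} _).trans
    (Scheme.ΓSpecIso (CommRingCat.of k')).commRingCatIsoToRingEquiv.toEquiv)

end Pts

section Main

variable {k : Type u} [Field k] [Finite k] {X : Scheme.{u}}
  (f : X ⟶ Spec (CommRingCat.of k)) [LocallyOfFiniteType f] [QuasiCompact f]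

theorem nPts_affineLine (m : ℕ) :
    Zeta.nPts ((𝔸(PUnit.{u + 1}; X) ↘ X) ≫ f) m = Zeta.nPts f m * Nat.card k ^ m := by
  rcases Nat.eq_zero_or_pos m with rfl | hm
  · simp [Zeta.nPts]
  obtain ⟨k', _, _, _, hk'⟩ := exists_ext k m hm
  have h1 := Groth.Agent.H79.PtCountEq.pointCount_eq_nPts f k'
  have h2 := Groth.Agent.H79.PtCountEq.pointCount_eq_nPts
    ((𝔸(PUnit.{u + 1}; X) ↘ X) ≫ f) k'
  rw [hk'] at h1 h2
  rw [← h1, ← h2, pointCount_affineLine, Module.natCard_eq_pow_finrank (K := k) (V := k'), hk']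

theorem logZeta_affineLine :
    Zeta.logZeta ((𝔸(PUnit.{u + 1}; X) ↘ X) ≫ f) =
      rescale (Nat.card k : ℚ) (Zeta.logZeta f) := by
  ext m
  rw [coeff_rescale]
  simp only [Zeta.logZeta, coeff_mk]
  rw [nPts_affineLine]
  push_cast
  ring

theorem rescale_exp_subst (a : ℚ) (L : ℚ⟦X⟧) (hL : constantCoeff L = 0) :
    rescale a ((exp ℚ).subst L) = (exp ℚ).subst (rescale a L) := by
  have hs : HasSubst L := HasSubst.of_constantCoeff_zero' hL
  rw [rescale_eq_subst, subst_comp_subst_apply hs (HasSubst.smul_X' a), ← rescale_eq_subst]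

theorem zetaFun_affineLine :
    Zeta.zetaFun ((𝔸(PUnit.{u + 1}; X) ↘ X) ≫ f) =
      rescale (Nat.card k : ℚ) (Zeta.zetaFun f) := by
  unfold Zeta.zetaFun
  rw [logZeta_affineLine, rescale_exp_subst]
  simp [Zeta.logZeta]

end Main

end Groth.Agent.H96.ZetaAff
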