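import Mathlib
import Groth.Prelude.Def_W4c1zetahwZeta
import Groth.Prelude.Def_SgaExt
import Groth.Agent.H79.PtCountEq
import Groth.Agent.H96.ZetaAff
import Groth.Agent.H96.ExpFormal

/-!
# The zeta function of a base change to a finite extension of the finite base field
-/

set_option autoImplicit false
set_option linter.style.haveILetI false
set_option linter.unusedSectionVars false
set_option linter.unusedVariables false

universe u

open CategoryTheory CategoryTheory.Limits AlgebraicGeometry PowerSeries

namespace Groth.Agent.H96.ZetaBC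

open Groth.Agent.H79.PtCountEq

section Pts

variable {k : Type u} [Field k] {X : Scheme.{u}} (f : X ⟶ Spec (CommRingCat.of k))
  (k' : Type u) [Field k'] [Algebra k k']
  (k'' : Type u) [Field k''] [Algebra k' k''] [Algebra k k''] [IsScalarTower k k' k'']

theorem specMap_tower :
    Spec.map (CommRingCat.ofHom (algebraMap k' k'')) ≫
      Spec.map (CommRingCat.ofHom (algebraMap k k')) =
    Spec.map (CommRingCat.ofHom (algebraMap k k'')) := by
  rw [← Spec.map_comp, ← CommRingCat.ofHom_comp, ← IsScalarTower.algebraMap_eq]

/-- `k''`-points of the base change over `k'` are the `k''`-points over `k`. -/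
noncomputable def ptBCEquiv :
    Pt (pullback.snd f (Spec.map (CommRingCat.ofHom (algebraMap k k')))) k'' ≃ Pt f k'' where
  toFun h := ⟨h.1 ≫ pullback.fst _ _, by
    rw [Category.assoc, pullback.condition, ← Category.assoc, h.2, specMap_tower]⟩
  invFun g := ⟨pullback.lift g.1 (Spec.map (CommRingCat.ofHom (algebraMap k' k''))) (by
    rw [g.2, specMap_tower]), pullback.lift_snd _ _ _⟩
  left_inv h := by
    apply Subtype.ext
    apply pullback.hom_ext
    · rw [pullback.lift_fst]
    · rw [pullback.lift_snd]
      exact h.2.symm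
  right_inv g := by
    apply Subtype.ext
    exact pullback.lift_fst _ _ _

theorem pointCount_bc :
    SgaExt.pointCount (pullback.snd f (Spec.map (CommRingCat.ofHom (algebraMap k k')))) k'' =
      SgaExt.pointCount f k'' :=
  Nat.card_congr (ptBCEquiv f k' k'')

end Pts

section Main

variable {k : Type u} [Field k] [Finite k] {X : Scheme.{u}}
  (f : X ⟶ Spec (CommRingCat.of k)) [LocallyOfFiniteType f] [QuasiCompact f]
  (k' : Type u) [Field k'] [Algebra k k'] [Finite k']

theorem nPts_bc (m : ℕ) :
    Zeta.nPts (pullback.snd f (Spec.map (CommRingCat.ofHom (algebraMap k k')))) m =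
      Zeta.nPts f (Module.finrank k k' * m) := by
  rcases Nat.eq_zero_or_pos m with rfl | hm
  · simp [Zeta.nPts]
  obtain ⟨k'', _, _, _, hk''⟩ := Groth.Agent.H96.ZetaAff.exists_ext k' m hm
  letI : Algebra k k'' := ((algebraMap k' k'').comp (algebraMap k k')).toAlgebra
  haveI : IsScalarTower k k' k'' := IsScalarTower.of_algebraMap_eq (fun x => rfl)
  have h1 := pointCount_eq_nPts f k''
  have h2 := pointCount_eq_nPts
    (pullback.snd f (Spec.map (CommRingCat.ofHom (algebraMap k k')))) k''
  have h3 : Module.finrank k k'' = Module.finrank k k' * m := by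
    rw [← hk'']
    have : Module.Free k' k'' := Module.Free.of_divisionRing k' k''
    exact (Module.finrank_mul_finrank k k' k'').symm
  rw [hk''] at h2
  rw [h3] at h1
  rw [← h1, ← h2, pointCount_bc]

theorem zetaFun_bc (ξ : ℂ) (hξ : IsPrimitiveRoot ξ (Module.finrank k k')) :
    PowerSeries.subst ((PowerSeries.X : PowerSeries ℂ) ^ Module.finrank k k')
        (PowerSeries.map (algebraMap ℚ ℂ) (Zeta.zetaFun
          (pullback.snd f (Spec.map (CommRingCat.ofHom (algebraMap k k')))))) =
      ∏ i ∈ Finset.range (Module.finrank k k'),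
        PowerSeries.rescale (ξ ^ i) (PowerSeries.map (algebraMap ℚ ℂ) (Zeta.zetaFun f)) := by
  have hr : 1 ≤ Module.finrank k k' := Module.finrank_pos
  exact Groth.Agent.H96.ExpFormal.formal_bc (K := ℂ) (fun m => Zeta.nPts f m)
    (fun m => Zeta.nPts (pullback.snd f (Spec.map (CommRingCat.ofHom (algebraMap k k')))) m)
    (Module.finrank k k') hr (fun j => nPts_bc f k' j) ξ hξ

end Main

end Groth.Agent.H96.ZetaBC
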