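import Mathlib
import Groth.Prelude.Def_W4c1zetahwZeta
import Groth.Agent.H79.PtCountEq
import Groth.Agent.H96.FrobCount4
import Groth.Agent.H96.FrobZetaFormal

/-!
# The zeta function of a scheme partitioned by subschemes

* `residueDegree_comp`: an immersion does not change residue degrees over the base field;
* `isClosed_iff_residueDegree_pos`;
* `degCount_eq_sum`, `nPts_eq_sum`, `zetaFun_eq_prod`.
-/

set_option autoImplicit false
set_option linter.style.haveILetI false
set_option linter.unusedSectionVars false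
set_option linter.unusedVariables false

universe u

open CategoryTheory AlgebraicGeometry PowerSeries

namespace Groth.Agent.H96.ZetaPart

open Groth.Agent.H79.PtCountEq

section Imm

theorem residueFieldMap_bijective {Y X : Scheme.{u}} (g : Y ⟶ X) [IsPreimmersion g] (y : Y) :
    Function.Bijective (g.residueFieldMap y).hom := by
  refine ⟨(g.residueFieldMap y).hom.injective, ?_⟩
  have h1 : X.residue (g y) ≫ g.residueFieldMap y = g.stalkMap y ≫ Y.residue y :=
    Scheme.residue_residueFieldMap g y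
  have h2 : Function.Surjective (g.stalkMap y ≫ Y.residue y).hom := by
    rw [CommRingCat.hom_comp, RingHom.coe_comp]
    exact (Y.residue_surjective y).comp (g.stalkMap_surjective y)
  rw [← h1, CommRingCat.hom_comp, RingHom.coe_comp] at h2
  exact Function.Surjective.of_comp h2

variable {k : Type u} [Field k] {X : Scheme.{u}} (f : X ⟶ Spec (CommRingCat.of k))

theorem residueDegree_comp {Y : Scheme.{u}} (g : Y ⟶ X) [IsPreimmersion g] (y : Y) :
    EGA4loc.residueDegree (g ≫ f) y = EGA4loc.residueDegree f (g y) := by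
  rw [residueDegree_eq, residueDegree_eq]
  letI a1 := (ιx (g ≫ f) y).hom.toAlgebra
  letI a2 := (ιx f (g y)).hom.toAlgebra
  symm
  refine Algebra.finrank_eq_of_equiv_equiv (RingEquiv.refl k)
    (RingEquiv.ofBijective (g.residueFieldMap y).hom (residueFieldMap_bijective g y)) ?_
  ext c
  change (ιx (g ≫ f) y).hom c = (g.residueFieldMap y).hom ((ιx f (g y)).hom c)
  rw [ιx_eq]
  rfl

theorem isClosed_iff_residueDegree_pos [LocallyOfFiniteType f] (x : X) :
    IsClosed ({x} : Set X) ↔ 0 < EGA4loc.residueDegree f x := by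
  constructor
  · intro hx
    have h1 := Groth.Agent.H96.FrobCount.finite_of_isClosed f x hx
    rw [← Groth.Agent.H96.FrobCount.finrank_resStr]
    letI := (Groth.Agent.H37.resStr f x).hom.toAlgebra
    exact Module.finrank_pos
  · exact isClosed_of_residueDegree_pos f x

end Imm

section Count

variable {k : Type u} [Field k] [Finite k] {X : Scheme.{u}}
  (f : X ⟶ Spec (CommRingCat.of k)) [LocallyOfFiniteType f] [QuasiCompact f]

/-- The closed points of degree `e`. -/
abbrev degSet (e : ℕ) : Type u :=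
  {x : X // IsClosed ({x} : Set X) ∧ EGA4loc.residueDegree f x = e}

theorem finite_degSet (e : ℕ) (he : 1 ≤ e) : Finite (degSet f e) :=
  Groth.Agent.H96.FrobCount.finite_degree_eq (AlgebraicClosure k) f e he

omit [Finite k] [QuasiCompact f] in
/-- The closed points of degree `e` of an immersed subscheme. -/
noncomputable def degSetEquiv {Y : Scheme.{u}} (g : Y ⟶ X) [IsImmersion g] (e : ℕ) (he : 1 ≤ e) :
    {y : Y // IsClosed ({y} : Set Y) ∧ EGA4loc.residueDegree (g ≫ f) y = e} ≃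
      {x : degSet f e // x.1 ∈ Set.range g} := by
  refine Equiv.ofBijective (fun y => ⟨⟨g y.1, ?_, ?_⟩, ⟨y.1, rfl⟩⟩) ⟨?_, ?_⟩
  · rw [isClosed_iff_residueDegree_pos f, ← residueDegree_comp, y.2.2]
    exact he
  · rw [← residueDegree_comp, y.2.2]
  · intro y y' h
    have h1 : g y.1 = g y'.1 := congrArg (fun z => z.1.1) h
    exact Subtype.ext (g.isEmbedding.injective h1)
  · rintro ⟨⟨x, hx1, hx2⟩, ⟨y, hy⟩⟩
    change g y = x at hy
    subst hy
    refine ⟨⟨y, ?_, ?_⟩, rfl⟩
    · rw [isClosed_iff_residueDegree_pos (g ≫ f), residueDegree_comp, hx2]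
      exact he
    · rw [residueDegree_comp, hx2]

variable {ι : Type u} [Fintype ι] (Y : ι → Scheme.{u}) (g : ∀ i, Y i ⟶ X) [∀ i, IsImmersion (g i)]
  (hpart : ∀ x : X, IsClosed ({x} : Set X) → ∃! i, x ∈ Set.range (g i))

include hpart in
theorem degCount_eq_sum (e : ℕ) (he : 1 ≤ e) :
    Zeta.degCount f e = ∑ i, Zeta.degCount (g i ≫ f) e := by
  classical
  have hfin := finite_degSet f e he
  unfold Zeta.degCount
  have h1 : ∀ i, Nat.card {y : Y i // IsClosed ({y} : Set (Y i)) ∧
      EGA4loc.residueDegree (g i ≫ f) y = e} =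
      Nat.card {x : degSet f e // x.1 ∈ Set.range (g i)} :=
    fun i => Nat.card_congr (degSetEquiv f (g i) e he)
  simp only [h1]
  have E : degSet f e ≃ Σ i, {x : degSet f e // x.1 ∈ Set.range (g i)} :=
    { toFun := fun x => ⟨(hpart x.1 x.2.1).choose, ⟨x, (hpart x.1 x.2.1).choose_spec.1⟩⟩
      invFun := fun σ => σ.2.1
      left_inv := fun x => rfl
      right_inv := by
        rintro ⟨i, ⟨x, hx⟩⟩
        have hi : (hpart x.1 x.2.1).choose = i :=
          ((hpart x.1 x.2.1).choose_spec.2 i hx).symm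
        subst hi
        rfl }
  rw [Nat.card_congr E, Nat.card_sigma]

include hpart in
theorem nPts_eq_sum (m : ℕ) : Zeta.nPts f m = ∑ i, Zeta.nPts (g i ≫ f) m := by
  unfold Zeta.nPts
  rw [Finset.sum_comm]
  refine Finset.sum_congr rfl fun e he => ?_
  have he1 : 1 ≤ e := Nat.pos_of_mem_divisors he
  rw [degCount_eq_sum f Y g hpart e he1, Finset.mul_sum]

include hpart in
theorem logZeta_eq_sum : Zeta.logZeta f = ∑ i, Zeta.logZeta (g i ≫ f) := by
  ext m
  rw [map_sum]
  simp only [Zeta.logZeta, coeff_mk]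
  rw [nPts_eq_sum f Y g hpart m]
  push_cast
  rw [Finset.sum_div]

end Count

section Exp

theorem exp_subst_sum {ι : Type*} (s : Finset ι) (L : ι → ℚ⟦X⟧)
    (hL : ∀ i ∈ s, constantCoeff (L i) = 0) :
    (exp ℚ).subst (∑ i ∈ s, L i) = ∏ i ∈ s, (exp ℚ).subst (L i) := by
  classical
  have h0 : constantCoeff (∑ i ∈ s, L i) = 0 := by
    rw [map_sum]
    exact Finset.sum_eq_zero hL
  have hs : HasSubst (∑ i ∈ s, L i) := HasSubst.of_constantCoeff_zero' h0
  apply Groth.Agent.H85.ExpLog.ode_unique (a := ∑ i ∈ s, d⁄dX ℚ (L i))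
  · rw [derivative_subst hs, derivative_exp, map_sum, mul_comm]
  · refine Groth.Agent.H96.FrobZetaFormal.derivative_prod s _ (fun i => d⁄dX ℚ (L i)) ?_
    intro i hi
    have hsi : HasSubst (L i) := HasSubst.of_constantCoeff_zero' (hL i hi)
    rw [derivative_subst hsi, derivative_exp, mul_comm]
  · rw [Groth.Agent.H85.ExpLog.constantCoeff_subst_of_zero h0, map_prod]
    rw [Finset.prod_congr rfl (fun i hi =>
      Groth.Agent.H85.ExpLog.constantCoeff_subst_of_zero (f := exp ℚ) (hL i hi))]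
    simp

end Exp

section Main

variable {k : Type u} [Field k] [Finite k] {X : Scheme.{u}}
  (f : X ⟶ Spec (CommRingCat.of k)) [LocallyOfFiniteType f] [QuasiCompact f]
  {ι : Type u} [Fintype ι] (Y : ι → Scheme.{u}) (g : ∀ i, Y i ⟶ X) [∀ i, IsImmersion (g i)]
  (hpart : ∀ x : X, IsClosed ({x} : Set X) → ∃! i, x ∈ Set.range (g i))

include hpart in
theorem zetaFun_eq_prod : Zeta.zetaFun f = ∏ i, Zeta.zetaFun (g i ≫ f) := by
  unfold Zeta.zetaFun
  rw [logZeta_eq_sum f Y g hpart, exp_subst_sum]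
  intro i _
  simp [Zeta.logZeta]

end Main

section Two

variable {k : Type u} [Field k] [Finite k] {X : Scheme.{u}}
  (f : X ⟶ Spec (CommRingCat.of k)) [LocallyOfFiniteType f] [QuasiCompact f]

/-- The family of two schemes indexed by `ULift Bool`. -/
def twoObj (Y₁ Y₂ : Scheme.{u}) : ULift.{u} Bool → Scheme.{u}
  | ⟨true⟩ => Y₁
  | ⟨false⟩ => Y₂

/-- The family of two morphisms indexed by `ULift Bool`. -/
def twoHom {Y₁ Y₂ : Scheme.{u}} (g₁ : Y₁ ⟶ X) (g₂ : Y₂ ⟶ X) :
    ∀ b : ULift.{u} Bool, twoObj Y₁ Y₂ b ⟶ X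
  | ⟨true⟩ => g₁
  | ⟨false⟩ => g₂

theorem zetaFun_eq_mul {Y₁ Y₂ : Scheme.{u}} (g₁ : Y₁ ⟶ X) (g₂ : Y₂ ⟶ X) [IsImmersion g₁]
    [IsImmersion g₂]
    (h : ∀ x : X, IsClosed ({x} : Set X) →
      (x ∈ Set.range g₁ ∧ x ∉ Set.range g₂) ∨ (x ∉ Set.range g₁ ∧ x ∈ Set.range g₂)) :
    Zeta.zetaFun f = Zeta.zetaFun (g₁ ≫ f) * Zeta.zetaFun (g₂ ≫ f) := by
  haveI : ∀ b, IsImmersion (twoHom g₁ g₂ b) := by
    rintro ⟨_ | _⟩
    · exact (inferInstance : IsImmersion g₂)
    · exact (inferInstance : IsImmersion g₁)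
  have hpart : ∀ x : X, IsClosed ({x} : Set X) → ∃! b, x ∈ Set.range (twoHom g₁ g₂ b) := by
    intro x hx
    rcases h x hx with ⟨h1, h2⟩ | ⟨h1, h2⟩
    · refine ⟨⟨true⟩, h1, ?_⟩
      rintro ⟨_ | _⟩ hb
      · exact absurd hb h2
      · rfl
    · refine ⟨⟨false⟩, h2, ?_⟩
      rintro ⟨_ | _⟩ hb
      · rfl
      · exact absurd hb h1
  rw [zetaFun_eq_prod f (twoObj Y₁ Y₂) (twoHom g₁ g₂) hpart,
    ← Equiv.prod_comp Equiv.ulift.symm, Fintype.prod_bool]
  rfl

end Two

end Groth.Agent.H96.ZetaPart
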